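import Mathlib

/-!
# The unipotent group of type `E₆` in characteristic two (abstract form)

Thirty-six root maps `X36, …, X71 : K → Γ` (for the positive roots of `E₆`, numbered as in the
Chevalley data module) satisfying the commutator relations of type `E₆` modulo two, the rewriting
lemmas that collect a product of root elements into the order by height, and the ordered
product `RNF`.  This file is generated.
-/

set_option autoImplicit false
set_option linter.unusedSimpArgs false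

namespace Cfsg.Agent.Helper4.E6Inv

set_option maxHeartbeats 20000000 in
set_option maxRecDepth 1000000 in
/-- root maps with the relations of the positive unipotent subgroup of `E₆` in characteristic 2 -/
structure RelE6 (K Γ : Type*) [Field K] [Group Γ] where
  X36 : K → Γ
  X37 : K → Γ
  X39 : K → Γ
  X42 : K → Γ
  X46 : K → Γ
  X56 : K → Γ
  X38 : K → Γ
  X40 : K → Γ
  X43 : K → Γ
  X47 : K → Γ
  X57 : K → Γ
  X41 : K → Γ
  X44 : K → Γ
  X48 : K → Γ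
  X50 : K → Γ
  X58 : K → Γ
  X45 : K → Γ
  X49 : K → Γ
  X51 : K → Γ
  X59 : K → Γ
  X61 : K → Γ
  X52 : K → Γ
  X53 : K → Γ
  X60 : K → Γ
  X62 : K → Γ
  X54 : K → Γ
  X63 : K → Γ
  X64 : K → Γ
  X55 : K → Γ
  X65 : K → Γ
  X67 : K → Γ
  X66 : K → Γ
  X68 : K → Γ
  X69 : K → Γ
  X70 : K → Γ
  X71 : K → Γ
  add36 : ∀ s t, X36 (s + t) = X36 s * X36 t
  add37 : ∀ s t, X37 (s + t) = X37 s * X37 t
  add39 : ∀ s t, X39 (s + t) = X39 s * X39 t
  add42 : ∀ s t, X42 (s + t) = X42 s * X42 t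
  add46 : ∀ s t, X46 (s + t) = X46 s * X46 t
  add56 : ∀ s t, X56 (s + t) = X56 s * X56 t
  add38 : ∀ s t, X38 (s + t) = X38 s * X38 t
  add40 : ∀ s t, X40 (s + t) = X40 s * X40 t
  add43 : ∀ s t, X43 (s + t) = X43 s * X43 t
  add47 : ∀ s t, X47 (s + t) = X47 s * X47 t
  add57 : ∀ s t, X57 (s + t) = X57 s * X57 t
  add41 : ∀ s t, X41 (s + t) = X41 s * X41 t
  add44 : ∀ s t, X44 (s + t) = X44 s * X44 t
  add48 : ∀ s t, X48 (s + t) = X48 s * X48 t
  add50 : ∀ s t, X50 (s + t) = X50 s * X50 t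
  add58 : ∀ s t, X58 (s + t) = X58 s * X58 t
  add45 : ∀ s t, X45 (s + t) = X45 s * X45 t
  add49 : ∀ s t, X49 (s + t) = X49 s * X49 t
  add51 : ∀ s t, X51 (s + t) = X51 s * X51 t
  add59 : ∀ s t, X59 (s + t) = X59 s * X59 t
  add61 : ∀ s t, X61 (s + t) = X61 s * X61 t
  add52 : ∀ s t, X52 (s + t) = X52 s * X52 t
  add53 : ∀ s t, X53 (s + t) = X53 s * X53 t
  add60 : ∀ s t, X60 (s + t) = X60 s * X60 t
  add62 : ∀ s t, X62 (s + t) = X62 s * X62 t
  add54 : ∀ s t, X54 (s + t) = X54 s * X54 t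
  add63 : ∀ s t, X63 (s + t) = X63 s * X63 t
  add64 : ∀ s t, X64 (s + t) = X64 s * X64 t
  add55 : ∀ s t, X55 (s + t) = X55 s * X55 t
  add65 : ∀ s t, X65 (s + t) = X65 s * X65 t
  add67 : ∀ s t, X67 (s + t) = X67 s * X67 t
  add66 : ∀ s t, X66 (s + t) = X66 s * X66 t
  add68 : ∀ s t, X68 (s + t) = X68 s * X68 t
  add69 : ∀ s t, X69 (s + t) = X69 s * X69 t
  add70 : ∀ s t, X70 (s + t) = X70 s * X70 t
  add71 : ∀ s t, X71 (s + t) = X71 s * X71 t
  r36_37 : ∀ t u, X37 u * X36 t = X36 t * X37 u * X38 (t * u)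
  c36_39 : ∀ t u, X39 u * X36 t = X36 t * X39 u
  c36_42 : ∀ t u, X42 u * X36 t = X36 t * X42 u
  c36_46 : ∀ t u, X46 u * X36 t = X36 t * X46 u
  c36_56 : ∀ t u, X56 u * X36 t = X36 t * X56 u
  c36_38 : ∀ t u, X38 u * X36 t = X36 t * X38 u
  r36_40 : ∀ t u, X40 u * X36 t = X36 t * X40 u * X41 (t * u)
  c36_43 : ∀ t u, X43 u * X36 t = X36 t * X43 u
  c36_47 : ∀ t u, X47 u * X36 t = X36 t * X47 u
  c36_57 : ∀ t u, X57 u * X36 t = X36 t * X57 u
  c36_41 : ∀ t u, X41 u * X36 t = X36 t * X41 u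
  r36_44 : ∀ t u, X44 u * X36 t = X36 t * X44 u * X45 (t * u)
  r36_48 : ∀ t u, X48 u * X36 t = X36 t * X48 u * X49 (t * u)
  c36_50 : ∀ t u, X50 u * X36 t = X36 t * X50 u
  c36_58 : ∀ t u, X58 u * X36 t = X36 t * X58 u
  c36_45 : ∀ t u, X45 u * X36 t = X36 t * X45 u
  c36_49 : ∀ t u, X49 u * X36 t = X36 t * X49 u
  r36_51 : ∀ t u, X51 u * X36 t = X36 t * X51 u * X52 (t * u)
  r36_59 : ∀ t u, X59 u * X36 t = X36 t * X59 u * X60 (t * u)
  c36_61 : ∀ t u, X61 u * X36 t = X36 t * X61 u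
  c36_52 : ∀ t u, X52 u * X36 t = X36 t * X52 u
  r36_53 : ∀ t u, X53 u * X36 t = X36 t * X53 u * X54 (t * u)
  c36_60 : ∀ t u, X60 u * X36 t = X36 t * X60 u
  r36_62 : ∀ t u, X62 u * X36 t = X36 t * X62 u * X63 (t * u)
  c36_54 : ∀ t u, X54 u * X36 t = X36 t * X54 u
  c36_63 : ∀ t u, X63 u * X36 t = X36 t * X63 u
  r36_64 : ∀ t u, X64 u * X36 t = X36 t * X64 u * X65 (t * u)
  c36_55 : ∀ t u, X55 u * X36 t = X36 t * X55 u
  c36_65 : ∀ t u, X65 u * X36 t = X36 t * X65 u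
  r36_67 : ∀ t u, X67 u * X36 t = X36 t * X67 u * X68 (t * u)
  c36_66 : ∀ t u, X66 u * X36 t = X36 t * X66 u
  c36_68 : ∀ t u, X68 u * X36 t = X36 t * X68 u
  c36_69 : ∀ t u, X69 u * X36 t = X36 t * X69 u
  c36_70 : ∀ t u, X70 u * X36 t = X36 t * X70 u
  c36_71 : ∀ t u, X71 u * X36 t = X36 t * X71 u
  r37_39 : ∀ t u, X39 u * X37 t = X37 t * X39 u * X40 (t * u)
  c37_42 : ∀ t u, X42 u * X37 t = X37 t * X42 u
  c37_46 : ∀ t u, X46 u * X37 t = X37 t * X46 u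
  c37_56 : ∀ t u, X56 u * X37 t = X37 t * X56 u
  c37_38 : ∀ t u, X38 u * X37 t = X37 t * X38 u
  c37_40 : ∀ t u, X40 u * X37 t = X37 t * X40 u
  r37_43 : ∀ t u, X43 u * X37 t = X37 t * X43 u * X44 (t * u)
  r37_47 : ∀ t u, X47 u * X37 t = X37 t * X47 u * X48 (t * u)
  c37_57 : ∀ t u, X57 u * X37 t = X37 t * X57 u
  c37_41 : ∀ t u, X41 u * X37 t = X37 t * X41 u
  c37_44 : ∀ t u, X44 u * X37 t = X37 t * X44 u
  c37_48 : ∀ t u, X48 u * X37 t = X37 t * X48 u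
  r37_50 : ∀ t u, X50 u * X37 t = X37 t * X50 u * X51 (t * u)
  r37_58 : ∀ t u, X58 u * X37 t = X37 t * X58 u * X59 (t * u)
  c37_45 : ∀ t u, X45 u * X37 t = X37 t * X45 u
  c37_49 : ∀ t u, X49 u * X37 t = X37 t * X49 u
  c37_51 : ∀ t u, X51 u * X37 t = X37 t * X51 u
  c37_59 : ∀ t u, X59 u * X37 t = X37 t * X59 u
  r37_61 : ∀ t u, X61 u * X37 t = X37 t * X61 u * X62 (t * u)
  c37_52 : ∀ t u, X52 u * X37 t = X37 t * X52 u
  c37_53 : ∀ t u, X53 u * X37 t = X37 t * X53 u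
  c37_60 : ∀ t u, X60 u * X37 t = X37 t * X60 u
  c37_62 : ∀ t u, X62 u * X37 t = X37 t * X62 u
  r37_54 : ∀ t u, X54 u * X37 t = X37 t * X54 u * X55 (t * u)
  c37_63 : ∀ t u, X63 u * X37 t = X37 t * X63 u
  c37_64 : ∀ t u, X64 u * X37 t = X37 t * X64 u
  c37_55 : ∀ t u, X55 u * X37 t = X37 t * X55 u
  r37_65 : ∀ t u, X65 u * X37 t = X37 t * X65 u * X66 (t * u)
  c37_67 : ∀ t u, X67 u * X37 t = X37 t * X67 u
  c37_66 : ∀ t u, X66 u * X37 t = X37 t * X66 u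
  r37_68 : ∀ t u, X68 u * X37 t = X37 t * X68 u * X69 (t * u)
  c37_69 : ∀ t u, X69 u * X37 t = X37 t * X69 u
  c37_70 : ∀ t u, X70 u * X37 t = X37 t * X70 u
  c37_71 : ∀ t u, X71 u * X37 t = X37 t * X71 u
  r39_42 : ∀ t u, X42 u * X39 t = X39 t * X42 u * X43 (t * u)
  r39_46 : ∀ t u, X46 u * X39 t = X39 t * X46 u * X47 (t * u)
  c39_56 : ∀ t u, X56 u * X39 t = X39 t * X56 u
  r39_38 : ∀ t u, X38 u * X39 t = X39 t * X38 u * X41 (t * u)
  c39_40 : ∀ t u, X40 u * X39 t = X39 t * X40 u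
  c39_43 : ∀ t u, X43 u * X39 t = X39 t * X43 u
  c39_47 : ∀ t u, X47 u * X39 t = X39 t * X47 u
  r39_57 : ∀ t u, X57 u * X39 t = X39 t * X57 u * X58 (t * u)
  c39_41 : ∀ t u, X41 u * X39 t = X39 t * X41 u
  c39_44 : ∀ t u, X44 u * X39 t = X39 t * X44 u
  c39_48 : ∀ t u, X48 u * X39 t = X39 t * X48 u
  c39_50 : ∀ t u, X50 u * X39 t = X39 t * X50 u
  c39_58 : ∀ t u, X58 u * X39 t = X39 t * X58 u
  c39_45 : ∀ t u, X45 u * X39 t = X39 t * X45 u
  c39_49 : ∀ t u, X49 u * X39 t = X39 t * X49 u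
  r39_51 : ∀ t u, X51 u * X39 t = X39 t * X51 u * X53 (t * u)
  c39_59 : ∀ t u, X59 u * X39 t = X39 t * X59 u
  c39_61 : ∀ t u, X61 u * X39 t = X39 t * X61 u
  r39_52 : ∀ t u, X52 u * X39 t = X39 t * X52 u * X54 (t * u)
  c39_53 : ∀ t u, X53 u * X39 t = X39 t * X53 u
  c39_60 : ∀ t u, X60 u * X39 t = X39 t * X60 u
  r39_62 : ∀ t u, X62 u * X39 t = X39 t * X62 u * X64 (t * u)
  c39_54 : ∀ t u, X54 u * X39 t = X39 t * X54 u
  r39_63 : ∀ t u, X63 u * X39 t = X39 t * X63 u * X65 (t * u)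
  c39_64 : ∀ t u, X64 u * X39 t = X39 t * X64 u
  c39_55 : ∀ t u, X55 u * X39 t = X39 t * X55 u
  c39_65 : ∀ t u, X65 u * X39 t = X39 t * X65 u
  c39_67 : ∀ t u, X67 u * X39 t = X39 t * X67 u
  c39_66 : ∀ t u, X66 u * X39 t = X39 t * X66 u
  c39_68 : ∀ t u, X68 u * X39 t = X39 t * X68 u
  r39_69 : ∀ t u, X69 u * X39 t = X39 t * X69 u * X70 (t * u)
  c39_70 : ∀ t u, X70 u * X39 t = X39 t * X70 u
  c39_71 : ∀ t u, X71 u * X39 t = X39 t * X71 u
  c42_46 : ∀ t u, X46 u * X42 t = X42 t * X46 u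
  r42_56 : ∀ t u, X56 u * X42 t = X42 t * X56 u * X57 (t * u)
  c42_38 : ∀ t u, X38 u * X42 t = X42 t * X38 u
  r42_40 : ∀ t u, X40 u * X42 t = X42 t * X40 u * X44 (t * u)
  c42_43 : ∀ t u, X43 u * X42 t = X42 t * X43 u
  r42_47 : ∀ t u, X47 u * X42 t = X42 t * X47 u * X50 (t * u)
  c42_57 : ∀ t u, X57 u * X42 t = X42 t * X57 u
  r42_41 : ∀ t u, X41 u * X42 t = X42 t * X41 u * X45 (t * u)
  c42_44 : ∀ t u, X44 u * X42 t = X42 t * X44 u
  r42_48 : ∀ t u, X48 u * X42 t = X42 t * X48 u * X51 (t * u)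
  c42_50 : ∀ t u, X50 u * X42 t = X42 t * X50 u
  c42_58 : ∀ t u, X58 u * X42 t = X42 t * X58 u
  c42_45 : ∀ t u, X45 u * X42 t = X42 t * X45 u
  r42_49 : ∀ t u, X49 u * X42 t = X42 t * X49 u * X52 (t * u)
  c42_51 : ∀ t u, X51 u * X42 t = X42 t * X51 u
  c42_59 : ∀ t u, X59 u * X42 t = X42 t * X59 u
  c42_61 : ∀ t u, X61 u * X42 t = X42 t * X61 u
  c42_52 : ∀ t u, X52 u * X42 t = X42 t * X52 u
  c42_53 : ∀ t u, X53 u * X42 t = X42 t * X53 u
  c42_60 : ∀ t u, X60 u * X42 t = X42 t * X60 u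
  c42_62 : ∀ t u, X62 u * X42 t = X42 t * X62 u
  c42_54 : ∀ t u, X54 u * X42 t = X42 t * X54 u
  c42_63 : ∀ t u, X63 u * X42 t = X42 t * X63 u
  r42_64 : ∀ t u, X64 u * X42 t = X42 t * X64 u * X67 (t * u)
  c42_55 : ∀ t u, X55 u * X42 t = X42 t * X55 u
  r42_65 : ∀ t u, X65 u * X42 t = X42 t * X65 u * X68 (t * u)
  c42_67 : ∀ t u, X67 u * X42 t = X42 t * X67 u
  r42_66 : ∀ t u, X66 u * X42 t = X42 t * X66 u * X69 (t * u)
  c42_68 : ∀ t u, X68 u * X42 t = X42 t * X68 u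
  c42_69 : ∀ t u, X69 u * X42 t = X42 t * X69 u
  c42_70 : ∀ t u, X70 u * X42 t = X42 t * X70 u
  c42_71 : ∀ t u, X71 u * X42 t = X42 t * X71 u
  c46_56 : ∀ t u, X56 u * X46 t = X46 t * X56 u
  c46_38 : ∀ t u, X38 u * X46 t = X46 t * X38 u
  r46_40 : ∀ t u, X40 u * X46 t = X46 t * X40 u * X48 (t * u)
  r46_43 : ∀ t u, X43 u * X46 t = X46 t * X43 u * X50 (t * u)
  c46_47 : ∀ t u, X47 u * X46 t = X46 t * X47 u
  c46_57 : ∀ t u, X57 u * X46 t = X46 t * X57 u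
  r46_41 : ∀ t u, X41 u * X46 t = X46 t * X41 u * X49 (t * u)
  r46_44 : ∀ t u, X44 u * X46 t = X46 t * X44 u * X51 (t * u)
  c46_48 : ∀ t u, X48 u * X46 t = X46 t * X48 u
  c46_50 : ∀ t u, X50 u * X46 t = X46 t * X50 u
  r46_58 : ∀ t u, X58 u * X46 t = X46 t * X58 u * X61 (t * u)
  r46_45 : ∀ t u, X45 u * X46 t = X46 t * X45 u * X52 (t * u)
  c46_49 : ∀ t u, X49 u * X46 t = X46 t * X49 u
  c46_51 : ∀ t u, X51 u * X46 t = X46 t * X51 u
  r46_59 : ∀ t u, X59 u * X46 t = X46 t * X59 u * X62 (t * u)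
  c46_61 : ∀ t u, X61 u * X46 t = X46 t * X61 u
  c46_52 : ∀ t u, X52 u * X46 t = X46 t * X52 u
  c46_53 : ∀ t u, X53 u * X46 t = X46 t * X53 u
  r46_60 : ∀ t u, X60 u * X46 t = X46 t * X60 u * X63 (t * u)
  c46_62 : ∀ t u, X62 u * X46 t = X46 t * X62 u
  c46_54 : ∀ t u, X54 u * X46 t = X46 t * X54 u
  c46_63 : ∀ t u, X63 u * X46 t = X46 t * X63 u
  c46_64 : ∀ t u, X64 u * X46 t = X46 t * X64 u
  c46_55 : ∀ t u, X55 u * X46 t = X46 t * X55 u
  c46_65 : ∀ t u, X65 u * X46 t = X46 t * X65 u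
  c46_67 : ∀ t u, X67 u * X46 t = X46 t * X67 u
  c46_66 : ∀ t u, X66 u * X46 t = X46 t * X66 u
  c46_68 : ∀ t u, X68 u * X46 t = X46 t * X68 u
  c46_69 : ∀ t u, X69 u * X46 t = X46 t * X69 u
  r46_70 : ∀ t u, X70 u * X46 t = X46 t * X70 u * X71 (t * u)
  c46_71 : ∀ t u, X71 u * X46 t = X46 t * X71 u
  c56_38 : ∀ t u, X38 u * X56 t = X56 t * X38 u
  c56_40 : ∀ t u, X40 u * X56 t = X56 t * X40 u
  r56_43 : ∀ t u, X43 u * X56 t = X56 t * X43 u * X58 (t * u)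
  c56_47 : ∀ t u, X47 u * X56 t = X56 t * X47 u
  c56_57 : ∀ t u, X57 u * X56 t = X56 t * X57 u
  c56_41 : ∀ t u, X41 u * X56 t = X56 t * X41 u
  r56_44 : ∀ t u, X44 u * X56 t = X56 t * X44 u * X59 (t * u)
  c56_48 : ∀ t u, X48 u * X56 t = X56 t * X48 u
  r56_50 : ∀ t u, X50 u * X56 t = X56 t * X50 u * X61 (t * u)
  c56_58 : ∀ t u, X58 u * X56 t = X56 t * X58 u
  r56_45 : ∀ t u, X45 u * X56 t = X56 t * X45 u * X60 (t * u)
  c56_49 : ∀ t u, X49 u * X56 t = X56 t * X49 u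
  r56_51 : ∀ t u, X51 u * X56 t = X56 t * X51 u * X62 (t * u)
  c56_59 : ∀ t u, X59 u * X56 t = X56 t * X59 u
  c56_61 : ∀ t u, X61 u * X56 t = X56 t * X61 u
  r56_52 : ∀ t u, X52 u * X56 t = X56 t * X52 u * X63 (t * u)
  r56_53 : ∀ t u, X53 u * X56 t = X56 t * X53 u * X64 (t * u)
  c56_60 : ∀ t u, X60 u * X56 t = X56 t * X60 u
  c56_62 : ∀ t u, X62 u * X56 t = X56 t * X62 u
  r56_54 : ∀ t u, X54 u * X56 t = X56 t * X54 u * X65 (t * u)
  c56_63 : ∀ t u, X63 u * X56 t = X56 t * X63 u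
  c56_64 : ∀ t u, X64 u * X56 t = X56 t * X64 u
  r56_55 : ∀ t u, X55 u * X56 t = X56 t * X55 u * X66 (t * u)
  c56_65 : ∀ t u, X65 u * X56 t = X56 t * X65 u
  c56_67 : ∀ t u, X67 u * X56 t = X56 t * X67 u
  c56_66 : ∀ t u, X66 u * X56 t = X56 t * X66 u
  c56_68 : ∀ t u, X68 u * X56 t = X56 t * X68 u
  c56_69 : ∀ t u, X69 u * X56 t = X56 t * X69 u
  c56_70 : ∀ t u, X70 u * X56 t = X56 t * X70 u
  c56_71 : ∀ t u, X71 u * X56 t = X56 t * X71 u
  c38_40 : ∀ t u, X40 u * X38 t = X38 t * X40 u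
  r38_43 : ∀ t u, X43 u * X38 t = X38 t * X43 u * X45 (t * u)
  r38_47 : ∀ t u, X47 u * X38 t = X38 t * X47 u * X49 (t * u)
  c38_57 : ∀ t u, X57 u * X38 t = X38 t * X57 u
  c38_41 : ∀ t u, X41 u * X38 t = X38 t * X41 u
  c38_44 : ∀ t u, X44 u * X38 t = X38 t * X44 u
  c38_48 : ∀ t u, X48 u * X38 t = X38 t * X48 u
  r38_50 : ∀ t u, X50 u * X38 t = X38 t * X50 u * X52 (t * u)
  r38_58 : ∀ t u, X58 u * X38 t = X38 t * X58 u * X60 (t * u)
  c38_45 : ∀ t u, X45 u * X38 t = X38 t * X45 u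
  c38_49 : ∀ t u, X49 u * X38 t = X38 t * X49 u
  c38_51 : ∀ t u, X51 u * X38 t = X38 t * X51 u
  c38_59 : ∀ t u, X59 u * X38 t = X38 t * X59 u
  r38_61 : ∀ t u, X61 u * X38 t = X38 t * X61 u * X63 (t * u)
  c38_52 : ∀ t u, X52 u * X38 t = X38 t * X52 u
  r38_53 : ∀ t u, X53 u * X38 t = X38 t * X53 u * X55 (t * u)
  c38_60 : ∀ t u, X60 u * X38 t = X38 t * X60 u
  c38_62 : ∀ t u, X62 u * X38 t = X38 t * X62 u
  c38_54 : ∀ t u, X54 u * X38 t = X38 t * X54 u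
  c38_63 : ∀ t u, X63 u * X38 t = X38 t * X63 u
  r38_64 : ∀ t u, X64 u * X38 t = X38 t * X64 u * X66 (t * u)
  c38_55 : ∀ t u, X55 u * X38 t = X38 t * X55 u
  c38_65 : ∀ t u, X65 u * X38 t = X38 t * X65 u
  r38_67 : ∀ t u, X67 u * X38 t = X38 t * X67 u * X69 (t * u)
  c38_66 : ∀ t u, X66 u * X38 t = X38 t * X66 u
  c38_68 : ∀ t u, X68 u * X38 t = X38 t * X68 u
  c38_69 : ∀ t u, X69 u * X38 t = X38 t * X69 u
  c38_70 : ∀ t u, X70 u * X38 t = X38 t * X70 u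
  c38_71 : ∀ t u, X71 u * X38 t = X38 t * X71 u
  c40_43 : ∀ t u, X43 u * X40 t = X40 t * X43 u
  c40_47 : ∀ t u, X47 u * X40 t = X40 t * X47 u
  r40_57 : ∀ t u, X57 u * X40 t = X40 t * X57 u * X59 (t * u)
  c40_41 : ∀ t u, X41 u * X40 t = X40 t * X41 u
  c40_44 : ∀ t u, X44 u * X40 t = X40 t * X44 u
  c40_48 : ∀ t u, X48 u * X40 t = X40 t * X48 u
  r40_50 : ∀ t u, X50 u * X40 t = X40 t * X50 u * X53 (t * u)
  c40_58 : ∀ t u, X58 u * X40 t = X40 t * X58 u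
  c40_45 : ∀ t u, X45 u * X40 t = X40 t * X45 u
  c40_49 : ∀ t u, X49 u * X40 t = X40 t * X49 u
  c40_51 : ∀ t u, X51 u * X40 t = X40 t * X51 u
  c40_59 : ∀ t u, X59 u * X40 t = X40 t * X59 u
  r40_61 : ∀ t u, X61 u * X40 t = X40 t * X61 u * X64 (t * u)
  r40_52 : ∀ t u, X52 u * X40 t = X40 t * X52 u * X55 (t * u)
  c40_53 : ∀ t u, X53 u * X40 t = X40 t * X53 u
  c40_60 : ∀ t u, X60 u * X40 t = X40 t * X60 u
  c40_62 : ∀ t u, X62 u * X40 t = X40 t * X62 u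
  c40_54 : ∀ t u, X54 u * X40 t = X40 t * X54 u
  r40_63 : ∀ t u, X63 u * X40 t = X40 t * X63 u * X66 (t * u)
  c40_64 : ∀ t u, X64 u * X40 t = X40 t * X64 u
  c40_55 : ∀ t u, X55 u * X40 t = X40 t * X55 u
  c40_65 : ∀ t u, X65 u * X40 t = X40 t * X65 u
  c40_67 : ∀ t u, X67 u * X40 t = X40 t * X67 u
  c40_66 : ∀ t u, X66 u * X40 t = X40 t * X66 u
  r40_68 : ∀ t u, X68 u * X40 t = X40 t * X68 u * X70 (t * u)
  c40_69 : ∀ t u, X69 u * X40 t = X40 t * X69 u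
  c40_70 : ∀ t u, X70 u * X40 t = X40 t * X70 u
  c40_71 : ∀ t u, X71 u * X40 t = X40 t * X71 u
  c43_47 : ∀ t u, X47 u * X43 t = X43 t * X47 u
  c43_57 : ∀ t u, X57 u * X43 t = X43 t * X57 u
  c43_41 : ∀ t u, X41 u * X43 t = X43 t * X41 u
  c43_44 : ∀ t u, X44 u * X43 t = X43 t * X44 u
  r43_48 : ∀ t u, X48 u * X43 t = X43 t * X48 u * X53 (t * u)
  c43_50 : ∀ t u, X50 u * X43 t = X43 t * X50 u
  c43_58 : ∀ t u, X58 u * X43 t = X43 t * X58 u
  c43_45 : ∀ t u, X45 u * X43 t = X43 t * X45 u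
  r43_49 : ∀ t u, X49 u * X43 t = X43 t * X49 u * X54 (t * u)
  c43_51 : ∀ t u, X51 u * X43 t = X43 t * X51 u
  c43_59 : ∀ t u, X59 u * X43 t = X43 t * X59 u
  c43_61 : ∀ t u, X61 u * X43 t = X43 t * X61 u
  c43_52 : ∀ t u, X52 u * X43 t = X43 t * X52 u
  c43_53 : ∀ t u, X53 u * X43 t = X43 t * X53 u
  c43_60 : ∀ t u, X60 u * X43 t = X43 t * X60 u
  r43_62 : ∀ t u, X62 u * X43 t = X43 t * X62 u * X67 (t * u)
  c43_54 : ∀ t u, X54 u * X43 t = X43 t * X54 u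
  r43_63 : ∀ t u, X63 u * X43 t = X43 t * X63 u * X68 (t * u)
  c43_64 : ∀ t u, X64 u * X43 t = X43 t * X64 u
  c43_55 : ∀ t u, X55 u * X43 t = X43 t * X55 u
  c43_65 : ∀ t u, X65 u * X43 t = X43 t * X65 u
  c43_67 : ∀ t u, X67 u * X43 t = X43 t * X67 u
  r43_66 : ∀ t u, X66 u * X43 t = X43 t * X66 u * X70 (t * u)
  c43_68 : ∀ t u, X68 u * X43 t = X43 t * X68 u
  c43_69 : ∀ t u, X69 u * X43 t = X43 t * X69 u
  c43_70 : ∀ t u, X70 u * X43 t = X43 t * X70 u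
  c43_71 : ∀ t u, X71 u * X43 t = X43 t * X71 u
  r47_57 : ∀ t u, X57 u * X47 t = X47 t * X57 u * X61 (t * u)
  c47_41 : ∀ t u, X41 u * X47 t = X47 t * X41 u
  r47_44 : ∀ t u, X44 u * X47 t = X47 t * X44 u * X53 (t * u)
  c47_48 : ∀ t u, X48 u * X47 t = X47 t * X48 u
  c47_50 : ∀ t u, X50 u * X47 t = X47 t * X50 u
  c47_58 : ∀ t u, X58 u * X47 t = X47 t * X58 u
  r47_45 : ∀ t u, X45 u * X47 t = X47 t * X45 u * X54 (t * u)
  c47_49 : ∀ t u, X49 u * X47 t = X47 t * X49 u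
  c47_51 : ∀ t u, X51 u * X47 t = X47 t * X51 u
  r47_59 : ∀ t u, X59 u * X47 t = X47 t * X59 u * X64 (t * u)
  c47_61 : ∀ t u, X61 u * X47 t = X47 t * X61 u
  c47_52 : ∀ t u, X52 u * X47 t = X47 t * X52 u
  c47_53 : ∀ t u, X53 u * X47 t = X47 t * X53 u
  r47_60 : ∀ t u, X60 u * X47 t = X47 t * X60 u * X65 (t * u)
  c47_62 : ∀ t u, X62 u * X47 t = X47 t * X62 u
  c47_54 : ∀ t u, X54 u * X47 t = X47 t * X54 u
  c47_63 : ∀ t u, X63 u * X47 t = X47 t * X63 u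
  c47_64 : ∀ t u, X64 u * X47 t = X47 t * X64 u
  c47_55 : ∀ t u, X55 u * X47 t = X47 t * X55 u
  c47_65 : ∀ t u, X65 u * X47 t = X47 t * X65 u
  c47_67 : ∀ t u, X67 u * X47 t = X47 t * X67 u
  c47_66 : ∀ t u, X66 u * X47 t = X47 t * X66 u
  c47_68 : ∀ t u, X68 u * X47 t = X47 t * X68 u
  r47_69 : ∀ t u, X69 u * X47 t = X47 t * X69 u * X71 (t * u)
  c47_70 : ∀ t u, X70 u * X47 t = X47 t * X70 u
  c47_71 : ∀ t u, X71 u * X47 t = X47 t * X71 u
  r57_41 : ∀ t u, X41 u * X57 t = X57 t * X41 u * X60 (t * u)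
  c57_44 : ∀ t u, X44 u * X57 t = X57 t * X44 u
  r57_48 : ∀ t u, X48 u * X57 t = X57 t * X48 u * X62 (t * u)
  c57_50 : ∀ t u, X50 u * X57 t = X57 t * X50 u
  c57_58 : ∀ t u, X58 u * X57 t = X57 t * X58 u
  c57_45 : ∀ t u, X45 u * X57 t = X57 t * X45 u
  r57_49 : ∀ t u, X49 u * X57 t = X57 t * X49 u * X63 (t * u)
  c57_51 : ∀ t u, X51 u * X57 t = X57 t * X51 u
  c57_59 : ∀ t u, X59 u * X57 t = X57 t * X59 u
  c57_61 : ∀ t u, X61 u * X57 t = X57 t * X61 u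
  c57_52 : ∀ t u, X52 u * X57 t = X57 t * X52 u
  r57_53 : ∀ t u, X53 u * X57 t = X57 t * X53 u * X67 (t * u)
  c57_60 : ∀ t u, X60 u * X57 t = X57 t * X60 u
  c57_62 : ∀ t u, X62 u * X57 t = X57 t * X62 u
  r57_54 : ∀ t u, X54 u * X57 t = X57 t * X54 u * X68 (t * u)
  c57_63 : ∀ t u, X63 u * X57 t = X57 t * X63 u
  c57_64 : ∀ t u, X64 u * X57 t = X57 t * X64 u
  r57_55 : ∀ t u, X55 u * X57 t = X57 t * X55 u * X69 (t * u)
  c57_65 : ∀ t u, X65 u * X57 t = X57 t * X65 u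
  c57_67 : ∀ t u, X67 u * X57 t = X57 t * X67 u
  c57_66 : ∀ t u, X66 u * X57 t = X57 t * X66 u
  c57_68 : ∀ t u, X68 u * X57 t = X57 t * X68 u
  c57_69 : ∀ t u, X69 u * X57 t = X57 t * X69 u
  c57_70 : ∀ t u, X70 u * X57 t = X57 t * X70 u
  c57_71 : ∀ t u, X71 u * X57 t = X57 t * X71 u
  c41_44 : ∀ t u, X44 u * X41 t = X41 t * X44 u
  c41_48 : ∀ t u, X48 u * X41 t = X41 t * X48 u
  r41_50 : ∀ t u, X50 u * X41 t = X41 t * X50 u * X54 (t * u)
  c41_58 : ∀ t u, X58 u * X41 t = X41 t * X58 u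
  c41_45 : ∀ t u, X45 u * X41 t = X41 t * X45 u
  c41_49 : ∀ t u, X49 u * X41 t = X41 t * X49 u
  r41_51 : ∀ t u, X51 u * X41 t = X41 t * X51 u * X55 (t * u)
  c41_59 : ∀ t u, X59 u * X41 t = X41 t * X59 u
  r41_61 : ∀ t u, X61 u * X41 t = X41 t * X61 u * X65 (t * u)
  c41_52 : ∀ t u, X52 u * X41 t = X41 t * X52 u
  c41_53 : ∀ t u, X53 u * X41 t = X41 t * X53 u
  c41_60 : ∀ t u, X60 u * X41 t = X41 t * X60 u
  r41_62 : ∀ t u, X62 u * X41 t = X41 t * X62 u * X66 (t * u)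
  c41_54 : ∀ t u, X54 u * X41 t = X41 t * X54 u
  c41_63 : ∀ t u, X63 u * X41 t = X41 t * X63 u
  c41_64 : ∀ t u, X64 u * X41 t = X41 t * X64 u
  c41_55 : ∀ t u, X55 u * X41 t = X41 t * X55 u
  c41_65 : ∀ t u, X65 u * X41 t = X41 t * X65 u
  r41_67 : ∀ t u, X67 u * X41 t = X41 t * X67 u * X70 (t * u)
  c41_66 : ∀ t u, X66 u * X41 t = X41 t * X66 u
  c41_68 : ∀ t u, X68 u * X41 t = X41 t * X68 u
  c41_69 : ∀ t u, X69 u * X41 t = X41 t * X69 u
  c41_70 : ∀ t u, X70 u * X41 t = X41 t * X70 u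
  c41_71 : ∀ t u, X71 u * X41 t = X41 t * X71 u
  c44_48 : ∀ t u, X48 u * X44 t = X44 t * X48 u
  c44_50 : ∀ t u, X50 u * X44 t = X44 t * X50 u
  c44_58 : ∀ t u, X58 u * X44 t = X44 t * X58 u
  c44_45 : ∀ t u, X45 u * X44 t = X44 t * X45 u
  r44_49 : ∀ t u, X49 u * X44 t = X44 t * X49 u * X55 (t * u)
  c44_51 : ∀ t u, X51 u * X44 t = X44 t * X51 u
  c44_59 : ∀ t u, X59 u * X44 t = X44 t * X59 u
  r44_61 : ∀ t u, X61 u * X44 t = X44 t * X61 u * X67 (t * u)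
  c44_52 : ∀ t u, X52 u * X44 t = X44 t * X52 u
  c44_53 : ∀ t u, X53 u * X44 t = X44 t * X53 u
  c44_60 : ∀ t u, X60 u * X44 t = X44 t * X60 u
  c44_62 : ∀ t u, X62 u * X44 t = X44 t * X62 u
  c44_54 : ∀ t u, X54 u * X44 t = X44 t * X54 u
  r44_63 : ∀ t u, X63 u * X44 t = X44 t * X63 u * X69 (t * u)
  c44_64 : ∀ t u, X64 u * X44 t = X44 t * X64 u
  c44_55 : ∀ t u, X55 u * X44 t = X44 t * X55 u
  r44_65 : ∀ t u, X65 u * X44 t = X44 t * X65 u * X70 (t * u)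
  c44_67 : ∀ t u, X67 u * X44 t = X44 t * X67 u
  c44_66 : ∀ t u, X66 u * X44 t = X44 t * X66 u
  c44_68 : ∀ t u, X68 u * X44 t = X44 t * X68 u
  c44_69 : ∀ t u, X69 u * X44 t = X44 t * X69 u
  c44_70 : ∀ t u, X70 u * X44 t = X44 t * X70 u
  c44_71 : ∀ t u, X71 u * X44 t = X44 t * X71 u
  c48_50 : ∀ t u, X50 u * X48 t = X48 t * X50 u
  r48_58 : ∀ t u, X58 u * X48 t = X48 t * X58 u * X64 (t * u)
  r48_45 : ∀ t u, X45 u * X48 t = X48 t * X45 u * X55 (t * u)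
  c48_49 : ∀ t u, X49 u * X48 t = X48 t * X49 u
  c48_51 : ∀ t u, X51 u * X48 t = X48 t * X51 u
  c48_59 : ∀ t u, X59 u * X48 t = X48 t * X59 u
  c48_61 : ∀ t u, X61 u * X48 t = X48 t * X61 u
  c48_52 : ∀ t u, X52 u * X48 t = X48 t * X52 u
  c48_53 : ∀ t u, X53 u * X48 t = X48 t * X53 u
  r48_60 : ∀ t u, X60 u * X48 t = X48 t * X60 u * X66 (t * u)
  c48_62 : ∀ t u, X62 u * X48 t = X48 t * X62 u
  c48_54 : ∀ t u, X54 u * X48 t = X48 t * X54 u
  c48_63 : ∀ t u, X63 u * X48 t = X48 t * X63 u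
  c48_64 : ∀ t u, X64 u * X48 t = X48 t * X64 u
  c48_55 : ∀ t u, X55 u * X48 t = X48 t * X55 u
  c48_65 : ∀ t u, X65 u * X48 t = X48 t * X65 u
  c48_67 : ∀ t u, X67 u * X48 t = X48 t * X67 u
  c48_66 : ∀ t u, X66 u * X48 t = X48 t * X66 u
  r48_68 : ∀ t u, X68 u * X48 t = X48 t * X68 u * X71 (t * u)
  c48_69 : ∀ t u, X69 u * X48 t = X48 t * X69 u
  c48_70 : ∀ t u, X70 u * X48 t = X48 t * X70 u
  c48_71 : ∀ t u, X71 u * X48 t = X48 t * X71 u
  c50_58 : ∀ t u, X58 u * X50 t = X50 t * X58 u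
  c50_45 : ∀ t u, X45 u * X50 t = X50 t * X45 u
  c50_49 : ∀ t u, X49 u * X50 t = X50 t * X49 u
  c50_51 : ∀ t u, X51 u * X50 t = X50 t * X51 u
  r50_59 : ∀ t u, X59 u * X50 t = X50 t * X59 u * X67 (t * u)
  c50_61 : ∀ t u, X61 u * X50 t = X50 t * X61 u
  c50_52 : ∀ t u, X52 u * X50 t = X50 t * X52 u
  c50_53 : ∀ t u, X53 u * X50 t = X50 t * X53 u
  r50_60 : ∀ t u, X60 u * X50 t = X50 t * X60 u * X68 (t * u)
  c50_62 : ∀ t u, X62 u * X50 t = X50 t * X62 u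
  c50_54 : ∀ t u, X54 u * X50 t = X50 t * X54 u
  c50_63 : ∀ t u, X63 u * X50 t = X50 t * X63 u
  c50_64 : ∀ t u, X64 u * X50 t = X50 t * X64 u
  c50_55 : ∀ t u, X55 u * X50 t = X50 t * X55 u
  c50_65 : ∀ t u, X65 u * X50 t = X50 t * X65 u
  c50_67 : ∀ t u, X67 u * X50 t = X50 t * X67 u
  r50_66 : ∀ t u, X66 u * X50 t = X50 t * X66 u * X71 (t * u)
  c50_68 : ∀ t u, X68 u * X50 t = X50 t * X68 u
  c50_69 : ∀ t u, X69 u * X50 t = X50 t * X69 u
  c50_70 : ∀ t u, X70 u * X50 t = X50 t * X70 u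
  c50_71 : ∀ t u, X71 u * X50 t = X50 t * X71 u
  c58_45 : ∀ t u, X45 u * X58 t = X58 t * X45 u
  r58_49 : ∀ t u, X49 u * X58 t = X58 t * X49 u * X65 (t * u)
  r58_51 : ∀ t u, X51 u * X58 t = X58 t * X51 u * X67 (t * u)
  c58_59 : ∀ t u, X59 u * X58 t = X58 t * X59 u
  c58_61 : ∀ t u, X61 u * X58 t = X58 t * X61 u
  r58_52 : ∀ t u, X52 u * X58 t = X58 t * X52 u * X68 (t * u)
  c58_53 : ∀ t u, X53 u * X58 t = X58 t * X53 u
  c58_60 : ∀ t u, X60 u * X58 t = X58 t * X60 u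
  c58_62 : ∀ t u, X62 u * X58 t = X58 t * X62 u
  c58_54 : ∀ t u, X54 u * X58 t = X58 t * X54 u
  c58_63 : ∀ t u, X63 u * X58 t = X58 t * X63 u
  c58_64 : ∀ t u, X64 u * X58 t = X58 t * X64 u
  r58_55 : ∀ t u, X55 u * X58 t = X58 t * X55 u * X70 (t * u)
  c58_65 : ∀ t u, X65 u * X58 t = X58 t * X65 u
  c58_67 : ∀ t u, X67 u * X58 t = X58 t * X67 u
  c58_66 : ∀ t u, X66 u * X58 t = X58 t * X66 u
  c58_68 : ∀ t u, X68 u * X58 t = X58 t * X68 u
  c58_69 : ∀ t u, X69 u * X58 t = X58 t * X69 u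
  c58_70 : ∀ t u, X70 u * X58 t = X58 t * X70 u
  c58_71 : ∀ t u, X71 u * X58 t = X58 t * X71 u
  c45_49 : ∀ t u, X49 u * X45 t = X45 t * X49 u
  c45_51 : ∀ t u, X51 u * X45 t = X45 t * X51 u
  c45_59 : ∀ t u, X59 u * X45 t = X45 t * X59 u
  r45_61 : ∀ t u, X61 u * X45 t = X45 t * X61 u * X68 (t * u)
  c45_52 : ∀ t u, X52 u * X45 t = X45 t * X52 u
  c45_53 : ∀ t u, X53 u * X45 t = X45 t * X53 u
  c45_60 : ∀ t u, X60 u * X45 t = X45 t * X60 u
  r45_62 : ∀ t u, X62 u * X45 t = X45 t * X62 u * X69 (t * u)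
  c45_54 : ∀ t u, X54 u * X45 t = X45 t * X54 u
  c45_63 : ∀ t u, X63 u * X45 t = X45 t * X63 u
  r45_64 : ∀ t u, X64 u * X45 t = X45 t * X64 u * X70 (t * u)
  c45_55 : ∀ t u, X55 u * X45 t = X45 t * X55 u
  c45_65 : ∀ t u, X65 u * X45 t = X45 t * X65 u
  c45_67 : ∀ t u, X67 u * X45 t = X45 t * X67 u
  c45_66 : ∀ t u, X66 u * X45 t = X45 t * X66 u
  c45_68 : ∀ t u, X68 u * X45 t = X45 t * X68 u
  c45_69 : ∀ t u, X69 u * X45 t = X45 t * X69 u
  c45_70 : ∀ t u, X70 u * X45 t = X45 t * X70 u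
  c45_71 : ∀ t u, X71 u * X45 t = X45 t * X71 u
  c49_51 : ∀ t u, X51 u * X49 t = X49 t * X51 u
  r49_59 : ∀ t u, X59 u * X49 t = X49 t * X59 u * X66 (t * u)
  c49_61 : ∀ t u, X61 u * X49 t = X49 t * X61 u
  c49_52 : ∀ t u, X52 u * X49 t = X49 t * X52 u
  c49_53 : ∀ t u, X53 u * X49 t = X49 t * X53 u
  c49_60 : ∀ t u, X60 u * X49 t = X49 t * X60 u
  c49_62 : ∀ t u, X62 u * X49 t = X49 t * X62 u
  c49_54 : ∀ t u, X54 u * X49 t = X49 t * X54 u
  c49_63 : ∀ t u, X63 u * X49 t = X49 t * X63 u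
  c49_64 : ∀ t u, X64 u * X49 t = X49 t * X64 u
  c49_55 : ∀ t u, X55 u * X49 t = X49 t * X55 u
  c49_65 : ∀ t u, X65 u * X49 t = X49 t * X65 u
  r49_67 : ∀ t u, X67 u * X49 t = X49 t * X67 u * X71 (t * u)
  c49_66 : ∀ t u, X66 u * X49 t = X49 t * X66 u
  c49_68 : ∀ t u, X68 u * X49 t = X49 t * X68 u
  c49_69 : ∀ t u, X69 u * X49 t = X49 t * X69 u
  c49_70 : ∀ t u, X70 u * X49 t = X49 t * X70 u
  c49_71 : ∀ t u, X71 u * X49 t = X49 t * X71 u
  c51_59 : ∀ t u, X59 u * X51 t = X51 t * X59 u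
  c51_61 : ∀ t u, X61 u * X51 t = X51 t * X61 u
  c51_52 : ∀ t u, X52 u * X51 t = X51 t * X52 u
  c51_53 : ∀ t u, X53 u * X51 t = X51 t * X53 u
  r51_60 : ∀ t u, X60 u * X51 t = X51 t * X60 u * X69 (t * u)
  c51_62 : ∀ t u, X62 u * X51 t = X51 t * X62 u
  c51_54 : ∀ t u, X54 u * X51 t = X51 t * X54 u
  c51_63 : ∀ t u, X63 u * X51 t = X51 t * X63 u
  c51_64 : ∀ t u, X64 u * X51 t = X51 t * X64 u
  c51_55 : ∀ t u, X55 u * X51 t = X51 t * X55 u
  r51_65 : ∀ t u, X65 u * X51 t = X51 t * X65 u * X71 (t * u)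
  c51_67 : ∀ t u, X67 u * X51 t = X51 t * X67 u
  c51_66 : ∀ t u, X66 u * X51 t = X51 t * X66 u
  c51_68 : ∀ t u, X68 u * X51 t = X51 t * X68 u
  c51_69 : ∀ t u, X69 u * X51 t = X51 t * X69 u
  c51_70 : ∀ t u, X70 u * X51 t = X51 t * X70 u
  c51_71 : ∀ t u, X71 u * X51 t = X51 t * X71 u
  c59_61 : ∀ t u, X61 u * X59 t = X59 t * X61 u
  r59_52 : ∀ t u, X52 u * X59 t = X59 t * X52 u * X69 (t * u)
  c59_53 : ∀ t u, X53 u * X59 t = X59 t * X53 u
  c59_60 : ∀ t u, X60 u * X59 t = X59 t * X60 u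
  c59_62 : ∀ t u, X62 u * X59 t = X59 t * X62 u
  r59_54 : ∀ t u, X54 u * X59 t = X59 t * X54 u * X70 (t * u)
  c59_63 : ∀ t u, X63 u * X59 t = X59 t * X63 u
  c59_64 : ∀ t u, X64 u * X59 t = X59 t * X64 u
  c59_55 : ∀ t u, X55 u * X59 t = X59 t * X55 u
  c59_65 : ∀ t u, X65 u * X59 t = X59 t * X65 u
  c59_67 : ∀ t u, X67 u * X59 t = X59 t * X67 u
  c59_66 : ∀ t u, X66 u * X59 t = X59 t * X66 u
  c59_68 : ∀ t u, X68 u * X59 t = X59 t * X68 u
  c59_69 : ∀ t u, X69 u * X59 t = X59 t * X69 u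
  c59_70 : ∀ t u, X70 u * X59 t = X59 t * X70 u
  c59_71 : ∀ t u, X71 u * X59 t = X59 t * X71 u
  c61_52 : ∀ t u, X52 u * X61 t = X61 t * X52 u
  c61_53 : ∀ t u, X53 u * X61 t = X61 t * X53 u
  c61_60 : ∀ t u, X60 u * X61 t = X61 t * X60 u
  c61_62 : ∀ t u, X62 u * X61 t = X61 t * X62 u
  c61_54 : ∀ t u, X54 u * X61 t = X61 t * X54 u
  c61_63 : ∀ t u, X63 u * X61 t = X61 t * X63 u
  c61_64 : ∀ t u, X64 u * X61 t = X61 t * X64 u
  r61_55 : ∀ t u, X55 u * X61 t = X61 t * X55 u * X71 (t * u)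
  c61_65 : ∀ t u, X65 u * X61 t = X61 t * X65 u
  c61_67 : ∀ t u, X67 u * X61 t = X61 t * X67 u
  c61_66 : ∀ t u, X66 u * X61 t = X61 t * X66 u
  c61_68 : ∀ t u, X68 u * X61 t = X61 t * X68 u
  c61_69 : ∀ t u, X69 u * X61 t = X61 t * X69 u
  c61_70 : ∀ t u, X70 u * X61 t = X61 t * X70 u
  c61_71 : ∀ t u, X71 u * X61 t = X61 t * X71 u
  c52_53 : ∀ t u, X53 u * X52 t = X52 t * X53 u
  c52_60 : ∀ t u, X60 u * X52 t = X52 t * X60 u
  c52_62 : ∀ t u, X62 u * X52 t = X52 t * X62 u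
  c52_54 : ∀ t u, X54 u * X52 t = X52 t * X54 u
  c52_63 : ∀ t u, X63 u * X52 t = X52 t * X63 u
  r52_64 : ∀ t u, X64 u * X52 t = X52 t * X64 u * X71 (t * u)
  c52_55 : ∀ t u, X55 u * X52 t = X52 t * X55 u
  c52_65 : ∀ t u, X65 u * X52 t = X52 t * X65 u
  c52_67 : ∀ t u, X67 u * X52 t = X52 t * X67 u
  c52_66 : ∀ t u, X66 u * X52 t = X52 t * X66 u
  c52_68 : ∀ t u, X68 u * X52 t = X52 t * X68 u
  c52_69 : ∀ t u, X69 u * X52 t = X52 t * X69 u
  c52_70 : ∀ t u, X70 u * X52 t = X52 t * X70 u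
  c52_71 : ∀ t u, X71 u * X52 t = X52 t * X71 u
  r53_60 : ∀ t u, X60 u * X53 t = X53 t * X60 u * X70 (t * u)
  c53_62 : ∀ t u, X62 u * X53 t = X53 t * X62 u
  c53_54 : ∀ t u, X54 u * X53 t = X53 t * X54 u
  r53_63 : ∀ t u, X63 u * X53 t = X53 t * X63 u * X71 (t * u)
  c53_64 : ∀ t u, X64 u * X53 t = X53 t * X64 u
  c53_55 : ∀ t u, X55 u * X53 t = X53 t * X55 u
  c53_65 : ∀ t u, X65 u * X53 t = X53 t * X65 u
  c53_67 : ∀ t u, X67 u * X53 t = X53 t * X67 u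
  c53_66 : ∀ t u, X66 u * X53 t = X53 t * X66 u
  c53_68 : ∀ t u, X68 u * X53 t = X53 t * X68 u
  c53_69 : ∀ t u, X69 u * X53 t = X53 t * X69 u
  c53_70 : ∀ t u, X70 u * X53 t = X53 t * X70 u
  c53_71 : ∀ t u, X71 u * X53 t = X53 t * X71 u
  c60_62 : ∀ t u, X62 u * X60 t = X60 t * X62 u
  c60_54 : ∀ t u, X54 u * X60 t = X60 t * X54 u
  c60_63 : ∀ t u, X63 u * X60 t = X60 t * X63 u
  c60_64 : ∀ t u, X64 u * X60 t = X60 t * X64 u
  c60_55 : ∀ t u, X55 u * X60 t = X60 t * X55 u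
  c60_65 : ∀ t u, X65 u * X60 t = X60 t * X65 u
  c60_67 : ∀ t u, X67 u * X60 t = X60 t * X67 u
  c60_66 : ∀ t u, X66 u * X60 t = X60 t * X66 u
  c60_68 : ∀ t u, X68 u * X60 t = X60 t * X68 u
  c60_69 : ∀ t u, X69 u * X60 t = X60 t * X69 u
  c60_70 : ∀ t u, X70 u * X60 t = X60 t * X70 u
  c60_71 : ∀ t u, X71 u * X60 t = X60 t * X71 u
  r62_54 : ∀ t u, X54 u * X62 t = X62 t * X54 u * X71 (t * u)
  c62_63 : ∀ t u, X63 u * X62 t = X62 t * X63 u
  c62_64 : ∀ t u, X64 u * X62 t = X62 t * X64 u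
  c62_55 : ∀ t u, X55 u * X62 t = X62 t * X55 u
  c62_65 : ∀ t u, X65 u * X62 t = X62 t * X65 u
  c62_67 : ∀ t u, X67 u * X62 t = X62 t * X67 u
  c62_66 : ∀ t u, X66 u * X62 t = X62 t * X66 u
  c62_68 : ∀ t u, X68 u * X62 t = X62 t * X68 u
  c62_69 : ∀ t u, X69 u * X62 t = X62 t * X69 u
  c62_70 : ∀ t u, X70 u * X62 t = X62 t * X70 u
  c62_71 : ∀ t u, X71 u * X62 t = X62 t * X71 u
  c54_63 : ∀ t u, X63 u * X54 t = X54 t * X63 u
  c54_64 : ∀ t u, X64 u * X54 t = X54 t * X64 u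
  c54_55 : ∀ t u, X55 u * X54 t = X54 t * X55 u
  c54_65 : ∀ t u, X65 u * X54 t = X54 t * X65 u
  c54_67 : ∀ t u, X67 u * X54 t = X54 t * X67 u
  c54_66 : ∀ t u, X66 u * X54 t = X54 t * X66 u
  c54_68 : ∀ t u, X68 u * X54 t = X54 t * X68 u
  c54_69 : ∀ t u, X69 u * X54 t = X54 t * X69 u
  c54_70 : ∀ t u, X70 u * X54 t = X54 t * X70 u
  c54_71 : ∀ t u, X71 u * X54 t = X54 t * X71 u
  c63_64 : ∀ t u, X64 u * X63 t = X63 t * X64 u
  c63_55 : ∀ t u, X55 u * X63 t = X63 t * X55 u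
  c63_65 : ∀ t u, X65 u * X63 t = X63 t * X65 u
  c63_67 : ∀ t u, X67 u * X63 t = X63 t * X67 u
  c63_66 : ∀ t u, X66 u * X63 t = X63 t * X66 u
  c63_68 : ∀ t u, X68 u * X63 t = X63 t * X68 u
  c63_69 : ∀ t u, X69 u * X63 t = X63 t * X69 u
  c63_70 : ∀ t u, X70 u * X63 t = X63 t * X70 u
  c63_71 : ∀ t u, X71 u * X63 t = X63 t * X71 u
  c64_55 : ∀ t u, X55 u * X64 t = X64 t * X55 u
  c64_65 : ∀ t u, X65 u * X64 t = X64 t * X65 u
  c64_67 : ∀ t u, X67 u * X64 t = X64 t * X67 u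
  c64_66 : ∀ t u, X66 u * X64 t = X64 t * X66 u
  c64_68 : ∀ t u, X68 u * X64 t = X64 t * X68 u
  c64_69 : ∀ t u, X69 u * X64 t = X64 t * X69 u
  c64_70 : ∀ t u, X70 u * X64 t = X64 t * X70 u
  c64_71 : ∀ t u, X71 u * X64 t = X64 t * X71 u
  c55_65 : ∀ t u, X65 u * X55 t = X55 t * X65 u
  c55_67 : ∀ t u, X67 u * X55 t = X55 t * X67 u
  c55_66 : ∀ t u, X66 u * X55 t = X55 t * X66 u
  c55_68 : ∀ t u, X68 u * X55 t = X55 t * X68 u
  c55_69 : ∀ t u, X69 u * X55 t = X55 t * X69 u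
  c55_70 : ∀ t u, X70 u * X55 t = X55 t * X70 u
  c55_71 : ∀ t u, X71 u * X55 t = X55 t * X71 u
  c65_67 : ∀ t u, X67 u * X65 t = X65 t * X67 u
  c65_66 : ∀ t u, X66 u * X65 t = X65 t * X66 u
  c65_68 : ∀ t u, X68 u * X65 t = X65 t * X68 u
  c65_69 : ∀ t u, X69 u * X65 t = X65 t * X69 u
  c65_70 : ∀ t u, X70 u * X65 t = X65 t * X70 u
  c65_71 : ∀ t u, X71 u * X65 t = X65 t * X71 u
  c67_66 : ∀ t u, X66 u * X67 t = X67 t * X66 u
  c67_68 : ∀ t u, X68 u * X67 t = X67 t * X68 u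
  c67_69 : ∀ t u, X69 u * X67 t = X67 t * X69 u
  c67_70 : ∀ t u, X70 u * X67 t = X67 t * X70 u
  c67_71 : ∀ t u, X71 u * X67 t = X67 t * X71 u
  c66_68 : ∀ t u, X68 u * X66 t = X66 t * X68 u
  c66_69 : ∀ t u, X69 u * X66 t = X66 t * X69 u
  c66_70 : ∀ t u, X70 u * X66 t = X66 t * X70 u
  c66_71 : ∀ t u, X71 u * X66 t = X66 t * X71 u
  c68_69 : ∀ t u, X69 u * X68 t = X68 t * X69 u
  c68_70 : ∀ t u, X70 u * X68 t = X68 t * X70 u
  c68_71 : ∀ t u, X71 u * X68 t = X68 t * X71 u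
  c69_70 : ∀ t u, X70 u * X69 t = X69 t * X70 u
  c69_71 : ∀ t u, X71 u * X69 t = X69 t * X71 u
  c70_71 : ∀ t u, X71 u * X70 t = X70 t * X71 u

variable {K Γ : Type*} [Field K] [Group Γ] (R : RelE6 K Γ)

namespace RelE6

theorem zero36 : R.X36 0 = 1 := by
  have := R.add36 0 0
  rw [add_zero] at this
  exact (mul_eq_left.mp this.symm)

theorem zero37 : R.X37 0 = 1 := by
  have := R.add37 0 0
  rw [add_zero] at this
  exact (mul_eq_left.mp this.symm)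

theorem zero39 : R.X39 0 = 1 := by
  have := R.add39 0 0
  rw [add_zero] at this
  exact (mul_eq_left.mp this.symm)

theorem zero42 : R.X42 0 = 1 := by
  have := R.add42 0 0
  rw [add_zero] at this
  exact (mul_eq_left.mp this.symm)

theorem zero46 : R.X46 0 = 1 := by
  have := R.add46 0 0
  rw [add_zero] at this
  exact (mul_eq_left.mp this.symm)

theorem zero56 : R.X56 0 = 1 := by
  have := R.add56 0 0
  rw [add_zero] at this
  exact (mul_eq_left.mp this.symm)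

theorem zero38 : R.X38 0 = 1 := by
  have := R.add38 0 0
  rw [add_zero] at this
  exact (mul_eq_left.mp this.symm)

theorem zero40 : R.X40 0 = 1 := by
  have := R.add40 0 0
  rw [add_zero] at this
  exact (mul_eq_left.mp this.symm)

theorem zero43 : R.X43 0 = 1 := by
  have := R.add43 0 0
  rw [add_zero] at this
  exact (mul_eq_left.mp this.symm)

theorem zero47 : R.X47 0 = 1 := by
  have := R.add47 0 0
  rw [add_zero] at this
  exact (mul_eq_left.mp this.symm)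

theorem zero57 : R.X57 0 = 1 := by
  have := R.add57 0 0
  rw [add_zero] at this
  exact (mul_eq_left.mp this.symm)

theorem zero41 : R.X41 0 = 1 := by
  have := R.add41 0 0
  rw [add_zero] at this
  exact (mul_eq_left.mp this.symm)

theorem zero44 : R.X44 0 = 1 := by
  have := R.add44 0 0
  rw [add_zero] at this
  exact (mul_eq_left.mp this.symm)

theorem zero48 : R.X48 0 = 1 := by
  have := R.add48 0 0
  rw [add_zero] at this
  exact (mul_eq_left.mp this.symm)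

theorem zero50 : R.X50 0 = 1 := by
  have := R.add50 0 0
  rw [add_zero] at this
  exact (mul_eq_left.mp this.symm)

theorem zero58 : R.X58 0 = 1 := by
  have := R.add58 0 0
  rw [add_zero] at this
  exact (mul_eq_left.mp this.symm)

theorem zero45 : R.X45 0 = 1 := by
  have := R.add45 0 0
  rw [add_zero] at this
  exact (mul_eq_left.mp this.symm)

theorem zero49 : R.X49 0 = 1 := by
  have := R.add49 0 0
  rw [add_zero] at this
  exact (mul_eq_left.mp this.symm)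

theorem zero51 : R.X51 0 = 1 := by
  have := R.add51 0 0
  rw [add_zero] at this
  exact (mul_eq_left.mp this.symm)

theorem zero59 : R.X59 0 = 1 := by
  have := R.add59 0 0
  rw [add_zero] at this
  exact (mul_eq_left.mp this.symm)

theorem zero61 : R.X61 0 = 1 := by
  have := R.add61 0 0
  rw [add_zero] at this
  exact (mul_eq_left.mp this.symm)

theorem zero52 : R.X52 0 = 1 := by
  have := R.add52 0 0
  rw [add_zero] at this
  exact (mul_eq_left.mp this.symm)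

theorem zero53 : R.X53 0 = 1 := by
  have := R.add53 0 0
  rw [add_zero] at this
  exact (mul_eq_left.mp this.symm)

theorem zero60 : R.X60 0 = 1 := by
  have := R.add60 0 0
  rw [add_zero] at this
  exact (mul_eq_left.mp this.symm)

theorem zero62 : R.X62 0 = 1 := by
  have := R.add62 0 0
  rw [add_zero] at this
  exact (mul_eq_left.mp this.symm)

theorem zero54 : R.X54 0 = 1 := by
  have := R.add54 0 0
  rw [add_zero] at this
  exact (mul_eq_left.mp this.symm)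

theorem zero63 : R.X63 0 = 1 := by
  have := R.add63 0 0
  rw [add_zero] at this
  exact (mul_eq_left.mp this.symm)

theorem zero64 : R.X64 0 = 1 := by
  have := R.add64 0 0
  rw [add_zero] at this
  exact (mul_eq_left.mp this.symm)

theorem zero55 : R.X55 0 = 1 := by
  have := R.add55 0 0
  rw [add_zero] at this
  exact (mul_eq_left.mp this.symm)

theorem zero65 : R.X65 0 = 1 := by
  have := R.add65 0 0
  rw [add_zero] at this
  exact (mul_eq_left.mp this.symm)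

theorem zero67 : R.X67 0 = 1 := by
  have := R.add67 0 0
  rw [add_zero] at this
  exact (mul_eq_left.mp this.symm)

theorem zero66 : R.X66 0 = 1 := by
  have := R.add66 0 0
  rw [add_zero] at this
  exact (mul_eq_left.mp this.symm)

theorem zero68 : R.X68 0 = 1 := by
  have := R.add68 0 0
  rw [add_zero] at this
  exact (mul_eq_left.mp this.symm)

theorem zero69 : R.X69 0 = 1 := by
  have := R.add69 0 0
  rw [add_zero] at this
  exact (mul_eq_left.mp this.symm)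

theorem zero70 : R.X70 0 = 1 := by
  have := R.add70 0 0
  rw [add_zero] at this
  exact (mul_eq_left.mp this.symm)

theorem zero71 : R.X71 0 = 1 := by
  have := R.add71 0 0
  rw [add_zero] at this
  exact (mul_eq_left.mp this.symm)

theorem t36_37 (t u : K) (w : Γ) : R.X37 u * (R.X36 t * w) = R.X36 t * (R.X37 u * (R.X38 (t * u) * w)) := by
  rw [← mul_assoc, R.r36_37]; simp only [mul_assoc]

theorem t36_39 (t u : K) (w : Γ) : R.X39 u * (R.X36 t * w) = R.X36 t * (R.X39 u * w) := by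
  rw [← mul_assoc, R.c36_39, mul_assoc]

theorem t36_42 (t u : K) (w : Γ) : R.X42 u * (R.X36 t * w) = R.X36 t * (R.X42 u * w) := by
  rw [← mul_assoc, R.c36_42, mul_assoc]

theorem t36_46 (t u : K) (w : Γ) : R.X46 u * (R.X36 t * w) = R.X36 t * (R.X46 u * w) := by
  rw [← mul_assoc, R.c36_46, mul_assoc]

theorem t36_56 (t u : K) (w : Γ) : R.X56 u * (R.X36 t * w) = R.X36 t * (R.X56 u * w) := by
  rw [← mul_assoc, R.c36_56, mul_assoc]

theorem t36_38 (t u : K) (w : Γ) : R.X38 u * (R.X36 t * w) = R.X36 t * (R.X38 u * w) := by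
  rw [← mul_assoc, R.c36_38, mul_assoc]

theorem t36_40 (t u : K) (w : Γ) : R.X40 u * (R.X36 t * w) = R.X36 t * (R.X40 u * (R.X41 (t * u) * w)) := by
  rw [← mul_assoc, R.r36_40]; simp only [mul_assoc]

theorem t36_43 (t u : K) (w : Γ) : R.X43 u * (R.X36 t * w) = R.X36 t * (R.X43 u * w) := by
  rw [← mul_assoc, R.c36_43, mul_assoc]

theorem t36_47 (t u : K) (w : Γ) : R.X47 u * (R.X36 t * w) = R.X36 t * (R.X47 u * w) := by
  rw [← mul_assoc, R.c36_47, mul_assoc]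

theorem t36_57 (t u : K) (w : Γ) : R.X57 u * (R.X36 t * w) = R.X36 t * (R.X57 u * w) := by
  rw [← mul_assoc, R.c36_57, mul_assoc]

theorem t36_41 (t u : K) (w : Γ) : R.X41 u * (R.X36 t * w) = R.X36 t * (R.X41 u * w) := by
  rw [← mul_assoc, R.c36_41, mul_assoc]

theorem t36_44 (t u : K) (w : Γ) : R.X44 u * (R.X36 t * w) = R.X36 t * (R.X44 u * (R.X45 (t * u) * w)) := by
  rw [← mul_assoc, R.r36_44]; simp only [mul_assoc]

theorem t36_48 (t u : K) (w : Γ) : R.X48 u * (R.X36 t * w) = R.X36 t * (R.X48 u * (R.X49 (t * u) * w)) := by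
  rw [← mul_assoc, R.r36_48]; simp only [mul_assoc]

theorem t36_50 (t u : K) (w : Γ) : R.X50 u * (R.X36 t * w) = R.X36 t * (R.X50 u * w) := by
  rw [← mul_assoc, R.c36_50, mul_assoc]

theorem t36_58 (t u : K) (w : Γ) : R.X58 u * (R.X36 t * w) = R.X36 t * (R.X58 u * w) := by
  rw [← mul_assoc, R.c36_58, mul_assoc]

theorem t36_45 (t u : K) (w : Γ) : R.X45 u * (R.X36 t * w) = R.X36 t * (R.X45 u * w) := by
  rw [← mul_assoc, R.c36_45, mul_assoc]

theorem t36_49 (t u : K) (w : Γ) : R.X49 u * (R.X36 t * w) = R.X36 t * (R.X49 u * w) := by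
  rw [← mul_assoc, R.c36_49, mul_assoc]

theorem t36_51 (t u : K) (w : Γ) : R.X51 u * (R.X36 t * w) = R.X36 t * (R.X51 u * (R.X52 (t * u) * w)) := by
  rw [← mul_assoc, R.r36_51]; simp only [mul_assoc]

theorem t36_59 (t u : K) (w : Γ) : R.X59 u * (R.X36 t * w) = R.X36 t * (R.X59 u * (R.X60 (t * u) * w)) := by
  rw [← mul_assoc, R.r36_59]; simp only [mul_assoc]

theorem t36_61 (t u : K) (w : Γ) : R.X61 u * (R.X36 t * w) = R.X36 t * (R.X61 u * w) := by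
  rw [← mul_assoc, R.c36_61, mul_assoc]

theorem t36_52 (t u : K) (w : Γ) : R.X52 u * (R.X36 t * w) = R.X36 t * (R.X52 u * w) := by
  rw [← mul_assoc, R.c36_52, mul_assoc]

theorem t36_53 (t u : K) (w : Γ) : R.X53 u * (R.X36 t * w) = R.X36 t * (R.X53 u * (R.X54 (t * u) * w)) := by
  rw [← mul_assoc, R.r36_53]; simp only [mul_assoc]

theorem t36_60 (t u : K) (w : Γ) : R.X60 u * (R.X36 t * w) = R.X36 t * (R.X60 u * w) := by
  rw [← mul_assoc, R.c36_60, mul_assoc]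

theorem t36_62 (t u : K) (w : Γ) : R.X62 u * (R.X36 t * w) = R.X36 t * (R.X62 u * (R.X63 (t * u) * w)) := by
  rw [← mul_assoc, R.r36_62]; simp only [mul_assoc]

theorem t36_54 (t u : K) (w : Γ) : R.X54 u * (R.X36 t * w) = R.X36 t * (R.X54 u * w) := by
  rw [← mul_assoc, R.c36_54, mul_assoc]

theorem t36_63 (t u : K) (w : Γ) : R.X63 u * (R.X36 t * w) = R.X36 t * (R.X63 u * w) := by
  rw [← mul_assoc, R.c36_63, mul_assoc]

theorem t36_64 (t u : K) (w : Γ) : R.X64 u * (R.X36 t * w) = R.X36 t * (R.X64 u * (R.X65 (t * u) * w)) := by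
  rw [← mul_assoc, R.r36_64]; simp only [mul_assoc]

theorem t36_55 (t u : K) (w : Γ) : R.X55 u * (R.X36 t * w) = R.X36 t * (R.X55 u * w) := by
  rw [← mul_assoc, R.c36_55, mul_assoc]

theorem t36_65 (t u : K) (w : Γ) : R.X65 u * (R.X36 t * w) = R.X36 t * (R.X65 u * w) := by
  rw [← mul_assoc, R.c36_65, mul_assoc]

theorem t36_67 (t u : K) (w : Γ) : R.X67 u * (R.X36 t * w) = R.X36 t * (R.X67 u * (R.X68 (t * u) * w)) := by
  rw [← mul_assoc, R.r36_67]; simp only [mul_assoc]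

theorem t36_66 (t u : K) (w : Γ) : R.X66 u * (R.X36 t * w) = R.X36 t * (R.X66 u * w) := by
  rw [← mul_assoc, R.c36_66, mul_assoc]

theorem t36_68 (t u : K) (w : Γ) : R.X68 u * (R.X36 t * w) = R.X36 t * (R.X68 u * w) := by
  rw [← mul_assoc, R.c36_68, mul_assoc]

theorem t36_69 (t u : K) (w : Γ) : R.X69 u * (R.X36 t * w) = R.X36 t * (R.X69 u * w) := by
  rw [← mul_assoc, R.c36_69, mul_assoc]

theorem t36_70 (t u : K) (w : Γ) : R.X70 u * (R.X36 t * w) = R.X36 t * (R.X70 u * w) := by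
  rw [← mul_assoc, R.c36_70, mul_assoc]

theorem t36_71 (t u : K) (w : Γ) : R.X71 u * (R.X36 t * w) = R.X36 t * (R.X71 u * w) := by
  rw [← mul_assoc, R.c36_71, mul_assoc]

theorem t37_39 (t u : K) (w : Γ) : R.X39 u * (R.X37 t * w) = R.X37 t * (R.X39 u * (R.X40 (t * u) * w)) := by
  rw [← mul_assoc, R.r37_39]; simp only [mul_assoc]

theorem t37_42 (t u : K) (w : Γ) : R.X42 u * (R.X37 t * w) = R.X37 t * (R.X42 u * w) := by
  rw [← mul_assoc, R.c37_42, mul_assoc]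

theorem t37_46 (t u : K) (w : Γ) : R.X46 u * (R.X37 t * w) = R.X37 t * (R.X46 u * w) := by
  rw [← mul_assoc, R.c37_46, mul_assoc]

theorem t37_56 (t u : K) (w : Γ) : R.X56 u * (R.X37 t * w) = R.X37 t * (R.X56 u * w) := by
  rw [← mul_assoc, R.c37_56, mul_assoc]

theorem t37_38 (t u : K) (w : Γ) : R.X38 u * (R.X37 t * w) = R.X37 t * (R.X38 u * w) := by
  rw [← mul_assoc, R.c37_38, mul_assoc]

theorem t37_40 (t u : K) (w : Γ) : R.X40 u * (R.X37 t * w) = R.X37 t * (R.X40 u * w) := by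
  rw [← mul_assoc, R.c37_40, mul_assoc]

theorem t37_43 (t u : K) (w : Γ) : R.X43 u * (R.X37 t * w) = R.X37 t * (R.X43 u * (R.X44 (t * u) * w)) := by
  rw [← mul_assoc, R.r37_43]; simp only [mul_assoc]

theorem t37_47 (t u : K) (w : Γ) : R.X47 u * (R.X37 t * w) = R.X37 t * (R.X47 u * (R.X48 (t * u) * w)) := by
  rw [← mul_assoc, R.r37_47]; simp only [mul_assoc]

theorem t37_57 (t u : K) (w : Γ) : R.X57 u * (R.X37 t * w) = R.X37 t * (R.X57 u * w) := by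
  rw [← mul_assoc, R.c37_57, mul_assoc]

theorem t37_41 (t u : K) (w : Γ) : R.X41 u * (R.X37 t * w) = R.X37 t * (R.X41 u * w) := by
  rw [← mul_assoc, R.c37_41, mul_assoc]

theorem t37_44 (t u : K) (w : Γ) : R.X44 u * (R.X37 t * w) = R.X37 t * (R.X44 u * w) := by
  rw [← mul_assoc, R.c37_44, mul_assoc]

theorem t37_48 (t u : K) (w : Γ) : R.X48 u * (R.X37 t * w) = R.X37 t * (R.X48 u * w) := by
  rw [← mul_assoc, R.c37_48, mul_assoc]

theorem t37_50 (t u : K) (w : Γ) : R.X50 u * (R.X37 t * w) = R.X37 t * (R.X50 u * (R.X51 (t * u) * w)) := by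
  rw [← mul_assoc, R.r37_50]; simp only [mul_assoc]

theorem t37_58 (t u : K) (w : Γ) : R.X58 u * (R.X37 t * w) = R.X37 t * (R.X58 u * (R.X59 (t * u) * w)) := by
  rw [← mul_assoc, R.r37_58]; simp only [mul_assoc]

theorem t37_45 (t u : K) (w : Γ) : R.X45 u * (R.X37 t * w) = R.X37 t * (R.X45 u * w) := by
  rw [← mul_assoc, R.c37_45, mul_assoc]

theorem t37_49 (t u : K) (w : Γ) : R.X49 u * (R.X37 t * w) = R.X37 t * (R.X49 u * w) := by
  rw [← mul_assoc, R.c37_49, mul_assoc]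

theorem t37_51 (t u : K) (w : Γ) : R.X51 u * (R.X37 t * w) = R.X37 t * (R.X51 u * w) := by
  rw [← mul_assoc, R.c37_51, mul_assoc]

theorem t37_59 (t u : K) (w : Γ) : R.X59 u * (R.X37 t * w) = R.X37 t * (R.X59 u * w) := by
  rw [← mul_assoc, R.c37_59, mul_assoc]

theorem t37_61 (t u : K) (w : Γ) : R.X61 u * (R.X37 t * w) = R.X37 t * (R.X61 u * (R.X62 (t * u) * w)) := by
  rw [← mul_assoc, R.r37_61]; simp only [mul_assoc]

theorem t37_52 (t u : K) (w : Γ) : R.X52 u * (R.X37 t * w) = R.X37 t * (R.X52 u * w) := by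
  rw [← mul_assoc, R.c37_52, mul_assoc]

theorem t37_53 (t u : K) (w : Γ) : R.X53 u * (R.X37 t * w) = R.X37 t * (R.X53 u * w) := by
  rw [← mul_assoc, R.c37_53, mul_assoc]

theorem t37_60 (t u : K) (w : Γ) : R.X60 u * (R.X37 t * w) = R.X37 t * (R.X60 u * w) := by
  rw [← mul_assoc, R.c37_60, mul_assoc]

theorem t37_62 (t u : K) (w : Γ) : R.X62 u * (R.X37 t * w) = R.X37 t * (R.X62 u * w) := by
  rw [← mul_assoc, R.c37_62, mul_assoc]

theorem t37_54 (t u : K) (w : Γ) : R.X54 u * (R.X37 t * w) = R.X37 t * (R.X54 u * (R.X55 (t * u) * w)) := by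
  rw [← mul_assoc, R.r37_54]; simp only [mul_assoc]

theorem t37_63 (t u : K) (w : Γ) : R.X63 u * (R.X37 t * w) = R.X37 t * (R.X63 u * w) := by
  rw [← mul_assoc, R.c37_63, mul_assoc]

theorem t37_64 (t u : K) (w : Γ) : R.X64 u * (R.X37 t * w) = R.X37 t * (R.X64 u * w) := by
  rw [← mul_assoc, R.c37_64, mul_assoc]

theorem t37_55 (t u : K) (w : Γ) : R.X55 u * (R.X37 t * w) = R.X37 t * (R.X55 u * w) := by
  rw [← mul_assoc, R.c37_55, mul_assoc]

theorem t37_65 (t u : K) (w : Γ) : R.X65 u * (R.X37 t * w) = R.X37 t * (R.X65 u * (R.X66 (t * u) * w)) := by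
  rw [← mul_assoc, R.r37_65]; simp only [mul_assoc]

theorem t37_67 (t u : K) (w : Γ) : R.X67 u * (R.X37 t * w) = R.X37 t * (R.X67 u * w) := by
  rw [← mul_assoc, R.c37_67, mul_assoc]

theorem t37_66 (t u : K) (w : Γ) : R.X66 u * (R.X37 t * w) = R.X37 t * (R.X66 u * w) := by
  rw [← mul_assoc, R.c37_66, mul_assoc]

theorem t37_68 (t u : K) (w : Γ) : R.X68 u * (R.X37 t * w) = R.X37 t * (R.X68 u * (R.X69 (t * u) * w)) := by
  rw [← mul_assoc, R.r37_68]; simp only [mul_assoc]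

theorem t37_69 (t u : K) (w : Γ) : R.X69 u * (R.X37 t * w) = R.X37 t * (R.X69 u * w) := by
  rw [← mul_assoc, R.c37_69, mul_assoc]

theorem t37_70 (t u : K) (w : Γ) : R.X70 u * (R.X37 t * w) = R.X37 t * (R.X70 u * w) := by
  rw [← mul_assoc, R.c37_70, mul_assoc]

theorem t37_71 (t u : K) (w : Γ) : R.X71 u * (R.X37 t * w) = R.X37 t * (R.X71 u * w) := by
  rw [← mul_assoc, R.c37_71, mul_assoc]

theorem t39_42 (t u : K) (w : Γ) : R.X42 u * (R.X39 t * w) = R.X39 t * (R.X42 u * (R.X43 (t * u) * w)) := by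
  rw [← mul_assoc, R.r39_42]; simp only [mul_assoc]

theorem t39_46 (t u : K) (w : Γ) : R.X46 u * (R.X39 t * w) = R.X39 t * (R.X46 u * (R.X47 (t * u) * w)) := by
  rw [← mul_assoc, R.r39_46]; simp only [mul_assoc]

theorem t39_56 (t u : K) (w : Γ) : R.X56 u * (R.X39 t * w) = R.X39 t * (R.X56 u * w) := by
  rw [← mul_assoc, R.c39_56, mul_assoc]

theorem t39_38 (t u : K) (w : Γ) : R.X38 u * (R.X39 t * w) = R.X39 t * (R.X38 u * (R.X41 (t * u) * w)) := by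
  rw [← mul_assoc, R.r39_38]; simp only [mul_assoc]

theorem t39_40 (t u : K) (w : Γ) : R.X40 u * (R.X39 t * w) = R.X39 t * (R.X40 u * w) := by
  rw [← mul_assoc, R.c39_40, mul_assoc]

theorem t39_43 (t u : K) (w : Γ) : R.X43 u * (R.X39 t * w) = R.X39 t * (R.X43 u * w) := by
  rw [← mul_assoc, R.c39_43, mul_assoc]

theorem t39_47 (t u : K) (w : Γ) : R.X47 u * (R.X39 t * w) = R.X39 t * (R.X47 u * w) := by
  rw [← mul_assoc, R.c39_47, mul_assoc]

theorem t39_57 (t u : K) (w : Γ) : R.X57 u * (R.X39 t * w) = R.X39 t * (R.X57 u * (R.X58 (t * u) * w)) := by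
  rw [← mul_assoc, R.r39_57]; simp only [mul_assoc]

theorem t39_41 (t u : K) (w : Γ) : R.X41 u * (R.X39 t * w) = R.X39 t * (R.X41 u * w) := by
  rw [← mul_assoc, R.c39_41, mul_assoc]

theorem t39_44 (t u : K) (w : Γ) : R.X44 u * (R.X39 t * w) = R.X39 t * (R.X44 u * w) := by
  rw [← mul_assoc, R.c39_44, mul_assoc]

theorem t39_48 (t u : K) (w : Γ) : R.X48 u * (R.X39 t * w) = R.X39 t * (R.X48 u * w) := by
  rw [← mul_assoc, R.c39_48, mul_assoc]

theorem t39_50 (t u : K) (w : Γ) : R.X50 u * (R.X39 t * w) = R.X39 t * (R.X50 u * w) := by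
  rw [← mul_assoc, R.c39_50, mul_assoc]

theorem t39_58 (t u : K) (w : Γ) : R.X58 u * (R.X39 t * w) = R.X39 t * (R.X58 u * w) := by
  rw [← mul_assoc, R.c39_58, mul_assoc]

theorem t39_45 (t u : K) (w : Γ) : R.X45 u * (R.X39 t * w) = R.X39 t * (R.X45 u * w) := by
  rw [← mul_assoc, R.c39_45, mul_assoc]

theorem t39_49 (t u : K) (w : Γ) : R.X49 u * (R.X39 t * w) = R.X39 t * (R.X49 u * w) := by
  rw [← mul_assoc, R.c39_49, mul_assoc]

theorem t39_51 (t u : K) (w : Γ) : R.X51 u * (R.X39 t * w) = R.X39 t * (R.X51 u * (R.X53 (t * u) * w)) := by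
  rw [← mul_assoc, R.r39_51]; simp only [mul_assoc]

theorem t39_59 (t u : K) (w : Γ) : R.X59 u * (R.X39 t * w) = R.X39 t * (R.X59 u * w) := by
  rw [← mul_assoc, R.c39_59, mul_assoc]

theorem t39_61 (t u : K) (w : Γ) : R.X61 u * (R.X39 t * w) = R.X39 t * (R.X61 u * w) := by
  rw [← mul_assoc, R.c39_61, mul_assoc]

theorem t39_52 (t u : K) (w : Γ) : R.X52 u * (R.X39 t * w) = R.X39 t * (R.X52 u * (R.X54 (t * u) * w)) := by
  rw [← mul_assoc, R.r39_52]; simp only [mul_assoc]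

theorem t39_53 (t u : K) (w : Γ) : R.X53 u * (R.X39 t * w) = R.X39 t * (R.X53 u * w) := by
  rw [← mul_assoc, R.c39_53, mul_assoc]

theorem t39_60 (t u : K) (w : Γ) : R.X60 u * (R.X39 t * w) = R.X39 t * (R.X60 u * w) := by
  rw [← mul_assoc, R.c39_60, mul_assoc]

theorem t39_62 (t u : K) (w : Γ) : R.X62 u * (R.X39 t * w) = R.X39 t * (R.X62 u * (R.X64 (t * u) * w)) := by
  rw [← mul_assoc, R.r39_62]; simp only [mul_assoc]

theorem t39_54 (t u : K) (w : Γ) : R.X54 u * (R.X39 t * w) = R.X39 t * (R.X54 u * w) := by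
  rw [← mul_assoc, R.c39_54, mul_assoc]

theorem t39_63 (t u : K) (w : Γ) : R.X63 u * (R.X39 t * w) = R.X39 t * (R.X63 u * (R.X65 (t * u) * w)) := by
  rw [← mul_assoc, R.r39_63]; simp only [mul_assoc]

theorem t39_64 (t u : K) (w : Γ) : R.X64 u * (R.X39 t * w) = R.X39 t * (R.X64 u * w) := by
  rw [← mul_assoc, R.c39_64, mul_assoc]

theorem t39_55 (t u : K) (w : Γ) : R.X55 u * (R.X39 t * w) = R.X39 t * (R.X55 u * w) := by
  rw [← mul_assoc, R.c39_55, mul_assoc]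

theorem t39_65 (t u : K) (w : Γ) : R.X65 u * (R.X39 t * w) = R.X39 t * (R.X65 u * w) := by
  rw [← mul_assoc, R.c39_65, mul_assoc]

theorem t39_67 (t u : K) (w : Γ) : R.X67 u * (R.X39 t * w) = R.X39 t * (R.X67 u * w) := by
  rw [← mul_assoc, R.c39_67, mul_assoc]

theorem t39_66 (t u : K) (w : Γ) : R.X66 u * (R.X39 t * w) = R.X39 t * (R.X66 u * w) := by
  rw [← mul_assoc, R.c39_66, mul_assoc]

theorem t39_68 (t u : K) (w : Γ) : R.X68 u * (R.X39 t * w) = R.X39 t * (R.X68 u * w) := by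
  rw [← mul_assoc, R.c39_68, mul_assoc]

theorem t39_69 (t u : K) (w : Γ) : R.X69 u * (R.X39 t * w) = R.X39 t * (R.X69 u * (R.X70 (t * u) * w)) := by
  rw [← mul_assoc, R.r39_69]; simp only [mul_assoc]

theorem t39_70 (t u : K) (w : Γ) : R.X70 u * (R.X39 t * w) = R.X39 t * (R.X70 u * w) := by
  rw [← mul_assoc, R.c39_70, mul_assoc]

theorem t39_71 (t u : K) (w : Γ) : R.X71 u * (R.X39 t * w) = R.X39 t * (R.X71 u * w) := by
  rw [← mul_assoc, R.c39_71, mul_assoc]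

theorem t42_46 (t u : K) (w : Γ) : R.X46 u * (R.X42 t * w) = R.X42 t * (R.X46 u * w) := by
  rw [← mul_assoc, R.c42_46, mul_assoc]

theorem t42_56 (t u : K) (w : Γ) : R.X56 u * (R.X42 t * w) = R.X42 t * (R.X56 u * (R.X57 (t * u) * w)) := by
  rw [← mul_assoc, R.r42_56]; simp only [mul_assoc]

theorem t42_38 (t u : K) (w : Γ) : R.X38 u * (R.X42 t * w) = R.X42 t * (R.X38 u * w) := by
  rw [← mul_assoc, R.c42_38, mul_assoc]

theorem t42_40 (t u : K) (w : Γ) : R.X40 u * (R.X42 t * w) = R.X42 t * (R.X40 u * (R.X44 (t * u) * w)) := by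
  rw [← mul_assoc, R.r42_40]; simp only [mul_assoc]

theorem t42_43 (t u : K) (w : Γ) : R.X43 u * (R.X42 t * w) = R.X42 t * (R.X43 u * w) := by
  rw [← mul_assoc, R.c42_43, mul_assoc]

theorem t42_47 (t u : K) (w : Γ) : R.X47 u * (R.X42 t * w) = R.X42 t * (R.X47 u * (R.X50 (t * u) * w)) := by
  rw [← mul_assoc, R.r42_47]; simp only [mul_assoc]

theorem t42_57 (t u : K) (w : Γ) : R.X57 u * (R.X42 t * w) = R.X42 t * (R.X57 u * w) := by
  rw [← mul_assoc, R.c42_57, mul_assoc]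

theorem t42_41 (t u : K) (w : Γ) : R.X41 u * (R.X42 t * w) = R.X42 t * (R.X41 u * (R.X45 (t * u) * w)) := by
  rw [← mul_assoc, R.r42_41]; simp only [mul_assoc]

theorem t42_44 (t u : K) (w : Γ) : R.X44 u * (R.X42 t * w) = R.X42 t * (R.X44 u * w) := by
  rw [← mul_assoc, R.c42_44, mul_assoc]

theorem t42_48 (t u : K) (w : Γ) : R.X48 u * (R.X42 t * w) = R.X42 t * (R.X48 u * (R.X51 (t * u) * w)) := by
  rw [← mul_assoc, R.r42_48]; simp only [mul_assoc]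

theorem t42_50 (t u : K) (w : Γ) : R.X50 u * (R.X42 t * w) = R.X42 t * (R.X50 u * w) := by
  rw [← mul_assoc, R.c42_50, mul_assoc]

theorem t42_58 (t u : K) (w : Γ) : R.X58 u * (R.X42 t * w) = R.X42 t * (R.X58 u * w) := by
  rw [← mul_assoc, R.c42_58, mul_assoc]

theorem t42_45 (t u : K) (w : Γ) : R.X45 u * (R.X42 t * w) = R.X42 t * (R.X45 u * w) := by
  rw [← mul_assoc, R.c42_45, mul_assoc]

theorem t42_49 (t u : K) (w : Γ) : R.X49 u * (R.X42 t * w) = R.X42 t * (R.X49 u * (R.X52 (t * u) * w)) := by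
  rw [← mul_assoc, R.r42_49]; simp only [mul_assoc]

theorem t42_51 (t u : K) (w : Γ) : R.X51 u * (R.X42 t * w) = R.X42 t * (R.X51 u * w) := by
  rw [← mul_assoc, R.c42_51, mul_assoc]

theorem t42_59 (t u : K) (w : Γ) : R.X59 u * (R.X42 t * w) = R.X42 t * (R.X59 u * w) := by
  rw [← mul_assoc, R.c42_59, mul_assoc]

theorem t42_61 (t u : K) (w : Γ) : R.X61 u * (R.X42 t * w) = R.X42 t * (R.X61 u * w) := by
  rw [← mul_assoc, R.c42_61, mul_assoc]

theorem t42_52 (t u : K) (w : Γ) : R.X52 u * (R.X42 t * w) = R.X42 t * (R.X52 u * w) := by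
  rw [← mul_assoc, R.c42_52, mul_assoc]

theorem t42_53 (t u : K) (w : Γ) : R.X53 u * (R.X42 t * w) = R.X42 t * (R.X53 u * w) := by
  rw [← mul_assoc, R.c42_53, mul_assoc]

theorem t42_60 (t u : K) (w : Γ) : R.X60 u * (R.X42 t * w) = R.X42 t * (R.X60 u * w) := by
  rw [← mul_assoc, R.c42_60, mul_assoc]

theorem t42_62 (t u : K) (w : Γ) : R.X62 u * (R.X42 t * w) = R.X42 t * (R.X62 u * w) := by
  rw [← mul_assoc, R.c42_62, mul_assoc]

theorem t42_54 (t u : K) (w : Γ) : R.X54 u * (R.X42 t * w) = R.X42 t * (R.X54 u * w) := by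
  rw [← mul_assoc, R.c42_54, mul_assoc]

theorem t42_63 (t u : K) (w : Γ) : R.X63 u * (R.X42 t * w) = R.X42 t * (R.X63 u * w) := by
  rw [← mul_assoc, R.c42_63, mul_assoc]

theorem t42_64 (t u : K) (w : Γ) : R.X64 u * (R.X42 t * w) = R.X42 t * (R.X64 u * (R.X67 (t * u) * w)) := by
  rw [← mul_assoc, R.r42_64]; simp only [mul_assoc]

theorem t42_55 (t u : K) (w : Γ) : R.X55 u * (R.X42 t * w) = R.X42 t * (R.X55 u * w) := by
  rw [← mul_assoc, R.c42_55, mul_assoc]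

theorem t42_65 (t u : K) (w : Γ) : R.X65 u * (R.X42 t * w) = R.X42 t * (R.X65 u * (R.X68 (t * u) * w)) := by
  rw [← mul_assoc, R.r42_65]; simp only [mul_assoc]

theorem t42_67 (t u : K) (w : Γ) : R.X67 u * (R.X42 t * w) = R.X42 t * (R.X67 u * w) := by
  rw [← mul_assoc, R.c42_67, mul_assoc]

theorem t42_66 (t u : K) (w : Γ) : R.X66 u * (R.X42 t * w) = R.X42 t * (R.X66 u * (R.X69 (t * u) * w)) := by
  rw [← mul_assoc, R.r42_66]; simp only [mul_assoc]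

theorem t42_68 (t u : K) (w : Γ) : R.X68 u * (R.X42 t * w) = R.X42 t * (R.X68 u * w) := by
  rw [← mul_assoc, R.c42_68, mul_assoc]

theorem t42_69 (t u : K) (w : Γ) : R.X69 u * (R.X42 t * w) = R.X42 t * (R.X69 u * w) := by
  rw [← mul_assoc, R.c42_69, mul_assoc]

theorem t42_70 (t u : K) (w : Γ) : R.X70 u * (R.X42 t * w) = R.X42 t * (R.X70 u * w) := by
  rw [← mul_assoc, R.c42_70, mul_assoc]

theorem t42_71 (t u : K) (w : Γ) : R.X71 u * (R.X42 t * w) = R.X42 t * (R.X71 u * w) := by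
  rw [← mul_assoc, R.c42_71, mul_assoc]

theorem t46_56 (t u : K) (w : Γ) : R.X56 u * (R.X46 t * w) = R.X46 t * (R.X56 u * w) := by
  rw [← mul_assoc, R.c46_56, mul_assoc]

theorem t46_38 (t u : K) (w : Γ) : R.X38 u * (R.X46 t * w) = R.X46 t * (R.X38 u * w) := by
  rw [← mul_assoc, R.c46_38, mul_assoc]

theorem t46_40 (t u : K) (w : Γ) : R.X40 u * (R.X46 t * w) = R.X46 t * (R.X40 u * (R.X48 (t * u) * w)) := by
  rw [← mul_assoc, R.r46_40]; simp only [mul_assoc]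

theorem t46_43 (t u : K) (w : Γ) : R.X43 u * (R.X46 t * w) = R.X46 t * (R.X43 u * (R.X50 (t * u) * w)) := by
  rw [← mul_assoc, R.r46_43]; simp only [mul_assoc]

theorem t46_47 (t u : K) (w : Γ) : R.X47 u * (R.X46 t * w) = R.X46 t * (R.X47 u * w) := by
  rw [← mul_assoc, R.c46_47, mul_assoc]

theorem t46_57 (t u : K) (w : Γ) : R.X57 u * (R.X46 t * w) = R.X46 t * (R.X57 u * w) := by
  rw [← mul_assoc, R.c46_57, mul_assoc]

theorem t46_41 (t u : K) (w : Γ) : R.X41 u * (R.X46 t * w) = R.X46 t * (R.X41 u * (R.X49 (t * u) * w)) := by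
  rw [← mul_assoc, R.r46_41]; simp only [mul_assoc]

theorem t46_44 (t u : K) (w : Γ) : R.X44 u * (R.X46 t * w) = R.X46 t * (R.X44 u * (R.X51 (t * u) * w)) := by
  rw [← mul_assoc, R.r46_44]; simp only [mul_assoc]

theorem t46_48 (t u : K) (w : Γ) : R.X48 u * (R.X46 t * w) = R.X46 t * (R.X48 u * w) := by
  rw [← mul_assoc, R.c46_48, mul_assoc]

theorem t46_50 (t u : K) (w : Γ) : R.X50 u * (R.X46 t * w) = R.X46 t * (R.X50 u * w) := by
  rw [← mul_assoc, R.c46_50, mul_assoc]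

theorem t46_58 (t u : K) (w : Γ) : R.X58 u * (R.X46 t * w) = R.X46 t * (R.X58 u * (R.X61 (t * u) * w)) := by
  rw [← mul_assoc, R.r46_58]; simp only [mul_assoc]

theorem t46_45 (t u : K) (w : Γ) : R.X45 u * (R.X46 t * w) = R.X46 t * (R.X45 u * (R.X52 (t * u) * w)) := by
  rw [← mul_assoc, R.r46_45]; simp only [mul_assoc]

theorem t46_49 (t u : K) (w : Γ) : R.X49 u * (R.X46 t * w) = R.X46 t * (R.X49 u * w) := by
  rw [← mul_assoc, R.c46_49, mul_assoc]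

theorem t46_51 (t u : K) (w : Γ) : R.X51 u * (R.X46 t * w) = R.X46 t * (R.X51 u * w) := by
  rw [← mul_assoc, R.c46_51, mul_assoc]

theorem t46_59 (t u : K) (w : Γ) : R.X59 u * (R.X46 t * w) = R.X46 t * (R.X59 u * (R.X62 (t * u) * w)) := by
  rw [← mul_assoc, R.r46_59]; simp only [mul_assoc]

theorem t46_61 (t u : K) (w : Γ) : R.X61 u * (R.X46 t * w) = R.X46 t * (R.X61 u * w) := by
  rw [← mul_assoc, R.c46_61, mul_assoc]

theorem t46_52 (t u : K) (w : Γ) : R.X52 u * (R.X46 t * w) = R.X46 t * (R.X52 u * w) := by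
  rw [← mul_assoc, R.c46_52, mul_assoc]

theorem t46_53 (t u : K) (w : Γ) : R.X53 u * (R.X46 t * w) = R.X46 t * (R.X53 u * w) := by
  rw [← mul_assoc, R.c46_53, mul_assoc]

theorem t46_60 (t u : K) (w : Γ) : R.X60 u * (R.X46 t * w) = R.X46 t * (R.X60 u * (R.X63 (t * u) * w)) := by
  rw [← mul_assoc, R.r46_60]; simp only [mul_assoc]

theorem t46_62 (t u : K) (w : Γ) : R.X62 u * (R.X46 t * w) = R.X46 t * (R.X62 u * w) := by
  rw [← mul_assoc, R.c46_62, mul_assoc]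

theorem t46_54 (t u : K) (w : Γ) : R.X54 u * (R.X46 t * w) = R.X46 t * (R.X54 u * w) := by
  rw [← mul_assoc, R.c46_54, mul_assoc]

theorem t46_63 (t u : K) (w : Γ) : R.X63 u * (R.X46 t * w) = R.X46 t * (R.X63 u * w) := by
  rw [← mul_assoc, R.c46_63, mul_assoc]

theorem t46_64 (t u : K) (w : Γ) : R.X64 u * (R.X46 t * w) = R.X46 t * (R.X64 u * w) := by
  rw [← mul_assoc, R.c46_64, mul_assoc]

theorem t46_55 (t u : K) (w : Γ) : R.X55 u * (R.X46 t * w) = R.X46 t * (R.X55 u * w) := by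
  rw [← mul_assoc, R.c46_55, mul_assoc]

theorem t46_65 (t u : K) (w : Γ) : R.X65 u * (R.X46 t * w) = R.X46 t * (R.X65 u * w) := by
  rw [← mul_assoc, R.c46_65, mul_assoc]

theorem t46_67 (t u : K) (w : Γ) : R.X67 u * (R.X46 t * w) = R.X46 t * (R.X67 u * w) := by
  rw [← mul_assoc, R.c46_67, mul_assoc]

theorem t46_66 (t u : K) (w : Γ) : R.X66 u * (R.X46 t * w) = R.X46 t * (R.X66 u * w) := by
  rw [← mul_assoc, R.c46_66, mul_assoc]

theorem t46_68 (t u : K) (w : Γ) : R.X68 u * (R.X46 t * w) = R.X46 t * (R.X68 u * w) := by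
  rw [← mul_assoc, R.c46_68, mul_assoc]

theorem t46_69 (t u : K) (w : Γ) : R.X69 u * (R.X46 t * w) = R.X46 t * (R.X69 u * w) := by
  rw [← mul_assoc, R.c46_69, mul_assoc]

theorem t46_70 (t u : K) (w : Γ) : R.X70 u * (R.X46 t * w) = R.X46 t * (R.X70 u * (R.X71 (t * u) * w)) := by
  rw [← mul_assoc, R.r46_70]; simp only [mul_assoc]

theorem t46_71 (t u : K) (w : Γ) : R.X71 u * (R.X46 t * w) = R.X46 t * (R.X71 u * w) := by
  rw [← mul_assoc, R.c46_71, mul_assoc]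

theorem t56_38 (t u : K) (w : Γ) : R.X38 u * (R.X56 t * w) = R.X56 t * (R.X38 u * w) := by
  rw [← mul_assoc, R.c56_38, mul_assoc]

theorem t56_40 (t u : K) (w : Γ) : R.X40 u * (R.X56 t * w) = R.X56 t * (R.X40 u * w) := by
  rw [← mul_assoc, R.c56_40, mul_assoc]

theorem t56_43 (t u : K) (w : Γ) : R.X43 u * (R.X56 t * w) = R.X56 t * (R.X43 u * (R.X58 (t * u) * w)) := by
  rw [← mul_assoc, R.r56_43]; simp only [mul_assoc]

theorem t56_47 (t u : K) (w : Γ) : R.X47 u * (R.X56 t * w) = R.X56 t * (R.X47 u * w) := by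
  rw [← mul_assoc, R.c56_47, mul_assoc]

theorem t56_57 (t u : K) (w : Γ) : R.X57 u * (R.X56 t * w) = R.X56 t * (R.X57 u * w) := by
  rw [← mul_assoc, R.c56_57, mul_assoc]

theorem t56_41 (t u : K) (w : Γ) : R.X41 u * (R.X56 t * w) = R.X56 t * (R.X41 u * w) := by
  rw [← mul_assoc, R.c56_41, mul_assoc]

theorem t56_44 (t u : K) (w : Γ) : R.X44 u * (R.X56 t * w) = R.X56 t * (R.X44 u * (R.X59 (t * u) * w)) := by
  rw [← mul_assoc, R.r56_44]; simp only [mul_assoc]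

theorem t56_48 (t u : K) (w : Γ) : R.X48 u * (R.X56 t * w) = R.X56 t * (R.X48 u * w) := by
  rw [← mul_assoc, R.c56_48, mul_assoc]

theorem t56_50 (t u : K) (w : Γ) : R.X50 u * (R.X56 t * w) = R.X56 t * (R.X50 u * (R.X61 (t * u) * w)) := by
  rw [← mul_assoc, R.r56_50]; simp only [mul_assoc]

theorem t56_58 (t u : K) (w : Γ) : R.X58 u * (R.X56 t * w) = R.X56 t * (R.X58 u * w) := by
  rw [← mul_assoc, R.c56_58, mul_assoc]

theorem t56_45 (t u : K) (w : Γ) : R.X45 u * (R.X56 t * w) = R.X56 t * (R.X45 u * (R.X60 (t * u) * w)) := by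
  rw [← mul_assoc, R.r56_45]; simp only [mul_assoc]

theorem t56_49 (t u : K) (w : Γ) : R.X49 u * (R.X56 t * w) = R.X56 t * (R.X49 u * w) := by
  rw [← mul_assoc, R.c56_49, mul_assoc]

theorem t56_51 (t u : K) (w : Γ) : R.X51 u * (R.X56 t * w) = R.X56 t * (R.X51 u * (R.X62 (t * u) * w)) := by
  rw [← mul_assoc, R.r56_51]; simp only [mul_assoc]

theorem t56_59 (t u : K) (w : Γ) : R.X59 u * (R.X56 t * w) = R.X56 t * (R.X59 u * w) := by
  rw [← mul_assoc, R.c56_59, mul_assoc]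

theorem t56_61 (t u : K) (w : Γ) : R.X61 u * (R.X56 t * w) = R.X56 t * (R.X61 u * w) := by
  rw [← mul_assoc, R.c56_61, mul_assoc]

theorem t56_52 (t u : K) (w : Γ) : R.X52 u * (R.X56 t * w) = R.X56 t * (R.X52 u * (R.X63 (t * u) * w)) := by
  rw [← mul_assoc, R.r56_52]; simp only [mul_assoc]

theorem t56_53 (t u : K) (w : Γ) : R.X53 u * (R.X56 t * w) = R.X56 t * (R.X53 u * (R.X64 (t * u) * w)) := by
  rw [← mul_assoc, R.r56_53]; simp only [mul_assoc]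

theorem t56_60 (t u : K) (w : Γ) : R.X60 u * (R.X56 t * w) = R.X56 t * (R.X60 u * w) := by
  rw [← mul_assoc, R.c56_60, mul_assoc]

theorem t56_62 (t u : K) (w : Γ) : R.X62 u * (R.X56 t * w) = R.X56 t * (R.X62 u * w) := by
  rw [← mul_assoc, R.c56_62, mul_assoc]

theorem t56_54 (t u : K) (w : Γ) : R.X54 u * (R.X56 t * w) = R.X56 t * (R.X54 u * (R.X65 (t * u) * w)) := by
  rw [← mul_assoc, R.r56_54]; simp only [mul_assoc]

theorem t56_63 (t u : K) (w : Γ) : R.X63 u * (R.X56 t * w) = R.X56 t * (R.X63 u * w) := by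
  rw [← mul_assoc, R.c56_63, mul_assoc]

theorem t56_64 (t u : K) (w : Γ) : R.X64 u * (R.X56 t * w) = R.X56 t * (R.X64 u * w) := by
  rw [← mul_assoc, R.c56_64, mul_assoc]

theorem t56_55 (t u : K) (w : Γ) : R.X55 u * (R.X56 t * w) = R.X56 t * (R.X55 u * (R.X66 (t * u) * w)) := by
  rw [← mul_assoc, R.r56_55]; simp only [mul_assoc]

theorem t56_65 (t u : K) (w : Γ) : R.X65 u * (R.X56 t * w) = R.X56 t * (R.X65 u * w) := by
  rw [← mul_assoc, R.c56_65, mul_assoc]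

theorem t56_67 (t u : K) (w : Γ) : R.X67 u * (R.X56 t * w) = R.X56 t * (R.X67 u * w) := by
  rw [← mul_assoc, R.c56_67, mul_assoc]

theorem t56_66 (t u : K) (w : Γ) : R.X66 u * (R.X56 t * w) = R.X56 t * (R.X66 u * w) := by
  rw [← mul_assoc, R.c56_66, mul_assoc]

theorem t56_68 (t u : K) (w : Γ) : R.X68 u * (R.X56 t * w) = R.X56 t * (R.X68 u * w) := by
  rw [← mul_assoc, R.c56_68, mul_assoc]

theorem t56_69 (t u : K) (w : Γ) : R.X69 u * (R.X56 t * w) = R.X56 t * (R.X69 u * w) := by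
  rw [← mul_assoc, R.c56_69, mul_assoc]

theorem t56_70 (t u : K) (w : Γ) : R.X70 u * (R.X56 t * w) = R.X56 t * (R.X70 u * w) := by
  rw [← mul_assoc, R.c56_70, mul_assoc]

theorem t56_71 (t u : K) (w : Γ) : R.X71 u * (R.X56 t * w) = R.X56 t * (R.X71 u * w) := by
  rw [← mul_assoc, R.c56_71, mul_assoc]

theorem t38_40 (t u : K) (w : Γ) : R.X40 u * (R.X38 t * w) = R.X38 t * (R.X40 u * w) := by
  rw [← mul_assoc, R.c38_40, mul_assoc]

theorem t38_43 (t u : K) (w : Γ) : R.X43 u * (R.X38 t * w) = R.X38 t * (R.X43 u * (R.X45 (t * u) * w)) := by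
  rw [← mul_assoc, R.r38_43]; simp only [mul_assoc]

theorem t38_47 (t u : K) (w : Γ) : R.X47 u * (R.X38 t * w) = R.X38 t * (R.X47 u * (R.X49 (t * u) * w)) := by
  rw [← mul_assoc, R.r38_47]; simp only [mul_assoc]

theorem t38_57 (t u : K) (w : Γ) : R.X57 u * (R.X38 t * w) = R.X38 t * (R.X57 u * w) := by
  rw [← mul_assoc, R.c38_57, mul_assoc]

theorem t38_41 (t u : K) (w : Γ) : R.X41 u * (R.X38 t * w) = R.X38 t * (R.X41 u * w) := by
  rw [← mul_assoc, R.c38_41, mul_assoc]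

theorem t38_44 (t u : K) (w : Γ) : R.X44 u * (R.X38 t * w) = R.X38 t * (R.X44 u * w) := by
  rw [← mul_assoc, R.c38_44, mul_assoc]

theorem t38_48 (t u : K) (w : Γ) : R.X48 u * (R.X38 t * w) = R.X38 t * (R.X48 u * w) := by
  rw [← mul_assoc, R.c38_48, mul_assoc]

theorem t38_50 (t u : K) (w : Γ) : R.X50 u * (R.X38 t * w) = R.X38 t * (R.X50 u * (R.X52 (t * u) * w)) := by
  rw [← mul_assoc, R.r38_50]; simp only [mul_assoc]

theorem t38_58 (t u : K) (w : Γ) : R.X58 u * (R.X38 t * w) = R.X38 t * (R.X58 u * (R.X60 (t * u) * w)) := by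
  rw [← mul_assoc, R.r38_58]; simp only [mul_assoc]

theorem t38_45 (t u : K) (w : Γ) : R.X45 u * (R.X38 t * w) = R.X38 t * (R.X45 u * w) := by
  rw [← mul_assoc, R.c38_45, mul_assoc]

theorem t38_49 (t u : K) (w : Γ) : R.X49 u * (R.X38 t * w) = R.X38 t * (R.X49 u * w) := by
  rw [← mul_assoc, R.c38_49, mul_assoc]

theorem t38_51 (t u : K) (w : Γ) : R.X51 u * (R.X38 t * w) = R.X38 t * (R.X51 u * w) := by
  rw [← mul_assoc, R.c38_51, mul_assoc]

theorem t38_59 (t u : K) (w : Γ) : R.X59 u * (R.X38 t * w) = R.X38 t * (R.X59 u * w) := by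
  rw [← mul_assoc, R.c38_59, mul_assoc]

theorem t38_61 (t u : K) (w : Γ) : R.X61 u * (R.X38 t * w) = R.X38 t * (R.X61 u * (R.X63 (t * u) * w)) := by
  rw [← mul_assoc, R.r38_61]; simp only [mul_assoc]

theorem t38_52 (t u : K) (w : Γ) : R.X52 u * (R.X38 t * w) = R.X38 t * (R.X52 u * w) := by
  rw [← mul_assoc, R.c38_52, mul_assoc]

theorem t38_53 (t u : K) (w : Γ) : R.X53 u * (R.X38 t * w) = R.X38 t * (R.X53 u * (R.X55 (t * u) * w)) := by
  rw [← mul_assoc, R.r38_53]; simp only [mul_assoc]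

theorem t38_60 (t u : K) (w : Γ) : R.X60 u * (R.X38 t * w) = R.X38 t * (R.X60 u * w) := by
  rw [← mul_assoc, R.c38_60, mul_assoc]

theorem t38_62 (t u : K) (w : Γ) : R.X62 u * (R.X38 t * w) = R.X38 t * (R.X62 u * w) := by
  rw [← mul_assoc, R.c38_62, mul_assoc]

theorem t38_54 (t u : K) (w : Γ) : R.X54 u * (R.X38 t * w) = R.X38 t * (R.X54 u * w) := by
  rw [← mul_assoc, R.c38_54, mul_assoc]

theorem t38_63 (t u : K) (w : Γ) : R.X63 u * (R.X38 t * w) = R.X38 t * (R.X63 u * w) := by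
  rw [← mul_assoc, R.c38_63, mul_assoc]

theorem t38_64 (t u : K) (w : Γ) : R.X64 u * (R.X38 t * w) = R.X38 t * (R.X64 u * (R.X66 (t * u) * w)) := by
  rw [← mul_assoc, R.r38_64]; simp only [mul_assoc]

theorem t38_55 (t u : K) (w : Γ) : R.X55 u * (R.X38 t * w) = R.X38 t * (R.X55 u * w) := by
  rw [← mul_assoc, R.c38_55, mul_assoc]

theorem t38_65 (t u : K) (w : Γ) : R.X65 u * (R.X38 t * w) = R.X38 t * (R.X65 u * w) := by
  rw [← mul_assoc, R.c38_65, mul_assoc]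

theorem t38_67 (t u : K) (w : Γ) : R.X67 u * (R.X38 t * w) = R.X38 t * (R.X67 u * (R.X69 (t * u) * w)) := by
  rw [← mul_assoc, R.r38_67]; simp only [mul_assoc]

theorem t38_66 (t u : K) (w : Γ) : R.X66 u * (R.X38 t * w) = R.X38 t * (R.X66 u * w) := by
  rw [← mul_assoc, R.c38_66, mul_assoc]

theorem t38_68 (t u : K) (w : Γ) : R.X68 u * (R.X38 t * w) = R.X38 t * (R.X68 u * w) := by
  rw [← mul_assoc, R.c38_68, mul_assoc]

theorem t38_69 (t u : K) (w : Γ) : R.X69 u * (R.X38 t * w) = R.X38 t * (R.X69 u * w) := by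
  rw [← mul_assoc, R.c38_69, mul_assoc]

theorem t38_70 (t u : K) (w : Γ) : R.X70 u * (R.X38 t * w) = R.X38 t * (R.X70 u * w) := by
  rw [← mul_assoc, R.c38_70, mul_assoc]

theorem t38_71 (t u : K) (w : Γ) : R.X71 u * (R.X38 t * w) = R.X38 t * (R.X71 u * w) := by
  rw [← mul_assoc, R.c38_71, mul_assoc]

theorem t40_43 (t u : K) (w : Γ) : R.X43 u * (R.X40 t * w) = R.X40 t * (R.X43 u * w) := by
  rw [← mul_assoc, R.c40_43, mul_assoc]

theorem t40_47 (t u : K) (w : Γ) : R.X47 u * (R.X40 t * w) = R.X40 t * (R.X47 u * w) := by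
  rw [← mul_assoc, R.c40_47, mul_assoc]

theorem t40_57 (t u : K) (w : Γ) : R.X57 u * (R.X40 t * w) = R.X40 t * (R.X57 u * (R.X59 (t * u) * w)) := by
  rw [← mul_assoc, R.r40_57]; simp only [mul_assoc]

theorem t40_41 (t u : K) (w : Γ) : R.X41 u * (R.X40 t * w) = R.X40 t * (R.X41 u * w) := by
  rw [← mul_assoc, R.c40_41, mul_assoc]

theorem t40_44 (t u : K) (w : Γ) : R.X44 u * (R.X40 t * w) = R.X40 t * (R.X44 u * w) := by
  rw [← mul_assoc, R.c40_44, mul_assoc]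

theorem t40_48 (t u : K) (w : Γ) : R.X48 u * (R.X40 t * w) = R.X40 t * (R.X48 u * w) := by
  rw [← mul_assoc, R.c40_48, mul_assoc]

theorem t40_50 (t u : K) (w : Γ) : R.X50 u * (R.X40 t * w) = R.X40 t * (R.X50 u * (R.X53 (t * u) * w)) := by
  rw [← mul_assoc, R.r40_50]; simp only [mul_assoc]

theorem t40_58 (t u : K) (w : Γ) : R.X58 u * (R.X40 t * w) = R.X40 t * (R.X58 u * w) := by
  rw [← mul_assoc, R.c40_58, mul_assoc]

theorem t40_45 (t u : K) (w : Γ) : R.X45 u * (R.X40 t * w) = R.X40 t * (R.X45 u * w) := by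
  rw [← mul_assoc, R.c40_45, mul_assoc]

theorem t40_49 (t u : K) (w : Γ) : R.X49 u * (R.X40 t * w) = R.X40 t * (R.X49 u * w) := by
  rw [← mul_assoc, R.c40_49, mul_assoc]

theorem t40_51 (t u : K) (w : Γ) : R.X51 u * (R.X40 t * w) = R.X40 t * (R.X51 u * w) := by
  rw [← mul_assoc, R.c40_51, mul_assoc]

theorem t40_59 (t u : K) (w : Γ) : R.X59 u * (R.X40 t * w) = R.X40 t * (R.X59 u * w) := by
  rw [← mul_assoc, R.c40_59, mul_assoc]

theorem t40_61 (t u : K) (w : Γ) : R.X61 u * (R.X40 t * w) = R.X40 t * (R.X61 u * (R.X64 (t * u) * w)) := by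
  rw [← mul_assoc, R.r40_61]; simp only [mul_assoc]

theorem t40_52 (t u : K) (w : Γ) : R.X52 u * (R.X40 t * w) = R.X40 t * (R.X52 u * (R.X55 (t * u) * w)) := by
  rw [← mul_assoc, R.r40_52]; simp only [mul_assoc]

theorem t40_53 (t u : K) (w : Γ) : R.X53 u * (R.X40 t * w) = R.X40 t * (R.X53 u * w) := by
  rw [← mul_assoc, R.c40_53, mul_assoc]

theorem t40_60 (t u : K) (w : Γ) : R.X60 u * (R.X40 t * w) = R.X40 t * (R.X60 u * w) := by
  rw [← mul_assoc, R.c40_60, mul_assoc]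

theorem t40_62 (t u : K) (w : Γ) : R.X62 u * (R.X40 t * w) = R.X40 t * (R.X62 u * w) := by
  rw [← mul_assoc, R.c40_62, mul_assoc]

theorem t40_54 (t u : K) (w : Γ) : R.X54 u * (R.X40 t * w) = R.X40 t * (R.X54 u * w) := by
  rw [← mul_assoc, R.c40_54, mul_assoc]

theorem t40_63 (t u : K) (w : Γ) : R.X63 u * (R.X40 t * w) = R.X40 t * (R.X63 u * (R.X66 (t * u) * w)) := by
  rw [← mul_assoc, R.r40_63]; simp only [mul_assoc]

theorem t40_64 (t u : K) (w : Γ) : R.X64 u * (R.X40 t * w) = R.X40 t * (R.X64 u * w) := by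
  rw [← mul_assoc, R.c40_64, mul_assoc]

theorem t40_55 (t u : K) (w : Γ) : R.X55 u * (R.X40 t * w) = R.X40 t * (R.X55 u * w) := by
  rw [← mul_assoc, R.c40_55, mul_assoc]

theorem t40_65 (t u : K) (w : Γ) : R.X65 u * (R.X40 t * w) = R.X40 t * (R.X65 u * w) := by
  rw [← mul_assoc, R.c40_65, mul_assoc]

theorem t40_67 (t u : K) (w : Γ) : R.X67 u * (R.X40 t * w) = R.X40 t * (R.X67 u * w) := by
  rw [← mul_assoc, R.c40_67, mul_assoc]

theorem t40_66 (t u : K) (w : Γ) : R.X66 u * (R.X40 t * w) = R.X40 t * (R.X66 u * w) := by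
  rw [← mul_assoc, R.c40_66, mul_assoc]

theorem t40_68 (t u : K) (w : Γ) : R.X68 u * (R.X40 t * w) = R.X40 t * (R.X68 u * (R.X70 (t * u) * w)) := by
  rw [← mul_assoc, R.r40_68]; simp only [mul_assoc]

theorem t40_69 (t u : K) (w : Γ) : R.X69 u * (R.X40 t * w) = R.X40 t * (R.X69 u * w) := by
  rw [← mul_assoc, R.c40_69, mul_assoc]

theorem t40_70 (t u : K) (w : Γ) : R.X70 u * (R.X40 t * w) = R.X40 t * (R.X70 u * w) := by
  rw [← mul_assoc, R.c40_70, mul_assoc]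

theorem t40_71 (t u : K) (w : Γ) : R.X71 u * (R.X40 t * w) = R.X40 t * (R.X71 u * w) := by
  rw [← mul_assoc, R.c40_71, mul_assoc]

theorem t43_47 (t u : K) (w : Γ) : R.X47 u * (R.X43 t * w) = R.X43 t * (R.X47 u * w) := by
  rw [← mul_assoc, R.c43_47, mul_assoc]

theorem t43_57 (t u : K) (w : Γ) : R.X57 u * (R.X43 t * w) = R.X43 t * (R.X57 u * w) := by
  rw [← mul_assoc, R.c43_57, mul_assoc]

theorem t43_41 (t u : K) (w : Γ) : R.X41 u * (R.X43 t * w) = R.X43 t * (R.X41 u * w) := by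
  rw [← mul_assoc, R.c43_41, mul_assoc]

theorem t43_44 (t u : K) (w : Γ) : R.X44 u * (R.X43 t * w) = R.X43 t * (R.X44 u * w) := by
  rw [← mul_assoc, R.c43_44, mul_assoc]

theorem t43_48 (t u : K) (w : Γ) : R.X48 u * (R.X43 t * w) = R.X43 t * (R.X48 u * (R.X53 (t * u) * w)) := by
  rw [← mul_assoc, R.r43_48]; simp only [mul_assoc]

theorem t43_50 (t u : K) (w : Γ) : R.X50 u * (R.X43 t * w) = R.X43 t * (R.X50 u * w) := by
  rw [← mul_assoc, R.c43_50, mul_assoc]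

theorem t43_58 (t u : K) (w : Γ) : R.X58 u * (R.X43 t * w) = R.X43 t * (R.X58 u * w) := by
  rw [← mul_assoc, R.c43_58, mul_assoc]

theorem t43_45 (t u : K) (w : Γ) : R.X45 u * (R.X43 t * w) = R.X43 t * (R.X45 u * w) := by
  rw [← mul_assoc, R.c43_45, mul_assoc]

theorem t43_49 (t u : K) (w : Γ) : R.X49 u * (R.X43 t * w) = R.X43 t * (R.X49 u * (R.X54 (t * u) * w)) := by
  rw [← mul_assoc, R.r43_49]; simp only [mul_assoc]

theorem t43_51 (t u : K) (w : Γ) : R.X51 u * (R.X43 t * w) = R.X43 t * (R.X51 u * w) := by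
  rw [← mul_assoc, R.c43_51, mul_assoc]

theorem t43_59 (t u : K) (w : Γ) : R.X59 u * (R.X43 t * w) = R.X43 t * (R.X59 u * w) := by
  rw [← mul_assoc, R.c43_59, mul_assoc]

theorem t43_61 (t u : K) (w : Γ) : R.X61 u * (R.X43 t * w) = R.X43 t * (R.X61 u * w) := by
  rw [← mul_assoc, R.c43_61, mul_assoc]

theorem t43_52 (t u : K) (w : Γ) : R.X52 u * (R.X43 t * w) = R.X43 t * (R.X52 u * w) := by
  rw [← mul_assoc, R.c43_52, mul_assoc]

theorem t43_53 (t u : K) (w : Γ) : R.X53 u * (R.X43 t * w) = R.X43 t * (R.X53 u * w) := by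
  rw [← mul_assoc, R.c43_53, mul_assoc]

theorem t43_60 (t u : K) (w : Γ) : R.X60 u * (R.X43 t * w) = R.X43 t * (R.X60 u * w) := by
  rw [← mul_assoc, R.c43_60, mul_assoc]

theorem t43_62 (t u : K) (w : Γ) : R.X62 u * (R.X43 t * w) = R.X43 t * (R.X62 u * (R.X67 (t * u) * w)) := by
  rw [← mul_assoc, R.r43_62]; simp only [mul_assoc]

theorem t43_54 (t u : K) (w : Γ) : R.X54 u * (R.X43 t * w) = R.X43 t * (R.X54 u * w) := by
  rw [← mul_assoc, R.c43_54, mul_assoc]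

theorem t43_63 (t u : K) (w : Γ) : R.X63 u * (R.X43 t * w) = R.X43 t * (R.X63 u * (R.X68 (t * u) * w)) := by
  rw [← mul_assoc, R.r43_63]; simp only [mul_assoc]

theorem t43_64 (t u : K) (w : Γ) : R.X64 u * (R.X43 t * w) = R.X43 t * (R.X64 u * w) := by
  rw [← mul_assoc, R.c43_64, mul_assoc]

theorem t43_55 (t u : K) (w : Γ) : R.X55 u * (R.X43 t * w) = R.X43 t * (R.X55 u * w) := by
  rw [← mul_assoc, R.c43_55, mul_assoc]

theorem t43_65 (t u : K) (w : Γ) : R.X65 u * (R.X43 t * w) = R.X43 t * (R.X65 u * w) := by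
  rw [← mul_assoc, R.c43_65, mul_assoc]

theorem t43_67 (t u : K) (w : Γ) : R.X67 u * (R.X43 t * w) = R.X43 t * (R.X67 u * w) := by
  rw [← mul_assoc, R.c43_67, mul_assoc]

theorem t43_66 (t u : K) (w : Γ) : R.X66 u * (R.X43 t * w) = R.X43 t * (R.X66 u * (R.X70 (t * u) * w)) := by
  rw [← mul_assoc, R.r43_66]; simp only [mul_assoc]

theorem t43_68 (t u : K) (w : Γ) : R.X68 u * (R.X43 t * w) = R.X43 t * (R.X68 u * w) := by
  rw [← mul_assoc, R.c43_68, mul_assoc]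

theorem t43_69 (t u : K) (w : Γ) : R.X69 u * (R.X43 t * w) = R.X43 t * (R.X69 u * w) := by
  rw [← mul_assoc, R.c43_69, mul_assoc]

theorem t43_70 (t u : K) (w : Γ) : R.X70 u * (R.X43 t * w) = R.X43 t * (R.X70 u * w) := by
  rw [← mul_assoc, R.c43_70, mul_assoc]

theorem t43_71 (t u : K) (w : Γ) : R.X71 u * (R.X43 t * w) = R.X43 t * (R.X71 u * w) := by
  rw [← mul_assoc, R.c43_71, mul_assoc]

theorem t47_57 (t u : K) (w : Γ) : R.X57 u * (R.X47 t * w) = R.X47 t * (R.X57 u * (R.X61 (t * u) * w)) := by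
  rw [← mul_assoc, R.r47_57]; simp only [mul_assoc]

theorem t47_41 (t u : K) (w : Γ) : R.X41 u * (R.X47 t * w) = R.X47 t * (R.X41 u * w) := by
  rw [← mul_assoc, R.c47_41, mul_assoc]

theorem t47_44 (t u : K) (w : Γ) : R.X44 u * (R.X47 t * w) = R.X47 t * (R.X44 u * (R.X53 (t * u) * w)) := by
  rw [← mul_assoc, R.r47_44]; simp only [mul_assoc]

theorem t47_48 (t u : K) (w : Γ) : R.X48 u * (R.X47 t * w) = R.X47 t * (R.X48 u * w) := by
  rw [← mul_assoc, R.c47_48, mul_assoc]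

theorem t47_50 (t u : K) (w : Γ) : R.X50 u * (R.X47 t * w) = R.X47 t * (R.X50 u * w) := by
  rw [← mul_assoc, R.c47_50, mul_assoc]

theorem t47_58 (t u : K) (w : Γ) : R.X58 u * (R.X47 t * w) = R.X47 t * (R.X58 u * w) := by
  rw [← mul_assoc, R.c47_58, mul_assoc]

theorem t47_45 (t u : K) (w : Γ) : R.X45 u * (R.X47 t * w) = R.X47 t * (R.X45 u * (R.X54 (t * u) * w)) := by
  rw [← mul_assoc, R.r47_45]; simp only [mul_assoc]

theorem t47_49 (t u : K) (w : Γ) : R.X49 u * (R.X47 t * w) = R.X47 t * (R.X49 u * w) := by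
  rw [← mul_assoc, R.c47_49, mul_assoc]

theorem t47_51 (t u : K) (w : Γ) : R.X51 u * (R.X47 t * w) = R.X47 t * (R.X51 u * w) := by
  rw [← mul_assoc, R.c47_51, mul_assoc]

theorem t47_59 (t u : K) (w : Γ) : R.X59 u * (R.X47 t * w) = R.X47 t * (R.X59 u * (R.X64 (t * u) * w)) := by
  rw [← mul_assoc, R.r47_59]; simp only [mul_assoc]

theorem t47_61 (t u : K) (w : Γ) : R.X61 u * (R.X47 t * w) = R.X47 t * (R.X61 u * w) := by
  rw [← mul_assoc, R.c47_61, mul_assoc]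

theorem t47_52 (t u : K) (w : Γ) : R.X52 u * (R.X47 t * w) = R.X47 t * (R.X52 u * w) := by
  rw [← mul_assoc, R.c47_52, mul_assoc]

theorem t47_53 (t u : K) (w : Γ) : R.X53 u * (R.X47 t * w) = R.X47 t * (R.X53 u * w) := by
  rw [← mul_assoc, R.c47_53, mul_assoc]

theorem t47_60 (t u : K) (w : Γ) : R.X60 u * (R.X47 t * w) = R.X47 t * (R.X60 u * (R.X65 (t * u) * w)) := by
  rw [← mul_assoc, R.r47_60]; simp only [mul_assoc]

theorem t47_62 (t u : K) (w : Γ) : R.X62 u * (R.X47 t * w) = R.X47 t * (R.X62 u * w) := by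
  rw [← mul_assoc, R.c47_62, mul_assoc]

theorem t47_54 (t u : K) (w : Γ) : R.X54 u * (R.X47 t * w) = R.X47 t * (R.X54 u * w) := by
  rw [← mul_assoc, R.c47_54, mul_assoc]

theorem t47_63 (t u : K) (w : Γ) : R.X63 u * (R.X47 t * w) = R.X47 t * (R.X63 u * w) := by
  rw [← mul_assoc, R.c47_63, mul_assoc]

theorem t47_64 (t u : K) (w : Γ) : R.X64 u * (R.X47 t * w) = R.X47 t * (R.X64 u * w) := by
  rw [← mul_assoc, R.c47_64, mul_assoc]

theorem t47_55 (t u : K) (w : Γ) : R.X55 u * (R.X47 t * w) = R.X47 t * (R.X55 u * w) := by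
  rw [← mul_assoc, R.c47_55, mul_assoc]

theorem t47_65 (t u : K) (w : Γ) : R.X65 u * (R.X47 t * w) = R.X47 t * (R.X65 u * w) := by
  rw [← mul_assoc, R.c47_65, mul_assoc]

theorem t47_67 (t u : K) (w : Γ) : R.X67 u * (R.X47 t * w) = R.X47 t * (R.X67 u * w) := by
  rw [← mul_assoc, R.c47_67, mul_assoc]

theorem t47_66 (t u : K) (w : Γ) : R.X66 u * (R.X47 t * w) = R.X47 t * (R.X66 u * w) := by
  rw [← mul_assoc, R.c47_66, mul_assoc]

theorem t47_68 (t u : K) (w : Γ) : R.X68 u * (R.X47 t * w) = R.X47 t * (R.X68 u * w) := by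
  rw [← mul_assoc, R.c47_68, mul_assoc]

theorem t47_69 (t u : K) (w : Γ) : R.X69 u * (R.X47 t * w) = R.X47 t * (R.X69 u * (R.X71 (t * u) * w)) := by
  rw [← mul_assoc, R.r47_69]; simp only [mul_assoc]

theorem t47_70 (t u : K) (w : Γ) : R.X70 u * (R.X47 t * w) = R.X47 t * (R.X70 u * w) := by
  rw [← mul_assoc, R.c47_70, mul_assoc]

theorem t47_71 (t u : K) (w : Γ) : R.X71 u * (R.X47 t * w) = R.X47 t * (R.X71 u * w) := by
  rw [← mul_assoc, R.c47_71, mul_assoc]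

theorem t57_41 (t u : K) (w : Γ) : R.X41 u * (R.X57 t * w) = R.X57 t * (R.X41 u * (R.X60 (t * u) * w)) := by
  rw [← mul_assoc, R.r57_41]; simp only [mul_assoc]

theorem t57_44 (t u : K) (w : Γ) : R.X44 u * (R.X57 t * w) = R.X57 t * (R.X44 u * w) := by
  rw [← mul_assoc, R.c57_44, mul_assoc]

theorem t57_48 (t u : K) (w : Γ) : R.X48 u * (R.X57 t * w) = R.X57 t * (R.X48 u * (R.X62 (t * u) * w)) := by
  rw [← mul_assoc, R.r57_48]; simp only [mul_assoc]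

theorem t57_50 (t u : K) (w : Γ) : R.X50 u * (R.X57 t * w) = R.X57 t * (R.X50 u * w) := by
  rw [← mul_assoc, R.c57_50, mul_assoc]

theorem t57_58 (t u : K) (w : Γ) : R.X58 u * (R.X57 t * w) = R.X57 t * (R.X58 u * w) := by
  rw [← mul_assoc, R.c57_58, mul_assoc]

theorem t57_45 (t u : K) (w : Γ) : R.X45 u * (R.X57 t * w) = R.X57 t * (R.X45 u * w) := by
  rw [← mul_assoc, R.c57_45, mul_assoc]

theorem t57_49 (t u : K) (w : Γ) : R.X49 u * (R.X57 t * w) = R.X57 t * (R.X49 u * (R.X63 (t * u) * w)) := by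
  rw [← mul_assoc, R.r57_49]; simp only [mul_assoc]

theorem t57_51 (t u : K) (w : Γ) : R.X51 u * (R.X57 t * w) = R.X57 t * (R.X51 u * w) := by
  rw [← mul_assoc, R.c57_51, mul_assoc]

theorem t57_59 (t u : K) (w : Γ) : R.X59 u * (R.X57 t * w) = R.X57 t * (R.X59 u * w) := by
  rw [← mul_assoc, R.c57_59, mul_assoc]

theorem t57_61 (t u : K) (w : Γ) : R.X61 u * (R.X57 t * w) = R.X57 t * (R.X61 u * w) := by
  rw [← mul_assoc, R.c57_61, mul_assoc]

theorem t57_52 (t u : K) (w : Γ) : R.X52 u * (R.X57 t * w) = R.X57 t * (R.X52 u * w) := by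
  rw [← mul_assoc, R.c57_52, mul_assoc]

theorem t57_53 (t u : K) (w : Γ) : R.X53 u * (R.X57 t * w) = R.X57 t * (R.X53 u * (R.X67 (t * u) * w)) := by
  rw [← mul_assoc, R.r57_53]; simp only [mul_assoc]

theorem t57_60 (t u : K) (w : Γ) : R.X60 u * (R.X57 t * w) = R.X57 t * (R.X60 u * w) := by
  rw [← mul_assoc, R.c57_60, mul_assoc]

theorem t57_62 (t u : K) (w : Γ) : R.X62 u * (R.X57 t * w) = R.X57 t * (R.X62 u * w) := by
  rw [← mul_assoc, R.c57_62, mul_assoc]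

theorem t57_54 (t u : K) (w : Γ) : R.X54 u * (R.X57 t * w) = R.X57 t * (R.X54 u * (R.X68 (t * u) * w)) := by
  rw [← mul_assoc, R.r57_54]; simp only [mul_assoc]

theorem t57_63 (t u : K) (w : Γ) : R.X63 u * (R.X57 t * w) = R.X57 t * (R.X63 u * w) := by
  rw [← mul_assoc, R.c57_63, mul_assoc]

theorem t57_64 (t u : K) (w : Γ) : R.X64 u * (R.X57 t * w) = R.X57 t * (R.X64 u * w) := by
  rw [← mul_assoc, R.c57_64, mul_assoc]

theorem t57_55 (t u : K) (w : Γ) : R.X55 u * (R.X57 t * w) = R.X57 t * (R.X55 u * (R.X69 (t * u) * w)) := by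
  rw [← mul_assoc, R.r57_55]; simp only [mul_assoc]

theorem t57_65 (t u : K) (w : Γ) : R.X65 u * (R.X57 t * w) = R.X57 t * (R.X65 u * w) := by
  rw [← mul_assoc, R.c57_65, mul_assoc]

theorem t57_67 (t u : K) (w : Γ) : R.X67 u * (R.X57 t * w) = R.X57 t * (R.X67 u * w) := by
  rw [← mul_assoc, R.c57_67, mul_assoc]

theorem t57_66 (t u : K) (w : Γ) : R.X66 u * (R.X57 t * w) = R.X57 t * (R.X66 u * w) := by
  rw [← mul_assoc, R.c57_66, mul_assoc]

theorem t57_68 (t u : K) (w : Γ) : R.X68 u * (R.X57 t * w) = R.X57 t * (R.X68 u * w) := by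
  rw [← mul_assoc, R.c57_68, mul_assoc]

theorem t57_69 (t u : K) (w : Γ) : R.X69 u * (R.X57 t * w) = R.X57 t * (R.X69 u * w) := by
  rw [← mul_assoc, R.c57_69, mul_assoc]

theorem t57_70 (t u : K) (w : Γ) : R.X70 u * (R.X57 t * w) = R.X57 t * (R.X70 u * w) := by
  rw [← mul_assoc, R.c57_70, mul_assoc]

theorem t57_71 (t u : K) (w : Γ) : R.X71 u * (R.X57 t * w) = R.X57 t * (R.X71 u * w) := by
  rw [← mul_assoc, R.c57_71, mul_assoc]

theorem t41_44 (t u : K) (w : Γ) : R.X44 u * (R.X41 t * w) = R.X41 t * (R.X44 u * w) := by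
  rw [← mul_assoc, R.c41_44, mul_assoc]

theorem t41_48 (t u : K) (w : Γ) : R.X48 u * (R.X41 t * w) = R.X41 t * (R.X48 u * w) := by
  rw [← mul_assoc, R.c41_48, mul_assoc]

theorem t41_50 (t u : K) (w : Γ) : R.X50 u * (R.X41 t * w) = R.X41 t * (R.X50 u * (R.X54 (t * u) * w)) := by
  rw [← mul_assoc, R.r41_50]; simp only [mul_assoc]

theorem t41_58 (t u : K) (w : Γ) : R.X58 u * (R.X41 t * w) = R.X41 t * (R.X58 u * w) := by
  rw [← mul_assoc, R.c41_58, mul_assoc]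

theorem t41_45 (t u : K) (w : Γ) : R.X45 u * (R.X41 t * w) = R.X41 t * (R.X45 u * w) := by
  rw [← mul_assoc, R.c41_45, mul_assoc]

theorem t41_49 (t u : K) (w : Γ) : R.X49 u * (R.X41 t * w) = R.X41 t * (R.X49 u * w) := by
  rw [← mul_assoc, R.c41_49, mul_assoc]

theorem t41_51 (t u : K) (w : Γ) : R.X51 u * (R.X41 t * w) = R.X41 t * (R.X51 u * (R.X55 (t * u) * w)) := by
  rw [← mul_assoc, R.r41_51]; simp only [mul_assoc]

theorem t41_59 (t u : K) (w : Γ) : R.X59 u * (R.X41 t * w) = R.X41 t * (R.X59 u * w) := by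
  rw [← mul_assoc, R.c41_59, mul_assoc]

theorem t41_61 (t u : K) (w : Γ) : R.X61 u * (R.X41 t * w) = R.X41 t * (R.X61 u * (R.X65 (t * u) * w)) := by
  rw [← mul_assoc, R.r41_61]; simp only [mul_assoc]

theorem t41_52 (t u : K) (w : Γ) : R.X52 u * (R.X41 t * w) = R.X41 t * (R.X52 u * w) := by
  rw [← mul_assoc, R.c41_52, mul_assoc]

theorem t41_53 (t u : K) (w : Γ) : R.X53 u * (R.X41 t * w) = R.X41 t * (R.X53 u * w) := by
  rw [← mul_assoc, R.c41_53, mul_assoc]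

theorem t41_60 (t u : K) (w : Γ) : R.X60 u * (R.X41 t * w) = R.X41 t * (R.X60 u * w) := by
  rw [← mul_assoc, R.c41_60, mul_assoc]

theorem t41_62 (t u : K) (w : Γ) : R.X62 u * (R.X41 t * w) = R.X41 t * (R.X62 u * (R.X66 (t * u) * w)) := by
  rw [← mul_assoc, R.r41_62]; simp only [mul_assoc]

theorem t41_54 (t u : K) (w : Γ) : R.X54 u * (R.X41 t * w) = R.X41 t * (R.X54 u * w) := by
  rw [← mul_assoc, R.c41_54, mul_assoc]

theorem t41_63 (t u : K) (w : Γ) : R.X63 u * (R.X41 t * w) = R.X41 t * (R.X63 u * w) := by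
  rw [← mul_assoc, R.c41_63, mul_assoc]

theorem t41_64 (t u : K) (w : Γ) : R.X64 u * (R.X41 t * w) = R.X41 t * (R.X64 u * w) := by
  rw [← mul_assoc, R.c41_64, mul_assoc]

theorem t41_55 (t u : K) (w : Γ) : R.X55 u * (R.X41 t * w) = R.X41 t * (R.X55 u * w) := by
  rw [← mul_assoc, R.c41_55, mul_assoc]

theorem t41_65 (t u : K) (w : Γ) : R.X65 u * (R.X41 t * w) = R.X41 t * (R.X65 u * w) := by
  rw [← mul_assoc, R.c41_65, mul_assoc]

theorem t41_67 (t u : K) (w : Γ) : R.X67 u * (R.X41 t * w) = R.X41 t * (R.X67 u * (R.X70 (t * u) * w)) := by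
  rw [← mul_assoc, R.r41_67]; simp only [mul_assoc]

theorem t41_66 (t u : K) (w : Γ) : R.X66 u * (R.X41 t * w) = R.X41 t * (R.X66 u * w) := by
  rw [← mul_assoc, R.c41_66, mul_assoc]

theorem t41_68 (t u : K) (w : Γ) : R.X68 u * (R.X41 t * w) = R.X41 t * (R.X68 u * w) := by
  rw [← mul_assoc, R.c41_68, mul_assoc]

theorem t41_69 (t u : K) (w : Γ) : R.X69 u * (R.X41 t * w) = R.X41 t * (R.X69 u * w) := by
  rw [← mul_assoc, R.c41_69, mul_assoc]

theorem t41_70 (t u : K) (w : Γ) : R.X70 u * (R.X41 t * w) = R.X41 t * (R.X70 u * w) := by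
  rw [← mul_assoc, R.c41_70, mul_assoc]

theorem t41_71 (t u : K) (w : Γ) : R.X71 u * (R.X41 t * w) = R.X41 t * (R.X71 u * w) := by
  rw [← mul_assoc, R.c41_71, mul_assoc]

theorem t44_48 (t u : K) (w : Γ) : R.X48 u * (R.X44 t * w) = R.X44 t * (R.X48 u * w) := by
  rw [← mul_assoc, R.c44_48, mul_assoc]

theorem t44_50 (t u : K) (w : Γ) : R.X50 u * (R.X44 t * w) = R.X44 t * (R.X50 u * w) := by
  rw [← mul_assoc, R.c44_50, mul_assoc]

theorem t44_58 (t u : K) (w : Γ) : R.X58 u * (R.X44 t * w) = R.X44 t * (R.X58 u * w) := by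
  rw [← mul_assoc, R.c44_58, mul_assoc]

theorem t44_45 (t u : K) (w : Γ) : R.X45 u * (R.X44 t * w) = R.X44 t * (R.X45 u * w) := by
  rw [← mul_assoc, R.c44_45, mul_assoc]

theorem t44_49 (t u : K) (w : Γ) : R.X49 u * (R.X44 t * w) = R.X44 t * (R.X49 u * (R.X55 (t * u) * w)) := by
  rw [← mul_assoc, R.r44_49]; simp only [mul_assoc]

theorem t44_51 (t u : K) (w : Γ) : R.X51 u * (R.X44 t * w) = R.X44 t * (R.X51 u * w) := by
  rw [← mul_assoc, R.c44_51, mul_assoc]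

theorem t44_59 (t u : K) (w : Γ) : R.X59 u * (R.X44 t * w) = R.X44 t * (R.X59 u * w) := by
  rw [← mul_assoc, R.c44_59, mul_assoc]

theorem t44_61 (t u : K) (w : Γ) : R.X61 u * (R.X44 t * w) = R.X44 t * (R.X61 u * (R.X67 (t * u) * w)) := by
  rw [← mul_assoc, R.r44_61]; simp only [mul_assoc]

theorem t44_52 (t u : K) (w : Γ) : R.X52 u * (R.X44 t * w) = R.X44 t * (R.X52 u * w) := by
  rw [← mul_assoc, R.c44_52, mul_assoc]

theorem t44_53 (t u : K) (w : Γ) : R.X53 u * (R.X44 t * w) = R.X44 t * (R.X53 u * w) := by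
  rw [← mul_assoc, R.c44_53, mul_assoc]

theorem t44_60 (t u : K) (w : Γ) : R.X60 u * (R.X44 t * w) = R.X44 t * (R.X60 u * w) := by
  rw [← mul_assoc, R.c44_60, mul_assoc]

theorem t44_62 (t u : K) (w : Γ) : R.X62 u * (R.X44 t * w) = R.X44 t * (R.X62 u * w) := by
  rw [← mul_assoc, R.c44_62, mul_assoc]

theorem t44_54 (t u : K) (w : Γ) : R.X54 u * (R.X44 t * w) = R.X44 t * (R.X54 u * w) := by
  rw [← mul_assoc, R.c44_54, mul_assoc]

theorem t44_63 (t u : K) (w : Γ) : R.X63 u * (R.X44 t * w) = R.X44 t * (R.X63 u * (R.X69 (t * u) * w)) := by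
  rw [← mul_assoc, R.r44_63]; simp only [mul_assoc]

theorem t44_64 (t u : K) (w : Γ) : R.X64 u * (R.X44 t * w) = R.X44 t * (R.X64 u * w) := by
  rw [← mul_assoc, R.c44_64, mul_assoc]

theorem t44_55 (t u : K) (w : Γ) : R.X55 u * (R.X44 t * w) = R.X44 t * (R.X55 u * w) := by
  rw [← mul_assoc, R.c44_55, mul_assoc]

theorem t44_65 (t u : K) (w : Γ) : R.X65 u * (R.X44 t * w) = R.X44 t * (R.X65 u * (R.X70 (t * u) * w)) := by
  rw [← mul_assoc, R.r44_65]; simp only [mul_assoc]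

theorem t44_67 (t u : K) (w : Γ) : R.X67 u * (R.X44 t * w) = R.X44 t * (R.X67 u * w) := by
  rw [← mul_assoc, R.c44_67, mul_assoc]

theorem t44_66 (t u : K) (w : Γ) : R.X66 u * (R.X44 t * w) = R.X44 t * (R.X66 u * w) := by
  rw [← mul_assoc, R.c44_66, mul_assoc]

theorem t44_68 (t u : K) (w : Γ) : R.X68 u * (R.X44 t * w) = R.X44 t * (R.X68 u * w) := by
  rw [← mul_assoc, R.c44_68, mul_assoc]

theorem t44_69 (t u : K) (w : Γ) : R.X69 u * (R.X44 t * w) = R.X44 t * (R.X69 u * w) := by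
  rw [← mul_assoc, R.c44_69, mul_assoc]

theorem t44_70 (t u : K) (w : Γ) : R.X70 u * (R.X44 t * w) = R.X44 t * (R.X70 u * w) := by
  rw [← mul_assoc, R.c44_70, mul_assoc]

theorem t44_71 (t u : K) (w : Γ) : R.X71 u * (R.X44 t * w) = R.X44 t * (R.X71 u * w) := by
  rw [← mul_assoc, R.c44_71, mul_assoc]

theorem t48_50 (t u : K) (w : Γ) : R.X50 u * (R.X48 t * w) = R.X48 t * (R.X50 u * w) := by
  rw [← mul_assoc, R.c48_50, mul_assoc]

theorem t48_58 (t u : K) (w : Γ) : R.X58 u * (R.X48 t * w) = R.X48 t * (R.X58 u * (R.X64 (t * u) * w)) := by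
  rw [← mul_assoc, R.r48_58]; simp only [mul_assoc]

theorem t48_45 (t u : K) (w : Γ) : R.X45 u * (R.X48 t * w) = R.X48 t * (R.X45 u * (R.X55 (t * u) * w)) := by
  rw [← mul_assoc, R.r48_45]; simp only [mul_assoc]

theorem t48_49 (t u : K) (w : Γ) : R.X49 u * (R.X48 t * w) = R.X48 t * (R.X49 u * w) := by
  rw [← mul_assoc, R.c48_49, mul_assoc]

theorem t48_51 (t u : K) (w : Γ) : R.X51 u * (R.X48 t * w) = R.X48 t * (R.X51 u * w) := by
  rw [← mul_assoc, R.c48_51, mul_assoc]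

theorem t48_59 (t u : K) (w : Γ) : R.X59 u * (R.X48 t * w) = R.X48 t * (R.X59 u * w) := by
  rw [← mul_assoc, R.c48_59, mul_assoc]

theorem t48_61 (t u : K) (w : Γ) : R.X61 u * (R.X48 t * w) = R.X48 t * (R.X61 u * w) := by
  rw [← mul_assoc, R.c48_61, mul_assoc]

theorem t48_52 (t u : K) (w : Γ) : R.X52 u * (R.X48 t * w) = R.X48 t * (R.X52 u * w) := by
  rw [← mul_assoc, R.c48_52, mul_assoc]

theorem t48_53 (t u : K) (w : Γ) : R.X53 u * (R.X48 t * w) = R.X48 t * (R.X53 u * w) := by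
  rw [← mul_assoc, R.c48_53, mul_assoc]

theorem t48_60 (t u : K) (w : Γ) : R.X60 u * (R.X48 t * w) = R.X48 t * (R.X60 u * (R.X66 (t * u) * w)) := by
  rw [← mul_assoc, R.r48_60]; simp only [mul_assoc]

theorem t48_62 (t u : K) (w : Γ) : R.X62 u * (R.X48 t * w) = R.X48 t * (R.X62 u * w) := by
  rw [← mul_assoc, R.c48_62, mul_assoc]

theorem t48_54 (t u : K) (w : Γ) : R.X54 u * (R.X48 t * w) = R.X48 t * (R.X54 u * w) := by
  rw [← mul_assoc, R.c48_54, mul_assoc]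

theorem t48_63 (t u : K) (w : Γ) : R.X63 u * (R.X48 t * w) = R.X48 t * (R.X63 u * w) := by
  rw [← mul_assoc, R.c48_63, mul_assoc]

theorem t48_64 (t u : K) (w : Γ) : R.X64 u * (R.X48 t * w) = R.X48 t * (R.X64 u * w) := by
  rw [← mul_assoc, R.c48_64, mul_assoc]

theorem t48_55 (t u : K) (w : Γ) : R.X55 u * (R.X48 t * w) = R.X48 t * (R.X55 u * w) := by
  rw [← mul_assoc, R.c48_55, mul_assoc]

theorem t48_65 (t u : K) (w : Γ) : R.X65 u * (R.X48 t * w) = R.X48 t * (R.X65 u * w) := by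
  rw [← mul_assoc, R.c48_65, mul_assoc]

theorem t48_67 (t u : K) (w : Γ) : R.X67 u * (R.X48 t * w) = R.X48 t * (R.X67 u * w) := by
  rw [← mul_assoc, R.c48_67, mul_assoc]

theorem t48_66 (t u : K) (w : Γ) : R.X66 u * (R.X48 t * w) = R.X48 t * (R.X66 u * w) := by
  rw [← mul_assoc, R.c48_66, mul_assoc]

theorem t48_68 (t u : K) (w : Γ) : R.X68 u * (R.X48 t * w) = R.X48 t * (R.X68 u * (R.X71 (t * u) * w)) := by
  rw [← mul_assoc, R.r48_68]; simp only [mul_assoc]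

theorem t48_69 (t u : K) (w : Γ) : R.X69 u * (R.X48 t * w) = R.X48 t * (R.X69 u * w) := by
  rw [← mul_assoc, R.c48_69, mul_assoc]

theorem t48_70 (t u : K) (w : Γ) : R.X70 u * (R.X48 t * w) = R.X48 t * (R.X70 u * w) := by
  rw [← mul_assoc, R.c48_70, mul_assoc]

theorem t48_71 (t u : K) (w : Γ) : R.X71 u * (R.X48 t * w) = R.X48 t * (R.X71 u * w) := by
  rw [← mul_assoc, R.c48_71, mul_assoc]

theorem t50_58 (t u : K) (w : Γ) : R.X58 u * (R.X50 t * w) = R.X50 t * (R.X58 u * w) := by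
  rw [← mul_assoc, R.c50_58, mul_assoc]

theorem t50_45 (t u : K) (w : Γ) : R.X45 u * (R.X50 t * w) = R.X50 t * (R.X45 u * w) := by
  rw [← mul_assoc, R.c50_45, mul_assoc]

theorem t50_49 (t u : K) (w : Γ) : R.X49 u * (R.X50 t * w) = R.X50 t * (R.X49 u * w) := by
  rw [← mul_assoc, R.c50_49, mul_assoc]

theorem t50_51 (t u : K) (w : Γ) : R.X51 u * (R.X50 t * w) = R.X50 t * (R.X51 u * w) := by
  rw [← mul_assoc, R.c50_51, mul_assoc]

theorem t50_59 (t u : K) (w : Γ) : R.X59 u * (R.X50 t * w) = R.X50 t * (R.X59 u * (R.X67 (t * u) * w)) := by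
  rw [← mul_assoc, R.r50_59]; simp only [mul_assoc]

theorem t50_61 (t u : K) (w : Γ) : R.X61 u * (R.X50 t * w) = R.X50 t * (R.X61 u * w) := by
  rw [← mul_assoc, R.c50_61, mul_assoc]

theorem t50_52 (t u : K) (w : Γ) : R.X52 u * (R.X50 t * w) = R.X50 t * (R.X52 u * w) := by
  rw [← mul_assoc, R.c50_52, mul_assoc]

theorem t50_53 (t u : K) (w : Γ) : R.X53 u * (R.X50 t * w) = R.X50 t * (R.X53 u * w) := by
  rw [← mul_assoc, R.c50_53, mul_assoc]

theorem t50_60 (t u : K) (w : Γ) : R.X60 u * (R.X50 t * w) = R.X50 t * (R.X60 u * (R.X68 (t * u) * w)) := by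
  rw [← mul_assoc, R.r50_60]; simp only [mul_assoc]

theorem t50_62 (t u : K) (w : Γ) : R.X62 u * (R.X50 t * w) = R.X50 t * (R.X62 u * w) := by
  rw [← mul_assoc, R.c50_62, mul_assoc]

theorem t50_54 (t u : K) (w : Γ) : R.X54 u * (R.X50 t * w) = R.X50 t * (R.X54 u * w) := by
  rw [← mul_assoc, R.c50_54, mul_assoc]

theorem t50_63 (t u : K) (w : Γ) : R.X63 u * (R.X50 t * w) = R.X50 t * (R.X63 u * w) := by
  rw [← mul_assoc, R.c50_63, mul_assoc]

theorem t50_64 (t u : K) (w : Γ) : R.X64 u * (R.X50 t * w) = R.X50 t * (R.X64 u * w) := by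
  rw [← mul_assoc, R.c50_64, mul_assoc]

theorem t50_55 (t u : K) (w : Γ) : R.X55 u * (R.X50 t * w) = R.X50 t * (R.X55 u * w) := by
  rw [← mul_assoc, R.c50_55, mul_assoc]

theorem t50_65 (t u : K) (w : Γ) : R.X65 u * (R.X50 t * w) = R.X50 t * (R.X65 u * w) := by
  rw [← mul_assoc, R.c50_65, mul_assoc]

theorem t50_67 (t u : K) (w : Γ) : R.X67 u * (R.X50 t * w) = R.X50 t * (R.X67 u * w) := by
  rw [← mul_assoc, R.c50_67, mul_assoc]

theorem t50_66 (t u : K) (w : Γ) : R.X66 u * (R.X50 t * w) = R.X50 t * (R.X66 u * (R.X71 (t * u) * w)) := by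
  rw [← mul_assoc, R.r50_66]; simp only [mul_assoc]

theorem t50_68 (t u : K) (w : Γ) : R.X68 u * (R.X50 t * w) = R.X50 t * (R.X68 u * w) := by
  rw [← mul_assoc, R.c50_68, mul_assoc]

theorem t50_69 (t u : K) (w : Γ) : R.X69 u * (R.X50 t * w) = R.X50 t * (R.X69 u * w) := by
  rw [← mul_assoc, R.c50_69, mul_assoc]

theorem t50_70 (t u : K) (w : Γ) : R.X70 u * (R.X50 t * w) = R.X50 t * (R.X70 u * w) := by
  rw [← mul_assoc, R.c50_70, mul_assoc]

theorem t50_71 (t u : K) (w : Γ) : R.X71 u * (R.X50 t * w) = R.X50 t * (R.X71 u * w) := by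
  rw [← mul_assoc, R.c50_71, mul_assoc]

theorem t58_45 (t u : K) (w : Γ) : R.X45 u * (R.X58 t * w) = R.X58 t * (R.X45 u * w) := by
  rw [← mul_assoc, R.c58_45, mul_assoc]

theorem t58_49 (t u : K) (w : Γ) : R.X49 u * (R.X58 t * w) = R.X58 t * (R.X49 u * (R.X65 (t * u) * w)) := by
  rw [← mul_assoc, R.r58_49]; simp only [mul_assoc]

theorem t58_51 (t u : K) (w : Γ) : R.X51 u * (R.X58 t * w) = R.X58 t * (R.X51 u * (R.X67 (t * u) * w)) := by
  rw [← mul_assoc, R.r58_51]; simp only [mul_assoc]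

theorem t58_59 (t u : K) (w : Γ) : R.X59 u * (R.X58 t * w) = R.X58 t * (R.X59 u * w) := by
  rw [← mul_assoc, R.c58_59, mul_assoc]

theorem t58_61 (t u : K) (w : Γ) : R.X61 u * (R.X58 t * w) = R.X58 t * (R.X61 u * w) := by
  rw [← mul_assoc, R.c58_61, mul_assoc]

theorem t58_52 (t u : K) (w : Γ) : R.X52 u * (R.X58 t * w) = R.X58 t * (R.X52 u * (R.X68 (t * u) * w)) := by
  rw [← mul_assoc, R.r58_52]; simp only [mul_assoc]

theorem t58_53 (t u : K) (w : Γ) : R.X53 u * (R.X58 t * w) = R.X58 t * (R.X53 u * w) := by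
  rw [← mul_assoc, R.c58_53, mul_assoc]

theorem t58_60 (t u : K) (w : Γ) : R.X60 u * (R.X58 t * w) = R.X58 t * (R.X60 u * w) := by
  rw [← mul_assoc, R.c58_60, mul_assoc]

theorem t58_62 (t u : K) (w : Γ) : R.X62 u * (R.X58 t * w) = R.X58 t * (R.X62 u * w) := by
  rw [← mul_assoc, R.c58_62, mul_assoc]

theorem t58_54 (t u : K) (w : Γ) : R.X54 u * (R.X58 t * w) = R.X58 t * (R.X54 u * w) := by
  rw [← mul_assoc, R.c58_54, mul_assoc]

theorem t58_63 (t u : K) (w : Γ) : R.X63 u * (R.X58 t * w) = R.X58 t * (R.X63 u * w) := by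
  rw [← mul_assoc, R.c58_63, mul_assoc]

theorem t58_64 (t u : K) (w : Γ) : R.X64 u * (R.X58 t * w) = R.X58 t * (R.X64 u * w) := by
  rw [← mul_assoc, R.c58_64, mul_assoc]

theorem t58_55 (t u : K) (w : Γ) : R.X55 u * (R.X58 t * w) = R.X58 t * (R.X55 u * (R.X70 (t * u) * w)) := by
  rw [← mul_assoc, R.r58_55]; simp only [mul_assoc]

theorem t58_65 (t u : K) (w : Γ) : R.X65 u * (R.X58 t * w) = R.X58 t * (R.X65 u * w) := by
  rw [← mul_assoc, R.c58_65, mul_assoc]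

theorem t58_67 (t u : K) (w : Γ) : R.X67 u * (R.X58 t * w) = R.X58 t * (R.X67 u * w) := by
  rw [← mul_assoc, R.c58_67, mul_assoc]

theorem t58_66 (t u : K) (w : Γ) : R.X66 u * (R.X58 t * w) = R.X58 t * (R.X66 u * w) := by
  rw [← mul_assoc, R.c58_66, mul_assoc]

theorem t58_68 (t u : K) (w : Γ) : R.X68 u * (R.X58 t * w) = R.X58 t * (R.X68 u * w) := by
  rw [← mul_assoc, R.c58_68, mul_assoc]

theorem t58_69 (t u : K) (w : Γ) : R.X69 u * (R.X58 t * w) = R.X58 t * (R.X69 u * w) := by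
  rw [← mul_assoc, R.c58_69, mul_assoc]

theorem t58_70 (t u : K) (w : Γ) : R.X70 u * (R.X58 t * w) = R.X58 t * (R.X70 u * w) := by
  rw [← mul_assoc, R.c58_70, mul_assoc]

theorem t58_71 (t u : K) (w : Γ) : R.X71 u * (R.X58 t * w) = R.X58 t * (R.X71 u * w) := by
  rw [← mul_assoc, R.c58_71, mul_assoc]

theorem t45_49 (t u : K) (w : Γ) : R.X49 u * (R.X45 t * w) = R.X45 t * (R.X49 u * w) := by
  rw [← mul_assoc, R.c45_49, mul_assoc]

theorem t45_51 (t u : K) (w : Γ) : R.X51 u * (R.X45 t * w) = R.X45 t * (R.X51 u * w) := by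
  rw [← mul_assoc, R.c45_51, mul_assoc]

theorem t45_59 (t u : K) (w : Γ) : R.X59 u * (R.X45 t * w) = R.X45 t * (R.X59 u * w) := by
  rw [← mul_assoc, R.c45_59, mul_assoc]

theorem t45_61 (t u : K) (w : Γ) : R.X61 u * (R.X45 t * w) = R.X45 t * (R.X61 u * (R.X68 (t * u) * w)) := by
  rw [← mul_assoc, R.r45_61]; simp only [mul_assoc]

theorem t45_52 (t u : K) (w : Γ) : R.X52 u * (R.X45 t * w) = R.X45 t * (R.X52 u * w) := by
  rw [← mul_assoc, R.c45_52, mul_assoc]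

theorem t45_53 (t u : K) (w : Γ) : R.X53 u * (R.X45 t * w) = R.X45 t * (R.X53 u * w) := by
  rw [← mul_assoc, R.c45_53, mul_assoc]

theorem t45_60 (t u : K) (w : Γ) : R.X60 u * (R.X45 t * w) = R.X45 t * (R.X60 u * w) := by
  rw [← mul_assoc, R.c45_60, mul_assoc]

theorem t45_62 (t u : K) (w : Γ) : R.X62 u * (R.X45 t * w) = R.X45 t * (R.X62 u * (R.X69 (t * u) * w)) := by
  rw [← mul_assoc, R.r45_62]; simp only [mul_assoc]

theorem t45_54 (t u : K) (w : Γ) : R.X54 u * (R.X45 t * w) = R.X45 t * (R.X54 u * w) := by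
  rw [← mul_assoc, R.c45_54, mul_assoc]

theorem t45_63 (t u : K) (w : Γ) : R.X63 u * (R.X45 t * w) = R.X45 t * (R.X63 u * w) := by
  rw [← mul_assoc, R.c45_63, mul_assoc]

theorem t45_64 (t u : K) (w : Γ) : R.X64 u * (R.X45 t * w) = R.X45 t * (R.X64 u * (R.X70 (t * u) * w)) := by
  rw [← mul_assoc, R.r45_64]; simp only [mul_assoc]

theorem t45_55 (t u : K) (w : Γ) : R.X55 u * (R.X45 t * w) = R.X45 t * (R.X55 u * w) := by
  rw [← mul_assoc, R.c45_55, mul_assoc]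

theorem t45_65 (t u : K) (w : Γ) : R.X65 u * (R.X45 t * w) = R.X45 t * (R.X65 u * w) := by
  rw [← mul_assoc, R.c45_65, mul_assoc]

theorem t45_67 (t u : K) (w : Γ) : R.X67 u * (R.X45 t * w) = R.X45 t * (R.X67 u * w) := by
  rw [← mul_assoc, R.c45_67, mul_assoc]

theorem t45_66 (t u : K) (w : Γ) : R.X66 u * (R.X45 t * w) = R.X45 t * (R.X66 u * w) := by
  rw [← mul_assoc, R.c45_66, mul_assoc]

theorem t45_68 (t u : K) (w : Γ) : R.X68 u * (R.X45 t * w) = R.X45 t * (R.X68 u * w) := by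
  rw [← mul_assoc, R.c45_68, mul_assoc]

theorem t45_69 (t u : K) (w : Γ) : R.X69 u * (R.X45 t * w) = R.X45 t * (R.X69 u * w) := by
  rw [← mul_assoc, R.c45_69, mul_assoc]

theorem t45_70 (t u : K) (w : Γ) : R.X70 u * (R.X45 t * w) = R.X45 t * (R.X70 u * w) := by
  rw [← mul_assoc, R.c45_70, mul_assoc]

theorem t45_71 (t u : K) (w : Γ) : R.X71 u * (R.X45 t * w) = R.X45 t * (R.X71 u * w) := by
  rw [← mul_assoc, R.c45_71, mul_assoc]

theorem t49_51 (t u : K) (w : Γ) : R.X51 u * (R.X49 t * w) = R.X49 t * (R.X51 u * w) := by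
  rw [← mul_assoc, R.c49_51, mul_assoc]

theorem t49_59 (t u : K) (w : Γ) : R.X59 u * (R.X49 t * w) = R.X49 t * (R.X59 u * (R.X66 (t * u) * w)) := by
  rw [← mul_assoc, R.r49_59]; simp only [mul_assoc]

theorem t49_61 (t u : K) (w : Γ) : R.X61 u * (R.X49 t * w) = R.X49 t * (R.X61 u * w) := by
  rw [← mul_assoc, R.c49_61, mul_assoc]

theorem t49_52 (t u : K) (w : Γ) : R.X52 u * (R.X49 t * w) = R.X49 t * (R.X52 u * w) := by
  rw [← mul_assoc, R.c49_52, mul_assoc]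

theorem t49_53 (t u : K) (w : Γ) : R.X53 u * (R.X49 t * w) = R.X49 t * (R.X53 u * w) := by
  rw [← mul_assoc, R.c49_53, mul_assoc]

theorem t49_60 (t u : K) (w : Γ) : R.X60 u * (R.X49 t * w) = R.X49 t * (R.X60 u * w) := by
  rw [← mul_assoc, R.c49_60, mul_assoc]

theorem t49_62 (t u : K) (w : Γ) : R.X62 u * (R.X49 t * w) = R.X49 t * (R.X62 u * w) := by
  rw [← mul_assoc, R.c49_62, mul_assoc]

theorem t49_54 (t u : K) (w : Γ) : R.X54 u * (R.X49 t * w) = R.X49 t * (R.X54 u * w) := by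
  rw [← mul_assoc, R.c49_54, mul_assoc]

theorem t49_63 (t u : K) (w : Γ) : R.X63 u * (R.X49 t * w) = R.X49 t * (R.X63 u * w) := by
  rw [← mul_assoc, R.c49_63, mul_assoc]

theorem t49_64 (t u : K) (w : Γ) : R.X64 u * (R.X49 t * w) = R.X49 t * (R.X64 u * w) := by
  rw [← mul_assoc, R.c49_64, mul_assoc]

theorem t49_55 (t u : K) (w : Γ) : R.X55 u * (R.X49 t * w) = R.X49 t * (R.X55 u * w) := by
  rw [← mul_assoc, R.c49_55, mul_assoc]

theorem t49_65 (t u : K) (w : Γ) : R.X65 u * (R.X49 t * w) = R.X49 t * (R.X65 u * w) := by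
  rw [← mul_assoc, R.c49_65, mul_assoc]

theorem t49_67 (t u : K) (w : Γ) : R.X67 u * (R.X49 t * w) = R.X49 t * (R.X67 u * (R.X71 (t * u) * w)) := by
  rw [← mul_assoc, R.r49_67]; simp only [mul_assoc]

theorem t49_66 (t u : K) (w : Γ) : R.X66 u * (R.X49 t * w) = R.X49 t * (R.X66 u * w) := by
  rw [← mul_assoc, R.c49_66, mul_assoc]

theorem t49_68 (t u : K) (w : Γ) : R.X68 u * (R.X49 t * w) = R.X49 t * (R.X68 u * w) := by
  rw [← mul_assoc, R.c49_68, mul_assoc]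

theorem t49_69 (t u : K) (w : Γ) : R.X69 u * (R.X49 t * w) = R.X49 t * (R.X69 u * w) := by
  rw [← mul_assoc, R.c49_69, mul_assoc]

theorem t49_70 (t u : K) (w : Γ) : R.X70 u * (R.X49 t * w) = R.X49 t * (R.X70 u * w) := by
  rw [← mul_assoc, R.c49_70, mul_assoc]

theorem t49_71 (t u : K) (w : Γ) : R.X71 u * (R.X49 t * w) = R.X49 t * (R.X71 u * w) := by
  rw [← mul_assoc, R.c49_71, mul_assoc]

theorem t51_59 (t u : K) (w : Γ) : R.X59 u * (R.X51 t * w) = R.X51 t * (R.X59 u * w) := by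
  rw [← mul_assoc, R.c51_59, mul_assoc]

theorem t51_61 (t u : K) (w : Γ) : R.X61 u * (R.X51 t * w) = R.X51 t * (R.X61 u * w) := by
  rw [← mul_assoc, R.c51_61, mul_assoc]

theorem t51_52 (t u : K) (w : Γ) : R.X52 u * (R.X51 t * w) = R.X51 t * (R.X52 u * w) := by
  rw [← mul_assoc, R.c51_52, mul_assoc]

theorem t51_53 (t u : K) (w : Γ) : R.X53 u * (R.X51 t * w) = R.X51 t * (R.X53 u * w) := by
  rw [← mul_assoc, R.c51_53, mul_assoc]

theorem t51_60 (t u : K) (w : Γ) : R.X60 u * (R.X51 t * w) = R.X51 t * (R.X60 u * (R.X69 (t * u) * w)) := by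
  rw [← mul_assoc, R.r51_60]; simp only [mul_assoc]

theorem t51_62 (t u : K) (w : Γ) : R.X62 u * (R.X51 t * w) = R.X51 t * (R.X62 u * w) := by
  rw [← mul_assoc, R.c51_62, mul_assoc]

theorem t51_54 (t u : K) (w : Γ) : R.X54 u * (R.X51 t * w) = R.X51 t * (R.X54 u * w) := by
  rw [← mul_assoc, R.c51_54, mul_assoc]

theorem t51_63 (t u : K) (w : Γ) : R.X63 u * (R.X51 t * w) = R.X51 t * (R.X63 u * w) := by
  rw [← mul_assoc, R.c51_63, mul_assoc]

theorem t51_64 (t u : K) (w : Γ) : R.X64 u * (R.X51 t * w) = R.X51 t * (R.X64 u * w) := by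
  rw [← mul_assoc, R.c51_64, mul_assoc]

theorem t51_55 (t u : K) (w : Γ) : R.X55 u * (R.X51 t * w) = R.X51 t * (R.X55 u * w) := by
  rw [← mul_assoc, R.c51_55, mul_assoc]

theorem t51_65 (t u : K) (w : Γ) : R.X65 u * (R.X51 t * w) = R.X51 t * (R.X65 u * (R.X71 (t * u) * w)) := by
  rw [← mul_assoc, R.r51_65]; simp only [mul_assoc]

theorem t51_67 (t u : K) (w : Γ) : R.X67 u * (R.X51 t * w) = R.X51 t * (R.X67 u * w) := by
  rw [← mul_assoc, R.c51_67, mul_assoc]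

theorem t51_66 (t u : K) (w : Γ) : R.X66 u * (R.X51 t * w) = R.X51 t * (R.X66 u * w) := by
  rw [← mul_assoc, R.c51_66, mul_assoc]

theorem t51_68 (t u : K) (w : Γ) : R.X68 u * (R.X51 t * w) = R.X51 t * (R.X68 u * w) := by
  rw [← mul_assoc, R.c51_68, mul_assoc]

theorem t51_69 (t u : K) (w : Γ) : R.X69 u * (R.X51 t * w) = R.X51 t * (R.X69 u * w) := by
  rw [← mul_assoc, R.c51_69, mul_assoc]

theorem t51_70 (t u : K) (w : Γ) : R.X70 u * (R.X51 t * w) = R.X51 t * (R.X70 u * w) := by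
  rw [← mul_assoc, R.c51_70, mul_assoc]

theorem t51_71 (t u : K) (w : Γ) : R.X71 u * (R.X51 t * w) = R.X51 t * (R.X71 u * w) := by
  rw [← mul_assoc, R.c51_71, mul_assoc]

theorem t59_61 (t u : K) (w : Γ) : R.X61 u * (R.X59 t * w) = R.X59 t * (R.X61 u * w) := by
  rw [← mul_assoc, R.c59_61, mul_assoc]

theorem t59_52 (t u : K) (w : Γ) : R.X52 u * (R.X59 t * w) = R.X59 t * (R.X52 u * (R.X69 (t * u) * w)) := by
  rw [← mul_assoc, R.r59_52]; simp only [mul_assoc]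

theorem t59_53 (t u : K) (w : Γ) : R.X53 u * (R.X59 t * w) = R.X59 t * (R.X53 u * w) := by
  rw [← mul_assoc, R.c59_53, mul_assoc]

theorem t59_60 (t u : K) (w : Γ) : R.X60 u * (R.X59 t * w) = R.X59 t * (R.X60 u * w) := by
  rw [← mul_assoc, R.c59_60, mul_assoc]

theorem t59_62 (t u : K) (w : Γ) : R.X62 u * (R.X59 t * w) = R.X59 t * (R.X62 u * w) := by
  rw [← mul_assoc, R.c59_62, mul_assoc]

theorem t59_54 (t u : K) (w : Γ) : R.X54 u * (R.X59 t * w) = R.X59 t * (R.X54 u * (R.X70 (t * u) * w)) := by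
  rw [← mul_assoc, R.r59_54]; simp only [mul_assoc]

theorem t59_63 (t u : K) (w : Γ) : R.X63 u * (R.X59 t * w) = R.X59 t * (R.X63 u * w) := by
  rw [← mul_assoc, R.c59_63, mul_assoc]

theorem t59_64 (t u : K) (w : Γ) : R.X64 u * (R.X59 t * w) = R.X59 t * (R.X64 u * w) := by
  rw [← mul_assoc, R.c59_64, mul_assoc]

theorem t59_55 (t u : K) (w : Γ) : R.X55 u * (R.X59 t * w) = R.X59 t * (R.X55 u * w) := by
  rw [← mul_assoc, R.c59_55, mul_assoc]

theorem t59_65 (t u : K) (w : Γ) : R.X65 u * (R.X59 t * w) = R.X59 t * (R.X65 u * w) := by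
  rw [← mul_assoc, R.c59_65, mul_assoc]

theorem t59_67 (t u : K) (w : Γ) : R.X67 u * (R.X59 t * w) = R.X59 t * (R.X67 u * w) := by
  rw [← mul_assoc, R.c59_67, mul_assoc]

theorem t59_66 (t u : K) (w : Γ) : R.X66 u * (R.X59 t * w) = R.X59 t * (R.X66 u * w) := by
  rw [← mul_assoc, R.c59_66, mul_assoc]

theorem t59_68 (t u : K) (w : Γ) : R.X68 u * (R.X59 t * w) = R.X59 t * (R.X68 u * w) := by
  rw [← mul_assoc, R.c59_68, mul_assoc]

theorem t59_69 (t u : K) (w : Γ) : R.X69 u * (R.X59 t * w) = R.X59 t * (R.X69 u * w) := by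
  rw [← mul_assoc, R.c59_69, mul_assoc]

theorem t59_70 (t u : K) (w : Γ) : R.X70 u * (R.X59 t * w) = R.X59 t * (R.X70 u * w) := by
  rw [← mul_assoc, R.c59_70, mul_assoc]

theorem t59_71 (t u : K) (w : Γ) : R.X71 u * (R.X59 t * w) = R.X59 t * (R.X71 u * w) := by
  rw [← mul_assoc, R.c59_71, mul_assoc]

theorem t61_52 (t u : K) (w : Γ) : R.X52 u * (R.X61 t * w) = R.X61 t * (R.X52 u * w) := by
  rw [← mul_assoc, R.c61_52, mul_assoc]

theorem t61_53 (t u : K) (w : Γ) : R.X53 u * (R.X61 t * w) = R.X61 t * (R.X53 u * w) := by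
  rw [← mul_assoc, R.c61_53, mul_assoc]

theorem t61_60 (t u : K) (w : Γ) : R.X60 u * (R.X61 t * w) = R.X61 t * (R.X60 u * w) := by
  rw [← mul_assoc, R.c61_60, mul_assoc]

theorem t61_62 (t u : K) (w : Γ) : R.X62 u * (R.X61 t * w) = R.X61 t * (R.X62 u * w) := by
  rw [← mul_assoc, R.c61_62, mul_assoc]

theorem t61_54 (t u : K) (w : Γ) : R.X54 u * (R.X61 t * w) = R.X61 t * (R.X54 u * w) := by
  rw [← mul_assoc, R.c61_54, mul_assoc]

theorem t61_63 (t u : K) (w : Γ) : R.X63 u * (R.X61 t * w) = R.X61 t * (R.X63 u * w) := by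
  rw [← mul_assoc, R.c61_63, mul_assoc]

theorem t61_64 (t u : K) (w : Γ) : R.X64 u * (R.X61 t * w) = R.X61 t * (R.X64 u * w) := by
  rw [← mul_assoc, R.c61_64, mul_assoc]

theorem t61_55 (t u : K) (w : Γ) : R.X55 u * (R.X61 t * w) = R.X61 t * (R.X55 u * (R.X71 (t * u) * w)) := by
  rw [← mul_assoc, R.r61_55]; simp only [mul_assoc]

theorem t61_65 (t u : K) (w : Γ) : R.X65 u * (R.X61 t * w) = R.X61 t * (R.X65 u * w) := by
  rw [← mul_assoc, R.c61_65, mul_assoc]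

theorem t61_67 (t u : K) (w : Γ) : R.X67 u * (R.X61 t * w) = R.X61 t * (R.X67 u * w) := by
  rw [← mul_assoc, R.c61_67, mul_assoc]

theorem t61_66 (t u : K) (w : Γ) : R.X66 u * (R.X61 t * w) = R.X61 t * (R.X66 u * w) := by
  rw [← mul_assoc, R.c61_66, mul_assoc]

theorem t61_68 (t u : K) (w : Γ) : R.X68 u * (R.X61 t * w) = R.X61 t * (R.X68 u * w) := by
  rw [← mul_assoc, R.c61_68, mul_assoc]

theorem t61_69 (t u : K) (w : Γ) : R.X69 u * (R.X61 t * w) = R.X61 t * (R.X69 u * w) := by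
  rw [← mul_assoc, R.c61_69, mul_assoc]

theorem t61_70 (t u : K) (w : Γ) : R.X70 u * (R.X61 t * w) = R.X61 t * (R.X70 u * w) := by
  rw [← mul_assoc, R.c61_70, mul_assoc]

theorem t61_71 (t u : K) (w : Γ) : R.X71 u * (R.X61 t * w) = R.X61 t * (R.X71 u * w) := by
  rw [← mul_assoc, R.c61_71, mul_assoc]

theorem t52_53 (t u : K) (w : Γ) : R.X53 u * (R.X52 t * w) = R.X52 t * (R.X53 u * w) := by
  rw [← mul_assoc, R.c52_53, mul_assoc]

theorem t52_60 (t u : K) (w : Γ) : R.X60 u * (R.X52 t * w) = R.X52 t * (R.X60 u * w) := by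
  rw [← mul_assoc, R.c52_60, mul_assoc]

theorem t52_62 (t u : K) (w : Γ) : R.X62 u * (R.X52 t * w) = R.X52 t * (R.X62 u * w) := by
  rw [← mul_assoc, R.c52_62, mul_assoc]

theorem t52_54 (t u : K) (w : Γ) : R.X54 u * (R.X52 t * w) = R.X52 t * (R.X54 u * w) := by
  rw [← mul_assoc, R.c52_54, mul_assoc]

theorem t52_63 (t u : K) (w : Γ) : R.X63 u * (R.X52 t * w) = R.X52 t * (R.X63 u * w) := by
  rw [← mul_assoc, R.c52_63, mul_assoc]

theorem t52_64 (t u : K) (w : Γ) : R.X64 u * (R.X52 t * w) = R.X52 t * (R.X64 u * (R.X71 (t * u) * w)) := by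
  rw [← mul_assoc, R.r52_64]; simp only [mul_assoc]

theorem t52_55 (t u : K) (w : Γ) : R.X55 u * (R.X52 t * w) = R.X52 t * (R.X55 u * w) := by
  rw [← mul_assoc, R.c52_55, mul_assoc]

theorem t52_65 (t u : K) (w : Γ) : R.X65 u * (R.X52 t * w) = R.X52 t * (R.X65 u * w) := by
  rw [← mul_assoc, R.c52_65, mul_assoc]

theorem t52_67 (t u : K) (w : Γ) : R.X67 u * (R.X52 t * w) = R.X52 t * (R.X67 u * w) := by
  rw [← mul_assoc, R.c52_67, mul_assoc]

theorem t52_66 (t u : K) (w : Γ) : R.X66 u * (R.X52 t * w) = R.X52 t * (R.X66 u * w) := by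
  rw [← mul_assoc, R.c52_66, mul_assoc]

theorem t52_68 (t u : K) (w : Γ) : R.X68 u * (R.X52 t * w) = R.X52 t * (R.X68 u * w) := by
  rw [← mul_assoc, R.c52_68, mul_assoc]

theorem t52_69 (t u : K) (w : Γ) : R.X69 u * (R.X52 t * w) = R.X52 t * (R.X69 u * w) := by
  rw [← mul_assoc, R.c52_69, mul_assoc]

theorem t52_70 (t u : K) (w : Γ) : R.X70 u * (R.X52 t * w) = R.X52 t * (R.X70 u * w) := by
  rw [← mul_assoc, R.c52_70, mul_assoc]

theorem t52_71 (t u : K) (w : Γ) : R.X71 u * (R.X52 t * w) = R.X52 t * (R.X71 u * w) := by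
  rw [← mul_assoc, R.c52_71, mul_assoc]

theorem t53_60 (t u : K) (w : Γ) : R.X60 u * (R.X53 t * w) = R.X53 t * (R.X60 u * (R.X70 (t * u) * w)) := by
  rw [← mul_assoc, R.r53_60]; simp only [mul_assoc]

theorem t53_62 (t u : K) (w : Γ) : R.X62 u * (R.X53 t * w) = R.X53 t * (R.X62 u * w) := by
  rw [← mul_assoc, R.c53_62, mul_assoc]

theorem t53_54 (t u : K) (w : Γ) : R.X54 u * (R.X53 t * w) = R.X53 t * (R.X54 u * w) := by
  rw [← mul_assoc, R.c53_54, mul_assoc]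

theorem t53_63 (t u : K) (w : Γ) : R.X63 u * (R.X53 t * w) = R.X53 t * (R.X63 u * (R.X71 (t * u) * w)) := by
  rw [← mul_assoc, R.r53_63]; simp only [mul_assoc]

theorem t53_64 (t u : K) (w : Γ) : R.X64 u * (R.X53 t * w) = R.X53 t * (R.X64 u * w) := by
  rw [← mul_assoc, R.c53_64, mul_assoc]

theorem t53_55 (t u : K) (w : Γ) : R.X55 u * (R.X53 t * w) = R.X53 t * (R.X55 u * w) := by
  rw [← mul_assoc, R.c53_55, mul_assoc]

theorem t53_65 (t u : K) (w : Γ) : R.X65 u * (R.X53 t * w) = R.X53 t * (R.X65 u * w) := by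
  rw [← mul_assoc, R.c53_65, mul_assoc]

theorem t53_67 (t u : K) (w : Γ) : R.X67 u * (R.X53 t * w) = R.X53 t * (R.X67 u * w) := by
  rw [← mul_assoc, R.c53_67, mul_assoc]

theorem t53_66 (t u : K) (w : Γ) : R.X66 u * (R.X53 t * w) = R.X53 t * (R.X66 u * w) := by
  rw [← mul_assoc, R.c53_66, mul_assoc]

theorem t53_68 (t u : K) (w : Γ) : R.X68 u * (R.X53 t * w) = R.X53 t * (R.X68 u * w) := by
  rw [← mul_assoc, R.c53_68, mul_assoc]

theorem t53_69 (t u : K) (w : Γ) : R.X69 u * (R.X53 t * w) = R.X53 t * (R.X69 u * w) := by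
  rw [← mul_assoc, R.c53_69, mul_assoc]

theorem t53_70 (t u : K) (w : Γ) : R.X70 u * (R.X53 t * w) = R.X53 t * (R.X70 u * w) := by
  rw [← mul_assoc, R.c53_70, mul_assoc]

theorem t53_71 (t u : K) (w : Γ) : R.X71 u * (R.X53 t * w) = R.X53 t * (R.X71 u * w) := by
  rw [← mul_assoc, R.c53_71, mul_assoc]

theorem t60_62 (t u : K) (w : Γ) : R.X62 u * (R.X60 t * w) = R.X60 t * (R.X62 u * w) := by
  rw [← mul_assoc, R.c60_62, mul_assoc]

theorem t60_54 (t u : K) (w : Γ) : R.X54 u * (R.X60 t * w) = R.X60 t * (R.X54 u * w) := by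
  rw [← mul_assoc, R.c60_54, mul_assoc]

theorem t60_63 (t u : K) (w : Γ) : R.X63 u * (R.X60 t * w) = R.X60 t * (R.X63 u * w) := by
  rw [← mul_assoc, R.c60_63, mul_assoc]

theorem t60_64 (t u : K) (w : Γ) : R.X64 u * (R.X60 t * w) = R.X60 t * (R.X64 u * w) := by
  rw [← mul_assoc, R.c60_64, mul_assoc]

theorem t60_55 (t u : K) (w : Γ) : R.X55 u * (R.X60 t * w) = R.X60 t * (R.X55 u * w) := by
  rw [← mul_assoc, R.c60_55, mul_assoc]

theorem t60_65 (t u : K) (w : Γ) : R.X65 u * (R.X60 t * w) = R.X60 t * (R.X65 u * w) := by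
  rw [← mul_assoc, R.c60_65, mul_assoc]

theorem t60_67 (t u : K) (w : Γ) : R.X67 u * (R.X60 t * w) = R.X60 t * (R.X67 u * w) := by
  rw [← mul_assoc, R.c60_67, mul_assoc]

theorem t60_66 (t u : K) (w : Γ) : R.X66 u * (R.X60 t * w) = R.X60 t * (R.X66 u * w) := by
  rw [← mul_assoc, R.c60_66, mul_assoc]

theorem t60_68 (t u : K) (w : Γ) : R.X68 u * (R.X60 t * w) = R.X60 t * (R.X68 u * w) := by
  rw [← mul_assoc, R.c60_68, mul_assoc]

theorem t60_69 (t u : K) (w : Γ) : R.X69 u * (R.X60 t * w) = R.X60 t * (R.X69 u * w) := by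
  rw [← mul_assoc, R.c60_69, mul_assoc]

theorem t60_70 (t u : K) (w : Γ) : R.X70 u * (R.X60 t * w) = R.X60 t * (R.X70 u * w) := by
  rw [← mul_assoc, R.c60_70, mul_assoc]

theorem t60_71 (t u : K) (w : Γ) : R.X71 u * (R.X60 t * w) = R.X60 t * (R.X71 u * w) := by
  rw [← mul_assoc, R.c60_71, mul_assoc]

theorem t62_54 (t u : K) (w : Γ) : R.X54 u * (R.X62 t * w) = R.X62 t * (R.X54 u * (R.X71 (t * u) * w)) := by
  rw [← mul_assoc, R.r62_54]; simp only [mul_assoc]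

theorem t62_63 (t u : K) (w : Γ) : R.X63 u * (R.X62 t * w) = R.X62 t * (R.X63 u * w) := by
  rw [← mul_assoc, R.c62_63, mul_assoc]

theorem t62_64 (t u : K) (w : Γ) : R.X64 u * (R.X62 t * w) = R.X62 t * (R.X64 u * w) := by
  rw [← mul_assoc, R.c62_64, mul_assoc]

theorem t62_55 (t u : K) (w : Γ) : R.X55 u * (R.X62 t * w) = R.X62 t * (R.X55 u * w) := by
  rw [← mul_assoc, R.c62_55, mul_assoc]

theorem t62_65 (t u : K) (w : Γ) : R.X65 u * (R.X62 t * w) = R.X62 t * (R.X65 u * w) := by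
  rw [← mul_assoc, R.c62_65, mul_assoc]

theorem t62_67 (t u : K) (w : Γ) : R.X67 u * (R.X62 t * w) = R.X62 t * (R.X67 u * w) := by
  rw [← mul_assoc, R.c62_67, mul_assoc]

theorem t62_66 (t u : K) (w : Γ) : R.X66 u * (R.X62 t * w) = R.X62 t * (R.X66 u * w) := by
  rw [← mul_assoc, R.c62_66, mul_assoc]

theorem t62_68 (t u : K) (w : Γ) : R.X68 u * (R.X62 t * w) = R.X62 t * (R.X68 u * w) := by
  rw [← mul_assoc, R.c62_68, mul_assoc]

theorem t62_69 (t u : K) (w : Γ) : R.X69 u * (R.X62 t * w) = R.X62 t * (R.X69 u * w) := by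
  rw [← mul_assoc, R.c62_69, mul_assoc]

theorem t62_70 (t u : K) (w : Γ) : R.X70 u * (R.X62 t * w) = R.X62 t * (R.X70 u * w) := by
  rw [← mul_assoc, R.c62_70, mul_assoc]

theorem t62_71 (t u : K) (w : Γ) : R.X71 u * (R.X62 t * w) = R.X62 t * (R.X71 u * w) := by
  rw [← mul_assoc, R.c62_71, mul_assoc]

theorem t54_63 (t u : K) (w : Γ) : R.X63 u * (R.X54 t * w) = R.X54 t * (R.X63 u * w) := by
  rw [← mul_assoc, R.c54_63, mul_assoc]

theorem t54_64 (t u : K) (w : Γ) : R.X64 u * (R.X54 t * w) = R.X54 t * (R.X64 u * w) := by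
  rw [← mul_assoc, R.c54_64, mul_assoc]

theorem t54_55 (t u : K) (w : Γ) : R.X55 u * (R.X54 t * w) = R.X54 t * (R.X55 u * w) := by
  rw [← mul_assoc, R.c54_55, mul_assoc]

theorem t54_65 (t u : K) (w : Γ) : R.X65 u * (R.X54 t * w) = R.X54 t * (R.X65 u * w) := by
  rw [← mul_assoc, R.c54_65, mul_assoc]

theorem t54_67 (t u : K) (w : Γ) : R.X67 u * (R.X54 t * w) = R.X54 t * (R.X67 u * w) := by
  rw [← mul_assoc, R.c54_67, mul_assoc]

theorem t54_66 (t u : K) (w : Γ) : R.X66 u * (R.X54 t * w) = R.X54 t * (R.X66 u * w) := by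
  rw [← mul_assoc, R.c54_66, mul_assoc]

theorem t54_68 (t u : K) (w : Γ) : R.X68 u * (R.X54 t * w) = R.X54 t * (R.X68 u * w) := by
  rw [← mul_assoc, R.c54_68, mul_assoc]

theorem t54_69 (t u : K) (w : Γ) : R.X69 u * (R.X54 t * w) = R.X54 t * (R.X69 u * w) := by
  rw [← mul_assoc, R.c54_69, mul_assoc]

theorem t54_70 (t u : K) (w : Γ) : R.X70 u * (R.X54 t * w) = R.X54 t * (R.X70 u * w) := by
  rw [← mul_assoc, R.c54_70, mul_assoc]

theorem t54_71 (t u : K) (w : Γ) : R.X71 u * (R.X54 t * w) = R.X54 t * (R.X71 u * w) := by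
  rw [← mul_assoc, R.c54_71, mul_assoc]

theorem t63_64 (t u : K) (w : Γ) : R.X64 u * (R.X63 t * w) = R.X63 t * (R.X64 u * w) := by
  rw [← mul_assoc, R.c63_64, mul_assoc]

theorem t63_55 (t u : K) (w : Γ) : R.X55 u * (R.X63 t * w) = R.X63 t * (R.X55 u * w) := by
  rw [← mul_assoc, R.c63_55, mul_assoc]

theorem t63_65 (t u : K) (w : Γ) : R.X65 u * (R.X63 t * w) = R.X63 t * (R.X65 u * w) := by
  rw [← mul_assoc, R.c63_65, mul_assoc]

theorem t63_67 (t u : K) (w : Γ) : R.X67 u * (R.X63 t * w) = R.X63 t * (R.X67 u * w) := by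
  rw [← mul_assoc, R.c63_67, mul_assoc]

theorem t63_66 (t u : K) (w : Γ) : R.X66 u * (R.X63 t * w) = R.X63 t * (R.X66 u * w) := by
  rw [← mul_assoc, R.c63_66, mul_assoc]

theorem t63_68 (t u : K) (w : Γ) : R.X68 u * (R.X63 t * w) = R.X63 t * (R.X68 u * w) := by
  rw [← mul_assoc, R.c63_68, mul_assoc]

theorem t63_69 (t u : K) (w : Γ) : R.X69 u * (R.X63 t * w) = R.X63 t * (R.X69 u * w) := by
  rw [← mul_assoc, R.c63_69, mul_assoc]

theorem t63_70 (t u : K) (w : Γ) : R.X70 u * (R.X63 t * w) = R.X63 t * (R.X70 u * w) := by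
  rw [← mul_assoc, R.c63_70, mul_assoc]

theorem t63_71 (t u : K) (w : Γ) : R.X71 u * (R.X63 t * w) = R.X63 t * (R.X71 u * w) := by
  rw [← mul_assoc, R.c63_71, mul_assoc]

theorem t64_55 (t u : K) (w : Γ) : R.X55 u * (R.X64 t * w) = R.X64 t * (R.X55 u * w) := by
  rw [← mul_assoc, R.c64_55, mul_assoc]

theorem t64_65 (t u : K) (w : Γ) : R.X65 u * (R.X64 t * w) = R.X64 t * (R.X65 u * w) := by
  rw [← mul_assoc, R.c64_65, mul_assoc]

theorem t64_67 (t u : K) (w : Γ) : R.X67 u * (R.X64 t * w) = R.X64 t * (R.X67 u * w) := by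
  rw [← mul_assoc, R.c64_67, mul_assoc]

theorem t64_66 (t u : K) (w : Γ) : R.X66 u * (R.X64 t * w) = R.X64 t * (R.X66 u * w) := by
  rw [← mul_assoc, R.c64_66, mul_assoc]

theorem t64_68 (t u : K) (w : Γ) : R.X68 u * (R.X64 t * w) = R.X64 t * (R.X68 u * w) := by
  rw [← mul_assoc, R.c64_68, mul_assoc]

theorem t64_69 (t u : K) (w : Γ) : R.X69 u * (R.X64 t * w) = R.X64 t * (R.X69 u * w) := by
  rw [← mul_assoc, R.c64_69, mul_assoc]

theorem t64_70 (t u : K) (w : Γ) : R.X70 u * (R.X64 t * w) = R.X64 t * (R.X70 u * w) := by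
  rw [← mul_assoc, R.c64_70, mul_assoc]

theorem t64_71 (t u : K) (w : Γ) : R.X71 u * (R.X64 t * w) = R.X64 t * (R.X71 u * w) := by
  rw [← mul_assoc, R.c64_71, mul_assoc]

theorem t55_65 (t u : K) (w : Γ) : R.X65 u * (R.X55 t * w) = R.X55 t * (R.X65 u * w) := by
  rw [← mul_assoc, R.c55_65, mul_assoc]

theorem t55_67 (t u : K) (w : Γ) : R.X67 u * (R.X55 t * w) = R.X55 t * (R.X67 u * w) := by
  rw [← mul_assoc, R.c55_67, mul_assoc]

theorem t55_66 (t u : K) (w : Γ) : R.X66 u * (R.X55 t * w) = R.X55 t * (R.X66 u * w) := by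
  rw [← mul_assoc, R.c55_66, mul_assoc]

theorem t55_68 (t u : K) (w : Γ) : R.X68 u * (R.X55 t * w) = R.X55 t * (R.X68 u * w) := by
  rw [← mul_assoc, R.c55_68, mul_assoc]

theorem t55_69 (t u : K) (w : Γ) : R.X69 u * (R.X55 t * w) = R.X55 t * (R.X69 u * w) := by
  rw [← mul_assoc, R.c55_69, mul_assoc]

theorem t55_70 (t u : K) (w : Γ) : R.X70 u * (R.X55 t * w) = R.X55 t * (R.X70 u * w) := by
  rw [← mul_assoc, R.c55_70, mul_assoc]

theorem t55_71 (t u : K) (w : Γ) : R.X71 u * (R.X55 t * w) = R.X55 t * (R.X71 u * w) := by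
  rw [← mul_assoc, R.c55_71, mul_assoc]

theorem t65_67 (t u : K) (w : Γ) : R.X67 u * (R.X65 t * w) = R.X65 t * (R.X67 u * w) := by
  rw [← mul_assoc, R.c65_67, mul_assoc]

theorem t65_66 (t u : K) (w : Γ) : R.X66 u * (R.X65 t * w) = R.X65 t * (R.X66 u * w) := by
  rw [← mul_assoc, R.c65_66, mul_assoc]

theorem t65_68 (t u : K) (w : Γ) : R.X68 u * (R.X65 t * w) = R.X65 t * (R.X68 u * w) := by
  rw [← mul_assoc, R.c65_68, mul_assoc]

theorem t65_69 (t u : K) (w : Γ) : R.X69 u * (R.X65 t * w) = R.X65 t * (R.X69 u * w) := by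
  rw [← mul_assoc, R.c65_69, mul_assoc]

theorem t65_70 (t u : K) (w : Γ) : R.X70 u * (R.X65 t * w) = R.X65 t * (R.X70 u * w) := by
  rw [← mul_assoc, R.c65_70, mul_assoc]

theorem t65_71 (t u : K) (w : Γ) : R.X71 u * (R.X65 t * w) = R.X65 t * (R.X71 u * w) := by
  rw [← mul_assoc, R.c65_71, mul_assoc]

theorem t67_66 (t u : K) (w : Γ) : R.X66 u * (R.X67 t * w) = R.X67 t * (R.X66 u * w) := by
  rw [← mul_assoc, R.c67_66, mul_assoc]

theorem t67_68 (t u : K) (w : Γ) : R.X68 u * (R.X67 t * w) = R.X67 t * (R.X68 u * w) := by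
  rw [← mul_assoc, R.c67_68, mul_assoc]

theorem t67_69 (t u : K) (w : Γ) : R.X69 u * (R.X67 t * w) = R.X67 t * (R.X69 u * w) := by
  rw [← mul_assoc, R.c67_69, mul_assoc]

theorem t67_70 (t u : K) (w : Γ) : R.X70 u * (R.X67 t * w) = R.X67 t * (R.X70 u * w) := by
  rw [← mul_assoc, R.c67_70, mul_assoc]

theorem t67_71 (t u : K) (w : Γ) : R.X71 u * (R.X67 t * w) = R.X67 t * (R.X71 u * w) := by
  rw [← mul_assoc, R.c67_71, mul_assoc]

theorem t66_68 (t u : K) (w : Γ) : R.X68 u * (R.X66 t * w) = R.X66 t * (R.X68 u * w) := by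
  rw [← mul_assoc, R.c66_68, mul_assoc]

theorem t66_69 (t u : K) (w : Γ) : R.X69 u * (R.X66 t * w) = R.X66 t * (R.X69 u * w) := by
  rw [← mul_assoc, R.c66_69, mul_assoc]

theorem t66_70 (t u : K) (w : Γ) : R.X70 u * (R.X66 t * w) = R.X66 t * (R.X70 u * w) := by
  rw [← mul_assoc, R.c66_70, mul_assoc]

theorem t66_71 (t u : K) (w : Γ) : R.X71 u * (R.X66 t * w) = R.X66 t * (R.X71 u * w) := by
  rw [← mul_assoc, R.c66_71, mul_assoc]

theorem t68_69 (t u : K) (w : Γ) : R.X69 u * (R.X68 t * w) = R.X68 t * (R.X69 u * w) := by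
  rw [← mul_assoc, R.c68_69, mul_assoc]

theorem t68_70 (t u : K) (w : Γ) : R.X70 u * (R.X68 t * w) = R.X68 t * (R.X70 u * w) := by
  rw [← mul_assoc, R.c68_70, mul_assoc]

theorem t68_71 (t u : K) (w : Γ) : R.X71 u * (R.X68 t * w) = R.X68 t * (R.X71 u * w) := by
  rw [← mul_assoc, R.c68_71, mul_assoc]

theorem t69_70 (t u : K) (w : Γ) : R.X70 u * (R.X69 t * w) = R.X69 t * (R.X70 u * w) := by
  rw [← mul_assoc, R.c69_70, mul_assoc]

theorem t69_71 (t u : K) (w : Γ) : R.X71 u * (R.X69 t * w) = R.X69 t * (R.X71 u * w) := by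
  rw [← mul_assoc, R.c69_71, mul_assoc]

theorem t70_71 (t u : K) (w : Γ) : R.X71 u * (R.X70 t * w) = R.X70 t * (R.X71 u * w) := by
  rw [← mul_assoc, R.c70_71, mul_assoc]

theorem m36 (s t : K) (w : Γ) : R.X36 s * (R.X36 t * w) = R.X36 (s + t) * w := by rw [R.add36, mul_assoc]

theorem m37 (s t : K) (w : Γ) : R.X37 s * (R.X37 t * w) = R.X37 (s + t) * w := by rw [R.add37, mul_assoc]

theorem m39 (s t : K) (w : Γ) : R.X39 s * (R.X39 t * w) = R.X39 (s + t) * w := by rw [R.add39, mul_assoc]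

theorem m42 (s t : K) (w : Γ) : R.X42 s * (R.X42 t * w) = R.X42 (s + t) * w := by rw [R.add42, mul_assoc]

theorem m46 (s t : K) (w : Γ) : R.X46 s * (R.X46 t * w) = R.X46 (s + t) * w := by rw [R.add46, mul_assoc]

theorem m56 (s t : K) (w : Γ) : R.X56 s * (R.X56 t * w) = R.X56 (s + t) * w := by rw [R.add56, mul_assoc]

theorem m38 (s t : K) (w : Γ) : R.X38 s * (R.X38 t * w) = R.X38 (s + t) * w := by rw [R.add38, mul_assoc]

theorem m40 (s t : K) (w : Γ) : R.X40 s * (R.X40 t * w) = R.X40 (s + t) * w := by rw [R.add40, mul_assoc]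

theorem m43 (s t : K) (w : Γ) : R.X43 s * (R.X43 t * w) = R.X43 (s + t) * w := by rw [R.add43, mul_assoc]

theorem m47 (s t : K) (w : Γ) : R.X47 s * (R.X47 t * w) = R.X47 (s + t) * w := by rw [R.add47, mul_assoc]

theorem m57 (s t : K) (w : Γ) : R.X57 s * (R.X57 t * w) = R.X57 (s + t) * w := by rw [R.add57, mul_assoc]

theorem m41 (s t : K) (w : Γ) : R.X41 s * (R.X41 t * w) = R.X41 (s + t) * w := by rw [R.add41, mul_assoc]

theorem m44 (s t : K) (w : Γ) : R.X44 s * (R.X44 t * w) = R.X44 (s + t) * w := by rw [R.add44, mul_assoc]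

theorem m48 (s t : K) (w : Γ) : R.X48 s * (R.X48 t * w) = R.X48 (s + t) * w := by rw [R.add48, mul_assoc]

theorem m50 (s t : K) (w : Γ) : R.X50 s * (R.X50 t * w) = R.X50 (s + t) * w := by rw [R.add50, mul_assoc]

theorem m58 (s t : K) (w : Γ) : R.X58 s * (R.X58 t * w) = R.X58 (s + t) * w := by rw [R.add58, mul_assoc]

theorem m45 (s t : K) (w : Γ) : R.X45 s * (R.X45 t * w) = R.X45 (s + t) * w := by rw [R.add45, mul_assoc]

theorem m49 (s t : K) (w : Γ) : R.X49 s * (R.X49 t * w) = R.X49 (s + t) * w := by rw [R.add49, mul_assoc]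

theorem m51 (s t : K) (w : Γ) : R.X51 s * (R.X51 t * w) = R.X51 (s + t) * w := by rw [R.add51, mul_assoc]

theorem m59 (s t : K) (w : Γ) : R.X59 s * (R.X59 t * w) = R.X59 (s + t) * w := by rw [R.add59, mul_assoc]

theorem m61 (s t : K) (w : Γ) : R.X61 s * (R.X61 t * w) = R.X61 (s + t) * w := by rw [R.add61, mul_assoc]

theorem m52 (s t : K) (w : Γ) : R.X52 s * (R.X52 t * w) = R.X52 (s + t) * w := by rw [R.add52, mul_assoc]

theorem m53 (s t : K) (w : Γ) : R.X53 s * (R.X53 t * w) = R.X53 (s + t) * w := by rw [R.add53, mul_assoc]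

theorem m60 (s t : K) (w : Γ) : R.X60 s * (R.X60 t * w) = R.X60 (s + t) * w := by rw [R.add60, mul_assoc]

theorem m62 (s t : K) (w : Γ) : R.X62 s * (R.X62 t * w) = R.X62 (s + t) * w := by rw [R.add62, mul_assoc]

theorem m54 (s t : K) (w : Γ) : R.X54 s * (R.X54 t * w) = R.X54 (s + t) * w := by rw [R.add54, mul_assoc]

theorem m63 (s t : K) (w : Γ) : R.X63 s * (R.X63 t * w) = R.X63 (s + t) * w := by rw [R.add63, mul_assoc]

theorem m64 (s t : K) (w : Γ) : R.X64 s * (R.X64 t * w) = R.X64 (s + t) * w := by rw [R.add64, mul_assoc]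

theorem m55 (s t : K) (w : Γ) : R.X55 s * (R.X55 t * w) = R.X55 (s + t) * w := by rw [R.add55, mul_assoc]

theorem m65 (s t : K) (w : Γ) : R.X65 s * (R.X65 t * w) = R.X65 (s + t) * w := by rw [R.add65, mul_assoc]

theorem m67 (s t : K) (w : Γ) : R.X67 s * (R.X67 t * w) = R.X67 (s + t) * w := by rw [R.add67, mul_assoc]

theorem m66 (s t : K) (w : Γ) : R.X66 s * (R.X66 t * w) = R.X66 (s + t) * w := by rw [R.add66, mul_assoc]

theorem m68 (s t : K) (w : Γ) : R.X68 s * (R.X68 t * w) = R.X68 (s + t) * w := by rw [R.add68, mul_assoc]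

theorem m69 (s t : K) (w : Γ) : R.X69 s * (R.X69 t * w) = R.X69 (s + t) * w := by rw [R.add69, mul_assoc]

theorem m70 (s t : K) (w : Γ) : R.X70 s * (R.X70 t * w) = R.X70 (s + t) * w := by rw [R.add70, mul_assoc]

theorem m71 (s t : K) (w : Γ) : R.X71 s * (R.X71 t * w) = R.X71 (s + t) * w := by rw [R.add71, mul_assoc]

/-- ordered product of root elements (order by height) -/
def RNF (t36 t37 t39 t42 t46 t56 t38 t40 t43 t47 t57 t41 t44 t48 t50 t58 t45 t49 t51 t59 t61 t52 t53 t60 t62 t54 t63 t64 t55 t65 t67 t66 t68 t69 t70 t71 : K) : Γ :=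
  R.X36 t36 * (R.X37 t37 * (R.X39 t39 * (R.X42 t42 * (R.X46 t46 * (R.X56 t56 * (R.X38 t38 * (R.X40 t40 * (R.X43 t43 * (R.X47 t47 * (R.X57 t57 * (R.X41 t41 * (R.X44 t44 * (R.X48 t48 * (R.X50 t50 * (R.X58 t58 * (R.X45 t45 * (R.X49 t49 * (R.X51 t51 * (R.X59 t59 * (R.X61 t61 * (R.X52 t52 * (R.X53 t53 * (R.X60 t60 * (R.X62 t62 * (R.X54 t54 * (R.X63 t63 * (R.X64 t64 * (R.X55 t55 * (R.X65 t65 * (R.X67 t67 * (R.X66 t66 * (R.X68 t68 * (R.X69 t69 * (R.X70 t70 * (R.X71 t71)))))))))))))))))))))))))))))))))))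

section char2

variable [CharP K 2]

theorem inv36 (w : K) : (R.X36 w)⁻¹ = R.X36 w := by
  rw [inv_eq_iff_mul_eq_one, ← R.add36, CharTwo.add_self_eq_zero, R.zero36]

theorem inv37 (w : K) : (R.X37 w)⁻¹ = R.X37 w := by
  rw [inv_eq_iff_mul_eq_one, ← R.add37, CharTwo.add_self_eq_zero, R.zero37]

theorem inv39 (w : K) : (R.X39 w)⁻¹ = R.X39 w := by
  rw [inv_eq_iff_mul_eq_one, ← R.add39, CharTwo.add_self_eq_zero, R.zero39]

theorem inv42 (w : K) : (R.X42 w)⁻¹ = R.X42 w := by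
  rw [inv_eq_iff_mul_eq_one, ← R.add42, CharTwo.add_self_eq_zero, R.zero42]

theorem inv46 (w : K) : (R.X46 w)⁻¹ = R.X46 w := by
  rw [inv_eq_iff_mul_eq_one, ← R.add46, CharTwo.add_self_eq_zero, R.zero46]

theorem inv56 (w : K) : (R.X56 w)⁻¹ = R.X56 w := by
  rw [inv_eq_iff_mul_eq_one, ← R.add56, CharTwo.add_self_eq_zero, R.zero56]

theorem inv38 (w : K) : (R.X38 w)⁻¹ = R.X38 w := by
  rw [inv_eq_iff_mul_eq_one, ← R.add38, CharTwo.add_self_eq_zero, R.zero38]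

theorem inv40 (w : K) : (R.X40 w)⁻¹ = R.X40 w := by
  rw [inv_eq_iff_mul_eq_one, ← R.add40, CharTwo.add_self_eq_zero, R.zero40]

theorem inv43 (w : K) : (R.X43 w)⁻¹ = R.X43 w := by
  rw [inv_eq_iff_mul_eq_one, ← R.add43, CharTwo.add_self_eq_zero, R.zero43]

theorem inv47 (w : K) : (R.X47 w)⁻¹ = R.X47 w := by
  rw [inv_eq_iff_mul_eq_one, ← R.add47, CharTwo.add_self_eq_zero, R.zero47]

theorem inv57 (w : K) : (R.X57 w)⁻¹ = R.X57 w := by
  rw [inv_eq_iff_mul_eq_one, ← R.add57, CharTwo.add_self_eq_zero, R.zero57]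

theorem inv41 (w : K) : (R.X41 w)⁻¹ = R.X41 w := by
  rw [inv_eq_iff_mul_eq_one, ← R.add41, CharTwo.add_self_eq_zero, R.zero41]

theorem inv44 (w : K) : (R.X44 w)⁻¹ = R.X44 w := by
  rw [inv_eq_iff_mul_eq_one, ← R.add44, CharTwo.add_self_eq_zero, R.zero44]

theorem inv48 (w : K) : (R.X48 w)⁻¹ = R.X48 w := by
  rw [inv_eq_iff_mul_eq_one, ← R.add48, CharTwo.add_self_eq_zero, R.zero48]

theorem inv50 (w : K) : (R.X50 w)⁻¹ = R.X50 w := by
  rw [inv_eq_iff_mul_eq_one, ← R.add50, CharTwo.add_self_eq_zero, R.zero50]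

theorem inv58 (w : K) : (R.X58 w)⁻¹ = R.X58 w := by
  rw [inv_eq_iff_mul_eq_one, ← R.add58, CharTwo.add_self_eq_zero, R.zero58]

theorem inv45 (w : K) : (R.X45 w)⁻¹ = R.X45 w := by
  rw [inv_eq_iff_mul_eq_one, ← R.add45, CharTwo.add_self_eq_zero, R.zero45]

theorem inv49 (w : K) : (R.X49 w)⁻¹ = R.X49 w := by
  rw [inv_eq_iff_mul_eq_one, ← R.add49, CharTwo.add_self_eq_zero, R.zero49]

theorem inv51 (w : K) : (R.X51 w)⁻¹ = R.X51 w := by
  rw [inv_eq_iff_mul_eq_one, ← R.add51, CharTwo.add_self_eq_zero, R.zero51]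

theorem inv59 (w : K) : (R.X59 w)⁻¹ = R.X59 w := by
  rw [inv_eq_iff_mul_eq_one, ← R.add59, CharTwo.add_self_eq_zero, R.zero59]

theorem inv61 (w : K) : (R.X61 w)⁻¹ = R.X61 w := by
  rw [inv_eq_iff_mul_eq_one, ← R.add61, CharTwo.add_self_eq_zero, R.zero61]

theorem inv52 (w : K) : (R.X52 w)⁻¹ = R.X52 w := by
  rw [inv_eq_iff_mul_eq_one, ← R.add52, CharTwo.add_self_eq_zero, R.zero52]

theorem inv53 (w : K) : (R.X53 w)⁻¹ = R.X53 w := by
  rw [inv_eq_iff_mul_eq_one, ← R.add53, CharTwo.add_self_eq_zero, R.zero53]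

theorem inv60 (w : K) : (R.X60 w)⁻¹ = R.X60 w := by
  rw [inv_eq_iff_mul_eq_one, ← R.add60, CharTwo.add_self_eq_zero, R.zero60]

theorem inv62 (w : K) : (R.X62 w)⁻¹ = R.X62 w := by
  rw [inv_eq_iff_mul_eq_one, ← R.add62, CharTwo.add_self_eq_zero, R.zero62]

theorem inv54 (w : K) : (R.X54 w)⁻¹ = R.X54 w := by
  rw [inv_eq_iff_mul_eq_one, ← R.add54, CharTwo.add_self_eq_zero, R.zero54]

theorem inv63 (w : K) : (R.X63 w)⁻¹ = R.X63 w := by
  rw [inv_eq_iff_mul_eq_one, ← R.add63, CharTwo.add_self_eq_zero, R.zero63]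

theorem inv64 (w : K) : (R.X64 w)⁻¹ = R.X64 w := by
  rw [inv_eq_iff_mul_eq_one, ← R.add64, CharTwo.add_self_eq_zero, R.zero64]

theorem inv55 (w : K) : (R.X55 w)⁻¹ = R.X55 w := by
  rw [inv_eq_iff_mul_eq_one, ← R.add55, CharTwo.add_self_eq_zero, R.zero55]

theorem inv65 (w : K) : (R.X65 w)⁻¹ = R.X65 w := by
  rw [inv_eq_iff_mul_eq_one, ← R.add65, CharTwo.add_self_eq_zero, R.zero65]

theorem inv67 (w : K) : (R.X67 w)⁻¹ = R.X67 w := by
  rw [inv_eq_iff_mul_eq_one, ← R.add67, CharTwo.add_self_eq_zero, R.zero67]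

theorem inv66 (w : K) : (R.X66 w)⁻¹ = R.X66 w := by
  rw [inv_eq_iff_mul_eq_one, ← R.add66, CharTwo.add_self_eq_zero, R.zero66]

theorem inv68 (w : K) : (R.X68 w)⁻¹ = R.X68 w := by
  rw [inv_eq_iff_mul_eq_one, ← R.add68, CharTwo.add_self_eq_zero, R.zero68]

theorem inv69 (w : K) : (R.X69 w)⁻¹ = R.X69 w := by
  rw [inv_eq_iff_mul_eq_one, ← R.add69, CharTwo.add_self_eq_zero, R.zero69]

theorem inv70 (w : K) : (R.X70 w)⁻¹ = R.X70 w := by
  rw [inv_eq_iff_mul_eq_one, ← R.add70, CharTwo.add_self_eq_zero, R.zero70]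

theorem inv71 (w : K) : (R.X71 w)⁻¹ = R.X71 w := by
  rw [inv_eq_iff_mul_eq_one, ← R.add71, CharTwo.add_self_eq_zero, R.zero71]

end char2

end RelE6

end Cfsg.Agent.Helper4.E6Inv
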