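import Cfsg.Agent.Helper4.E6Inv.Abs

/-! Generated: the ordered product of root elements of `E₆` at zero, and congruence. -/

set_option autoImplicit false
set_option maxHeartbeats 4000000
set_option maxRecDepth 100000

namespace Cfsg.Agent.Helper4.E6Inv

variable {K Γ : Type*} [Field K] [Group Γ] (R : RelE6 K Γ)

namespace RelE6

theorem RNF_zeros : R.RNF 0 0 0 0 0 0 0 0 0 0 0 0 0 0 0 0 0 0 0 0 0 0 0 0 0 0 0 0 0 0 0 0 0 0 0 0 = 1 := by
  unfold RNF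
  simp only [R.zero36, R.zero37, R.zero39, R.zero42, R.zero46, R.zero56, R.zero38, R.zero40, R.zero43, R.zero47, R.zero57, R.zero41, R.zero44, R.zero48, R.zero50, R.zero58, R.zero45, R.zero49, R.zero51, R.zero59, R.zero61, R.zero52, R.zero53, R.zero60, R.zero62, R.zero54, R.zero63, R.zero64, R.zero55, R.zero65, R.zero67, R.zero66, R.zero68, R.zero69, R.zero70, R.zero71, mul_one]

theorem RNF_congr {a36 a37 a39 a42 a46 a56 a38 a40 a43 a47 a57 a41 a44 a48 a50 a58 a45 a49 a51 a59 a61 a52 a53 a60 a62 a54 a63 a64 a55 a65 a67 a66 a68 a69 a70 a71 b36 b37 b39 b42 b46 b56 b38 b40 b43 b47 b57 b41 b44 b48 b50 b58 b45 b49 b51 b59 b61 b52 b53 b60 b62 b54 b63 b64 b55 b65 b67 b66 b68 b69 b70 b71 : K}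
    (h36 : a36 = b36) (h37 : a37 = b37) (h39 : a39 = b39) (h42 : a42 = b42) (h46 : a46 = b46) (h56 : a56 = b56) (h38 : a38 = b38) (h40 : a40 = b40) (h43 : a43 = b43) (h47 : a47 = b47) (h57 : a57 = b57) (h41 : a41 = b41) (h44 : a44 = b44) (h48 : a48 = b48) (h50 : a50 = b50) (h58 : a58 = b58) (h45 : a45 = b45) (h49 : a49 = b49) (h51 : a51 = b51) (h59 : a59 = b59) (h61 : a61 = b61) (h52 : a52 = b52) (h53 : a53 = b53) (h60 : a60 = b60) (h62 : a62 = b62) (h54 : a54 = b54) (h63 : a63 = b63) (h64 : a64 = b64) (h55 : a55 = b55) (h65 : a65 = b65) (h67 : a67 = b67) (h66 : a66 = b66) (h68 : a68 = b68) (h69 : a69 = b69) (h70 : a70 = b70) (h71 : a71 = b71) :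
    R.RNF a36 a37 a39 a42 a46 a56 a38 a40 a43 a47 a57 a41 a44 a48 a50 a58 a45 a49 a51 a59 a61 a52 a53 a60 a62 a54 a63 a64 a55 a65 a67 a66 a68 a69 a70 a71 = R.RNF b36 b37 b39 b42 b46 b56 b38 b40 b43 b47 b57 b41 b44 b48 b50 b58 b45 b49 b51 b59 b61 b52 b53 b60 b62 b54 b63 b64 b55 b65 b67 b66 b68 b69 b70 b71 := by
  subst h36 h37 h39 h42 h46 h56 h38 h40 h43 h47 h57 h41 h44 h48 h50 h58 h45 h49 h51 h59 h61 h52 h53 h60 h62 h54 h63 h64 h55 h65 h67 h66 h68 h69 h70 h71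
  rfl

end RelE6

end Cfsg.Agent.Helper4.E6Inv
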