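import Cfsg.Agent.Helper4.E6Inv.Abs
import Cfsg.Agent.Helper18.Core
import Cfsg.Agent.Helper18.Graded
import Cfsg.Agent.S1025

/-!
The positive root elements of `E₆(K)`, `char K = 2`, satisfy the abstract relations of
`Cfsg.Agent.Helper4.E6Inv.RelE6`.  (Generated.)
-/

set_option autoImplicit false
set_option maxRecDepth 100000

namespace Cfsg.Agent.Helper4.E6Inv

open Cfsg Cfsg.Lie Cfsg.Agent.Helper18

variable {K : Type*} [Field K]

theorem hE6 : chevE6 ∈ [chevG2, chevB2, chevD4, chevF4, chevE6, chevE7, chevE8] := by simp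

/-- the commutator formula in `GL` -/
theorem comm_GL (r s : ℕ) (hr : r < 72) (hs : s < 72) (h1 : s ≠ r) (h2 : s ≠ chevE6.neg r) (t u : K) :
    xGL chevE6 K s u * xGL chevE6 K r t =
      xGL chevE6 K r t * xGL chevE6 K s u * wordGL chevE6 K (chevE6.commWord K r s t u) := by
  have htri := triOK_of_mem chevE6 hE6
  apply Units.ext
  simp only [Units.val_mul, xGL_val chevE6 _ htri, wordGL_val chevE6 _ htri]
  exact Cfsg.Agent.S1025.result chevE6 hE6 r s hr hs h1 h2 t u

/-- pairs with no commutator term -/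
def pairs0 : List (ℕ × ℕ) :=
  [(36, 39), (36, 42), (36, 46), (36, 56), (36, 38), (36, 43), (36, 47), (36, 57), (36, 41), (36, 50), (36, 58), (36, 45), (36, 49), (36, 61), (36, 52), (36, 60), (36, 54), (36, 63), (36, 55), (36, 65), (36, 66), (36, 68), (36, 69), (36, 70), (36, 71), (37, 42), (37, 46), (37, 56), (37, 38), (37, 40), (37, 57), (37, 41), (37, 44), (37, 48), (37, 45), (37, 49), (37, 51), (37, 59), (37, 52), (37, 53), (37, 60), (37, 62), (37, 63), (37, 64), (37, 55), (37, 67), (37, 66), (37, 69), (37, 70), (37, 71), (39, 56), (39, 40), (39, 43), (39, 47), (39, 41), (39, 44), (39, 48), (39, 50), (39, 58), (39, 45), (39, 49), (39, 59), (39, 61), (39, 53), (39, 60), (39, 54), (39, 64), (39, 55), (39, 65), (39, 67), (39, 66), (39, 68), (39, 70), (39, 71), (42, 46), (42, 38), (42, 43), (42, 57), (42, 44), (42, 50), (42, 58), (42, 45), (42, 51), (42, 59), (42, 61), (42, 52), (42, 53), (42, 60), (42, 62), (42, 54), (42, 63), (42, 55), (42, 67), (42, 68), (42,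 69), (42, 70), (42, 71), (46, 56), (46, 38), (46, 47), (46, 57), (46, 48), (46, 50), (46, 49), (46, 51), (46, 61), (46, 52), (46, 53), (46, 62), (46, 54), (46, 63), (46, 64), (46, 55), (46, 65), (46, 67), (46, 66), (46, 68), (46, 69), (46, 71), (56, 38), (56, 40), (56, 47), (56, 57), (56, 41), (56, 48), (56, 58), (56, 49), (56, 59), (56, 61), (56, 60), (56, 62), (56, 63), (56, 64), (56, 65), (56, 67), (56, 66), (56, 68), (56, 69), (56, 70), (56, 71), (38, 40), (38, 57), (38, 41), (38, 44), (38, 48), (38, 45), (38, 49), (38, 51), (38, 59), (38, 52), (38, 60), (38, 62), (38, 54), (38, 63), (38, 55), (38, 65), (38, 66), (38, 68), (38, 69), (38, 70), (38, 71), (40, 43), (40, 47), (40, 41), (40, 44), (40, 48), (40, 58), (40, 45), (40, 49), (40, 51), (40, 59), (40, 53), (40, 60), (40, 62), (40, 54), (40, 64), (40, 55), (40, 65), (40, 67), (40, 66), (40, 69), (40, 70), (40, 71), (43, 47), (43, 57), (43, 41), (43, 44), (43, 50), (43, 58), (43, 45), (43, 51), (43, 59), (43,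 61), (43, 52), (43, 53), (43, 60), (43, 54), (43, 64), (43, 55), (43, 65), (43, 67), (43, 68), (43, 69), (43, 70), (43, 71), (47, 41), (47, 48), (47, 50), (47, 58), (47, 49), (47, 51), (47, 61), (47, 52), (47, 53), (47, 62), (47, 54), (47, 63), (47, 64), (47, 55), (47, 65), (47, 67), (47, 66), (47, 68), (47, 70), (47, 71), (57, 44), (57, 50), (57, 58), (57, 45), (57, 51), (57, 59), (57, 61), (57, 52), (57, 60), (57, 62), (57, 63), (57, 64), (57, 65), (57, 67), (57, 66), (57, 68), (57, 69), (57, 70), (57, 71), (41, 44), (41, 48), (41, 58), (41, 45), (41, 49), (41, 59), (41, 52), (41, 53), (41, 60), (41, 54), (41, 63), (41, 64), (41, 55), (41, 65), (41, 66), (41, 68), (41, 69), (41, 70), (41, 71), (44, 48), (44, 50), (44, 58), (44, 45), (44, 51), (44, 59), (44, 52), (44, 53), (44, 60), (44, 62), (44, 54), (44, 64), (44, 55), (44, 67), (44, 66), (44, 68), (44, 69), (44, 70), (44, 71), (48, 50), (48, 49), (48, 51), (48, 59), (48, 61), (48, 52), (48, 53), (48, 62), (48,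 54), (48, 63), (48, 64), (48, 55), (48, 65), (48, 67), (48, 66), (48, 69), (48, 70), (48, 71), (50, 58), (50, 45), (50, 49), (50, 51), (50, 61), (50, 52), (50, 53), (50, 62), (50, 54), (50, 63), (50, 64), (50, 55), (50, 65), (50, 67), (50, 68), (50, 69), (50, 70), (50, 71), (58, 45), (58, 59), (58, 61), (58, 53), (58, 60), (58, 62), (58, 54), (58, 63), (58, 64), (58, 65), (58, 67), (58, 66), (58, 68), (58, 69), (58, 70), (58, 71), (45, 49), (45, 51), (45, 59), (45, 52), (45, 53), (45, 60), (45, 54), (45, 63), (45, 55), (45, 65), (45, 67), (45, 66), (45, 68), (45, 69), (45, 70), (45, 71), (49, 51), (49, 61), (49, 52), (49, 53), (49, 60), (49, 62), (49, 54), (49, 63), (49, 64), (49, 55), (49, 65), (49, 66), (49, 68), (49, 69), (49, 70), (49, 71), (51, 59), (51, 61), (51, 52), (51, 53), (51, 62), (51, 54), (51, 63), (51, 64), (51, 55), (51, 67), (51, 66), (51, 68), (51, 69), (51, 70), (51, 71), (59, 61), (59, 53), (59, 60), (59, 62), (59, 63), (59, 64), (59, 55), (59,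 65), (59, 67), (59, 66), (59, 68), (59, 69), (59, 70), (59, 71), (61, 52), (61, 53), (61, 60), (61, 62), (61, 54), (61, 63), (61, 64), (61, 65), (61, 67), (61, 66), (61, 68), (61, 69), (61, 70), (61, 71), (52, 53), (52, 60), (52, 62), (52, 54), (52, 63), (52, 55), (52, 65), (52, 67), (52, 66), (52, 68), (52, 69), (52, 70), (52, 71), (53, 62), (53, 54), (53, 64), (53, 55), (53, 65), (53, 67), (53, 66), (53, 68), (53, 69), (53, 70), (53, 71), (60, 62), (60, 54), (60, 63), (60, 64), (60, 55), (60, 65), (60, 67), (60, 66), (60, 68), (60, 69), (60, 70), (60, 71), (62, 63), (62, 64), (62, 55), (62, 65), (62, 67), (62, 66), (62, 68), (62, 69), (62, 70), (62, 71), (54, 63), (54, 64), (54, 55), (54, 65), (54, 67), (54, 66), (54, 68), (54, 69), (54, 70), (54, 71), (63, 64), (63, 55), (63, 65), (63, 67), (63, 66), (63, 68), (63, 69), (63, 70), (63, 71), (64, 55), (64, 65), (64, 67), (64, 66), (64, 68), (64, 69), (64, 70), (64, 71), (55, 65), (55, 67), (55, 66), (55, 68), (55,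 69), (55, 70), (55, 71), (65, 67), (65, 66), (65, 68), (65, 69), (65, 70), (65, 71), (67, 66), (67, 68), (67, 69), (67, 70), (67, 71), (66, 68), (66, 69), (66, 70), (66, 71), (68, 69), (68, 70), (68, 71), (69, 70), (69, 71), (70, 71)]

/-- pairs `(r, s, r + s, N)` with one term -/
def pairs1 : List (ℕ × ℕ × ℕ × ℤ) :=
  [(36, 37, 38, 1), (36, 40, 41, 1), (36, 44, 45, 1), (36, 48, 49, 1), (36, 51, 52, 1), (36, 59, 60, 1), (36, 53, 54, 1), (36, 62, 63, 1), (36, 64, 65, 1), (36, 67, 68, 1), (37, 39, 40, 1), (37, 43, 44, 1), (37, 47, 48, 1), (37, 50, 51, 1), (37, 58, 59, 1), (37, 61, 62, 1), (37, 54, 55, 1), (37, 65, 66, 1), (37, 68, 69, 1), (39, 42, 43, 1), (39, 46, 47, 1), (39, 38, 41, -1), (39, 57, 58, 1), (39, 51, 53, 1), (39, 52, 54, 1), (39, 62, 64, 1), (39, 63, 65, 1), (39, 69, 70, 1), (42, 56, 57, 1), (42, 40, 44, -1), (42, 47, 50, 1), (42, 41, 45, -1), (42, 48, 51, 1), (42, 49, 52, 1), (42, 64, 67, 1), (42, 65, 68, 1), (42, 66, 69, 1), (46, 40, 48, -1), (46,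 43, 50, 1), (46, 41, 49, -1), (46, 44, 51, 1), (46, 58, 61, 1), (46, 45, 52, 1), (46, 59, 62, 1), (46, 60, 63, 1), (46, 70, 71, 1), (56, 43, 58, -1), (56, 44, 59, -1), (56, 50, 61, -1), (56, 45, 60, -1), (56, 51, 62, -1), (56, 52, 63, -1), (56, 53, 64, -1), (56, 54, 65, -1), (56, 55, 66, -1), (38, 43, 45, 1), (38, 47, 49, 1), (38, 50, 52, 1), (38, 58, 60, 1), (38, 61, 63, 1), (38, 53, 55, -1), (38, 64, 66, -1), (38, 67, 69, -1), (40, 57, 59, 1), (40, 50, 53, -1), (40, 61, 64, -1), (40, 52, 55, 1), (40, 63, 66, 1), (40, 68, 70, -1), (43, 48, 53, 1), (43, 49, 54, 1), (43, 62, 67, -1), (43, 63, 68, -1), (43, 66, 70, 1), (47, 57, 61, -1), (47, 44, 53, 1), (47, 45, 54, 1), (47, 59, 64, 1), (47, 60, 65, 1), (47, 69, 71, -1), (57, 41, 60, -1), (57, 48, 62, 1), (57, 49, 63, 1), (57, 53, 67, -1), (57, 54, 68, -1), (57, 55, 69, -1), (41, 50, 54, -1), (41, 51, 55, -1), (41, 61, 65, -1), (41, 62, 66, -1), (41, 67, 70, 1), (44, 49, 55, 1), (44, 61, 67, 1), (44, 63, 69, -1), (44,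 65, 70, -1), (48, 58, 64, -1), (48, 45, 55, 1), (48, 60, 66, 1), (48, 68, 71, 1), (50, 59, 67, 1), (50, 60, 68, 1), (50, 66, 71, 1), (58, 49, 65, 1), (58, 51, 67, 1), (58, 52, 68, 1), (58, 55, 70, -1), (45, 61, 68, 1), (45, 62, 69, 1), (45, 64, 70, 1), (49, 59, 66, -1), (49, 67, 71, -1), (51, 60, 69, 1), (51, 65, 71, -1), (59, 52, 69, 1), (59, 54, 70, 1), (61, 55, 71, -1), (52, 64, 71, 1), (53, 60, 70, 1), (53, 63, 71, 1), (62, 54, 71, 1)]

theorem ct0 : ∀ p ∈ pairs0, chevE6.commTerms p.1 p.2 = [] ∧ p.1 < 72 ∧ p.2 < 72 ∧ p.2 ≠ p.1 ∧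
    p.2 ≠ chevE6.neg p.1 := by decide +kernel

theorem ct1 : ∀ p ∈ pairs1, chevE6.commTerms p.1 p.2.1 = [(p.2.2.1, p.2.2.2, 1, 1)] ∧ p.1 < 72 ∧ p.2.1 < 72 ∧
    p.2.1 ≠ p.1 ∧ p.2.1 ≠ chevE6.neg p.1 ∧ (p.2.2.2 = 1 ∨ p.2.2.2 = -1) := by decide +kernel

theorem xg_add (r : ℕ) (s t : K) : xGL chevE6 K r (s + t) = xGL chevE6 K r s * xGL chevE6 K r t :=
  (xGL_mul_add chevE6 hE6 r s t).symm

theorem xg_zero (r : ℕ) : xGL chevE6 K r 0 = 1 := by
  have := xg_add (K := K) r 0 0
  rw [add_zero] at this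
  exact (mul_eq_left.mp this.symm)

section char2

variable [CharP K 2]

omit [CharP K 2] in
theorem rel0 (r s : ℕ) (h : (r, s) ∈ pairs0) (t u : K) :
    xGL chevE6 K s u * xGL chevE6 K r t = xGL chevE6 K r t * xGL chevE6 K s u := by
  obtain ⟨hct, hr, hs, h1, h2⟩ := ct0 _ h
  rw [comm_GL r s hr hs h1 h2 t u]
  unfold ChevalleyDatum.commWord
  simp only at hct
  rw [hct]
  simp [wordGL]

theorem cast_odd (ε : ℤ) (h : ε = 1 ∨ ε = -1) : ((ε : ℤ) : K) = 1 := by
  rcases h with h | h
  · rw [h]; simp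
  · rw [h]; simp [CharTwo.neg_eq]

theorem rel1 (r s m : ℕ) (ε : ℤ) (h : (r, s, m, ε) ∈ pairs1) (t u : K) :
    xGL chevE6 K s u * xGL chevE6 K r t = xGL chevE6 K r t * xGL chevE6 K s u * xGL chevE6 K m (t * u) := by
  obtain ⟨hct, hr, hs, h1, h2, hε⟩ := ct1 _ h
  rw [comm_GL r s hr hs h1 h2 t u]
  unfold ChevalleyDatum.commWord
  simp only at hct hε
  rw [hct]
  have e : ((ε : ℤ) : K) * (-t) ^ 1 * u ^ 1 = t * u := by
    rw [cast_odd ε hε]; simp [CharTwo.neg_eq]
  simp only [wordGL, List.map_cons, List.map_nil, List.prod_cons, List.prod_nil, mul_one, e]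

set_option maxHeartbeats 20000000 in
/-- the abstract relations hold in `E₆(K)` -/
noncomputable def e6Rel : RelE6 K (GL chevE6.Idx K) where
  X36 := xGL chevE6 K 36
  X37 := xGL chevE6 K 37
  X39 := xGL chevE6 K 39
  X42 := xGL chevE6 K 42
  X46 := xGL chevE6 K 46
  X56 := xGL chevE6 K 56
  X38 := xGL chevE6 K 38
  X40 := xGL chevE6 K 40
  X43 := xGL chevE6 K 43
  X47 := xGL chevE6 K 47
  X57 := xGL chevE6 K 57
  X41 := xGL chevE6 K 41
  X44 := xGL chevE6 K 44
  X48 := xGL chevE6 K 48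
  X50 := xGL chevE6 K 50
  X58 := xGL chevE6 K 58
  X45 := xGL chevE6 K 45
  X49 := xGL chevE6 K 49
  X51 := xGL chevE6 K 51
  X59 := xGL chevE6 K 59
  X61 := xGL chevE6 K 61
  X52 := xGL chevE6 K 52
  X53 := xGL chevE6 K 53
  X60 := xGL chevE6 K 60
  X62 := xGL chevE6 K 62
  X54 := xGL chevE6 K 54
  X63 := xGL chevE6 K 63
  X64 := xGL chevE6 K 64
  X55 := xGL chevE6 K 55
  X65 := xGL chevE6 K 65
  X67 := xGL chevE6 K 67
  X66 := xGL chevE6 K 66
  X68 := xGL chevE6 K 68
  X69 := xGL chevE6 K 69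
  X70 := xGL chevE6 K 70
  X71 := xGL chevE6 K 71
  add36 := xg_add 36
  add37 := xg_add 37
  add39 := xg_add 39
  add42 := xg_add 42
  add46 := xg_add 46
  add56 := xg_add 56
  add38 := xg_add 38
  add40 := xg_add 40
  add43 := xg_add 43
  add47 := xg_add 47
  add57 := xg_add 57
  add41 := xg_add 41
  add44 := xg_add 44
  add48 := xg_add 48
  add50 := xg_add 50
  add58 := xg_add 58
  add45 := xg_add 45
  add49 := xg_add 49
  add51 := xg_add 51
  add59 := xg_add 59
  add61 := xg_add 61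
  add52 := xg_add 52
  add53 := xg_add 53
  add60 := xg_add 60
  add62 := xg_add 62
  add54 := xg_add 54
  add63 := xg_add 63
  add64 := xg_add 64
  add55 := xg_add 55
  add65 := xg_add 65
  add67 := xg_add 67
  add66 := xg_add 66
  add68 := xg_add 68
  add69 := xg_add 69
  add70 := xg_add 70
  add71 := xg_add 71
  r36_37 := rel1 36 37 38 (1) (by decide)
  c36_39 := rel0 36 39 (by decide)
  c36_42 := rel0 36 42 (by decide)
  c36_46 := rel0 36 46 (by decide)
  c36_56 := rel0 36 56 (by decide)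
  c36_38 := rel0 36 38 (by decide)
  r36_40 := rel1 36 40 41 (1) (by decide)
  c36_43 := rel0 36 43 (by decide)
  c36_47 := rel0 36 47 (by decide)
  c36_57 := rel0 36 57 (by decide)
  c36_41 := rel0 36 41 (by decide)
  r36_44 := rel1 36 44 45 (1) (by decide)
  r36_48 := rel1 36 48 49 (1) (by decide)
  c36_50 := rel0 36 50 (by decide)
  c36_58 := rel0 36 58 (by decide)
  c36_45 := rel0 36 45 (by decide)
  c36_49 := rel0 36 49 (by decide)
  r36_51 := rel1 36 51 52 (1) (by decide)
  r36_59 := rel1 36 59 60 (1) (by decide)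
  c36_61 := rel0 36 61 (by decide)
  c36_52 := rel0 36 52 (by decide)
  r36_53 := rel1 36 53 54 (1) (by decide)
  c36_60 := rel0 36 60 (by decide)
  r36_62 := rel1 36 62 63 (1) (by decide)
  c36_54 := rel0 36 54 (by decide)
  c36_63 := rel0 36 63 (by decide)
  r36_64 := rel1 36 64 65 (1) (by decide)
  c36_55 := rel0 36 55 (by decide)
  c36_65 := rel0 36 65 (by decide)
  r36_67 := rel1 36 67 68 (1) (by decide)
  c36_66 := rel0 36 66 (by decide)
  c36_68 := rel0 36 68 (by decide)
  c36_69 := rel0 36 69 (by decide)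
  c36_70 := rel0 36 70 (by decide)
  c36_71 := rel0 36 71 (by decide)
  r37_39 := rel1 37 39 40 (1) (by decide)
  c37_42 := rel0 37 42 (by decide)
  c37_46 := rel0 37 46 (by decide)
  c37_56 := rel0 37 56 (by decide)
  c37_38 := rel0 37 38 (by decide)
  c37_40 := rel0 37 40 (by decide)
  r37_43 := rel1 37 43 44 (1) (by decide)
  r37_47 := rel1 37 47 48 (1) (by decide)
  c37_57 := rel0 37 57 (by decide)
  c37_41 := rel0 37 41 (by decide)
  c37_44 := rel0 37 44 (by decide)
  c37_48 := rel0 37 48 (by decide)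
  r37_50 := rel1 37 50 51 (1) (by decide)
  r37_58 := rel1 37 58 59 (1) (by decide)
  c37_45 := rel0 37 45 (by decide)
  c37_49 := rel0 37 49 (by decide)
  c37_51 := rel0 37 51 (by decide)
  c37_59 := rel0 37 59 (by decide)
  r37_61 := rel1 37 61 62 (1) (by decide)
  c37_52 := rel0 37 52 (by decide)
  c37_53 := rel0 37 53 (by decide)
  c37_60 := rel0 37 60 (by decide)
  c37_62 := rel0 37 62 (by decide)
  r37_54 := rel1 37 54 55 (1) (by decide)
  c37_63 := rel0 37 63 (by decide)
  c37_64 := rel0 37 64 (by decide)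
  c37_55 := rel0 37 55 (by decide)
  r37_65 := rel1 37 65 66 (1) (by decide)
  c37_67 := rel0 37 67 (by decide)
  c37_66 := rel0 37 66 (by decide)
  r37_68 := rel1 37 68 69 (1) (by decide)
  c37_69 := rel0 37 69 (by decide)
  c37_70 := rel0 37 70 (by decide)
  c37_71 := rel0 37 71 (by decide)
  r39_42 := rel1 39 42 43 (1) (by decide)
  r39_46 := rel1 39 46 47 (1) (by decide)
  c39_56 := rel0 39 56 (by decide)
  r39_38 := rel1 39 38 41 (-1) (by decide)
  c39_40 := rel0 39 40 (by decide)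
  c39_43 := rel0 39 43 (by decide)
  c39_47 := rel0 39 47 (by decide)
  r39_57 := rel1 39 57 58 (1) (by decide)
  c39_41 := rel0 39 41 (by decide)
  c39_44 := rel0 39 44 (by decide)
  c39_48 := rel0 39 48 (by decide)
  c39_50 := rel0 39 50 (by decide)
  c39_58 := rel0 39 58 (by decide)
  c39_45 := rel0 39 45 (by decide)
  c39_49 := rel0 39 49 (by decide)
  r39_51 := rel1 39 51 53 (1) (by decide)
  c39_59 := rel0 39 59 (by decide)
  c39_61 := rel0 39 61 (by decide)
  r39_52 := rel1 39 52 54 (1) (by decide)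
  c39_53 := rel0 39 53 (by decide)
  c39_60 := rel0 39 60 (by decide)
  r39_62 := rel1 39 62 64 (1) (by decide)
  c39_54 := rel0 39 54 (by decide)
  r39_63 := rel1 39 63 65 (1) (by decide)
  c39_64 := rel0 39 64 (by decide)
  c39_55 := rel0 39 55 (by decide)
  c39_65 := rel0 39 65 (by decide)
  c39_67 := rel0 39 67 (by decide)
  c39_66 := rel0 39 66 (by decide)
  c39_68 := rel0 39 68 (by decide)
  r39_69 := rel1 39 69 70 (1) (by decide)
  c39_70 := rel0 39 70 (by decide)
  c39_71 := rel0 39 71 (by decide)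
  c42_46 := rel0 42 46 (by decide)
  r42_56 := rel1 42 56 57 (1) (by decide)
  c42_38 := rel0 42 38 (by decide)
  r42_40 := rel1 42 40 44 (-1) (by decide)
  c42_43 := rel0 42 43 (by decide)
  r42_47 := rel1 42 47 50 (1) (by decide)
  c42_57 := rel0 42 57 (by decide)
  r42_41 := rel1 42 41 45 (-1) (by decide)
  c42_44 := rel0 42 44 (by decide)
  r42_48 := rel1 42 48 51 (1) (by decide)
  c42_50 := rel0 42 50 (by decide)
  c42_58 := rel0 42 58 (by decide)
  c42_45 := rel0 42 45 (by decide)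
  r42_49 := rel1 42 49 52 (1) (by decide)
  c42_51 := rel0 42 51 (by decide)
  c42_59 := rel0 42 59 (by decide)
  c42_61 := rel0 42 61 (by decide)
  c42_52 := rel0 42 52 (by decide)
  c42_53 := rel0 42 53 (by decide)
  c42_60 := rel0 42 60 (by decide)
  c42_62 := rel0 42 62 (by decide)
  c42_54 := rel0 42 54 (by decide)
  c42_63 := rel0 42 63 (by decide)
  r42_64 := rel1 42 64 67 (1) (by decide)
  c42_55 := rel0 42 55 (by decide)
  r42_65 := rel1 42 65 68 (1) (by decide)
  c42_67 := rel0 42 67 (by decide)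
  r42_66 := rel1 42 66 69 (1) (by decide)
  c42_68 := rel0 42 68 (by decide)
  c42_69 := rel0 42 69 (by decide)
  c42_70 := rel0 42 70 (by decide)
  c42_71 := rel0 42 71 (by decide)
  c46_56 := rel0 46 56 (by decide)
  c46_38 := rel0 46 38 (by decide)
  r46_40 := rel1 46 40 48 (-1) (by decide)
  r46_43 := rel1 46 43 50 (1) (by decide)
  c46_47 := rel0 46 47 (by decide)
  c46_57 := rel0 46 57 (by decide)
  r46_41 := rel1 46 41 49 (-1) (by decide)
  r46_44 := rel1 46 44 51 (1) (by decide)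
  c46_48 := rel0 46 48 (by decide)
  c46_50 := rel0 46 50 (by decide)
  r46_58 := rel1 46 58 61 (1) (by decide)
  r46_45 := rel1 46 45 52 (1) (by decide)
  c46_49 := rel0 46 49 (by decide)
  c46_51 := rel0 46 51 (by decide)
  r46_59 := rel1 46 59 62 (1) (by decide)
  c46_61 := rel0 46 61 (by decide)
  c46_52 := rel0 46 52 (by decide)
  c46_53 := rel0 46 53 (by decide)
  r46_60 := rel1 46 60 63 (1) (by decide)
  c46_62 := rel0 46 62 (by decide)
  c46_54 := rel0 46 54 (by decide)
  c46_63 := rel0 46 63 (by decide)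
  c46_64 := rel0 46 64 (by decide)
  c46_55 := rel0 46 55 (by decide)
  c46_65 := rel0 46 65 (by decide)
  c46_67 := rel0 46 67 (by decide)
  c46_66 := rel0 46 66 (by decide)
  c46_68 := rel0 46 68 (by decide)
  c46_69 := rel0 46 69 (by decide)
  r46_70 := rel1 46 70 71 (1) (by decide)
  c46_71 := rel0 46 71 (by decide)
  c56_38 := rel0 56 38 (by decide)
  c56_40 := rel0 56 40 (by decide)
  r56_43 := rel1 56 43 58 (-1) (by decide)
  c56_47 := rel0 56 47 (by decide)
  c56_57 := rel0 56 57 (by decide)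
  c56_41 := rel0 56 41 (by decide)
  r56_44 := rel1 56 44 59 (-1) (by decide)
  c56_48 := rel0 56 48 (by decide)
  r56_50 := rel1 56 50 61 (-1) (by decide)
  c56_58 := rel0 56 58 (by decide)
  r56_45 := rel1 56 45 60 (-1) (by decide)
  c56_49 := rel0 56 49 (by decide)
  r56_51 := rel1 56 51 62 (-1) (by decide)
  c56_59 := rel0 56 59 (by decide)
  c56_61 := rel0 56 61 (by decide)
  r56_52 := rel1 56 52 63 (-1) (by decide)
  r56_53 := rel1 56 53 64 (-1) (by decide)
  c56_60 := rel0 56 60 (by decide)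
  c56_62 := rel0 56 62 (by decide)
  r56_54 := rel1 56 54 65 (-1) (by decide)
  c56_63 := rel0 56 63 (by decide)
  c56_64 := rel0 56 64 (by decide)
  r56_55 := rel1 56 55 66 (-1) (by decide)
  c56_65 := rel0 56 65 (by decide)
  c56_67 := rel0 56 67 (by decide)
  c56_66 := rel0 56 66 (by decide)
  c56_68 := rel0 56 68 (by decide)
  c56_69 := rel0 56 69 (by decide)
  c56_70 := rel0 56 70 (by decide)
  c56_71 := rel0 56 71 (by decide)
  c38_40 := rel0 38 40 (by decide)
  r38_43 := rel1 38 43 45 (1) (by decide)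
  r38_47 := rel1 38 47 49 (1) (by decide)
  c38_57 := rel0 38 57 (by decide)
  c38_41 := rel0 38 41 (by decide)
  c38_44 := rel0 38 44 (by decide)
  c38_48 := rel0 38 48 (by decide)
  r38_50 := rel1 38 50 52 (1) (by decide)
  r38_58 := rel1 38 58 60 (1) (by decide)
  c38_45 := rel0 38 45 (by decide)
  c38_49 := rel0 38 49 (by decide)
  c38_51 := rel0 38 51 (by decide)
  c38_59 := rel0 38 59 (by decide)
  r38_61 := rel1 38 61 63 (1) (by decide)
  c38_52 := rel0 38 52 (by decide)
  r38_53 := rel1 38 53 55 (-1) (by decide)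
  c38_60 := rel0 38 60 (by decide)
  c38_62 := rel0 38 62 (by decide)
  c38_54 := rel0 38 54 (by decide)
  c38_63 := rel0 38 63 (by decide)
  r38_64 := rel1 38 64 66 (-1) (by decide)
  c38_55 := rel0 38 55 (by decide)
  c38_65 := rel0 38 65 (by decide)
  r38_67 := rel1 38 67 69 (-1) (by decide)
  c38_66 := rel0 38 66 (by decide)
  c38_68 := rel0 38 68 (by decide)
  c38_69 := rel0 38 69 (by decide)
  c38_70 := rel0 38 70 (by decide)
  c38_71 := rel0 38 71 (by decide)
  c40_43 := rel0 40 43 (by decide)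
  c40_47 := rel0 40 47 (by decide)
  r40_57 := rel1 40 57 59 (1) (by decide)
  c40_41 := rel0 40 41 (by decide)
  c40_44 := rel0 40 44 (by decide)
  c40_48 := rel0 40 48 (by decide)
  r40_50 := rel1 40 50 53 (-1) (by decide)
  c40_58 := rel0 40 58 (by decide)
  c40_45 := rel0 40 45 (by decide)
  c40_49 := rel0 40 49 (by decide)
  c40_51 := rel0 40 51 (by decide)
  c40_59 := rel0 40 59 (by decide)
  r40_61 := rel1 40 61 64 (-1) (by decide)
  r40_52 := rel1 40 52 55 (1) (by decide)
  c40_53 := rel0 40 53 (by decide)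
  c40_60 := rel0 40 60 (by decide)
  c40_62 := rel0 40 62 (by decide)
  c40_54 := rel0 40 54 (by decide)
  r40_63 := rel1 40 63 66 (1) (by decide)
  c40_64 := rel0 40 64 (by decide)
  c40_55 := rel0 40 55 (by decide)
  c40_65 := rel0 40 65 (by decide)
  c40_67 := rel0 40 67 (by decide)
  c40_66 := rel0 40 66 (by decide)
  r40_68 := rel1 40 68 70 (-1) (by decide)
  c40_69 := rel0 40 69 (by decide)
  c40_70 := rel0 40 70 (by decide)
  c40_71 := rel0 40 71 (by decide)
  c43_47 := rel0 43 47 (by decide)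
  c43_57 := rel0 43 57 (by decide)
  c43_41 := rel0 43 41 (by decide)
  c43_44 := rel0 43 44 (by decide)
  r43_48 := rel1 43 48 53 (1) (by decide)
  c43_50 := rel0 43 50 (by decide)
  c43_58 := rel0 43 58 (by decide)
  c43_45 := rel0 43 45 (by decide)
  r43_49 := rel1 43 49 54 (1) (by decide)
  c43_51 := rel0 43 51 (by decide)
  c43_59 := rel0 43 59 (by decide)
  c43_61 := rel0 43 61 (by decide)
  c43_52 := rel0 43 52 (by decide)
  c43_53 := rel0 43 53 (by decide)
  c43_60 := rel0 43 60 (by decide)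
  r43_62 := rel1 43 62 67 (-1) (by decide)
  c43_54 := rel0 43 54 (by decide)
  r43_63 := rel1 43 63 68 (-1) (by decide)
  c43_64 := rel0 43 64 (by decide)
  c43_55 := rel0 43 55 (by decide)
  c43_65 := rel0 43 65 (by decide)
  c43_67 := rel0 43 67 (by decide)
  r43_66 := rel1 43 66 70 (1) (by decide)
  c43_68 := rel0 43 68 (by decide)
  c43_69 := rel0 43 69 (by decide)
  c43_70 := rel0 43 70 (by decide)
  c43_71 := rel0 43 71 (by decide)
  r47_57 := rel1 47 57 61 (-1) (by decide)
  c47_41 := rel0 47 41 (by decide)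
  r47_44 := rel1 47 44 53 (1) (by decide)
  c47_48 := rel0 47 48 (by decide)
  c47_50 := rel0 47 50 (by decide)
  c47_58 := rel0 47 58 (by decide)
  r47_45 := rel1 47 45 54 (1) (by decide)
  c47_49 := rel0 47 49 (by decide)
  c47_51 := rel0 47 51 (by decide)
  r47_59 := rel1 47 59 64 (1) (by decide)
  c47_61 := rel0 47 61 (by decide)
  c47_52 := rel0 47 52 (by decide)
  c47_53 := rel0 47 53 (by decide)
  r47_60 := rel1 47 60 65 (1) (by decide)
  c47_62 := rel0 47 62 (by decide)
  c47_54 := rel0 47 54 (by decide)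
  c47_63 := rel0 47 63 (by decide)
  c47_64 := rel0 47 64 (by decide)
  c47_55 := rel0 47 55 (by decide)
  c47_65 := rel0 47 65 (by decide)
  c47_67 := rel0 47 67 (by decide)
  c47_66 := rel0 47 66 (by decide)
  c47_68 := rel0 47 68 (by decide)
  r47_69 := rel1 47 69 71 (-1) (by decide)
  c47_70 := rel0 47 70 (by decide)
  c47_71 := rel0 47 71 (by decide)
  r57_41 := rel1 57 41 60 (-1) (by decide)
  c57_44 := rel0 57 44 (by decide)
  r57_48 := rel1 57 48 62 (1) (by decide)
  c57_50 := rel0 57 50 (by decide)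
  c57_58 := rel0 57 58 (by decide)
  c57_45 := rel0 57 45 (by decide)
  r57_49 := rel1 57 49 63 (1) (by decide)
  c57_51 := rel0 57 51 (by decide)
  c57_59 := rel0 57 59 (by decide)
  c57_61 := rel0 57 61 (by decide)
  c57_52 := rel0 57 52 (by decide)
  r57_53 := rel1 57 53 67 (-1) (by decide)
  c57_60 := rel0 57 60 (by decide)
  c57_62 := rel0 57 62 (by decide)
  r57_54 := rel1 57 54 68 (-1) (by decide)
  c57_63 := rel0 57 63 (by decide)
  c57_64 := rel0 57 64 (by decide)
  r57_55 := rel1 57 55 69 (-1) (by decide)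
  c57_65 := rel0 57 65 (by decide)
  c57_67 := rel0 57 67 (by decide)
  c57_66 := rel0 57 66 (by decide)
  c57_68 := rel0 57 68 (by decide)
  c57_69 := rel0 57 69 (by decide)
  c57_70 := rel0 57 70 (by decide)
  c57_71 := rel0 57 71 (by decide)
  c41_44 := rel0 41 44 (by decide)
  c41_48 := rel0 41 48 (by decide)
  r41_50 := rel1 41 50 54 (-1) (by decide)
  c41_58 := rel0 41 58 (by decide)
  c41_45 := rel0 41 45 (by decide)
  c41_49 := rel0 41 49 (by decide)
  r41_51 := rel1 41 51 55 (-1) (by decide)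
  c41_59 := rel0 41 59 (by decide)
  r41_61 := rel1 41 61 65 (-1) (by decide)
  c41_52 := rel0 41 52 (by decide)
  c41_53 := rel0 41 53 (by decide)
  c41_60 := rel0 41 60 (by decide)
  r41_62 := rel1 41 62 66 (-1) (by decide)
  c41_54 := rel0 41 54 (by decide)
  c41_63 := rel0 41 63 (by decide)
  c41_64 := rel0 41 64 (by decide)
  c41_55 := rel0 41 55 (by decide)
  c41_65 := rel0 41 65 (by decide)
  r41_67 := rel1 41 67 70 (1) (by decide)
  c41_66 := rel0 41 66 (by decide)
  c41_68 := rel0 41 68 (by decide)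
  c41_69 := rel0 41 69 (by decide)
  c41_70 := rel0 41 70 (by decide)
  c41_71 := rel0 41 71 (by decide)
  c44_48 := rel0 44 48 (by decide)
  c44_50 := rel0 44 50 (by decide)
  c44_58 := rel0 44 58 (by decide)
  c44_45 := rel0 44 45 (by decide)
  r44_49 := rel1 44 49 55 (1) (by decide)
  c44_51 := rel0 44 51 (by decide)
  c44_59 := rel0 44 59 (by decide)
  r44_61 := rel1 44 61 67 (1) (by decide)
  c44_52 := rel0 44 52 (by decide)
  c44_53 := rel0 44 53 (by decide)
  c44_60 := rel0 44 60 (by decide)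
  c44_62 := rel0 44 62 (by decide)
  c44_54 := rel0 44 54 (by decide)
  r44_63 := rel1 44 63 69 (-1) (by decide)
  c44_64 := rel0 44 64 (by decide)
  c44_55 := rel0 44 55 (by decide)
  r44_65 := rel1 44 65 70 (-1) (by decide)
  c44_67 := rel0 44 67 (by decide)
  c44_66 := rel0 44 66 (by decide)
  c44_68 := rel0 44 68 (by decide)
  c44_69 := rel0 44 69 (by decide)
  c44_70 := rel0 44 70 (by decide)
  c44_71 := rel0 44 71 (by decide)
  c48_50 := rel0 48 50 (by decide)
  r48_58 := rel1 48 58 64 (-1) (by decide)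
  r48_45 := rel1 48 45 55 (1) (by decide)
  c48_49 := rel0 48 49 (by decide)
  c48_51 := rel0 48 51 (by decide)
  c48_59 := rel0 48 59 (by decide)
  c48_61 := rel0 48 61 (by decide)
  c48_52 := rel0 48 52 (by decide)
  c48_53 := rel0 48 53 (by decide)
  r48_60 := rel1 48 60 66 (1) (by decide)
  c48_62 := rel0 48 62 (by decide)
  c48_54 := rel0 48 54 (by decide)
  c48_63 := rel0 48 63 (by decide)
  c48_64 := rel0 48 64 (by decide)
  c48_55 := rel0 48 55 (by decide)
  c48_65 := rel0 48 65 (by decide)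
  c48_67 := rel0 48 67 (by decide)
  c48_66 := rel0 48 66 (by decide)
  r48_68 := rel1 48 68 71 (1) (by decide)
  c48_69 := rel0 48 69 (by decide)
  c48_70 := rel0 48 70 (by decide)
  c48_71 := rel0 48 71 (by decide)
  c50_58 := rel0 50 58 (by decide)
  c50_45 := rel0 50 45 (by decide)
  c50_49 := rel0 50 49 (by decide)
  c50_51 := rel0 50 51 (by decide)
  r50_59 := rel1 50 59 67 (1) (by decide)
  c50_61 := rel0 50 61 (by decide)
  c50_52 := rel0 50 52 (by decide)
  c50_53 := rel0 50 53 (by decide)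
  r50_60 := rel1 50 60 68 (1) (by decide)
  c50_62 := rel0 50 62 (by decide)
  c50_54 := rel0 50 54 (by decide)
  c50_63 := rel0 50 63 (by decide)
  c50_64 := rel0 50 64 (by decide)
  c50_55 := rel0 50 55 (by decide)
  c50_65 := rel0 50 65 (by decide)
  c50_67 := rel0 50 67 (by decide)
  r50_66 := rel1 50 66 71 (1) (by decide)
  c50_68 := rel0 50 68 (by decide)
  c50_69 := rel0 50 69 (by decide)
  c50_70 := rel0 50 70 (by decide)
  c50_71 := rel0 50 71 (by decide)
  c58_45 := rel0 58 45 (by decide)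
  r58_49 := rel1 58 49 65 (1) (by decide)
  r58_51 := rel1 58 51 67 (1) (by decide)
  c58_59 := rel0 58 59 (by decide)
  c58_61 := rel0 58 61 (by decide)
  r58_52 := rel1 58 52 68 (1) (by decide)
  c58_53 := rel0 58 53 (by decide)
  c58_60 := rel0 58 60 (by decide)
  c58_62 := rel0 58 62 (by decide)
  c58_54 := rel0 58 54 (by decide)
  c58_63 := rel0 58 63 (by decide)
  c58_64 := rel0 58 64 (by decide)
  r58_55 := rel1 58 55 70 (-1) (by decide)
  c58_65 := rel0 58 65 (by decide)
  c58_67 := rel0 58 67 (by decide)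
  c58_66 := rel0 58 66 (by decide)
  c58_68 := rel0 58 68 (by decide)
  c58_69 := rel0 58 69 (by decide)
  c58_70 := rel0 58 70 (by decide)
  c58_71 := rel0 58 71 (by decide)
  c45_49 := rel0 45 49 (by decide)
  c45_51 := rel0 45 51 (by decide)
  c45_59 := rel0 45 59 (by decide)
  r45_61 := rel1 45 61 68 (1) (by decide)
  c45_52 := rel0 45 52 (by decide)
  c45_53 := rel0 45 53 (by decide)
  c45_60 := rel0 45 60 (by decide)
  r45_62 := rel1 45 62 69 (1) (by decide)
  c45_54 := rel0 45 54 (by decide)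
  c45_63 := rel0 45 63 (by decide)
  r45_64 := rel1 45 64 70 (1) (by decide)
  c45_55 := rel0 45 55 (by decide)
  c45_65 := rel0 45 65 (by decide)
  c45_67 := rel0 45 67 (by decide)
  c45_66 := rel0 45 66 (by decide)
  c45_68 := rel0 45 68 (by decide)
  c45_69 := rel0 45 69 (by decide)
  c45_70 := rel0 45 70 (by decide)
  c45_71 := rel0 45 71 (by decide)
  c49_51 := rel0 49 51 (by decide)
  r49_59 := rel1 49 59 66 (-1) (by decide)
  c49_61 := rel0 49 61 (by decide)
  c49_52 := rel0 49 52 (by decide)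
  c49_53 := rel0 49 53 (by decide)
  c49_60 := rel0 49 60 (by decide)
  c49_62 := rel0 49 62 (by decide)
  c49_54 := rel0 49 54 (by decide)
  c49_63 := rel0 49 63 (by decide)
  c49_64 := rel0 49 64 (by decide)
  c49_55 := rel0 49 55 (by decide)
  c49_65 := rel0 49 65 (by decide)
  r49_67 := rel1 49 67 71 (-1) (by decide)
  c49_66 := rel0 49 66 (by decide)
  c49_68 := rel0 49 68 (by decide)
  c49_69 := rel0 49 69 (by decide)
  c49_70 := rel0 49 70 (by decide)
  c49_71 := rel0 49 71 (by decide)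
  c51_59 := rel0 51 59 (by decide)
  c51_61 := rel0 51 61 (by decide)
  c51_52 := rel0 51 52 (by decide)
  c51_53 := rel0 51 53 (by decide)
  r51_60 := rel1 51 60 69 (1) (by decide)
  c51_62 := rel0 51 62 (by decide)
  c51_54 := rel0 51 54 (by decide)
  c51_63 := rel0 51 63 (by decide)
  c51_64 := rel0 51 64 (by decide)
  c51_55 := rel0 51 55 (by decide)
  r51_65 := rel1 51 65 71 (-1) (by decide)
  c51_67 := rel0 51 67 (by decide)
  c51_66 := rel0 51 66 (by decide)
  c51_68 := rel0 51 68 (by decide)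
  c51_69 := rel0 51 69 (by decide)
  c51_70 := rel0 51 70 (by decide)
  c51_71 := rel0 51 71 (by decide)
  c59_61 := rel0 59 61 (by decide)
  r59_52 := rel1 59 52 69 (1) (by decide)
  c59_53 := rel0 59 53 (by decide)
  c59_60 := rel0 59 60 (by decide)
  c59_62 := rel0 59 62 (by decide)
  r59_54 := rel1 59 54 70 (1) (by decide)
  c59_63 := rel0 59 63 (by decide)
  c59_64 := rel0 59 64 (by decide)
  c59_55 := rel0 59 55 (by decide)
  c59_65 := rel0 59 65 (by decide)
  c59_67 := rel0 59 67 (by decide)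
  c59_66 := rel0 59 66 (by decide)
  c59_68 := rel0 59 68 (by decide)
  c59_69 := rel0 59 69 (by decide)
  c59_70 := rel0 59 70 (by decide)
  c59_71 := rel0 59 71 (by decide)
  c61_52 := rel0 61 52 (by decide)
  c61_53 := rel0 61 53 (by decide)
  c61_60 := rel0 61 60 (by decide)
  c61_62 := rel0 61 62 (by decide)
  c61_54 := rel0 61 54 (by decide)
  c61_63 := rel0 61 63 (by decide)
  c61_64 := rel0 61 64 (by decide)
  r61_55 := rel1 61 55 71 (-1) (by decide)
  c61_65 := rel0 61 65 (by decide)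
  c61_67 := rel0 61 67 (by decide)
  c61_66 := rel0 61 66 (by decide)
  c61_68 := rel0 61 68 (by decide)
  c61_69 := rel0 61 69 (by decide)
  c61_70 := rel0 61 70 (by decide)
  c61_71 := rel0 61 71 (by decide)
  c52_53 := rel0 52 53 (by decide)
  c52_60 := rel0 52 60 (by decide)
  c52_62 := rel0 52 62 (by decide)
  c52_54 := rel0 52 54 (by decide)
  c52_63 := rel0 52 63 (by decide)
  r52_64 := rel1 52 64 71 (1) (by decide)
  c52_55 := rel0 52 55 (by decide)
  c52_65 := rel0 52 65 (by decide)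
  c52_67 := rel0 52 67 (by decide)
  c52_66 := rel0 52 66 (by decide)
  c52_68 := rel0 52 68 (by decide)
  c52_69 := rel0 52 69 (by decide)
  c52_70 := rel0 52 70 (by decide)
  c52_71 := rel0 52 71 (by decide)
  r53_60 := rel1 53 60 70 (1) (by decide)
  c53_62 := rel0 53 62 (by decide)
  c53_54 := rel0 53 54 (by decide)
  r53_63 := rel1 53 63 71 (1) (by decide)
  c53_64 := rel0 53 64 (by decide)
  c53_55 := rel0 53 55 (by decide)
  c53_65 := rel0 53 65 (by decide)
  c53_67 := rel0 53 67 (by decide)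
  c53_66 := rel0 53 66 (by decide)
  c53_68 := rel0 53 68 (by decide)
  c53_69 := rel0 53 69 (by decide)
  c53_70 := rel0 53 70 (by decide)
  c53_71 := rel0 53 71 (by decide)
  c60_62 := rel0 60 62 (by decide)
  c60_54 := rel0 60 54 (by decide)
  c60_63 := rel0 60 63 (by decide)
  c60_64 := rel0 60 64 (by decide)
  c60_55 := rel0 60 55 (by decide)
  c60_65 := rel0 60 65 (by decide)
  c60_67 := rel0 60 67 (by decide)
  c60_66 := rel0 60 66 (by decide)
  c60_68 := rel0 60 68 (by decide)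
  c60_69 := rel0 60 69 (by decide)
  c60_70 := rel0 60 70 (by decide)
  c60_71 := rel0 60 71 (by decide)
  r62_54 := rel1 62 54 71 (1) (by decide)
  c62_63 := rel0 62 63 (by decide)
  c62_64 := rel0 62 64 (by decide)
  c62_55 := rel0 62 55 (by decide)
  c62_65 := rel0 62 65 (by decide)
  c62_67 := rel0 62 67 (by decide)
  c62_66 := rel0 62 66 (by decide)
  c62_68 := rel0 62 68 (by decide)
  c62_69 := rel0 62 69 (by decide)
  c62_70 := rel0 62 70 (by decide)
  c62_71 := rel0 62 71 (by decide)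
  c54_63 := rel0 54 63 (by decide)
  c54_64 := rel0 54 64 (by decide)
  c54_55 := rel0 54 55 (by decide)
  c54_65 := rel0 54 65 (by decide)
  c54_67 := rel0 54 67 (by decide)
  c54_66 := rel0 54 66 (by decide)
  c54_68 := rel0 54 68 (by decide)
  c54_69 := rel0 54 69 (by decide)
  c54_70 := rel0 54 70 (by decide)
  c54_71 := rel0 54 71 (by decide)
  c63_64 := rel0 63 64 (by decide)
  c63_55 := rel0 63 55 (by decide)
  c63_65 := rel0 63 65 (by decide)
  c63_67 := rel0 63 67 (by decide)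
  c63_66 := rel0 63 66 (by decide)
  c63_68 := rel0 63 68 (by decide)
  c63_69 := rel0 63 69 (by decide)
  c63_70 := rel0 63 70 (by decide)
  c63_71 := rel0 63 71 (by decide)
  c64_55 := rel0 64 55 (by decide)
  c64_65 := rel0 64 65 (by decide)
  c64_67 := rel0 64 67 (by decide)
  c64_66 := rel0 64 66 (by decide)
  c64_68 := rel0 64 68 (by decide)
  c64_69 := rel0 64 69 (by decide)
  c64_70 := rel0 64 70 (by decide)
  c64_71 := rel0 64 71 (by decide)
  c55_65 := rel0 55 65 (by decide)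
  c55_67 := rel0 55 67 (by decide)
  c55_66 := rel0 55 66 (by decide)
  c55_68 := rel0 55 68 (by decide)
  c55_69 := rel0 55 69 (by decide)
  c55_70 := rel0 55 70 (by decide)
  c55_71 := rel0 55 71 (by decide)
  c65_67 := rel0 65 67 (by decide)
  c65_66 := rel0 65 66 (by decide)
  c65_68 := rel0 65 68 (by decide)
  c65_69 := rel0 65 69 (by decide)
  c65_70 := rel0 65 70 (by decide)
  c65_71 := rel0 65 71 (by decide)
  c67_66 := rel0 67 66 (by decide)
  c67_68 := rel0 67 68 (by decide)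
  c67_69 := rel0 67 69 (by decide)
  c67_70 := rel0 67 70 (by decide)
  c67_71 := rel0 67 71 (by decide)
  c66_68 := rel0 66 68 (by decide)
  c66_69 := rel0 66 69 (by decide)
  c66_70 := rel0 66 70 (by decide)
  c66_71 := rel0 66 71 (by decide)
  c68_69 := rel0 68 69 (by decide)
  c68_70 := rel0 68 70 (by decide)
  c68_71 := rel0 68 71 (by decide)
  c69_70 := rel0 69 70 (by decide)
  c69_71 := rel0 69 71 (by decide)
  c70_71 := rel0 70 71 (by decide)

end char2

end Cfsg.Agent.Helper4.E6Inv
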