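import Mathlib
import Cfsg.Prelude.Def_ChevStructure
import Cfsg.Prelude.Def_LieTypes

/-!
# `78 × 78` matrices over `𝔽₂` given by their rows packed in natural numbers

The row `i` of a matrix is a natural number whose bit `j` is the entry `(i, j)`.  The product is
computed row by row: the row `i` of `A * B` is the XOR of the rows `k` of `B` over the bits `k` of the
row `i` of `A`.
-/

set_option autoImplicit false

namespace Cfsg.Agent.Helper4.E6Inv

open Cfsg Cfsg.Lie

/-- XOR of `f 0, …, f (n - 1)` -/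
def xorB (f : ℕ → Bool) : ℕ → Bool
  | 0 => false
  | n + 1 => xor (xorB f n) (f n)

/-- XOR of the rows `b k`, `k < n`, over the bits `k` of `a` -/
def xorRows (a : ℕ) (b : ℕ → ℕ) : ℕ → ℕ
  | 0 => 0
  | n + 1 => xorRows a b n ^^^ (if a.testBit n then b n else 0)

theorem testBit_xorRows (a : ℕ) (b : ℕ → ℕ) (n j : ℕ) :
    (xorRows a b n).testBit j = xorB (fun k => a.testBit k && (b k).testBit j) n := by
  induction n with
  | zero => simp [xorRows, xorB]
  | succ n ih =>
    rw [xorRows, Nat.testBit_xor, ih, xorB]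
    by_cases h : a.testBit n <;> simp [h]

theorem cast_xorB (f : ℕ → Bool) (n : ℕ) :
    (if xorB f n then 1 else 0 : ZMod 2) = ∑ k ∈ Finset.range n, (if f k then 1 else 0 : ZMod 2) := by
  induction n with
  | zero => simp [xorB]
  | succ n ih =>
    rw [Finset.sum_range_succ, ← ih, xorB]
    cases xorB f n <;> cases f n <;> decide

/-- the position of a coordinate: the six fundamental coroots, then the `72` roots -/
def cd6 : chevE6.Idx → ℕ := Sum.elim (fun i => i.val) (fun s => 6 + s.val)

theorem cd6_inj : Function.Injective cd6 := by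
  rintro (a | a) (b | b) h
  · simp only [cd6, Sum.elim_inl] at h
    exact congrArg Sum.inl (Fin.ext h)
  · simp only [cd6, Sum.elim_inl, Sum.elim_inr] at h
    have := a.isLt
    have h6 : chevE6.rank = 6 := rfl
    omega
  · simp only [cd6, Sum.elim_inl, Sum.elim_inr] at h
    have := b.isLt
    have h6 : chevE6.rank = 6 := rfl
    omega
  · simp only [cd6, Sum.elim_inr] at h
    exact congrArg Sum.inr (Fin.ext (by omega))

theorem sum_idx6 (g : ℕ → ZMod 2) : ∑ c : chevE6.Idx, g (cd6 c) = ∑ k ∈ Finset.range 78, g k := by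
  rw [Fintype.sum_sum_type]
  have h1 : ∑ i : Fin chevE6.rank, g (cd6 (Sum.inl i)) = ∑ k ∈ Finset.range 6, g k :=
    Fin.sum_univ_eq_sum_range (fun i => g i) 6
  have h2 : ∑ s : Fin chevE6.nroots, g (cd6 (Sum.inr s)) = ∑ k ∈ Finset.range 72, g (6 + k) :=
    Fin.sum_univ_eq_sum_range (fun s => g (6 + s)) 72
  rw [h1, h2, show (78 : ℕ) = 6 + 72 from rfl, Finset.sum_range_add]

/-- the matrix with rows `r 0, …, r 77` -/
def ofRows (r : ℕ → ℕ) : Matrix chevE6.Idx chevE6.Idx (ZMod 2) :=
  Matrix.of fun a b => if (r (cd6 a)).testBit (cd6 b) then 1 else 0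

theorem cd6_lt (a : chevE6.Idx) : cd6 a < 78 := by
  rcases a with a | a
  · have := a.isLt
    have h6 : chevE6.rank = 6 := rfl
    simp only [cd6, Sum.elim_inl]; omega
  · have := a.isLt
    have h6 : chevE6.nroots = 72 := rfl
    simp only [cd6, Sum.elim_inr]; omega

theorem ofRows_congr {r s : ℕ → ℕ} (h : ∀ i < 78, r i = s i) : ofRows r = ofRows s := by
  ext a b
  simp only [ofRows, Matrix.of_apply, h _ (cd6_lt a)]

theorem ofRows_mul (r s : ℕ → ℕ) : ofRows r * ofRows s = ofRows (fun i => xorRows (r i) s 78) := by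
  ext a b
  rw [Matrix.mul_apply]
  simp only [ofRows, Matrix.of_apply]
  rw [testBit_xorRows, cast_xorB,
    ← sum_idx6 (fun k => if ((r (cd6 a)).testBit k && (s k).testBit (cd6 b)) then 1 else 0)]
  apply Finset.sum_congr rfl
  intro c _
  cases (r (cd6 a)).testBit (cd6 c) <;> cases (s (cd6 c)).testBit (cd6 b) <;> simp

theorem ofRows_sub_one (r : ℕ → ℕ) : ofRows r - 1 = ofRows (fun i => r i ^^^ 2 ^ i) := by
  ext a b
  simp only [ofRows, Matrix.sub_apply, Matrix.of_apply, Matrix.one_apply, Nat.testBit_xor,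
    Nat.testBit_two_pow]
  by_cases hab : a = b
  · subst hab
    cases (r (cd6 a)).testBit (cd6 a) <;> simp
  · have hne : cd6 a ≠ cd6 b := fun h => hab (cd6_inj h)
    cases (r (cd6 a)).testBit (cd6 b) <;> simp [hab, hne]

/-- the diagonal idempotent of rank `k` -/
def diagE6 (k : ℕ) : Matrix chevE6.Idx chevE6.Idx (ZMod 2) :=
  Matrix.diagonal fun a => if cd6 a < k then 1 else 0

theorem ofRows_diag (k : ℕ) : ofRows (fun i => if i < k then 2 ^ i else 0) = diagE6 k := by
  ext a b
  simp only [ofRows, diagE6, Matrix.of_apply, Matrix.diagonal_apply]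
  by_cases hk : cd6 a < k
  · by_cases hab : a = b
    · subst hab; simp [hk]
    · have hne : cd6 a ≠ cd6 b := fun h => hab (cd6_inj h)
      simp [hk, hab, hne]
  · by_cases hab : a = b
    · subst hab; simp [hk]
    · simp [hk, hab]

/-- rows from a list -/
def rw6 (l : List ℕ) (i : ℕ) : ℕ := l.getD i 0

/-- the product of two lists of rows agrees with a third one -/
def MulChk (a b c : List ℕ) : Prop :=
  ∀ i < 78, xorRows (rw6 a i) (rw6 b) 78 = rw6 c i

instance (a b c : List ℕ) : Decidable (MulChk a b c) := by unfold MulChk; infer_instance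

theorem ofRows_mul_of_chk {a b c : List ℕ} (h : MulChk a b c) :
    ofRows (rw6 a) * ofRows (rw6 b) = ofRows (rw6 c) := by
  rw [ofRows_mul]
  exact ofRows_congr h

/-- subtracting the identity from a list of rows gives a second one -/
def SubChk (a c : List ℕ) : Prop := ∀ i < 78, rw6 a i ^^^ 2 ^ i = rw6 c i

instance (a c : List ℕ) : Decidable (SubChk a c) := by unfold SubChk; infer_instance

theorem ofRows_sub_of_chk {a c : List ℕ} (h : SubChk a c) :
    ofRows (rw6 a) - 1 = ofRows (rw6 c) := by
  rw [ofRows_sub_one]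
  exact ofRows_congr h

/-- a list of rows is the diagonal idempotent of rank `k` -/
def DiagChk (a : List ℕ) (k : ℕ) : Prop := ∀ i < 78, rw6 a i = if i < k then 2 ^ i else 0

instance (a : List ℕ) (k : ℕ) : Decidable (DiagChk a k) := by unfold DiagChk; infer_instance

theorem ofRows_diag_of_chk {a : List ℕ} {k : ℕ} (h : DiagChk a k) : ofRows (rw6 a) = diagE6 k := by
  rw [← ofRows_diag]
  exact ofRows_congr h

section Transport

variable (K : Type*) [Field K] [CharP K 2]

/-- the canonical homomorphism `ZMod 2 →+* K` -/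
noncomputable def cast26 : ZMod 2 →+* K := ZMod.castHom (dvd_refl 2) K

theorem map_sub_one6 (M : Matrix chevE6.Idx chevE6.Idx (ZMod 2)) :
    (M - 1).map (cast26 K) = M.map (cast26 K) - 1 := by
  rw [Matrix.map_sub (cast26 K) (map_sub (cast26 K)), Matrix.map_one (cast26 K) (map_zero _) (map_one _)]

theorem rank_diagE6 (k : ℕ) :
    ((diagE6 k).map (cast26 K)).rank = Fintype.card {i : chevE6.Idx // cd6 i < k} := by
  classical
  unfold diagE6
  rw [Matrix.diagonal_map (map_zero _), Matrix.rank_diagonal]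
  apply Fintype.card_congr
  apply Equiv.subtypeEquivRight
  intro i
  by_cases h : cd6 i < k
  · simp [h]
  · simp [h]

/-- an upper bound for the rank from a factorisation through `E_k` -/
theorem rank_map_le6 (M P Q : Matrix chevE6.Idx chevE6.Idx (ZMod 2)) (k : ℕ) (h1 : M = P * Q)
    (h2 : P * diagE6 k = P) :
    (M.map (cast26 K)).rank ≤ Fintype.card {i : chevE6.Idx // cd6 i < k} := by
  have e : M.map (cast26 K) = (P.map (cast26 K) * (diagE6 k).map (cast26 K)) * Q.map (cast26 K) := by
    rw [← Matrix.map_mul, h2, ← Matrix.map_mul, ← h1]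
  rw [e, ← rank_diagE6 K k]
  exact le_trans (Matrix.rank_mul_le_left _ _) (Matrix.rank_mul_le_right _ _)

/-- a lower bound for the rank from `T * M * U = E_k` -/
theorem rank_map_ge6 (M T U : Matrix chevE6.Idx chevE6.Idx (ZMod 2)) (k : ℕ)
    (h : T * M * U = diagE6 k) :
    Fintype.card {i : chevE6.Idx // cd6 i < k} ≤ (M.map (cast26 K)).rank := by
  have e : (diagE6 k).map (cast26 K) = (T.map (cast26 K) * M.map (cast26 K)) * U.map (cast26 K) := by
    rw [← Matrix.map_mul, ← Matrix.map_mul, h]
  rw [← rank_diagE6 K k, e]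
  exact le_trans (Matrix.rank_mul_le_left _ _) (Matrix.rank_mul_le_right _ _)

omit [CharP K 2] in
/-- the rank of `y - 1` is a conjugacy invariant -/
theorem rank_sub_one_conj6 (g y : GL chevE6.Idx K) :
    (((g * y * g⁻¹ : GL chevE6.Idx K) : Matrix chevE6.Idx chevE6.Idx K) - 1).rank =
      ((y : Matrix chevE6.Idx chevE6.Idx K) - 1).rank := by
  have h1 : ((g * y * g⁻¹ : GL chevE6.Idx K) : Matrix chevE6.Idx chevE6.Idx K) - 1 =
      (g : Matrix chevE6.Idx chevE6.Idx K) * ((y : Matrix chevE6.Idx chevE6.Idx K) - 1) *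
        ((g⁻¹ : GL chevE6.Idx K) : Matrix chevE6.Idx chevE6.Idx K) := by
    rw [Units.val_mul, Units.val_mul, Matrix.mul_sub, Matrix.sub_mul, Matrix.mul_one, ← Units.val_mul g g⁻¹,
      mul_inv_cancel, Units.val_one]
  rw [h1, Matrix.rank_mul_eq_left_of_isUnit_det _ _ ((Matrix.isUnit_iff_isUnit_det _).mp g⁻¹.isUnit),
    Matrix.rank_mul_eq_right_of_isUnit_det _ _ ((Matrix.isUnit_iff_isUnit_det _).mp g.isUnit)]

end Transport

end Cfsg.Agent.Helper4.E6Inv
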