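import Cfsg.Agent.Helper4.E6Inv.NCData

/-!
# The three involutions `x₇₁(1)`, `x₆₈(1) x₆₆(1)`, `x₅₅(1) x₆₅(1) x₆₇(1)` of `E₆(K)`, `char K = 2`,
are pairwise non-conjugate

The ranks of `y - 1` on the 78-dimensional module are `≤ 22`, `= 32`, `≥ 38`.
-/

set_option autoImplicit false

namespace Cfsg.Agent.Helper4.E6Inv

open Cfsg Cfsg.Lie

variable {F : Type*} [Field F] [CharP F 2]

/-- the rank of `y - 1` -/
noncomputable def rk6 (y : GL chevE6.Idx F) : ℕ := ((y : Matrix chevE6.Idx chevE6.Idx F) - 1).rank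

omit [CharP F 2] in
theorem rk6_conj (g y : GL chevE6.Idx F) : rk6 (g * y * g⁻¹) = rk6 y := rank_sub_one_conj6 F g y

/-- conjunct 3 of S2175 -/
theorem nonconj6 :
    ∀ y₁ ∈ Cfsg.Lie.chevE6.group F, ∀ y₂ ∈ Cfsg.Lie.chevE6.group F,
      ((y₁ : GL Cfsg.Lie.chevE6.Idx F) : Matrix Cfsg.Lie.chevE6.Idx Cfsg.Lie.chevE6.Idx F) ∈
        [Cfsg.Lie.chevE6.x F 71 1, Cfsg.Lie.chevE6.x F 68 1 * Cfsg.Lie.chevE6.x F 66 1,
          Cfsg.Lie.chevE6.x F 55 1 * Cfsg.Lie.chevE6.x F 65 1 * Cfsg.Lie.chevE6.x F 67 1] →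
      ((y₂ : GL Cfsg.Lie.chevE6.Idx F) : Matrix Cfsg.Lie.chevE6.Idx Cfsg.Lie.chevE6.Idx F) ∈
        [Cfsg.Lie.chevE6.x F 71 1, Cfsg.Lie.chevE6.x F 68 1 * Cfsg.Lie.chevE6.x F 66 1,
          Cfsg.Lie.chevE6.x F 55 1 * Cfsg.Lie.chevE6.x F 65 1 * Cfsg.Lie.chevE6.x F 67 1] →
      (∃ h ∈ Cfsg.Lie.chevE6.group F, h * y₁ * h⁻¹ = y₂) →
      ((y₁ : GL Cfsg.Lie.chevE6.Idx F) : Matrix Cfsg.Lie.chevE6.Idx Cfsg.Lie.chevE6.Idx F) =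
        ((y₂ : GL Cfsg.Lie.chevE6.Idx F) : Matrix Cfsg.Lie.chevE6.Idx Cfsg.Lie.chevE6.Idx F) := by
  intro y₁ _ y₂ _ hy₁ hy₂ hconj
  obtain ⟨g, hg, hgy⟩ := hconj
  have hrk : rk6 y₂ = rk6 y₁ := by rw [← hgy, rk6_conj]
  have ra := rank_a_le F
  have rb1 := rank_b_le F
  have rb2 := rank_b_ge F
  have rc := rank_c_ge F
  simp only [List.mem_cons, List.not_mem_nil, or_false] at hy₁ hy₂
  unfold rk6 at hrk
  rcases hy₁ with h1 | h1 | h1 <;> rcases hy₂ with h2 | h2 | h2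
  all_goals first
    | (rw [h1, h2]; done)
    | (exfalso; rw [h1, h2] at hrk; omega)

end Cfsg.Agent.Helper4.E6Inv
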