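import Cfsg.Agent.Helper36.F4Ev.Sylow
import Cfsg.Agent.S1063

/-!
# Involutions of `E₆(q)`, `q` even, are conjugate into `U`

`U` is a Sylow 2-subgroup of `E₆(q)`: `|U| = q^36` and `|G : U|` is odd.  (The pattern is that of
`Helper36.F4Ev.Sylow` for `F₄`.)
-/

set_option autoImplicit false

namespace Cfsg.Agent.Helper4.E6Inv

open Cfsg Cfsg.Lie

variable {F : Type*} [Field F]

theorem hE6mem : chevE6 ∈ [chevG2, chevB2, chevD4, chevF4, chevE6, chevE7, chevE8] := by simp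

theorem U_le_G6 : chevE6.posUnipotent F ≤ chevE6.group F :=
  le_trans le_sup_left (Cfsg.Agent.S1043.result (F := F) chevE6 hE6mem).1

/-- `U` as a subgroup of `G` -/
noncomputable def UG6 : Subgroup ↥(chevE6.group F) :=
  (chevE6.posUnipotent F).subgroupOf (chevE6.group F)

variable [Fintype F]

theorem card_UG6 : Nat.card (UG6 (F := F)) = Fintype.card F ^ 36 := by
  unfold UG6
  rw [Nat.card_congr (Subgroup.subgroupOfEquivOfLe (U_le_G6 (F := F))).toEquiv,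
    Cfsg.Agent.S1027.result chevE6 hE6mem]
  rfl

variable [CharP F 2]

theorem UG6_pgroup : IsPGroup 2 (UG6 (F := F)) := by
  obtain ⟨n, -, hn⟩ := Cfsg.Agent.Helper36.F4Ev.card_F (F := F)
  apply IsPGroup.of_card (n := n * 36)
  rw [card_UG6, hn, pow_mul]

theorem UG6_index : ¬ 2 ∣ (UG6 (F := F)).index := by
  obtain ⟨n, hn0, hn⟩ := Cfsg.Agent.Helper36.F4Ev.card_F (F := F)
  have h1 := Subgroup.index_mul_card (UG6 (F := F))
  have h0 := Cfsg.Agent.S1063.result (F := F) rfl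
  rw [card_UG6] at h1
  set q := Fintype.card F with hq
  have hq0 : 0 < q := Fintype.card_pos
  have h2 : Nat.gcd 3 (q - 1) * (UG6 (F := F)).index =
      (q ^ 2 - 1) * (q ^ 5 - 1) * (q ^ 6 - 1) * (q ^ 8 - 1) * (q ^ 9 - 1) * (q ^ 12 - 1) := by
    have h3 : (Nat.gcd 3 (q - 1) * (UG6 (F := F)).index) * q ^ 36 =
        ((q ^ 2 - 1) * (q ^ 5 - 1) * (q ^ 6 - 1) * (q ^ 8 - 1) * (q ^ 9 - 1) * (q ^ 12 - 1)) * q ^ 36 := by
      rw [mul_assoc, h1, h0]; ring
    exact Nat.eq_of_mul_eq_mul_right (pow_pos hq0 36) h3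
  have hqe : 2 ∣ q := by rw [hn]; exact dvd_pow_self 2 hn0.ne'
  have ho : ∀ k : ℕ, 0 < k → ¬ 2 ∣ q ^ k - 1 := by
    intro k hk hdiv
    have h4 : 2 ∣ q ^ k := dvd_pow hqe hk.ne'
    have h5 : 1 ≤ q ^ k := Nat.one_le_pow _ _ hq0
    omega
  intro hdiv
  have hdiv' : 2 ∣ (q ^ 2 - 1) * (q ^ 5 - 1) * (q ^ 6 - 1) * (q ^ 8 - 1) * (q ^ 9 - 1) * (q ^ 12 - 1) := by
    rw [← h2]; exact Dvd.dvd.mul_left hdiv _
  rcases (Nat.Prime.dvd_mul Nat.prime_two).mp hdiv' with h | h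
  · rcases (Nat.Prime.dvd_mul Nat.prime_two).mp h with h | h
    · rcases (Nat.Prime.dvd_mul Nat.prime_two).mp h with h | h
      · rcases (Nat.Prime.dvd_mul Nat.prime_two).mp h with h | h
        · rcases (Nat.Prime.dvd_mul Nat.prime_two).mp h with h | h
          · exact ho 2 (by norm_num) h
          · exact ho 5 (by norm_num) h
        · exact ho 6 (by norm_num) h
      · exact ho 8 (by norm_num) h
    · exact ho 9 (by norm_num) h
  · exact ho 12 (by norm_num) h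

/-- every element of order 2 of `E₆(q)`, `q` even, is conjugate in the group into `U` -/
theorem exists_conj_mem_U6 (g : GL Cfsg.Lie.chevE6.Idx F) (hg : g ∈ Cfsg.Lie.chevE6.group F)
    (h2 : orderOf g = 2) :
    ∃ h ∈ Cfsg.Lie.chevE6.group F, h * g * h⁻¹ ∈ Cfsg.Lie.chevE6.posUnipotent F := by
  have h2' : orderOf (⟨g, hg⟩ : ↥(chevE6.group F)) = 2 := by
    rw [← h2]
    exact (Subgroup.orderOf_coe (⟨g, hg⟩ : ↥(chevE6.group F))).symm
  have : Fact (Nat.Prime 2) := ⟨Nat.prime_two⟩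
  obtain ⟨k, hk⟩ := Cfsg.Agent.Helper36.F4Ev.conj_mem_of_index _ (UG6_pgroup (F := F)) UG6_index
    ⟨g, hg⟩ h2'
  refine ⟨k.1, k.2, ?_⟩
  unfold UG6 at hk
  rw [Subgroup.mem_subgroupOf] at hk
  simpa using hk

end Cfsg.Agent.Helper4.E6Inv
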