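import Cfsg.Agent.Helper4.E6Inv.Abs

/-! Generated: left multiplication of an ordered product of root elements of `E₆` by a root element (characteristic two). -/

set_option autoImplicit false
set_option maxHeartbeats 8000000
set_option maxRecDepth 100000
set_option linter.unusedSimpArgs false
set_option linter.unusedVariables false

namespace Cfsg.Agent.Helper4.E6Inv

variable {K Γ : Type*} [Field K] [Group Γ] (R : RelE6 K Γ) [CharP K 2]

namespace RelE6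
theorem ulm43 (t36 t37 t39 t42 t46 t56 t38 t40 t43 t47 t57 t41 t44 t48 t50 t58 t45 t49 t51 t59 t61 t52 t53 t60 t62 t54 t63 t64 t55 t65 t67 t66 t68 t69 t70 t71 c : K) :
    R.X43 c * R.RNF t36 t37 t39 t42 t46 t56 t38 t40 t43 t47 t57 t41 t44 t48 t50 t58 t45 t49 t51 t59 t61 t52 t53 t60 t62 t54 t63 t64 t55 t65 t67 t66 t68 t69 t70 t71 =
      R.RNF (t36) (t37) (t39) (t42) (t46) (t56) (t38) (t40) (c + t43) (t47) (t57) (t41) (c * t37 + t44) (t48) (c * t46 + t50) (c * t56 + t58) (c * t38 + t45) (t49) (c * t37 * t46 + t51) (c * t37 * t56 + t59) (c * t46 * t56 + t61) (c * t38 * t46 + t52) (c * t37 * t47 + c * t40 * t46 + t53) (c * t38 * t56 + t60) (c * t37 * t46 * t56 + t62) (c * t38 * t47 + c * t41 * t46 + t54) (c * t38 * t46 * t56 + t63) (c * t37 * t47 * t56 + c * t40 * t46 * t56 + c * t48 * t56 + t64) (c * t37 * t41 * t46 + c * t38 * t40 * t46 + c * t38 * t48 + t55) (c * t38 * t47 *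 t56 + c * t41 * t46 * t56 + t65) (c * t37 * t43 * t46 * t56 + c * t37 * t46 * t58 + c * t37 * t47 * t57 + c * t37 * t50 * t56 + c * t40 * t46 * t57 + c * t44 * t46 * t56 + c ^ 2 * t37 * t46 * t56 + t67) (c * t37 * t41 * t46 * t56 + c * t37 * t49 * t56 + c * t38 * t40 * t46 * t56 + c * t38 * t48 * t56 + t66) (c * t38 * t43 * t46 * t56 + c * t38 * t46 * t58 + c * t38 * t47 * t57 + c * t38 * t50 * t56 + c * t45 * t46 * t56 + c ^ 2 * t38 * t46 * t56 + t68) (c * t37 * t45 * t46 * t56 + c * t38 * t40 * t46 * t57 + c * t38 * t44 * t46 * t56 + c * t38 * t46 * t59 + c * t38 * t51 * t56 + c ^ 2 * t37 * t38 * t46 * t56 + t69) (c * t37 * t41 * t43 * t46 * t56 + c * t37 * t41 * t46 * t58 + c * t37 * t41 * t47 * t57 + c * t37 * t45 * t47 * t56 + c * t38 * t40 * t43 * t46 * t56 + c * t38 * t40 * t46 * t58 + c * t38 * t44 * t47 * t56 + c * t38 * t47 * t59 + c * t38 * t48 * t58 + c * t38 * t53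 * t56 + c * t40 * t41 * t46 * t57 + c * t40 * t45 * t46 * t56 + c * t41 * t44 * t46 * t56 + c * t41 * t46 * t59 + c * t45 * t48 * t56 + c ^ 2 * t37 * t38 * t47 * t56 + c ^ 2 * t38 * t40 * t46 * t56 + c ^ 2 * t38 * t48 * t56 + t70) (c * t37 * t41 * t46 * t50 * t56 + c * t37 * t41 * t46 * t61 + c * t37 * t43 * t46 * t49 * t56 + c * t37 * t46 * t49 * t58 + c * t37 * t47 * t49 * t57 + c * t37 * t47 * t52 * t56 + c * t37 * t49 * t50 * t56 + c * t38 * t40 * t46 * t50 * t56 + c * t38 * t40 * t46 * t61 + c * t38 * t43 * t46 * t48 * t56 + c * t38 * t46 * t53 * t56 + c * t38 * t47 * t48 * t57 + c * t38 * t47 * t51 * t56 + c * t38 * t47 * t62 + c * t38 * t48 * t50 * t56 + c * t38 * t48 * t61 + c * t40 * t46 * t49 * t57 + c * t40 * t46 * t52 * t56 + c * t41 * t46 * t51 * t56 + c * t41 * t46 * t62 + c * t44 * t46 * t49 * t56 + c * t48 * t52 * t56 + c ^ 2 * t37 * t38 * t46 * t47 * t56 + c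 ^ 2 * t37 * t46 * t49 * t56 + c ^ 2 * t38 * t40 * t46 ^ 2 * t56 + c ^ 2 * t38 * t46 * t48 * t56 + t71) := by
  have h2 : (2 : K) = 0 := CharTwo.two_eq_zero
  have h4 : (4 : K) = 0 := by linear_combination 2 * h2
  have h6 : (6 : K) = 0 := by linear_combination 3 * h2
  have h8 : (8 : K) = 0 := by linear_combination 4 * h2
  have h10 : (10 : K) = 0 := by linear_combination 5 * h2
  have h12 : (12 : K) = 0 := by linear_combination 6 * h2
  have h14 : (14 : K) = 0 := by linear_combination 7 * h2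
  have h16 : (16 : K) = 0 := by linear_combination 8 * h2
  have h18 : (18 : K) = 0 := by linear_combination 9 * h2
  have h20 : (20 : K) = 0 := by linear_combination 10 * h2
  have h22 : (22 : K) = 0 := by linear_combination 11 * h2
  have h24 : (24 : K) = 0 := by linear_combination 12 * h2
  have h26 : (26 : K) = 0 := by linear_combination 13 * h2
  have h28 : (28 : K) = 0 := by linear_combination 14 * h2
  have h30 : (30 : K) = 0 := by linear_combination 15 * h2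
  have h32 : (32 : K) = 0 := by linear_combination 16 * h2
  unfold RNF
  simp only [mul_assoc, R.t36_37, R.t36_39, R.t36_42, R.t36_46, R.t36_56, R.t36_38, R.t36_40,
    R.t36_43, R.t36_47, R.t36_57, R.t36_41, R.t36_44, R.t36_48, R.t36_50, R.t36_58,
    R.t36_45, R.t36_49, R.t36_51, R.t36_59, R.t36_61, R.t36_52, R.t36_53, R.t36_60,
    R.t36_62, R.t36_54, R.t36_63, R.t36_64, R.t36_55, R.t36_65, R.t36_67, R.t36_66,
    R.t36_68, R.t36_69, R.t36_70, R.t36_71, R.t37_39, R.t37_42, R.t37_46, R.t37_56,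
    R.t37_38, R.t37_40, R.t37_43, R.t37_47, R.t37_57, R.t37_41, R.t37_44, R.t37_48,
    R.t37_50, R.t37_58, R.t37_45, R.t37_49, R.t37_51, R.t37_59, R.t37_61, R.t37_52,
    R.t37_53, R.t37_60, R.t37_62, R.t37_54, R.t37_63, R.t37_64, R.t37_55, R.t37_65,
    R.t37_67, R.t37_66, R.t37_68, R.t37_69, R.t37_70, R.t37_71, R.t39_42, R.t39_46,
    R.t39_56, R.t39_38, R.t39_40, R.t39_43, R.t39_47, R.t39_57, R.t39_41, R.t39_44,
    R.t39_48, R.t39_50, R.t39_58, R.t39_45, R.t39_49, R.t39_51, R.t39_59, R.t39_61,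
    R.t39_52, R.t39_53, R.t39_60, R.t39_62, R.t39_54, R.t39_63, R.t39_64, R.t39_55,
    R.t39_65, R.t39_67, R.t39_66, R.t39_68, R.t39_69, R.t39_70, R.t39_71, R.t42_46,
    R.t42_56, R.t42_38, R.t42_40, R.t42_43, R.t42_47, R.t42_57, R.t42_41, R.t42_44,
    R.t42_48, R.t42_50, R.t42_58, R.t42_45, R.t42_49, R.t42_51, R.t42_59, R.t42_61,
    R.t42_52, R.t42_53, R.t42_60, R.t42_62, R.t42_54, R.t42_63, R.t42_64, R.t42_55,
    R.t42_65, R.t42_67, R.t42_66, R.t42_68, R.t42_69, R.t42_70, R.t42_71, R.t46_56,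
    R.t46_38, R.t46_40, R.t46_43, R.t46_47, R.t46_57, R.t46_41, R.t46_44, R.t46_48,
    R.t46_50, R.t46_58, R.t46_45, R.t46_49, R.t46_51, R.t46_59, R.t46_61, R.t46_52,
    R.t46_53, R.t46_60, R.t46_62, R.t46_54, R.t46_63, R.t46_64, R.t46_55, R.t46_65,
    R.t46_67, R.t46_66, R.t46_68, R.t46_69, R.t46_70, R.t46_71, R.t56_38, R.t56_40,
    R.t56_43, R.t56_47, R.t56_57, R.t56_41, R.t56_44, R.t56_48, R.t56_50, R.t56_58,
    R.t56_45, R.t56_49, R.t56_51, R.t56_59, R.t56_61, R.t56_52, R.t56_53, R.t56_60,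
    R.t56_62, R.t56_54, R.t56_63, R.t56_64, R.t56_55, R.t56_65, R.t56_67, R.t56_66,
    R.t56_68, R.t56_69, R.t56_70, R.t56_71, R.t38_40, R.t38_43, R.t38_47, R.t38_57,
    R.t38_41, R.t38_44, R.t38_48, R.t38_50, R.t38_58, R.t38_45, R.t38_49, R.t38_51,
    R.t38_59, R.t38_61, R.t38_52, R.t38_53, R.t38_60, R.t38_62, R.t38_54, R.t38_63,
    R.t38_64, R.t38_55, R.t38_65, R.t38_67, R.t38_66, R.t38_68, R.t38_69, R.t38_70,
    R.t38_71, R.t40_43, R.t40_47, R.t40_57, R.t40_41, R.t40_44, R.t40_48, R.t40_50,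
    R.t40_58, R.t40_45, R.t40_49, R.t40_51, R.t40_59, R.t40_61, R.t40_52, R.t40_53,
    R.t40_60, R.t40_62, R.t40_54, R.t40_63, R.t40_64, R.t40_55, R.t40_65, R.t40_67,
    R.t40_66, R.t40_68, R.t40_69, R.t40_70, R.t40_71, R.t43_47, R.t43_57, R.t43_41,
    R.t43_44, R.t43_48, R.t43_50, R.t43_58, R.t43_45, R.t43_49, R.t43_51, R.t43_59,
    R.t43_61, R.t43_52, R.t43_53, R.t43_60, R.t43_62, R.t43_54, R.t43_63, R.t43_64,
    R.t43_55, R.t43_65, R.t43_67, R.t43_66, R.t43_68, R.t43_69, R.t43_70, R.t43_71,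
    R.t47_57, R.t47_41, R.t47_44, R.t47_48, R.t47_50, R.t47_58, R.t47_45, R.t47_49,
    R.t47_51, R.t47_59, R.t47_61, R.t47_52, R.t47_53, R.t47_60, R.t47_62, R.t47_54,
    R.t47_63, R.t47_64, R.t47_55, R.t47_65, R.t47_67, R.t47_66, R.t47_68, R.t47_69,
    R.t47_70, R.t47_71, R.t57_41, R.t57_44, R.t57_48, R.t57_50, R.t57_58, R.t57_45,
    R.t57_49, R.t57_51, R.t57_59, R.t57_61, R.t57_52, R.t57_53, R.t57_60, R.t57_62,
    R.t57_54, R.t57_63, R.t57_64, R.t57_55, R.t57_65, R.t57_67, R.t57_66, R.t57_68,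
    R.t57_69, R.t57_70, R.t57_71, R.t41_44, R.t41_48, R.t41_50, R.t41_58, R.t41_45,
    R.t41_49, R.t41_51, R.t41_59, R.t41_61, R.t41_52, R.t41_53, R.t41_60, R.t41_62,
    R.t41_54, R.t41_63, R.t41_64, R.t41_55, R.t41_65, R.t41_67, R.t41_66, R.t41_68,
    R.t41_69, R.t41_70, R.t41_71, R.t44_48, R.t44_50, R.t44_58, R.t44_45, R.t44_49,
    R.t44_51, R.t44_59, R.t44_61, R.t44_52, R.t44_53, R.t44_60, R.t44_62, R.t44_54,
    R.t44_63, R.t44_64, R.t44_55, R.t44_65, R.t44_67, R.t44_66, R.t44_68, R.t44_69,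
    R.t44_70, R.t44_71, R.t48_50, R.t48_58, R.t48_45, R.t48_49, R.t48_51, R.t48_59,
    R.t48_61, R.t48_52, R.t48_53, R.t48_60, R.t48_62, R.t48_54, R.t48_63, R.t48_64,
    R.t48_55, R.t48_65, R.t48_67, R.t48_66, R.t48_68, R.t48_69, R.t48_70, R.t48_71,
    R.t50_58, R.t50_45, R.t50_49, R.t50_51, R.t50_59, R.t50_61, R.t50_52, R.t50_53,
    R.t50_60, R.t50_62, R.t50_54, R.t50_63, R.t50_64, R.t50_55, R.t50_65, R.t50_67,
    R.t50_66, R.t50_68, R.t50_69, R.t50_70, R.t50_71, R.t58_45, R.t58_49, R.t58_51,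
    R.t58_59, R.t58_61, R.t58_52, R.t58_53, R.t58_60, R.t58_62, R.t58_54, R.t58_63,
    R.t58_64, R.t58_55, R.t58_65, R.t58_67, R.t58_66, R.t58_68, R.t58_69, R.t58_70,
    R.t58_71, R.t45_49, R.t45_51, R.t45_59, R.t45_61, R.t45_52, R.t45_53, R.t45_60,
    R.t45_62, R.t45_54, R.t45_63, R.t45_64, R.t45_55, R.t45_65, R.t45_67, R.t45_66,
    R.t45_68, R.t45_69, R.t45_70, R.t45_71, R.t49_51, R.t49_59, R.t49_61, R.t49_52,
    R.t49_53, R.t49_60, R.t49_62, R.t49_54, R.t49_63, R.t49_64, R.t49_55, R.t49_65,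
    R.t49_67, R.t49_66, R.t49_68, R.t49_69, R.t49_70, R.t49_71, R.t51_59, R.t51_61,
    R.t51_52, R.t51_53, R.t51_60, R.t51_62, R.t51_54, R.t51_63, R.t51_64, R.t51_55,
    R.t51_65, R.t51_67, R.t51_66, R.t51_68, R.t51_69, R.t51_70, R.t51_71, R.t59_61,
    R.t59_52, R.t59_53, R.t59_60, R.t59_62, R.t59_54, R.t59_63, R.t59_64, R.t59_55,
    R.t59_65, R.t59_67, R.t59_66, R.t59_68, R.t59_69, R.t59_70, R.t59_71, R.t61_52,
    R.t61_53, R.t61_60, R.t61_62, R.t61_54, R.t61_63, R.t61_64, R.t61_55, R.t61_65,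
    R.t61_67, R.t61_66, R.t61_68, R.t61_69, R.t61_70, R.t61_71, R.t52_53, R.t52_60,
    R.t52_62, R.t52_54, R.t52_63, R.t52_64, R.t52_55, R.t52_65, R.t52_67, R.t52_66,
    R.t52_68, R.t52_69, R.t52_70, R.t52_71, R.t53_60, R.t53_62, R.t53_54, R.t53_63,
    R.t53_64, R.t53_55, R.t53_65, R.t53_67, R.t53_66, R.t53_68, R.t53_69, R.t53_70,
    R.t53_71, R.t60_62, R.t60_54, R.t60_63, R.t60_64, R.t60_55, R.t60_65, R.t60_67,
    R.t60_66, R.t60_68, R.t60_69, R.t60_70, R.t60_71, R.t62_54, R.t62_63, R.t62_64,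
    R.t62_55, R.t62_65, R.t62_67, R.t62_66, R.t62_68, R.t62_69, R.t62_70, R.t62_71,
    R.t54_63, R.t54_64, R.t54_55, R.t54_65, R.t54_67, R.t54_66, R.t54_68, R.t54_69,
    R.t54_70, R.t54_71, R.t63_64, R.t63_55, R.t63_65, R.t63_67, R.t63_66, R.t63_68,
    R.t63_69, R.t63_70, R.t63_71, R.t64_55, R.t64_65, R.t64_67, R.t64_66, R.t64_68,
    R.t64_69, R.t64_70, R.t64_71, R.t55_65, R.t55_67, R.t55_66, R.t55_68, R.t55_69,
    R.t55_70, R.t55_71, R.t65_67, R.t65_66, R.t65_68, R.t65_69, R.t65_70, R.t65_71,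
    R.t67_66, R.t67_68, R.t67_69, R.t67_70, R.t67_71, R.t66_68, R.t66_69, R.t66_70,
    R.t66_71, R.t68_69, R.t68_70, R.t68_71, R.t69_70, R.t69_71, R.t70_71, R.m36,
    R.m37, R.m39, R.m42, R.m46, R.m56, R.m38, R.m40, R.m43,
    R.m47, R.m57, R.m41, R.m44, R.m48, R.m50, R.m58, R.m45,
    R.m49, R.m51, R.m59, R.m61, R.m52, R.m53, R.m60, R.m62,
    R.m54, R.m63, R.m64, R.m55, R.m65, R.m67, R.m66, R.m68,
    R.m69, R.m70, R.m71, R.r36_37, R.c36_39, R.c36_42, R.c36_46, R.c36_56,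
    R.c36_38, R.r36_40, R.c36_43, R.c36_47, R.c36_57, R.c36_41, R.r36_44, R.r36_48,
    R.c36_50, R.c36_58, R.c36_45, R.c36_49, R.r36_51, R.r36_59, R.c36_61, R.c36_52,
    R.r36_53, R.c36_60, R.r36_62, R.c36_54, R.c36_63, R.r36_64, R.c36_55, R.c36_65,
    R.r36_67, R.c36_66, R.c36_68, R.c36_69, R.c36_70, R.c36_71, R.r37_39, R.c37_42,
    R.c37_46, R.c37_56, R.c37_38, R.c37_40, R.r37_43, R.r37_47, R.c37_57, R.c37_41,
    R.c37_44, R.c37_48, R.r37_50, R.r37_58, R.c37_45, R.c37_49, R.c37_51, R.c37_59,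
    R.r37_61, R.c37_52, R.c37_53, R.c37_60, R.c37_62, R.r37_54, R.c37_63, R.c37_64,
    R.c37_55, R.r37_65, R.c37_67, R.c37_66, R.r37_68, R.c37_69, R.c37_70, R.c37_71,
    R.r39_42, R.r39_46, R.c39_56, R.r39_38, R.c39_40, R.c39_43, R.c39_47, R.r39_57,
    R.c39_41, R.c39_44, R.c39_48, R.c39_50, R.c39_58, R.c39_45, R.c39_49, R.r39_51,
    R.c39_59, R.c39_61, R.r39_52, R.c39_53, R.c39_60, R.r39_62, R.c39_54, R.r39_63,
    R.c39_64, R.c39_55, R.c39_65, R.c39_67, R.c39_66, R.c39_68, R.r39_69, R.c39_70,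
    R.c39_71, R.c42_46, R.r42_56, R.c42_38, R.r42_40, R.c42_43, R.r42_47, R.c42_57,
    R.r42_41, R.c42_44, R.r42_48, R.c42_50, R.c42_58, R.c42_45, R.r42_49, R.c42_51,
    R.c42_59, R.c42_61, R.c42_52, R.c42_53, R.c42_60, R.c42_62, R.c42_54, R.c42_63,
    R.r42_64, R.c42_55, R.r42_65, R.c42_67, R.r42_66, R.c42_68, R.c42_69, R.c42_70,
    R.c42_71, R.c46_56, R.c46_38, R.r46_40, R.r46_43, R.c46_47, R.c46_57, R.r46_41,
    R.r46_44, R.c46_48, R.c46_50, R.r46_58, R.r46_45, R.c46_49, R.c46_51, R.r46_59,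
    R.c46_61, R.c46_52, R.c46_53, R.r46_60, R.c46_62, R.c46_54, R.c46_63, R.c46_64,
    R.c46_55, R.c46_65, R.c46_67, R.c46_66, R.c46_68, R.c46_69, R.r46_70, R.c46_71,
    R.c56_38, R.c56_40, R.r56_43, R.c56_47, R.c56_57, R.c56_41, R.r56_44, R.c56_48,
    R.r56_50, R.c56_58, R.r56_45, R.c56_49, R.r56_51, R.c56_59, R.c56_61, R.r56_52,
    R.r56_53, R.c56_60, R.c56_62, R.r56_54, R.c56_63, R.c56_64, R.r56_55, R.c56_65,
    R.c56_67, R.c56_66, R.c56_68, R.c56_69, R.c56_70, R.c56_71, R.c38_40, R.r38_43,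
    R.r38_47, R.c38_57, R.c38_41, R.c38_44, R.c38_48, R.r38_50, R.r38_58, R.c38_45,
    R.c38_49, R.c38_51, R.c38_59, R.r38_61, R.c38_52, R.r38_53, R.c38_60, R.c38_62,
    R.c38_54, R.c38_63, R.r38_64, R.c38_55, R.c38_65, R.r38_67, R.c38_66, R.c38_68,
    R.c38_69, R.c38_70, R.c38_71, R.c40_43, R.c40_47, R.r40_57, R.c40_41, R.c40_44,
    R.c40_48, R.r40_50, R.c40_58, R.c40_45, R.c40_49, R.c40_51, R.c40_59, R.r40_61,
    R.r40_52, R.c40_53, R.c40_60, R.c40_62, R.c40_54, R.r40_63, R.c40_64, R.c40_55,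
    R.c40_65, R.c40_67, R.c40_66, R.r40_68, R.c40_69, R.c40_70, R.c40_71, R.c43_47,
    R.c43_57, R.c43_41, R.c43_44, R.r43_48, R.c43_50, R.c43_58, R.c43_45, R.r43_49,
    R.c43_51, R.c43_59, R.c43_61, R.c43_52, R.c43_53, R.c43_60, R.r43_62, R.c43_54,
    R.r43_63, R.c43_64, R.c43_55, R.c43_65, R.c43_67, R.r43_66, R.c43_68, R.c43_69,
    R.c43_70, R.c43_71, R.r47_57, R.c47_41, R.r47_44, R.c47_48, R.c47_50, R.c47_58,
    R.r47_45, R.c47_49, R.c47_51, R.r47_59, R.c47_61, R.c47_52, R.c47_53, R.r47_60,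
    R.c47_62, R.c47_54, R.c47_63, R.c47_64, R.c47_55, R.c47_65, R.c47_67, R.c47_66,
    R.c47_68, R.r47_69, R.c47_70, R.c47_71, R.r57_41, R.c57_44, R.r57_48, R.c57_50,
    R.c57_58, R.c57_45, R.r57_49, R.c57_51, R.c57_59, R.c57_61, R.c57_52, R.r57_53,
    R.c57_60, R.c57_62, R.r57_54, R.c57_63, R.c57_64, R.r57_55, R.c57_65, R.c57_67,
    R.c57_66, R.c57_68, R.c57_69, R.c57_70, R.c57_71, R.c41_44, R.c41_48, R.r41_50,
    R.c41_58, R.c41_45, R.c41_49, R.r41_51, R.c41_59, R.r41_61, R.c41_52, R.c41_53,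
    R.c41_60, R.r41_62, R.c41_54, R.c41_63, R.c41_64, R.c41_55, R.c41_65, R.r41_67,
    R.c41_66, R.c41_68, R.c41_69, R.c41_70, R.c41_71, R.c44_48, R.c44_50, R.c44_58,
    R.c44_45, R.r44_49, R.c44_51, R.c44_59, R.r44_61, R.c44_52, R.c44_53, R.c44_60,
    R.c44_62, R.c44_54, R.r44_63, R.c44_64, R.c44_55, R.r44_65, R.c44_67, R.c44_66,
    R.c44_68, R.c44_69, R.c44_70, R.c44_71, R.c48_50, R.r48_58, R.r48_45, R.c48_49,
    R.c48_51, R.c48_59, R.c48_61, R.c48_52, R.c48_53, R.r48_60, R.c48_62, R.c48_54,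
    R.c48_63, R.c48_64, R.c48_55, R.c48_65, R.c48_67, R.c48_66, R.r48_68, R.c48_69,
    R.c48_70, R.c48_71, R.c50_58, R.c50_45, R.c50_49, R.c50_51, R.r50_59, R.c50_61,
    R.c50_52, R.c50_53, R.r50_60, R.c50_62, R.c50_54, R.c50_63, R.c50_64, R.c50_55,
    R.c50_65, R.c50_67, R.r50_66, R.c50_68, R.c50_69, R.c50_70, R.c50_71, R.c58_45,
    R.r58_49, R.r58_51, R.c58_59, R.c58_61, R.r58_52, R.c58_53, R.c58_60, R.c58_62,
    R.c58_54, R.c58_63, R.c58_64, R.r58_55, R.c58_65, R.c58_67, R.c58_66, R.c58_68,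
    R.c58_69, R.c58_70, R.c58_71, R.c45_49, R.c45_51, R.c45_59, R.r45_61, R.c45_52,
    R.c45_53, R.c45_60, R.r45_62, R.c45_54, R.c45_63, R.r45_64, R.c45_55, R.c45_65,
    R.c45_67, R.c45_66, R.c45_68, R.c45_69, R.c45_70, R.c45_71, R.c49_51, R.r49_59,
    R.c49_61, R.c49_52, R.c49_53, R.c49_60, R.c49_62, R.c49_54, R.c49_63, R.c49_64,
    R.c49_55, R.c49_65, R.r49_67, R.c49_66, R.c49_68, R.c49_69, R.c49_70, R.c49_71,
    R.c51_59, R.c51_61, R.c51_52, R.c51_53, R.r51_60, R.c51_62, R.c51_54, R.c51_63,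
    R.c51_64, R.c51_55, R.r51_65, R.c51_67, R.c51_66, R.c51_68, R.c51_69, R.c51_70,
    R.c51_71, R.c59_61, R.r59_52, R.c59_53, R.c59_60, R.c59_62, R.r59_54, R.c59_63,
    R.c59_64, R.c59_55, R.c59_65, R.c59_67, R.c59_66, R.c59_68, R.c59_69, R.c59_70,
    R.c59_71, R.c61_52, R.c61_53, R.c61_60, R.c61_62, R.c61_54, R.c61_63, R.c61_64,
    R.r61_55, R.c61_65, R.c61_67, R.c61_66, R.c61_68, R.c61_69, R.c61_70, R.c61_71,
    R.c52_53, R.c52_60, R.c52_62, R.c52_54, R.c52_63, R.r52_64, R.c52_55, R.c52_65,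
    R.c52_67, R.c52_66, R.c52_68, R.c52_69, R.c52_70, R.c52_71, R.r53_60, R.c53_62,
    R.c53_54, R.r53_63, R.c53_64, R.c53_55, R.c53_65, R.c53_67, R.c53_66, R.c53_68,
    R.c53_69, R.c53_70, R.c53_71, R.c60_62, R.c60_54, R.c60_63, R.c60_64, R.c60_55,
    R.c60_65, R.c60_67, R.c60_66, R.c60_68, R.c60_69, R.c60_70, R.c60_71, R.r62_54,
    R.c62_63, R.c62_64, R.c62_55, R.c62_65, R.c62_67, R.c62_66, R.c62_68, R.c62_69,
    R.c62_70, R.c62_71, R.c54_63, R.c54_64, R.c54_55, R.c54_65, R.c54_67, R.c54_66,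
    R.c54_68, R.c54_69, R.c54_70, R.c54_71, R.c63_64, R.c63_55, R.c63_65, R.c63_67,
    R.c63_66, R.c63_68, R.c63_69, R.c63_70, R.c63_71, R.c64_55, R.c64_65, R.c64_67,
    R.c64_66, R.c64_68, R.c64_69, R.c64_70, R.c64_71, R.c55_65, R.c55_67, R.c55_66,
    R.c55_68, R.c55_69, R.c55_70, R.c55_71, R.c65_67, R.c65_66, R.c65_68, R.c65_69,
    R.c65_70, R.c65_71, R.c67_66, R.c67_68, R.c67_69, R.c67_70, R.c67_71, R.c66_68,
    R.c66_69, R.c66_70, R.c66_71, R.c68_69, R.c68_70, R.c68_71, R.c69_70, R.c69_71,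
    R.c70_71, ← R.add36, ← R.add37, ← R.add39, ← R.add42, ← R.add46, ← R.add56, ← R.add38,
    ← R.add40, ← R.add43, ← R.add47, ← R.add57, ← R.add41, ← R.add44, ← R.add48, ← R.add50,
    ← R.add58, ← R.add45, ← R.add49, ← R.add51, ← R.add59, ← R.add61, ← R.add52, ← R.add53,
    ← R.add60, ← R.add62, ← R.add54, ← R.add63, ← R.add64, ← R.add55, ← R.add65, ← R.add67,
    ← R.add66, ← R.add68, ← R.add69, ← R.add70, ← R.add71]
  all_goals (change R.RNF _ _ _ _ _ _ _ _ _ _ _ _ _ _ _ _ _ _ _ _ _ _ _ _ _ _ _ _ _ _ _ _ _ _ _ _ = R.RNF _ _ _ _ _ _ _ _ _ _ _ _ _ _ _ _ _ _ _ _ _ _ _ _ _ _ _ _ _ _ _ _ _ _ _ _; congr 1 <;> (first | rfl | ring1 | (rw [← sub_eq_zero]; ring_nf; simp only [h2, h4, h6, h8, h10, h12, h14, h16, h18, h20, h22, h24, h26, h28, h30, h32, mul_zero, zero_mul, add_zero, zero_add, neg_zero, sub_zero, sub_self])))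

theorem ulm47 (t36 t37 t39 t42 t46 t56 t38 t40 t43 t47 t57 t41 t44 t48 t50 t58 t45 t49 t51 t59 t61 t52 t53 t60 t62 t54 t63 t64 t55 t65 t67 t66 t68 t69 t70 t71 c : K) :
    R.X47 c * R.RNF t36 t37 t39 t42 t46 t56 t38 t40 t43 t47 t57 t41 t44 t48 t50 t58 t45 t49 t51 t59 t61 t52 t53 t60 t62 t54 t63 t64 t55 t65 t67 t66 t68 t69 t70 t71 =
      R.RNF (t36) (t37) (t39) (t42) (t46) (t56) (t38) (t40) (t43) (c + t47) (t57) (t41) (t44) (c * t37 + t48) (c * t42 + t50) (t58) (t45) (c * t38 + t49) (c * t37 * t42 + t51) (t59) (c * t42 * t56 + t61) (c * t38 * t42 + t52) (c * t37 * t43 + c * t40 * t42 + t53) (t60) (c * t37 * t42 * t56 + c * t37 * t57 + t62) (c * t38 * t43 + c * t41 * t42 + t54) (c * t38 * t42 * t56 + c * t38 * t57 + t63) (c * t40 * t42 * t56 + t64) (c * t37 * t41 * t42 + c * t38 * t40 * t42 + c * t38 * t44 + t55) (c * t38 * t58 + c * t41 * t42 * t56 + t65) (c * t37 * t42 * t43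 * t56 + c * t37 * t42 * t58 + c * t37 * t43 * t57 + c * t40 * t42 * t57 + c * t42 * t44 * t56 + t67) (c * t37 * t41 * t42 * t56 + c * t37 * t41 * t57 + c * t38 * t40 * t42 * t56 + t66) (c * t38 * t42 * t43 * t56 + c * t38 * t42 * t58 + c * t38 * t43 * t57 + c * t42 * t45 * t56 + t68) (c * t37 * t42 * t45 * t56 + c * t37 * t45 * t57 + c * t38 * t40 * t42 * t57 + c * t38 * t42 * t44 * t56 + c * t38 * t42 * t59 + c * t38 * t44 * t57 + t69) (c * t37 * t41 * t42 * t43 * t56 + c * t37 * t41 * t42 * t58 + c * t37 * t41 * t43 * t57 + c * t38 * t40 * t42 * t43 * t56 + c * t38 * t40 * t42 * t58 + c * t38 * t43 * t59 + c * t38 * t44 * t58 + c * t40 * t41 * t42 * t57 + c * t40 * t42 * t45 * t56 + c * t41 * t42 * t44 * t56 + c * t41 * t42 * t59 + t70) (c * t37 * t41 * t42 * t50 * t56 + c * t37 * t41 * t42 * t61 + c * t37 * t41 * t50 * t57 + c * t37 * t42 * t43 * t49 * t56 + c * t37 * t42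 * t49 * t58 + c * t37 * t43 * t49 * t57 + c * t38 * t40 * t42 * t50 * t56 + c * t38 * t40 * t42 * t61 + c * t38 * t42 * t43 * t48 * t56 + c * t38 * t42 * t53 * t56 + c * t38 * t43 * t48 * t57 + c * t38 * t43 * t62 + c * t38 * t44 * t61 + c * t38 * t51 * t58 + c * t38 * t53 * t57 + c * t40 * t42 * t49 * t57 + c * t40 * t42 * t52 * t56 + c * t41 * t42 * t51 * t56 + c * t41 * t42 * t62 + c * t42 * t44 * t49 * t56 + c ^ 2 * t37 * t38 * t42 * t43 * t56 + c ^ 2 * t37 * t38 * t42 * t58 + c ^ 2 * t37 * t38 * t43 * t57 + c ^ 2 * t37 * t41 * t42 * t57 + c ^ 2 * t38 * t40 * t42 * t57 + c ^ 2 * t38 * t40 * t42 ^ 2 * t56 + c ^ 2 * t38 * t42 * t44 * t56 + t71) := by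
  have h2 : (2 : K) = 0 := CharTwo.two_eq_zero
  have h4 : (4 : K) = 0 := by linear_combination 2 * h2
  have h6 : (6 : K) = 0 := by linear_combination 3 * h2
  have h8 : (8 : K) = 0 := by linear_combination 4 * h2
  have h10 : (10 : K) = 0 := by linear_combination 5 * h2
  have h12 : (12 : K) = 0 := by linear_combination 6 * h2
  have h14 : (14 : K) = 0 := by linear_combination 7 * h2
  have h16 : (16 : K) = 0 := by linear_combination 8 * h2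
  have h18 : (18 : K) = 0 := by linear_combination 9 * h2
  have h20 : (20 : K) = 0 := by linear_combination 10 * h2
  have h22 : (22 : K) = 0 := by linear_combination 11 * h2
  have h24 : (24 : K) = 0 := by linear_combination 12 * h2
  have h26 : (26 : K) = 0 := by linear_combination 13 * h2
  have h28 : (28 : K) = 0 := by linear_combination 14 * h2
  have h30 : (30 : K) = 0 := by linear_combination 15 * h2
  have h32 : (32 : K) = 0 := by linear_combination 16 * h2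
  unfold RNF
  simp only [mul_assoc, R.t36_37, R.t36_39, R.t36_42, R.t36_46, R.t36_56, R.t36_38, R.t36_40,
    R.t36_43, R.t36_47, R.t36_57, R.t36_41, R.t36_44, R.t36_48, R.t36_50, R.t36_58,
    R.t36_45, R.t36_49, R.t36_51, R.t36_59, R.t36_61, R.t36_52, R.t36_53, R.t36_60,
    R.t36_62, R.t36_54, R.t36_63, R.t36_64, R.t36_55, R.t36_65, R.t36_67, R.t36_66,
    R.t36_68, R.t36_69, R.t36_70, R.t36_71, R.t37_39, R.t37_42, R.t37_46, R.t37_56,
    R.t37_38, R.t37_40, R.t37_43, R.t37_47, R.t37_57, R.t37_41, R.t37_44, R.t37_48,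
    R.t37_50, R.t37_58, R.t37_45, R.t37_49, R.t37_51, R.t37_59, R.t37_61, R.t37_52,
    R.t37_53, R.t37_60, R.t37_62, R.t37_54, R.t37_63, R.t37_64, R.t37_55, R.t37_65,
    R.t37_67, R.t37_66, R.t37_68, R.t37_69, R.t37_70, R.t37_71, R.t39_42, R.t39_46,
    R.t39_56, R.t39_38, R.t39_40, R.t39_43, R.t39_47, R.t39_57, R.t39_41, R.t39_44,
    R.t39_48, R.t39_50, R.t39_58, R.t39_45, R.t39_49, R.t39_51, R.t39_59, R.t39_61,
    R.t39_52, R.t39_53, R.t39_60, R.t39_62, R.t39_54, R.t39_63, R.t39_64, R.t39_55,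
    R.t39_65, R.t39_67, R.t39_66, R.t39_68, R.t39_69, R.t39_70, R.t39_71, R.t42_46,
    R.t42_56, R.t42_38, R.t42_40, R.t42_43, R.t42_47, R.t42_57, R.t42_41, R.t42_44,
    R.t42_48, R.t42_50, R.t42_58, R.t42_45, R.t42_49, R.t42_51, R.t42_59, R.t42_61,
    R.t42_52, R.t42_53, R.t42_60, R.t42_62, R.t42_54, R.t42_63, R.t42_64, R.t42_55,
    R.t42_65, R.t42_67, R.t42_66, R.t42_68, R.t42_69, R.t42_70, R.t42_71, R.t46_56,
    R.t46_38, R.t46_40, R.t46_43, R.t46_47, R.t46_57, R.t46_41, R.t46_44, R.t46_48,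
    R.t46_50, R.t46_58, R.t46_45, R.t46_49, R.t46_51, R.t46_59, R.t46_61, R.t46_52,
    R.t46_53, R.t46_60, R.t46_62, R.t46_54, R.t46_63, R.t46_64, R.t46_55, R.t46_65,
    R.t46_67, R.t46_66, R.t46_68, R.t46_69, R.t46_70, R.t46_71, R.t56_38, R.t56_40,
    R.t56_43, R.t56_47, R.t56_57, R.t56_41, R.t56_44, R.t56_48, R.t56_50, R.t56_58,
    R.t56_45, R.t56_49, R.t56_51, R.t56_59, R.t56_61, R.t56_52, R.t56_53, R.t56_60,
    R.t56_62, R.t56_54, R.t56_63, R.t56_64, R.t56_55, R.t56_65, R.t56_67, R.t56_66,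
    R.t56_68, R.t56_69, R.t56_70, R.t56_71, R.t38_40, R.t38_43, R.t38_47, R.t38_57,
    R.t38_41, R.t38_44, R.t38_48, R.t38_50, R.t38_58, R.t38_45, R.t38_49, R.t38_51,
    R.t38_59, R.t38_61, R.t38_52, R.t38_53, R.t38_60, R.t38_62, R.t38_54, R.t38_63,
    R.t38_64, R.t38_55, R.t38_65, R.t38_67, R.t38_66, R.t38_68, R.t38_69, R.t38_70,
    R.t38_71, R.t40_43, R.t40_47, R.t40_57, R.t40_41, R.t40_44, R.t40_48, R.t40_50,
    R.t40_58, R.t40_45, R.t40_49, R.t40_51, R.t40_59, R.t40_61, R.t40_52, R.t40_53,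
    R.t40_60, R.t40_62, R.t40_54, R.t40_63, R.t40_64, R.t40_55, R.t40_65, R.t40_67,
    R.t40_66, R.t40_68, R.t40_69, R.t40_70, R.t40_71, R.t43_47, R.t43_57, R.t43_41,
    R.t43_44, R.t43_48, R.t43_50, R.t43_58, R.t43_45, R.t43_49, R.t43_51, R.t43_59,
    R.t43_61, R.t43_52, R.t43_53, R.t43_60, R.t43_62, R.t43_54, R.t43_63, R.t43_64,
    R.t43_55, R.t43_65, R.t43_67, R.t43_66, R.t43_68, R.t43_69, R.t43_70, R.t43_71,
    R.t47_57, R.t47_41, R.t47_44, R.t47_48, R.t47_50, R.t47_58, R.t47_45, R.t47_49,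
    R.t47_51, R.t47_59, R.t47_61, R.t47_52, R.t47_53, R.t47_60, R.t47_62, R.t47_54,
    R.t47_63, R.t47_64, R.t47_55, R.t47_65, R.t47_67, R.t47_66, R.t47_68, R.t47_69,
    R.t47_70, R.t47_71, R.t57_41, R.t57_44, R.t57_48, R.t57_50, R.t57_58, R.t57_45,
    R.t57_49, R.t57_51, R.t57_59, R.t57_61, R.t57_52, R.t57_53, R.t57_60, R.t57_62,
    R.t57_54, R.t57_63, R.t57_64, R.t57_55, R.t57_65, R.t57_67, R.t57_66, R.t57_68,
    R.t57_69, R.t57_70, R.t57_71, R.t41_44, R.t41_48, R.t41_50, R.t41_58, R.t41_45,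
    R.t41_49, R.t41_51, R.t41_59, R.t41_61, R.t41_52, R.t41_53, R.t41_60, R.t41_62,
    R.t41_54, R.t41_63, R.t41_64, R.t41_55, R.t41_65, R.t41_67, R.t41_66, R.t41_68,
    R.t41_69, R.t41_70, R.t41_71, R.t44_48, R.t44_50, R.t44_58, R.t44_45, R.t44_49,
    R.t44_51, R.t44_59, R.t44_61, R.t44_52, R.t44_53, R.t44_60, R.t44_62, R.t44_54,
    R.t44_63, R.t44_64, R.t44_55, R.t44_65, R.t44_67, R.t44_66, R.t44_68, R.t44_69,
    R.t44_70, R.t44_71, R.t48_50, R.t48_58, R.t48_45, R.t48_49, R.t48_51, R.t48_59,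
    R.t48_61, R.t48_52, R.t48_53, R.t48_60, R.t48_62, R.t48_54, R.t48_63, R.t48_64,
    R.t48_55, R.t48_65, R.t48_67, R.t48_66, R.t48_68, R.t48_69, R.t48_70, R.t48_71,
    R.t50_58, R.t50_45, R.t50_49, R.t50_51, R.t50_59, R.t50_61, R.t50_52, R.t50_53,
    R.t50_60, R.t50_62, R.t50_54, R.t50_63, R.t50_64, R.t50_55, R.t50_65, R.t50_67,
    R.t50_66, R.t50_68, R.t50_69, R.t50_70, R.t50_71, R.t58_45, R.t58_49, R.t58_51,
    R.t58_59, R.t58_61, R.t58_52, R.t58_53, R.t58_60, R.t58_62, R.t58_54, R.t58_63,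
    R.t58_64, R.t58_55, R.t58_65, R.t58_67, R.t58_66, R.t58_68, R.t58_69, R.t58_70,
    R.t58_71, R.t45_49, R.t45_51, R.t45_59, R.t45_61, R.t45_52, R.t45_53, R.t45_60,
    R.t45_62, R.t45_54, R.t45_63, R.t45_64, R.t45_55, R.t45_65, R.t45_67, R.t45_66,
    R.t45_68, R.t45_69, R.t45_70, R.t45_71, R.t49_51, R.t49_59, R.t49_61, R.t49_52,
    R.t49_53, R.t49_60, R.t49_62, R.t49_54, R.t49_63, R.t49_64, R.t49_55, R.t49_65,
    R.t49_67, R.t49_66, R.t49_68, R.t49_69, R.t49_70, R.t49_71, R.t51_59, R.t51_61,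
    R.t51_52, R.t51_53, R.t51_60, R.t51_62, R.t51_54, R.t51_63, R.t51_64, R.t51_55,
    R.t51_65, R.t51_67, R.t51_66, R.t51_68, R.t51_69, R.t51_70, R.t51_71, R.t59_61,
    R.t59_52, R.t59_53, R.t59_60, R.t59_62, R.t59_54, R.t59_63, R.t59_64, R.t59_55,
    R.t59_65, R.t59_67, R.t59_66, R.t59_68, R.t59_69, R.t59_70, R.t59_71, R.t61_52,
    R.t61_53, R.t61_60, R.t61_62, R.t61_54, R.t61_63, R.t61_64, R.t61_55, R.t61_65,
    R.t61_67, R.t61_66, R.t61_68, R.t61_69, R.t61_70, R.t61_71, R.t52_53, R.t52_60,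
    R.t52_62, R.t52_54, R.t52_63, R.t52_64, R.t52_55, R.t52_65, R.t52_67, R.t52_66,
    R.t52_68, R.t52_69, R.t52_70, R.t52_71, R.t53_60, R.t53_62, R.t53_54, R.t53_63,
    R.t53_64, R.t53_55, R.t53_65, R.t53_67, R.t53_66, R.t53_68, R.t53_69, R.t53_70,
    R.t53_71, R.t60_62, R.t60_54, R.t60_63, R.t60_64, R.t60_55, R.t60_65, R.t60_67,
    R.t60_66, R.t60_68, R.t60_69, R.t60_70, R.t60_71, R.t62_54, R.t62_63, R.t62_64,
    R.t62_55, R.t62_65, R.t62_67, R.t62_66, R.t62_68, R.t62_69, R.t62_70, R.t62_71,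
    R.t54_63, R.t54_64, R.t54_55, R.t54_65, R.t54_67, R.t54_66, R.t54_68, R.t54_69,
    R.t54_70, R.t54_71, R.t63_64, R.t63_55, R.t63_65, R.t63_67, R.t63_66, R.t63_68,
    R.t63_69, R.t63_70, R.t63_71, R.t64_55, R.t64_65, R.t64_67, R.t64_66, R.t64_68,
    R.t64_69, R.t64_70, R.t64_71, R.t55_65, R.t55_67, R.t55_66, R.t55_68, R.t55_69,
    R.t55_70, R.t55_71, R.t65_67, R.t65_66, R.t65_68, R.t65_69, R.t65_70, R.t65_71,
    R.t67_66, R.t67_68, R.t67_69, R.t67_70, R.t67_71, R.t66_68, R.t66_69, R.t66_70,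
    R.t66_71, R.t68_69, R.t68_70, R.t68_71, R.t69_70, R.t69_71, R.t70_71, R.m36,
    R.m37, R.m39, R.m42, R.m46, R.m56, R.m38, R.m40, R.m43,
    R.m47, R.m57, R.m41, R.m44, R.m48, R.m50, R.m58, R.m45,
    R.m49, R.m51, R.m59, R.m61, R.m52, R.m53, R.m60, R.m62,
    R.m54, R.m63, R.m64, R.m55, R.m65, R.m67, R.m66, R.m68,
    R.m69, R.m70, R.m71, R.r36_37, R.c36_39, R.c36_42, R.c36_46, R.c36_56,
    R.c36_38, R.r36_40, R.c36_43, R.c36_47, R.c36_57, R.c36_41, R.r36_44, R.r36_48,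
    R.c36_50, R.c36_58, R.c36_45, R.c36_49, R.r36_51, R.r36_59, R.c36_61, R.c36_52,
    R.r36_53, R.c36_60, R.r36_62, R.c36_54, R.c36_63, R.r36_64, R.c36_55, R.c36_65,
    R.r36_67, R.c36_66, R.c36_68, R.c36_69, R.c36_70, R.c36_71, R.r37_39, R.c37_42,
    R.c37_46, R.c37_56, R.c37_38, R.c37_40, R.r37_43, R.r37_47, R.c37_57, R.c37_41,
    R.c37_44, R.c37_48, R.r37_50, R.r37_58, R.c37_45, R.c37_49, R.c37_51, R.c37_59,
    R.r37_61, R.c37_52, R.c37_53, R.c37_60, R.c37_62, R.r37_54, R.c37_63, R.c37_64,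
    R.c37_55, R.r37_65, R.c37_67, R.c37_66, R.r37_68, R.c37_69, R.c37_70, R.c37_71,
    R.r39_42, R.r39_46, R.c39_56, R.r39_38, R.c39_40, R.c39_43, R.c39_47, R.r39_57,
    R.c39_41, R.c39_44, R.c39_48, R.c39_50, R.c39_58, R.c39_45, R.c39_49, R.r39_51,
    R.c39_59, R.c39_61, R.r39_52, R.c39_53, R.c39_60, R.r39_62, R.c39_54, R.r39_63,
    R.c39_64, R.c39_55, R.c39_65, R.c39_67, R.c39_66, R.c39_68, R.r39_69, R.c39_70,
    R.c39_71, R.c42_46, R.r42_56, R.c42_38, R.r42_40, R.c42_43, R.r42_47, R.c42_57,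
    R.r42_41, R.c42_44, R.r42_48, R.c42_50, R.c42_58, R.c42_45, R.r42_49, R.c42_51,
    R.c42_59, R.c42_61, R.c42_52, R.c42_53, R.c42_60, R.c42_62, R.c42_54, R.c42_63,
    R.r42_64, R.c42_55, R.r42_65, R.c42_67, R.r42_66, R.c42_68, R.c42_69, R.c42_70,
    R.c42_71, R.c46_56, R.c46_38, R.r46_40, R.r46_43, R.c46_47, R.c46_57, R.r46_41,
    R.r46_44, R.c46_48, R.c46_50, R.r46_58, R.r46_45, R.c46_49, R.c46_51, R.r46_59,
    R.c46_61, R.c46_52, R.c46_53, R.r46_60, R.c46_62, R.c46_54, R.c46_63, R.c46_64,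
    R.c46_55, R.c46_65, R.c46_67, R.c46_66, R.c46_68, R.c46_69, R.r46_70, R.c46_71,
    R.c56_38, R.c56_40, R.r56_43, R.c56_47, R.c56_57, R.c56_41, R.r56_44, R.c56_48,
    R.r56_50, R.c56_58, R.r56_45, R.c56_49, R.r56_51, R.c56_59, R.c56_61, R.r56_52,
    R.r56_53, R.c56_60, R.c56_62, R.r56_54, R.c56_63, R.c56_64, R.r56_55, R.c56_65,
    R.c56_67, R.c56_66, R.c56_68, R.c56_69, R.c56_70, R.c56_71, R.c38_40, R.r38_43,
    R.r38_47, R.c38_57, R.c38_41, R.c38_44, R.c38_48, R.r38_50, R.r38_58, R.c38_45,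
    R.c38_49, R.c38_51, R.c38_59, R.r38_61, R.c38_52, R.r38_53, R.c38_60, R.c38_62,
    R.c38_54, R.c38_63, R.r38_64, R.c38_55, R.c38_65, R.r38_67, R.c38_66, R.c38_68,
    R.c38_69, R.c38_70, R.c38_71, R.c40_43, R.c40_47, R.r40_57, R.c40_41, R.c40_44,
    R.c40_48, R.r40_50, R.c40_58, R.c40_45, R.c40_49, R.c40_51, R.c40_59, R.r40_61,
    R.r40_52, R.c40_53, R.c40_60, R.c40_62, R.c40_54, R.r40_63, R.c40_64, R.c40_55,
    R.c40_65, R.c40_67, R.c40_66, R.r40_68, R.c40_69, R.c40_70, R.c40_71, R.c43_47,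
    R.c43_57, R.c43_41, R.c43_44, R.r43_48, R.c43_50, R.c43_58, R.c43_45, R.r43_49,
    R.c43_51, R.c43_59, R.c43_61, R.c43_52, R.c43_53, R.c43_60, R.r43_62, R.c43_54,
    R.r43_63, R.c43_64, R.c43_55, R.c43_65, R.c43_67, R.r43_66, R.c43_68, R.c43_69,
    R.c43_70, R.c43_71, R.r47_57, R.c47_41, R.r47_44, R.c47_48, R.c47_50, R.c47_58,
    R.r47_45, R.c47_49, R.c47_51, R.r47_59, R.c47_61, R.c47_52, R.c47_53, R.r47_60,
    R.c47_62, R.c47_54, R.c47_63, R.c47_64, R.c47_55, R.c47_65, R.c47_67, R.c47_66,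
    R.c47_68, R.r47_69, R.c47_70, R.c47_71, R.r57_41, R.c57_44, R.r57_48, R.c57_50,
    R.c57_58, R.c57_45, R.r57_49, R.c57_51, R.c57_59, R.c57_61, R.c57_52, R.r57_53,
    R.c57_60, R.c57_62, R.r57_54, R.c57_63, R.c57_64, R.r57_55, R.c57_65, R.c57_67,
    R.c57_66, R.c57_68, R.c57_69, R.c57_70, R.c57_71, R.c41_44, R.c41_48, R.r41_50,
    R.c41_58, R.c41_45, R.c41_49, R.r41_51, R.c41_59, R.r41_61, R.c41_52, R.c41_53,
    R.c41_60, R.r41_62, R.c41_54, R.c41_63, R.c41_64, R.c41_55, R.c41_65, R.r41_67,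
    R.c41_66, R.c41_68, R.c41_69, R.c41_70, R.c41_71, R.c44_48, R.c44_50, R.c44_58,
    R.c44_45, R.r44_49, R.c44_51, R.c44_59, R.r44_61, R.c44_52, R.c44_53, R.c44_60,
    R.c44_62, R.c44_54, R.r44_63, R.c44_64, R.c44_55, R.r44_65, R.c44_67, R.c44_66,
    R.c44_68, R.c44_69, R.c44_70, R.c44_71, R.c48_50, R.r48_58, R.r48_45, R.c48_49,
    R.c48_51, R.c48_59, R.c48_61, R.c48_52, R.c48_53, R.r48_60, R.c48_62, R.c48_54,
    R.c48_63, R.c48_64, R.c48_55, R.c48_65, R.c48_67, R.c48_66, R.r48_68, R.c48_69,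
    R.c48_70, R.c48_71, R.c50_58, R.c50_45, R.c50_49, R.c50_51, R.r50_59, R.c50_61,
    R.c50_52, R.c50_53, R.r50_60, R.c50_62, R.c50_54, R.c50_63, R.c50_64, R.c50_55,
    R.c50_65, R.c50_67, R.r50_66, R.c50_68, R.c50_69, R.c50_70, R.c50_71, R.c58_45,
    R.r58_49, R.r58_51, R.c58_59, R.c58_61, R.r58_52, R.c58_53, R.c58_60, R.c58_62,
    R.c58_54, R.c58_63, R.c58_64, R.r58_55, R.c58_65, R.c58_67, R.c58_66, R.c58_68,
    R.c58_69, R.c58_70, R.c58_71, R.c45_49, R.c45_51, R.c45_59, R.r45_61, R.c45_52,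
    R.c45_53, R.c45_60, R.r45_62, R.c45_54, R.c45_63, R.r45_64, R.c45_55, R.c45_65,
    R.c45_67, R.c45_66, R.c45_68, R.c45_69, R.c45_70, R.c45_71, R.c49_51, R.r49_59,
    R.c49_61, R.c49_52, R.c49_53, R.c49_60, R.c49_62, R.c49_54, R.c49_63, R.c49_64,
    R.c49_55, R.c49_65, R.r49_67, R.c49_66, R.c49_68, R.c49_69, R.c49_70, R.c49_71,
    R.c51_59, R.c51_61, R.c51_52, R.c51_53, R.r51_60, R.c51_62, R.c51_54, R.c51_63,
    R.c51_64, R.c51_55, R.r51_65, R.c51_67, R.c51_66, R.c51_68, R.c51_69, R.c51_70,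
    R.c51_71, R.c59_61, R.r59_52, R.c59_53, R.c59_60, R.c59_62, R.r59_54, R.c59_63,
    R.c59_64, R.c59_55, R.c59_65, R.c59_67, R.c59_66, R.c59_68, R.c59_69, R.c59_70,
    R.c59_71, R.c61_52, R.c61_53, R.c61_60, R.c61_62, R.c61_54, R.c61_63, R.c61_64,
    R.r61_55, R.c61_65, R.c61_67, R.c61_66, R.c61_68, R.c61_69, R.c61_70, R.c61_71,
    R.c52_53, R.c52_60, R.c52_62, R.c52_54, R.c52_63, R.r52_64, R.c52_55, R.c52_65,
    R.c52_67, R.c52_66, R.c52_68, R.c52_69, R.c52_70, R.c52_71, R.r53_60, R.c53_62,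
    R.c53_54, R.r53_63, R.c53_64, R.c53_55, R.c53_65, R.c53_67, R.c53_66, R.c53_68,
    R.c53_69, R.c53_70, R.c53_71, R.c60_62, R.c60_54, R.c60_63, R.c60_64, R.c60_55,
    R.c60_65, R.c60_67, R.c60_66, R.c60_68, R.c60_69, R.c60_70, R.c60_71, R.r62_54,
    R.c62_63, R.c62_64, R.c62_55, R.c62_65, R.c62_67, R.c62_66, R.c62_68, R.c62_69,
    R.c62_70, R.c62_71, R.c54_63, R.c54_64, R.c54_55, R.c54_65, R.c54_67, R.c54_66,
    R.c54_68, R.c54_69, R.c54_70, R.c54_71, R.c63_64, R.c63_55, R.c63_65, R.c63_67,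
    R.c63_66, R.c63_68, R.c63_69, R.c63_70, R.c63_71, R.c64_55, R.c64_65, R.c64_67,
    R.c64_66, R.c64_68, R.c64_69, R.c64_70, R.c64_71, R.c55_65, R.c55_67, R.c55_66,
    R.c55_68, R.c55_69, R.c55_70, R.c55_71, R.c65_67, R.c65_66, R.c65_68, R.c65_69,
    R.c65_70, R.c65_71, R.c67_66, R.c67_68, R.c67_69, R.c67_70, R.c67_71, R.c66_68,
    R.c66_69, R.c66_70, R.c66_71, R.c68_69, R.c68_70, R.c68_71, R.c69_70, R.c69_71,
    R.c70_71, ← R.add36, ← R.add37, ← R.add39, ← R.add42, ← R.add46, ← R.add56, ← R.add38,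
    ← R.add40, ← R.add43, ← R.add47, ← R.add57, ← R.add41, ← R.add44, ← R.add48, ← R.add50,
    ← R.add58, ← R.add45, ← R.add49, ← R.add51, ← R.add59, ← R.add61, ← R.add52, ← R.add53,
    ← R.add60, ← R.add62, ← R.add54, ← R.add63, ← R.add64, ← R.add55, ← R.add65, ← R.add67,
    ← R.add66, ← R.add68, ← R.add69, ← R.add70, ← R.add71]
  all_goals (change R.RNF _ _ _ _ _ _ _ _ _ _ _ _ _ _ _ _ _ _ _ _ _ _ _ _ _ _ _ _ _ _ _ _ _ _ _ _ = R.RNF _ _ _ _ _ _ _ _ _ _ _ _ _ _ _ _ _ _ _ _ _ _ _ _ _ _ _ _ _ _ _ _ _ _ _ _; congr 1 <;> (first | rfl | ring1 | (rw [← sub_eq_zero]; ring_nf; simp only [h2, h4, h6, h8, h10, h12, h14, h16, h18, h20, h22, h24, h26, h28, h30, h32, mul_zero, zero_mul, add_zero, zero_add, neg_zero, sub_zero, sub_self])))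

theorem ulm57 (t36 t37 t39 t42 t46 t56 t38 t40 t43 t47 t57 t41 t44 t48 t50 t58 t45 t49 t51 t59 t61 t52 t53 t60 t62 t54 t63 t64 t55 t65 t67 t66 t68 t69 t70 t71 c : K) :
    R.X57 c * R.RNF t36 t37 t39 t42 t46 t56 t38 t40 t43 t47 t57 t41 t44 t48 t50 t58 t45 t49 t51 t59 t61 t52 t53 t60 t62 t54 t63 t64 t55 t65 t67 t66 t68 t69 t70 t71 =
      R.RNF (t36) (t37) (t39) (t42) (t46) (t56) (t38) (t40) (t43) (t47) (c + t57) (t41) (t44) (t48) (t50) (c * t39 + t58) (t45) (t49) (t51) (c * t40 + t59) (c * t39 * t46 + c * t47 + t61) (t52) (t53) (c * t38 * t39 + t60) (t62) (t54) (c * t38 * t39 * t46 + t63) (c * t39 * t40 * t46 + c * t39 * t48 + c * t40 * t47 + t64) (t55) (c * t38 * t39 * t47 + c * t39 * t41 * t46 + c * t41 * t47 + t65) (c * t39 * t44 * t46 + c * t40 * t50 + c * t44 * t47 + t67) (c * t38 * t39 * t40 * t46 + c * t38 * t39 * t48 + c * t40 * t49 + t66) (c * t38 * t39 * t43 * t46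 + c * t38 * t39 * t50 + c * t39 * t45 * t46 + c * t45 * t47 + t68) (c * t38 * t39 * t44 * t46 + c * t38 * t39 * t51 + t69) (c * t38 * t39 * t40 * t43 * t46 + c * t38 * t39 * t44 * t47 + c * t38 * t39 * t53 + c * t39 * t40 * t45 * t46 + c * t39 * t41 * t44 * t46 + c * t39 * t45 * t48 + c * t40 * t45 * t47 + c * t41 * t44 * t47 + t70) (c * t38 * t39 * t40 * t46 * t50 + c * t38 * t39 * t43 * t46 * t48 + c * t38 * t39 * t46 * t53 + c * t38 * t39 * t47 * t51 + c * t38 * t39 * t48 * t50 + c * t39 * t40 * t46 * t52 + c * t39 * t41 * t46 * t51 + c * t39 * t44 * t46 * t49 + c * t39 * t48 * t52 + c * t40 * t47 * t52 + c * t40 * t49 * t50 + c * t41 * t47 * t51 + c * t44 * t47 * t49 + t71) := by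
  have h2 : (2 : K) = 0 := CharTwo.two_eq_zero
  have h4 : (4 : K) = 0 := by linear_combination 2 * h2
  have h6 : (6 : K) = 0 := by linear_combination 3 * h2
  have h8 : (8 : K) = 0 := by linear_combination 4 * h2
  have h10 : (10 : K) = 0 := by linear_combination 5 * h2
  have h12 : (12 : K) = 0 := by linear_combination 6 * h2
  have h14 : (14 : K) = 0 := by linear_combination 7 * h2
  have h16 : (16 : K) = 0 := by linear_combination 8 * h2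
  have h18 : (18 : K) = 0 := by linear_combination 9 * h2
  have h20 : (20 : K) = 0 := by linear_combination 10 * h2
  have h22 : (22 : K) = 0 := by linear_combination 11 * h2
  have h24 : (24 : K) = 0 := by linear_combination 12 * h2
  have h26 : (26 : K) = 0 := by linear_combination 13 * h2
  have h28 : (28 : K) = 0 := by linear_combination 14 * h2
  have h30 : (30 : K) = 0 := by linear_combination 15 * h2
  have h32 : (32 : K) = 0 := by linear_combination 16 * h2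
  unfold RNF
  simp only [mul_assoc, R.t36_37, R.t36_39, R.t36_42, R.t36_46, R.t36_56, R.t36_38, R.t36_40,
    R.t36_43, R.t36_47, R.t36_57, R.t36_41, R.t36_44, R.t36_48, R.t36_50, R.t36_58,
    R.t36_45, R.t36_49, R.t36_51, R.t36_59, R.t36_61, R.t36_52, R.t36_53, R.t36_60,
    R.t36_62, R.t36_54, R.t36_63, R.t36_64, R.t36_55, R.t36_65, R.t36_67, R.t36_66,
    R.t36_68, R.t36_69, R.t36_70, R.t36_71, R.t37_39, R.t37_42, R.t37_46, R.t37_56,
    R.t37_38, R.t37_40, R.t37_43, R.t37_47, R.t37_57, R.t37_41, R.t37_44, R.t37_48,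
    R.t37_50, R.t37_58, R.t37_45, R.t37_49, R.t37_51, R.t37_59, R.t37_61, R.t37_52,
    R.t37_53, R.t37_60, R.t37_62, R.t37_54, R.t37_63, R.t37_64, R.t37_55, R.t37_65,
    R.t37_67, R.t37_66, R.t37_68, R.t37_69, R.t37_70, R.t37_71, R.t39_42, R.t39_46,
    R.t39_56, R.t39_38, R.t39_40, R.t39_43, R.t39_47, R.t39_57, R.t39_41, R.t39_44,
    R.t39_48, R.t39_50, R.t39_58, R.t39_45, R.t39_49, R.t39_51, R.t39_59, R.t39_61,
    R.t39_52, R.t39_53, R.t39_60, R.t39_62, R.t39_54, R.t39_63, R.t39_64, R.t39_55,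
    R.t39_65, R.t39_67, R.t39_66, R.t39_68, R.t39_69, R.t39_70, R.t39_71, R.t42_46,
    R.t42_56, R.t42_38, R.t42_40, R.t42_43, R.t42_47, R.t42_57, R.t42_41, R.t42_44,
    R.t42_48, R.t42_50, R.t42_58, R.t42_45, R.t42_49, R.t42_51, R.t42_59, R.t42_61,
    R.t42_52, R.t42_53, R.t42_60, R.t42_62, R.t42_54, R.t42_63, R.t42_64, R.t42_55,
    R.t42_65, R.t42_67, R.t42_66, R.t42_68, R.t42_69, R.t42_70, R.t42_71, R.t46_56,
    R.t46_38, R.t46_40, R.t46_43, R.t46_47, R.t46_57, R.t46_41, R.t46_44, R.t46_48,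
    R.t46_50, R.t46_58, R.t46_45, R.t46_49, R.t46_51, R.t46_59, R.t46_61, R.t46_52,
    R.t46_53, R.t46_60, R.t46_62, R.t46_54, R.t46_63, R.t46_64, R.t46_55, R.t46_65,
    R.t46_67, R.t46_66, R.t46_68, R.t46_69, R.t46_70, R.t46_71, R.t56_38, R.t56_40,
    R.t56_43, R.t56_47, R.t56_57, R.t56_41, R.t56_44, R.t56_48, R.t56_50, R.t56_58,
    R.t56_45, R.t56_49, R.t56_51, R.t56_59, R.t56_61, R.t56_52, R.t56_53, R.t56_60,
    R.t56_62, R.t56_54, R.t56_63, R.t56_64, R.t56_55, R.t56_65, R.t56_67, R.t56_66,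
    R.t56_68, R.t56_69, R.t56_70, R.t56_71, R.t38_40, R.t38_43, R.t38_47, R.t38_57,
    R.t38_41, R.t38_44, R.t38_48, R.t38_50, R.t38_58, R.t38_45, R.t38_49, R.t38_51,
    R.t38_59, R.t38_61, R.t38_52, R.t38_53, R.t38_60, R.t38_62, R.t38_54, R.t38_63,
    R.t38_64, R.t38_55, R.t38_65, R.t38_67, R.t38_66, R.t38_68, R.t38_69, R.t38_70,
    R.t38_71, R.t40_43, R.t40_47, R.t40_57, R.t40_41, R.t40_44, R.t40_48, R.t40_50,
    R.t40_58, R.t40_45, R.t40_49, R.t40_51, R.t40_59, R.t40_61, R.t40_52, R.t40_53,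
    R.t40_60, R.t40_62, R.t40_54, R.t40_63, R.t40_64, R.t40_55, R.t40_65, R.t40_67,
    R.t40_66, R.t40_68, R.t40_69, R.t40_70, R.t40_71, R.t43_47, R.t43_57, R.t43_41,
    R.t43_44, R.t43_48, R.t43_50, R.t43_58, R.t43_45, R.t43_49, R.t43_51, R.t43_59,
    R.t43_61, R.t43_52, R.t43_53, R.t43_60, R.t43_62, R.t43_54, R.t43_63, R.t43_64,
    R.t43_55, R.t43_65, R.t43_67, R.t43_66, R.t43_68, R.t43_69, R.t43_70, R.t43_71,
    R.t47_57, R.t47_41, R.t47_44, R.t47_48, R.t47_50, R.t47_58, R.t47_45, R.t47_49,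
    R.t47_51, R.t47_59, R.t47_61, R.t47_52, R.t47_53, R.t47_60, R.t47_62, R.t47_54,
    R.t47_63, R.t47_64, R.t47_55, R.t47_65, R.t47_67, R.t47_66, R.t47_68, R.t47_69,
    R.t47_70, R.t47_71, R.t57_41, R.t57_44, R.t57_48, R.t57_50, R.t57_58, R.t57_45,
    R.t57_49, R.t57_51, R.t57_59, R.t57_61, R.t57_52, R.t57_53, R.t57_60, R.t57_62,
    R.t57_54, R.t57_63, R.t57_64, R.t57_55, R.t57_65, R.t57_67, R.t57_66, R.t57_68,
    R.t57_69, R.t57_70, R.t57_71, R.t41_44, R.t41_48, R.t41_50, R.t41_58, R.t41_45,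
    R.t41_49, R.t41_51, R.t41_59, R.t41_61, R.t41_52, R.t41_53, R.t41_60, R.t41_62,
    R.t41_54, R.t41_63, R.t41_64, R.t41_55, R.t41_65, R.t41_67, R.t41_66, R.t41_68,
    R.t41_69, R.t41_70, R.t41_71, R.t44_48, R.t44_50, R.t44_58, R.t44_45, R.t44_49,
    R.t44_51, R.t44_59, R.t44_61, R.t44_52, R.t44_53, R.t44_60, R.t44_62, R.t44_54,
    R.t44_63, R.t44_64, R.t44_55, R.t44_65, R.t44_67, R.t44_66, R.t44_68, R.t44_69,
    R.t44_70, R.t44_71, R.t48_50, R.t48_58, R.t48_45, R.t48_49, R.t48_51, R.t48_59,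
    R.t48_61, R.t48_52, R.t48_53, R.t48_60, R.t48_62, R.t48_54, R.t48_63, R.t48_64,
    R.t48_55, R.t48_65, R.t48_67, R.t48_66, R.t48_68, R.t48_69, R.t48_70, R.t48_71,
    R.t50_58, R.t50_45, R.t50_49, R.t50_51, R.t50_59, R.t50_61, R.t50_52, R.t50_53,
    R.t50_60, R.t50_62, R.t50_54, R.t50_63, R.t50_64, R.t50_55, R.t50_65, R.t50_67,
    R.t50_66, R.t50_68, R.t50_69, R.t50_70, R.t50_71, R.t58_45, R.t58_49, R.t58_51,
    R.t58_59, R.t58_61, R.t58_52, R.t58_53, R.t58_60, R.t58_62, R.t58_54, R.t58_63,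
    R.t58_64, R.t58_55, R.t58_65, R.t58_67, R.t58_66, R.t58_68, R.t58_69, R.t58_70,
    R.t58_71, R.t45_49, R.t45_51, R.t45_59, R.t45_61, R.t45_52, R.t45_53, R.t45_60,
    R.t45_62, R.t45_54, R.t45_63, R.t45_64, R.t45_55, R.t45_65, R.t45_67, R.t45_66,
    R.t45_68, R.t45_69, R.t45_70, R.t45_71, R.t49_51, R.t49_59, R.t49_61, R.t49_52,
    R.t49_53, R.t49_60, R.t49_62, R.t49_54, R.t49_63, R.t49_64, R.t49_55, R.t49_65,
    R.t49_67, R.t49_66, R.t49_68, R.t49_69, R.t49_70, R.t49_71, R.t51_59, R.t51_61,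
    R.t51_52, R.t51_53, R.t51_60, R.t51_62, R.t51_54, R.t51_63, R.t51_64, R.t51_55,
    R.t51_65, R.t51_67, R.t51_66, R.t51_68, R.t51_69, R.t51_70, R.t51_71, R.t59_61,
    R.t59_52, R.t59_53, R.t59_60, R.t59_62, R.t59_54, R.t59_63, R.t59_64, R.t59_55,
    R.t59_65, R.t59_67, R.t59_66, R.t59_68, R.t59_69, R.t59_70, R.t59_71, R.t61_52,
    R.t61_53, R.t61_60, R.t61_62, R.t61_54, R.t61_63, R.t61_64, R.t61_55, R.t61_65,
    R.t61_67, R.t61_66, R.t61_68, R.t61_69, R.t61_70, R.t61_71, R.t52_53, R.t52_60,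
    R.t52_62, R.t52_54, R.t52_63, R.t52_64, R.t52_55, R.t52_65, R.t52_67, R.t52_66,
    R.t52_68, R.t52_69, R.t52_70, R.t52_71, R.t53_60, R.t53_62, R.t53_54, R.t53_63,
    R.t53_64, R.t53_55, R.t53_65, R.t53_67, R.t53_66, R.t53_68, R.t53_69, R.t53_70,
    R.t53_71, R.t60_62, R.t60_54, R.t60_63, R.t60_64, R.t60_55, R.t60_65, R.t60_67,
    R.t60_66, R.t60_68, R.t60_69, R.t60_70, R.t60_71, R.t62_54, R.t62_63, R.t62_64,
    R.t62_55, R.t62_65, R.t62_67, R.t62_66, R.t62_68, R.t62_69, R.t62_70, R.t62_71,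
    R.t54_63, R.t54_64, R.t54_55, R.t54_65, R.t54_67, R.t54_66, R.t54_68, R.t54_69,
    R.t54_70, R.t54_71, R.t63_64, R.t63_55, R.t63_65, R.t63_67, R.t63_66, R.t63_68,
    R.t63_69, R.t63_70, R.t63_71, R.t64_55, R.t64_65, R.t64_67, R.t64_66, R.t64_68,
    R.t64_69, R.t64_70, R.t64_71, R.t55_65, R.t55_67, R.t55_66, R.t55_68, R.t55_69,
    R.t55_70, R.t55_71, R.t65_67, R.t65_66, R.t65_68, R.t65_69, R.t65_70, R.t65_71,
    R.t67_66, R.t67_68, R.t67_69, R.t67_70, R.t67_71, R.t66_68, R.t66_69, R.t66_70,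
    R.t66_71, R.t68_69, R.t68_70, R.t68_71, R.t69_70, R.t69_71, R.t70_71, R.m36,
    R.m37, R.m39, R.m42, R.m46, R.m56, R.m38, R.m40, R.m43,
    R.m47, R.m57, R.m41, R.m44, R.m48, R.m50, R.m58, R.m45,
    R.m49, R.m51, R.m59, R.m61, R.m52, R.m53, R.m60, R.m62,
    R.m54, R.m63, R.m64, R.m55, R.m65, R.m67, R.m66, R.m68,
    R.m69, R.m70, R.m71, R.r36_37, R.c36_39, R.c36_42, R.c36_46, R.c36_56,
    R.c36_38, R.r36_40, R.c36_43, R.c36_47, R.c36_57, R.c36_41, R.r36_44, R.r36_48,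
    R.c36_50, R.c36_58, R.c36_45, R.c36_49, R.r36_51, R.r36_59, R.c36_61, R.c36_52,
    R.r36_53, R.c36_60, R.r36_62, R.c36_54, R.c36_63, R.r36_64, R.c36_55, R.c36_65,
    R.r36_67, R.c36_66, R.c36_68, R.c36_69, R.c36_70, R.c36_71, R.r37_39, R.c37_42,
    R.c37_46, R.c37_56, R.c37_38, R.c37_40, R.r37_43, R.r37_47, R.c37_57, R.c37_41,
    R.c37_44, R.c37_48, R.r37_50, R.r37_58, R.c37_45, R.c37_49, R.c37_51, R.c37_59,
    R.r37_61, R.c37_52, R.c37_53, R.c37_60, R.c37_62, R.r37_54, R.c37_63, R.c37_64,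
    R.c37_55, R.r37_65, R.c37_67, R.c37_66, R.r37_68, R.c37_69, R.c37_70, R.c37_71,
    R.r39_42, R.r39_46, R.c39_56, R.r39_38, R.c39_40, R.c39_43, R.c39_47, R.r39_57,
    R.c39_41, R.c39_44, R.c39_48, R.c39_50, R.c39_58, R.c39_45, R.c39_49, R.r39_51,
    R.c39_59, R.c39_61, R.r39_52, R.c39_53, R.c39_60, R.r39_62, R.c39_54, R.r39_63,
    R.c39_64, R.c39_55, R.c39_65, R.c39_67, R.c39_66, R.c39_68, R.r39_69, R.c39_70,
    R.c39_71, R.c42_46, R.r42_56, R.c42_38, R.r42_40, R.c42_43, R.r42_47, R.c42_57,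
    R.r42_41, R.c42_44, R.r42_48, R.c42_50, R.c42_58, R.c42_45, R.r42_49, R.c42_51,
    R.c42_59, R.c42_61, R.c42_52, R.c42_53, R.c42_60, R.c42_62, R.c42_54, R.c42_63,
    R.r42_64, R.c42_55, R.r42_65, R.c42_67, R.r42_66, R.c42_68, R.c42_69, R.c42_70,
    R.c42_71, R.c46_56, R.c46_38, R.r46_40, R.r46_43, R.c46_47, R.c46_57, R.r46_41,
    R.r46_44, R.c46_48, R.c46_50, R.r46_58, R.r46_45, R.c46_49, R.c46_51, R.r46_59,
    R.c46_61, R.c46_52, R.c46_53, R.r46_60, R.c46_62, R.c46_54, R.c46_63, R.c46_64,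
    R.c46_55, R.c46_65, R.c46_67, R.c46_66, R.c46_68, R.c46_69, R.r46_70, R.c46_71,
    R.c56_38, R.c56_40, R.r56_43, R.c56_47, R.c56_57, R.c56_41, R.r56_44, R.c56_48,
    R.r56_50, R.c56_58, R.r56_45, R.c56_49, R.r56_51, R.c56_59, R.c56_61, R.r56_52,
    R.r56_53, R.c56_60, R.c56_62, R.r56_54, R.c56_63, R.c56_64, R.r56_55, R.c56_65,
    R.c56_67, R.c56_66, R.c56_68, R.c56_69, R.c56_70, R.c56_71, R.c38_40, R.r38_43,
    R.r38_47, R.c38_57, R.c38_41, R.c38_44, R.c38_48, R.r38_50, R.r38_58, R.c38_45,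
    R.c38_49, R.c38_51, R.c38_59, R.r38_61, R.c38_52, R.r38_53, R.c38_60, R.c38_62,
    R.c38_54, R.c38_63, R.r38_64, R.c38_55, R.c38_65, R.r38_67, R.c38_66, R.c38_68,
    R.c38_69, R.c38_70, R.c38_71, R.c40_43, R.c40_47, R.r40_57, R.c40_41, R.c40_44,
    R.c40_48, R.r40_50, R.c40_58, R.c40_45, R.c40_49, R.c40_51, R.c40_59, R.r40_61,
    R.r40_52, R.c40_53, R.c40_60, R.c40_62, R.c40_54, R.r40_63, R.c40_64, R.c40_55,
    R.c40_65, R.c40_67, R.c40_66, R.r40_68, R.c40_69, R.c40_70, R.c40_71, R.c43_47,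
    R.c43_57, R.c43_41, R.c43_44, R.r43_48, R.c43_50, R.c43_58, R.c43_45, R.r43_49,
    R.c43_51, R.c43_59, R.c43_61, R.c43_52, R.c43_53, R.c43_60, R.r43_62, R.c43_54,
    R.r43_63, R.c43_64, R.c43_55, R.c43_65, R.c43_67, R.r43_66, R.c43_68, R.c43_69,
    R.c43_70, R.c43_71, R.r47_57, R.c47_41, R.r47_44, R.c47_48, R.c47_50, R.c47_58,
    R.r47_45, R.c47_49, R.c47_51, R.r47_59, R.c47_61, R.c47_52, R.c47_53, R.r47_60,
    R.c47_62, R.c47_54, R.c47_63, R.c47_64, R.c47_55, R.c47_65, R.c47_67, R.c47_66,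
    R.c47_68, R.r47_69, R.c47_70, R.c47_71, R.r57_41, R.c57_44, R.r57_48, R.c57_50,
    R.c57_58, R.c57_45, R.r57_49, R.c57_51, R.c57_59, R.c57_61, R.c57_52, R.r57_53,
    R.c57_60, R.c57_62, R.r57_54, R.c57_63, R.c57_64, R.r57_55, R.c57_65, R.c57_67,
    R.c57_66, R.c57_68, R.c57_69, R.c57_70, R.c57_71, R.c41_44, R.c41_48, R.r41_50,
    R.c41_58, R.c41_45, R.c41_49, R.r41_51, R.c41_59, R.r41_61, R.c41_52, R.c41_53,
    R.c41_60, R.r41_62, R.c41_54, R.c41_63, R.c41_64, R.c41_55, R.c41_65, R.r41_67,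
    R.c41_66, R.c41_68, R.c41_69, R.c41_70, R.c41_71, R.c44_48, R.c44_50, R.c44_58,
    R.c44_45, R.r44_49, R.c44_51, R.c44_59, R.r44_61, R.c44_52, R.c44_53, R.c44_60,
    R.c44_62, R.c44_54, R.r44_63, R.c44_64, R.c44_55, R.r44_65, R.c44_67, R.c44_66,
    R.c44_68, R.c44_69, R.c44_70, R.c44_71, R.c48_50, R.r48_58, R.r48_45, R.c48_49,
    R.c48_51, R.c48_59, R.c48_61, R.c48_52, R.c48_53, R.r48_60, R.c48_62, R.c48_54,
    R.c48_63, R.c48_64, R.c48_55, R.c48_65, R.c48_67, R.c48_66, R.r48_68, R.c48_69,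
    R.c48_70, R.c48_71, R.c50_58, R.c50_45, R.c50_49, R.c50_51, R.r50_59, R.c50_61,
    R.c50_52, R.c50_53, R.r50_60, R.c50_62, R.c50_54, R.c50_63, R.c50_64, R.c50_55,
    R.c50_65, R.c50_67, R.r50_66, R.c50_68, R.c50_69, R.c50_70, R.c50_71, R.c58_45,
    R.r58_49, R.r58_51, R.c58_59, R.c58_61, R.r58_52, R.c58_53, R.c58_60, R.c58_62,
    R.c58_54, R.c58_63, R.c58_64, R.r58_55, R.c58_65, R.c58_67, R.c58_66, R.c58_68,
    R.c58_69, R.c58_70, R.c58_71, R.c45_49, R.c45_51, R.c45_59, R.r45_61, R.c45_52,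
    R.c45_53, R.c45_60, R.r45_62, R.c45_54, R.c45_63, R.r45_64, R.c45_55, R.c45_65,
    R.c45_67, R.c45_66, R.c45_68, R.c45_69, R.c45_70, R.c45_71, R.c49_51, R.r49_59,
    R.c49_61, R.c49_52, R.c49_53, R.c49_60, R.c49_62, R.c49_54, R.c49_63, R.c49_64,
    R.c49_55, R.c49_65, R.r49_67, R.c49_66, R.c49_68, R.c49_69, R.c49_70, R.c49_71,
    R.c51_59, R.c51_61, R.c51_52, R.c51_53, R.r51_60, R.c51_62, R.c51_54, R.c51_63,
    R.c51_64, R.c51_55, R.r51_65, R.c51_67, R.c51_66, R.c51_68, R.c51_69, R.c51_70,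
    R.c51_71, R.c59_61, R.r59_52, R.c59_53, R.c59_60, R.c59_62, R.r59_54, R.c59_63,
    R.c59_64, R.c59_55, R.c59_65, R.c59_67, R.c59_66, R.c59_68, R.c59_69, R.c59_70,
    R.c59_71, R.c61_52, R.c61_53, R.c61_60, R.c61_62, R.c61_54, R.c61_63, R.c61_64,
    R.r61_55, R.c61_65, R.c61_67, R.c61_66, R.c61_68, R.c61_69, R.c61_70, R.c61_71,
    R.c52_53, R.c52_60, R.c52_62, R.c52_54, R.c52_63, R.r52_64, R.c52_55, R.c52_65,
    R.c52_67, R.c52_66, R.c52_68, R.c52_69, R.c52_70, R.c52_71, R.r53_60, R.c53_62,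
    R.c53_54, R.r53_63, R.c53_64, R.c53_55, R.c53_65, R.c53_67, R.c53_66, R.c53_68,
    R.c53_69, R.c53_70, R.c53_71, R.c60_62, R.c60_54, R.c60_63, R.c60_64, R.c60_55,
    R.c60_65, R.c60_67, R.c60_66, R.c60_68, R.c60_69, R.c60_70, R.c60_71, R.r62_54,
    R.c62_63, R.c62_64, R.c62_55, R.c62_65, R.c62_67, R.c62_66, R.c62_68, R.c62_69,
    R.c62_70, R.c62_71, R.c54_63, R.c54_64, R.c54_55, R.c54_65, R.c54_67, R.c54_66,
    R.c54_68, R.c54_69, R.c54_70, R.c54_71, R.c63_64, R.c63_55, R.c63_65, R.c63_67,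
    R.c63_66, R.c63_68, R.c63_69, R.c63_70, R.c63_71, R.c64_55, R.c64_65, R.c64_67,
    R.c64_66, R.c64_68, R.c64_69, R.c64_70, R.c64_71, R.c55_65, R.c55_67, R.c55_66,
    R.c55_68, R.c55_69, R.c55_70, R.c55_71, R.c65_67, R.c65_66, R.c65_68, R.c65_69,
    R.c65_70, R.c65_71, R.c67_66, R.c67_68, R.c67_69, R.c67_70, R.c67_71, R.c66_68,
    R.c66_69, R.c66_70, R.c66_71, R.c68_69, R.c68_70, R.c68_71, R.c69_70, R.c69_71,
    R.c70_71, ← R.add36, ← R.add37, ← R.add39, ← R.add42, ← R.add46, ← R.add56, ← R.add38,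
    ← R.add40, ← R.add43, ← R.add47, ← R.add57, ← R.add41, ← R.add44, ← R.add48, ← R.add50,
    ← R.add58, ← R.add45, ← R.add49, ← R.add51, ← R.add59, ← R.add61, ← R.add52, ← R.add53,
    ← R.add60, ← R.add62, ← R.add54, ← R.add63, ← R.add64, ← R.add55, ← R.add65, ← R.add67,
    ← R.add66, ← R.add68, ← R.add69, ← R.add70, ← R.add71]
  all_goals (change R.RNF _ _ _ _ _ _ _ _ _ _ _ _ _ _ _ _ _ _ _ _ _ _ _ _ _ _ _ _ _ _ _ _ _ _ _ _ = R.RNF _ _ _ _ _ _ _ _ _ _ _ _ _ _ _ _ _ _ _ _ _ _ _ _ _ _ _ _ _ _ _ _ _ _ _ _; congr 1 <;> (first | rfl | ring1 | (rw [← sub_eq_zero]; ring_nf; simp only [h2, h4, h6, h8, h10, h12, h14, h16, h18, h20, h22, h24, h26, h28, h30, h32, mul_zero, zero_mul, add_zero, zero_add, neg_zero, sub_zero, sub_self])))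

theorem ulm41 (t36 t37 t39 t42 t46 t56 t38 t40 t43 t47 t57 t41 t44 t48 t50 t58 t45 t49 t51 t59 t61 t52 t53 t60 t62 t54 t63 t64 t55 t65 t67 t66 t68 t69 t70 t71 c : K) :
    R.X41 c * R.RNF t36 t37 t39 t42 t46 t56 t38 t40 t43 t47 t57 t41 t44 t48 t50 t58 t45 t49 t51 t59 t61 t52 t53 t60 t62 t54 t63 t64 t55 t65 t67 t66 t68 t69 t70 t71 =
      R.RNF (t36) (t37) (t39) (t42) (t46) (t56) (t38) (t40) (t43) (t47) (t57) (c + t41) (t44) (t48) (t50) (t58) (c * t42 + t45) (c * t46 + t49) (t51) (t59) (t61) (c * t42 * t46 + t52) (t53) (c * t42 * t56 + c * t57 + t60) (t62) (c * t42 * t47 + c * t43 * t46 + t54) (c * t42 * t46 * t56 + c * t46 * t57 + t63) (t64) (c * t40 * t42 * t46 + c * t42 * t48 + c * t44 * t46 + t55) (c * t42 * t47 * t56 + c * t46 * t58 + t65) (t67) (c * t40 * t42 * t46 * t56 + c * t42 * t48 * t56 + c * t48 * t57 + t66) (c * t42 * t43 * t46 * t56 + c * t42 * t46 * t58 + c *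 t42 * t47 * t57 + c * t42 * t50 * t56 + c * t43 * t46 * t57 + c * t50 * t57 + t68) (c * t40 * t42 * t46 * t57 + c * t42 * t44 * t46 * t56 + c * t42 * t46 * t59 + c * t42 * t51 * t56 + c * t44 * t46 * t57 + c * t51 * t57 + t69) (c * t40 * t42 * t43 * t46 * t56 + c * t40 * t42 * t46 * t58 + c * t42 * t44 * t47 * t56 + c * t42 * t47 * t59 + c * t42 * t48 * t58 + c * t42 * t53 * t56 + c * t43 * t46 * t59 + c * t44 * t46 * t58 + c * t53 * t57 + t70) (c * t40 * t42 * t46 * t50 * t56 + c * t40 * t42 * t46 * t61 + c * t42 * t43 * t46 * t48 * t56 + c * t42 * t46 * t53 * t56 + c * t42 * t47 * t48 * t57 + c * t42 * t47 * t51 * t56 + c * t42 * t47 * t62 + c * t42 * t48 * t50 * t56 + c * t42 * t48 * t61 + c * t43 * t46 * t48 * t57 + c * t43 * t46 * t62 + c * t44 * t46 * t61 + c * t46 * t51 * t58 + c * t46 * t53 * t57 + c * t48 * t50 * t57 + t71) := by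
  have h2 : (2 : K) = 0 := CharTwo.two_eq_zero
  have h4 : (4 : K) = 0 := by linear_combination 2 * h2
  have h6 : (6 : K) = 0 := by linear_combination 3 * h2
  have h8 : (8 : K) = 0 := by linear_combination 4 * h2
  have h10 : (10 : K) = 0 := by linear_combination 5 * h2
  have h12 : (12 : K) = 0 := by linear_combination 6 * h2
  have h14 : (14 : K) = 0 := by linear_combination 7 * h2
  have h16 : (16 : K) = 0 := by linear_combination 8 * h2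
  have h18 : (18 : K) = 0 := by linear_combination 9 * h2
  have h20 : (20 : K) = 0 := by linear_combination 10 * h2
  have h22 : (22 : K) = 0 := by linear_combination 11 * h2
  have h24 : (24 : K) = 0 := by linear_combination 12 * h2
  have h26 : (26 : K) = 0 := by linear_combination 13 * h2
  have h28 : (28 : K) = 0 := by linear_combination 14 * h2
  have h30 : (30 : K) = 0 := by linear_combination 15 * h2
  have h32 : (32 : K) = 0 := by linear_combination 16 * h2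
  unfold RNF
  simp only [mul_assoc, R.t36_37, R.t36_39, R.t36_42, R.t36_46, R.t36_56, R.t36_38, R.t36_40,
    R.t36_43, R.t36_47, R.t36_57, R.t36_41, R.t36_44, R.t36_48, R.t36_50, R.t36_58,
    R.t36_45, R.t36_49, R.t36_51, R.t36_59, R.t36_61, R.t36_52, R.t36_53, R.t36_60,
    R.t36_62, R.t36_54, R.t36_63, R.t36_64, R.t36_55, R.t36_65, R.t36_67, R.t36_66,
    R.t36_68, R.t36_69, R.t36_70, R.t36_71, R.t37_39, R.t37_42, R.t37_46, R.t37_56,
    R.t37_38, R.t37_40, R.t37_43, R.t37_47, R.t37_57, R.t37_41, R.t37_44, R.t37_48,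
    R.t37_50, R.t37_58, R.t37_45, R.t37_49, R.t37_51, R.t37_59, R.t37_61, R.t37_52,
    R.t37_53, R.t37_60, R.t37_62, R.t37_54, R.t37_63, R.t37_64, R.t37_55, R.t37_65,
    R.t37_67, R.t37_66, R.t37_68, R.t37_69, R.t37_70, R.t37_71, R.t39_42, R.t39_46,
    R.t39_56, R.t39_38, R.t39_40, R.t39_43, R.t39_47, R.t39_57, R.t39_41, R.t39_44,
    R.t39_48, R.t39_50, R.t39_58, R.t39_45, R.t39_49, R.t39_51, R.t39_59, R.t39_61,
    R.t39_52, R.t39_53, R.t39_60, R.t39_62, R.t39_54, R.t39_63, R.t39_64, R.t39_55,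
    R.t39_65, R.t39_67, R.t39_66, R.t39_68, R.t39_69, R.t39_70, R.t39_71, R.t42_46,
    R.t42_56, R.t42_38, R.t42_40, R.t42_43, R.t42_47, R.t42_57, R.t42_41, R.t42_44,
    R.t42_48, R.t42_50, R.t42_58, R.t42_45, R.t42_49, R.t42_51, R.t42_59, R.t42_61,
    R.t42_52, R.t42_53, R.t42_60, R.t42_62, R.t42_54, R.t42_63, R.t42_64, R.t42_55,
    R.t42_65, R.t42_67, R.t42_66, R.t42_68, R.t42_69, R.t42_70, R.t42_71, R.t46_56,
    R.t46_38, R.t46_40, R.t46_43, R.t46_47, R.t46_57, R.t46_41, R.t46_44, R.t46_48,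
    R.t46_50, R.t46_58, R.t46_45, R.t46_49, R.t46_51, R.t46_59, R.t46_61, R.t46_52,
    R.t46_53, R.t46_60, R.t46_62, R.t46_54, R.t46_63, R.t46_64, R.t46_55, R.t46_65,
    R.t46_67, R.t46_66, R.t46_68, R.t46_69, R.t46_70, R.t46_71, R.t56_38, R.t56_40,
    R.t56_43, R.t56_47, R.t56_57, R.t56_41, R.t56_44, R.t56_48, R.t56_50, R.t56_58,
    R.t56_45, R.t56_49, R.t56_51, R.t56_59, R.t56_61, R.t56_52, R.t56_53, R.t56_60,
    R.t56_62, R.t56_54, R.t56_63, R.t56_64, R.t56_55, R.t56_65, R.t56_67, R.t56_66,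
    R.t56_68, R.t56_69, R.t56_70, R.t56_71, R.t38_40, R.t38_43, R.t38_47, R.t38_57,
    R.t38_41, R.t38_44, R.t38_48, R.t38_50, R.t38_58, R.t38_45, R.t38_49, R.t38_51,
    R.t38_59, R.t38_61, R.t38_52, R.t38_53, R.t38_60, R.t38_62, R.t38_54, R.t38_63,
    R.t38_64, R.t38_55, R.t38_65, R.t38_67, R.t38_66, R.t38_68, R.t38_69, R.t38_70,
    R.t38_71, R.t40_43, R.t40_47, R.t40_57, R.t40_41, R.t40_44, R.t40_48, R.t40_50,
    R.t40_58, R.t40_45, R.t40_49, R.t40_51, R.t40_59, R.t40_61, R.t40_52, R.t40_53,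
    R.t40_60, R.t40_62, R.t40_54, R.t40_63, R.t40_64, R.t40_55, R.t40_65, R.t40_67,
    R.t40_66, R.t40_68, R.t40_69, R.t40_70, R.t40_71, R.t43_47, R.t43_57, R.t43_41,
    R.t43_44, R.t43_48, R.t43_50, R.t43_58, R.t43_45, R.t43_49, R.t43_51, R.t43_59,
    R.t43_61, R.t43_52, R.t43_53, R.t43_60, R.t43_62, R.t43_54, R.t43_63, R.t43_64,
    R.t43_55, R.t43_65, R.t43_67, R.t43_66, R.t43_68, R.t43_69, R.t43_70, R.t43_71,
    R.t47_57, R.t47_41, R.t47_44, R.t47_48, R.t47_50, R.t47_58, R.t47_45, R.t47_49,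
    R.t47_51, R.t47_59, R.t47_61, R.t47_52, R.t47_53, R.t47_60, R.t47_62, R.t47_54,
    R.t47_63, R.t47_64, R.t47_55, R.t47_65, R.t47_67, R.t47_66, R.t47_68, R.t47_69,
    R.t47_70, R.t47_71, R.t57_41, R.t57_44, R.t57_48, R.t57_50, R.t57_58, R.t57_45,
    R.t57_49, R.t57_51, R.t57_59, R.t57_61, R.t57_52, R.t57_53, R.t57_60, R.t57_62,
    R.t57_54, R.t57_63, R.t57_64, R.t57_55, R.t57_65, R.t57_67, R.t57_66, R.t57_68,
    R.t57_69, R.t57_70, R.t57_71, R.t41_44, R.t41_48, R.t41_50, R.t41_58, R.t41_45,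
    R.t41_49, R.t41_51, R.t41_59, R.t41_61, R.t41_52, R.t41_53, R.t41_60, R.t41_62,
    R.t41_54, R.t41_63, R.t41_64, R.t41_55, R.t41_65, R.t41_67, R.t41_66, R.t41_68,
    R.t41_69, R.t41_70, R.t41_71, R.t44_48, R.t44_50, R.t44_58, R.t44_45, R.t44_49,
    R.t44_51, R.t44_59, R.t44_61, R.t44_52, R.t44_53, R.t44_60, R.t44_62, R.t44_54,
    R.t44_63, R.t44_64, R.t44_55, R.t44_65, R.t44_67, R.t44_66, R.t44_68, R.t44_69,
    R.t44_70, R.t44_71, R.t48_50, R.t48_58, R.t48_45, R.t48_49, R.t48_51, R.t48_59,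
    R.t48_61, R.t48_52, R.t48_53, R.t48_60, R.t48_62, R.t48_54, R.t48_63, R.t48_64,
    R.t48_55, R.t48_65, R.t48_67, R.t48_66, R.t48_68, R.t48_69, R.t48_70, R.t48_71,
    R.t50_58, R.t50_45, R.t50_49, R.t50_51, R.t50_59, R.t50_61, R.t50_52, R.t50_53,
    R.t50_60, R.t50_62, R.t50_54, R.t50_63, R.t50_64, R.t50_55, R.t50_65, R.t50_67,
    R.t50_66, R.t50_68, R.t50_69, R.t50_70, R.t50_71, R.t58_45, R.t58_49, R.t58_51,
    R.t58_59, R.t58_61, R.t58_52, R.t58_53, R.t58_60, R.t58_62, R.t58_54, R.t58_63,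
    R.t58_64, R.t58_55, R.t58_65, R.t58_67, R.t58_66, R.t58_68, R.t58_69, R.t58_70,
    R.t58_71, R.t45_49, R.t45_51, R.t45_59, R.t45_61, R.t45_52, R.t45_53, R.t45_60,
    R.t45_62, R.t45_54, R.t45_63, R.t45_64, R.t45_55, R.t45_65, R.t45_67, R.t45_66,
    R.t45_68, R.t45_69, R.t45_70, R.t45_71, R.t49_51, R.t49_59, R.t49_61, R.t49_52,
    R.t49_53, R.t49_60, R.t49_62, R.t49_54, R.t49_63, R.t49_64, R.t49_55, R.t49_65,
    R.t49_67, R.t49_66, R.t49_68, R.t49_69, R.t49_70, R.t49_71, R.t51_59, R.t51_61,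
    R.t51_52, R.t51_53, R.t51_60, R.t51_62, R.t51_54, R.t51_63, R.t51_64, R.t51_55,
    R.t51_65, R.t51_67, R.t51_66, R.t51_68, R.t51_69, R.t51_70, R.t51_71, R.t59_61,
    R.t59_52, R.t59_53, R.t59_60, R.t59_62, R.t59_54, R.t59_63, R.t59_64, R.t59_55,
    R.t59_65, R.t59_67, R.t59_66, R.t59_68, R.t59_69, R.t59_70, R.t59_71, R.t61_52,
    R.t61_53, R.t61_60, R.t61_62, R.t61_54, R.t61_63, R.t61_64, R.t61_55, R.t61_65,
    R.t61_67, R.t61_66, R.t61_68, R.t61_69, R.t61_70, R.t61_71, R.t52_53, R.t52_60,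
    R.t52_62, R.t52_54, R.t52_63, R.t52_64, R.t52_55, R.t52_65, R.t52_67, R.t52_66,
    R.t52_68, R.t52_69, R.t52_70, R.t52_71, R.t53_60, R.t53_62, R.t53_54, R.t53_63,
    R.t53_64, R.t53_55, R.t53_65, R.t53_67, R.t53_66, R.t53_68, R.t53_69, R.t53_70,
    R.t53_71, R.t60_62, R.t60_54, R.t60_63, R.t60_64, R.t60_55, R.t60_65, R.t60_67,
    R.t60_66, R.t60_68, R.t60_69, R.t60_70, R.t60_71, R.t62_54, R.t62_63, R.t62_64,
    R.t62_55, R.t62_65, R.t62_67, R.t62_66, R.t62_68, R.t62_69, R.t62_70, R.t62_71,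
    R.t54_63, R.t54_64, R.t54_55, R.t54_65, R.t54_67, R.t54_66, R.t54_68, R.t54_69,
    R.t54_70, R.t54_71, R.t63_64, R.t63_55, R.t63_65, R.t63_67, R.t63_66, R.t63_68,
    R.t63_69, R.t63_70, R.t63_71, R.t64_55, R.t64_65, R.t64_67, R.t64_66, R.t64_68,
    R.t64_69, R.t64_70, R.t64_71, R.t55_65, R.t55_67, R.t55_66, R.t55_68, R.t55_69,
    R.t55_70, R.t55_71, R.t65_67, R.t65_66, R.t65_68, R.t65_69, R.t65_70, R.t65_71,
    R.t67_66, R.t67_68, R.t67_69, R.t67_70, R.t67_71, R.t66_68, R.t66_69, R.t66_70,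
    R.t66_71, R.t68_69, R.t68_70, R.t68_71, R.t69_70, R.t69_71, R.t70_71, R.m36,
    R.m37, R.m39, R.m42, R.m46, R.m56, R.m38, R.m40, R.m43,
    R.m47, R.m57, R.m41, R.m44, R.m48, R.m50, R.m58, R.m45,
    R.m49, R.m51, R.m59, R.m61, R.m52, R.m53, R.m60, R.m62,
    R.m54, R.m63, R.m64, R.m55, R.m65, R.m67, R.m66, R.m68,
    R.m69, R.m70, R.m71, R.r36_37, R.c36_39, R.c36_42, R.c36_46, R.c36_56,
    R.c36_38, R.r36_40, R.c36_43, R.c36_47, R.c36_57, R.c36_41, R.r36_44, R.r36_48,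
    R.c36_50, R.c36_58, R.c36_45, R.c36_49, R.r36_51, R.r36_59, R.c36_61, R.c36_52,
    R.r36_53, R.c36_60, R.r36_62, R.c36_54, R.c36_63, R.r36_64, R.c36_55, R.c36_65,
    R.r36_67, R.c36_66, R.c36_68, R.c36_69, R.c36_70, R.c36_71, R.r37_39, R.c37_42,
    R.c37_46, R.c37_56, R.c37_38, R.c37_40, R.r37_43, R.r37_47, R.c37_57, R.c37_41,
    R.c37_44, R.c37_48, R.r37_50, R.r37_58, R.c37_45, R.c37_49, R.c37_51, R.c37_59,
    R.r37_61, R.c37_52, R.c37_53, R.c37_60, R.c37_62, R.r37_54, R.c37_63, R.c37_64,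
    R.c37_55, R.r37_65, R.c37_67, R.c37_66, R.r37_68, R.c37_69, R.c37_70, R.c37_71,
    R.r39_42, R.r39_46, R.c39_56, R.r39_38, R.c39_40, R.c39_43, R.c39_47, R.r39_57,
    R.c39_41, R.c39_44, R.c39_48, R.c39_50, R.c39_58, R.c39_45, R.c39_49, R.r39_51,
    R.c39_59, R.c39_61, R.r39_52, R.c39_53, R.c39_60, R.r39_62, R.c39_54, R.r39_63,
    R.c39_64, R.c39_55, R.c39_65, R.c39_67, R.c39_66, R.c39_68, R.r39_69, R.c39_70,
    R.c39_71, R.c42_46, R.r42_56, R.c42_38, R.r42_40, R.c42_43, R.r42_47, R.c42_57,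
    R.r42_41, R.c42_44, R.r42_48, R.c42_50, R.c42_58, R.c42_45, R.r42_49, R.c42_51,
    R.c42_59, R.c42_61, R.c42_52, R.c42_53, R.c42_60, R.c42_62, R.c42_54, R.c42_63,
    R.r42_64, R.c42_55, R.r42_65, R.c42_67, R.r42_66, R.c42_68, R.c42_69, R.c42_70,
    R.c42_71, R.c46_56, R.c46_38, R.r46_40, R.r46_43, R.c46_47, R.c46_57, R.r46_41,
    R.r46_44, R.c46_48, R.c46_50, R.r46_58, R.r46_45, R.c46_49, R.c46_51, R.r46_59,
    R.c46_61, R.c46_52, R.c46_53, R.r46_60, R.c46_62, R.c46_54, R.c46_63, R.c46_64,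
    R.c46_55, R.c46_65, R.c46_67, R.c46_66, R.c46_68, R.c46_69, R.r46_70, R.c46_71,
    R.c56_38, R.c56_40, R.r56_43, R.c56_47, R.c56_57, R.c56_41, R.r56_44, R.c56_48,
    R.r56_50, R.c56_58, R.r56_45, R.c56_49, R.r56_51, R.c56_59, R.c56_61, R.r56_52,
    R.r56_53, R.c56_60, R.c56_62, R.r56_54, R.c56_63, R.c56_64, R.r56_55, R.c56_65,
    R.c56_67, R.c56_66, R.c56_68, R.c56_69, R.c56_70, R.c56_71, R.c38_40, R.r38_43,
    R.r38_47, R.c38_57, R.c38_41, R.c38_44, R.c38_48, R.r38_50, R.r38_58, R.c38_45,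
    R.c38_49, R.c38_51, R.c38_59, R.r38_61, R.c38_52, R.r38_53, R.c38_60, R.c38_62,
    R.c38_54, R.c38_63, R.r38_64, R.c38_55, R.c38_65, R.r38_67, R.c38_66, R.c38_68,
    R.c38_69, R.c38_70, R.c38_71, R.c40_43, R.c40_47, R.r40_57, R.c40_41, R.c40_44,
    R.c40_48, R.r40_50, R.c40_58, R.c40_45, R.c40_49, R.c40_51, R.c40_59, R.r40_61,
    R.r40_52, R.c40_53, R.c40_60, R.c40_62, R.c40_54, R.r40_63, R.c40_64, R.c40_55,
    R.c40_65, R.c40_67, R.c40_66, R.r40_68, R.c40_69, R.c40_70, R.c40_71, R.c43_47,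
    R.c43_57, R.c43_41, R.c43_44, R.r43_48, R.c43_50, R.c43_58, R.c43_45, R.r43_49,
    R.c43_51, R.c43_59, R.c43_61, R.c43_52, R.c43_53, R.c43_60, R.r43_62, R.c43_54,
    R.r43_63, R.c43_64, R.c43_55, R.c43_65, R.c43_67, R.r43_66, R.c43_68, R.c43_69,
    R.c43_70, R.c43_71, R.r47_57, R.c47_41, R.r47_44, R.c47_48, R.c47_50, R.c47_58,
    R.r47_45, R.c47_49, R.c47_51, R.r47_59, R.c47_61, R.c47_52, R.c47_53, R.r47_60,
    R.c47_62, R.c47_54, R.c47_63, R.c47_64, R.c47_55, R.c47_65, R.c47_67, R.c47_66,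
    R.c47_68, R.r47_69, R.c47_70, R.c47_71, R.r57_41, R.c57_44, R.r57_48, R.c57_50,
    R.c57_58, R.c57_45, R.r57_49, R.c57_51, R.c57_59, R.c57_61, R.c57_52, R.r57_53,
    R.c57_60, R.c57_62, R.r57_54, R.c57_63, R.c57_64, R.r57_55, R.c57_65, R.c57_67,
    R.c57_66, R.c57_68, R.c57_69, R.c57_70, R.c57_71, R.c41_44, R.c41_48, R.r41_50,
    R.c41_58, R.c41_45, R.c41_49, R.r41_51, R.c41_59, R.r41_61, R.c41_52, R.c41_53,
    R.c41_60, R.r41_62, R.c41_54, R.c41_63, R.c41_64, R.c41_55, R.c41_65, R.r41_67,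
    R.c41_66, R.c41_68, R.c41_69, R.c41_70, R.c41_71, R.c44_48, R.c44_50, R.c44_58,
    R.c44_45, R.r44_49, R.c44_51, R.c44_59, R.r44_61, R.c44_52, R.c44_53, R.c44_60,
    R.c44_62, R.c44_54, R.r44_63, R.c44_64, R.c44_55, R.r44_65, R.c44_67, R.c44_66,
    R.c44_68, R.c44_69, R.c44_70, R.c44_71, R.c48_50, R.r48_58, R.r48_45, R.c48_49,
    R.c48_51, R.c48_59, R.c48_61, R.c48_52, R.c48_53, R.r48_60, R.c48_62, R.c48_54,
    R.c48_63, R.c48_64, R.c48_55, R.c48_65, R.c48_67, R.c48_66, R.r48_68, R.c48_69,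
    R.c48_70, R.c48_71, R.c50_58, R.c50_45, R.c50_49, R.c50_51, R.r50_59, R.c50_61,
    R.c50_52, R.c50_53, R.r50_60, R.c50_62, R.c50_54, R.c50_63, R.c50_64, R.c50_55,
    R.c50_65, R.c50_67, R.r50_66, R.c50_68, R.c50_69, R.c50_70, R.c50_71, R.c58_45,
    R.r58_49, R.r58_51, R.c58_59, R.c58_61, R.r58_52, R.c58_53, R.c58_60, R.c58_62,
    R.c58_54, R.c58_63, R.c58_64, R.r58_55, R.c58_65, R.c58_67, R.c58_66, R.c58_68,
    R.c58_69, R.c58_70, R.c58_71, R.c45_49, R.c45_51, R.c45_59, R.r45_61, R.c45_52,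
    R.c45_53, R.c45_60, R.r45_62, R.c45_54, R.c45_63, R.r45_64, R.c45_55, R.c45_65,
    R.c45_67, R.c45_66, R.c45_68, R.c45_69, R.c45_70, R.c45_71, R.c49_51, R.r49_59,
    R.c49_61, R.c49_52, R.c49_53, R.c49_60, R.c49_62, R.c49_54, R.c49_63, R.c49_64,
    R.c49_55, R.c49_65, R.r49_67, R.c49_66, R.c49_68, R.c49_69, R.c49_70, R.c49_71,
    R.c51_59, R.c51_61, R.c51_52, R.c51_53, R.r51_60, R.c51_62, R.c51_54, R.c51_63,
    R.c51_64, R.c51_55, R.r51_65, R.c51_67, R.c51_66, R.c51_68, R.c51_69, R.c51_70,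
    R.c51_71, R.c59_61, R.r59_52, R.c59_53, R.c59_60, R.c59_62, R.r59_54, R.c59_63,
    R.c59_64, R.c59_55, R.c59_65, R.c59_67, R.c59_66, R.c59_68, R.c59_69, R.c59_70,
    R.c59_71, R.c61_52, R.c61_53, R.c61_60, R.c61_62, R.c61_54, R.c61_63, R.c61_64,
    R.r61_55, R.c61_65, R.c61_67, R.c61_66, R.c61_68, R.c61_69, R.c61_70, R.c61_71,
    R.c52_53, R.c52_60, R.c52_62, R.c52_54, R.c52_63, R.r52_64, R.c52_55, R.c52_65,
    R.c52_67, R.c52_66, R.c52_68, R.c52_69, R.c52_70, R.c52_71, R.r53_60, R.c53_62,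
    R.c53_54, R.r53_63, R.c53_64, R.c53_55, R.c53_65, R.c53_67, R.c53_66, R.c53_68,
    R.c53_69, R.c53_70, R.c53_71, R.c60_62, R.c60_54, R.c60_63, R.c60_64, R.c60_55,
    R.c60_65, R.c60_67, R.c60_66, R.c60_68, R.c60_69, R.c60_70, R.c60_71, R.r62_54,
    R.c62_63, R.c62_64, R.c62_55, R.c62_65, R.c62_67, R.c62_66, R.c62_68, R.c62_69,
    R.c62_70, R.c62_71, R.c54_63, R.c54_64, R.c54_55, R.c54_65, R.c54_67, R.c54_66,
    R.c54_68, R.c54_69, R.c54_70, R.c54_71, R.c63_64, R.c63_55, R.c63_65, R.c63_67,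
    R.c63_66, R.c63_68, R.c63_69, R.c63_70, R.c63_71, R.c64_55, R.c64_65, R.c64_67,
    R.c64_66, R.c64_68, R.c64_69, R.c64_70, R.c64_71, R.c55_65, R.c55_67, R.c55_66,
    R.c55_68, R.c55_69, R.c55_70, R.c55_71, R.c65_67, R.c65_66, R.c65_68, R.c65_69,
    R.c65_70, R.c65_71, R.c67_66, R.c67_68, R.c67_69, R.c67_70, R.c67_71, R.c66_68,
    R.c66_69, R.c66_70, R.c66_71, R.c68_69, R.c68_70, R.c68_71, R.c69_70, R.c69_71,
    R.c70_71, ← R.add36, ← R.add37, ← R.add39, ← R.add42, ← R.add46, ← R.add56, ← R.add38,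
    ← R.add40, ← R.add43, ← R.add47, ← R.add57, ← R.add41, ← R.add44, ← R.add48, ← R.add50,
    ← R.add58, ← R.add45, ← R.add49, ← R.add51, ← R.add59, ← R.add61, ← R.add52, ← R.add53,
    ← R.add60, ← R.add62, ← R.add54, ← R.add63, ← R.add64, ← R.add55, ← R.add65, ← R.add67,
    ← R.add66, ← R.add68, ← R.add69, ← R.add70, ← R.add71]
  all_goals (change R.RNF _ _ _ _ _ _ _ _ _ _ _ _ _ _ _ _ _ _ _ _ _ _ _ _ _ _ _ _ _ _ _ _ _ _ _ _ = R.RNF _ _ _ _ _ _ _ _ _ _ _ _ _ _ _ _ _ _ _ _ _ _ _ _ _ _ _ _ _ _ _ _ _ _ _ _; congr 1 <;> (first | rfl | ring1 | (rw [← sub_eq_zero]; ring_nf; simp only [h2, h4, h6, h8, h10, h12, h14, h16, h18, h20, h22, h24, h26, h28, h30, h32, mul_zero, zero_mul, add_zero, zero_add, neg_zero, sub_zero, sub_self])))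

end RelE6

end Cfsg.Agent.Helper4.E6Inv
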