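import Cfsg.Agent.Helper4.E6Inv.AbsZ
import Cfsg.Agent.Helper4.E6Inv.ULm0
import Cfsg.Agent.Helper4.E6Inv.ULm1
import Cfsg.Agent.Helper4.E6Inv.ULm2
import Cfsg.Agent.Helper4.E6Inv.ULm3
import Cfsg.Agent.Helper4.E6Inv.ULm4
import Cfsg.Agent.Helper4.E6Inv.ULm5
import Cfsg.Agent.Helper4.E6Inv.ULm6
import Cfsg.Agent.Helper4.E6Inv.ULm7
import Cfsg.Agent.Helper4.E6Inv.ULm8

/-! Generated: the image of an ordered product of root elements of `E₆` under a fundamental reflection (characteristic two). -/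

set_option autoImplicit false
set_option maxHeartbeats 8000000
set_option maxRecDepth 100000
set_option linter.unusedSimpArgs false
set_option linter.unusedVariables false
set_option linter.unusedTactic false
set_option linter.unreachableTactic false

namespace Cfsg.Agent.Helper4.E6Inv

variable {K Γ : Type*} [Field K] [Group Γ] (R : RelE6 K Γ) [CharP K 2]

namespace RelE6
theorem uw3 (t36 t37 t39 t46 t56 t38 t40 t43 t47 t57 t41 t44 t48 t50 t58 t45 t49 t51 t59 t61 t52 t53 t60 t62 t54 t63 t64 t55 t65 t67 t66 t68 t69 t70 t71 : K) :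
    R.X36 t36 * (R.X37 t37 * (R.X43 t39 * (R.X42 0 * (R.X46 t46 * (R.X57 t56 * (R.X38 t38 * (R.X44 t40 * (R.X39 t43 * (R.X50 t47 * (R.X56 t57 * (R.X45 t41 * (R.X40 t44 * (R.X51 t48 * (R.X47 t50 * (R.X58 t58 * (R.X41 t45 * (R.X52 t49 * (R.X48 t51 * (R.X59 t59 * (R.X61 t61 * (R.X49 t52 * (R.X53 t53 * (R.X60 t60 * (R.X62 t62 * (R.X54 t54 * (R.X63 t63 * (R.X67 t64 * (R.X55 t55 * (R.X68 t65 * (R.X64 t67 * (R.X69 t66 * (R.X65 t68 * (R.X66 t69 * (R.X70 t70 * (R.X71 t71))))))))))))))))))))))))))))))))))) =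
      R.RNF (t36) (t37) (t43) (0) (t46) (t57) (t38) (t44) (t39) (t43 * t46 + t50) (t56) (t38 * t43 + t45) (t40) (t51) (t39 * t46 + t47) (t39 * t57 + t43 * t56 + t58) (t38 * t39 + t41) (t38 * t43 * t46 + t52) (t48) (t40 * t57 + t44 * t56 + t59) (t39 * t46 * t57 + t47 * t57 + t50 * t56 + t61) (t38 * t39 * t46 + t49) (t39 * t44 * t46 + t40 * t50 + t44 * t47 + t53) (t38 * t39 * t57 + t38 * t43 * t56 + t60) (t62) (t38 * t39 * t50 + t39 * t45 * t46 + t41 * t50 + t45 * t47 + t54) (t38 * t39 * t46 * t57 + t38 * t43 * t46 * t56 + t63) (t39 * t44 * t46 * t57 + t39 * t51 * t57 + t40 * t50 * t57 + t43 * t51 * t56 + t44 * t47 * t57 + t44 * t50 * t56 + t51 * t58 + t67) (t38 * t39 * t44 * t46 + t38 * t39 * t51 + t38 * t40 * t43 * t46 + t41 * t51 + t45 * t48 + t55) (t38 * t39 * t50 * t57 + t38 * t43 * t46 * t58 + t38 * t43 ^ 2 * t46 * t56 + t39 * t45 * t46 * t57 + t45 * t47 * t57 + t45 * t50 * t56 + t68)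 (t39 * t40 * t46 * t57 + t39 * t44 * t46 * t56 + t40 * t47 * t57 + t40 * t50 * t56 + t44 * t47 * t56 + t48 * t58 + t64) (t38 * t39 * t44 * t46 * t57 + t38 * t39 * t51 * t57 + t38 * t43 * t51 * t56 + t40 * t52 * t57 + t44 * t52 * t56 + t52 * t59 + t69) (t38 * t39 * t46 * t58 + t38 * t39 * t47 * t57 + t38 * t39 * t50 * t56 + t38 * t39 ^ 2 * t46 * t57 + t38 * t43 * t47 * t56 + t39 * t41 * t46 * t57 + t41 * t47 * t57 + t41 * t50 * t56 + t65) (t38 * t39 * t46 * t59 + t38 * t39 * t48 * t57 + t38 * t40 * t43 * t46 * t56 + t38 * t43 * t48 * t56 + t49 * t59 + t66) (t38 * t39 * t40 * t50 * t57 + t38 * t39 * t43 * t51 * t56 + t38 * t39 * t44 * t46 * t58 + t38 * t39 * t44 * t47 * t57 + t38 * t39 * t44 * t50 * t56 + t38 * t39 * t50 * t59 + t38 * t39 * t51 * t58 + t38 * t39 * t53 * t57 + t38 * t39 ^ 2 * t44 * t46 * t57 + t38 * t39 ^ 2 * t51 * t57 + t38 * t40 * t43 * t46 * t58 + t38 * t40 * t43 * t50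 * t56 + t38 * t40 * t43 ^ 2 * t46 * t56 + t38 * t43 * t44 * t47 * t56 + t38 * t43 * t53 * t56 + t39 * t41 * t44 * t46 * t57 + t39 * t41 * t51 * t57 + t39 * t45 * t46 * t59 + t40 * t41 * t50 * t57 + t40 * t45 * t50 * t56 + t41 * t43 * t51 * t56 + t41 * t44 * t47 * t57 + t41 * t44 * t50 * t56 + t41 * t50 * t59 + t41 * t51 * t58 + t45 * t47 * t59 + t45 * t48 * t58 + t70) (t38 * t39 * t40 * t43 * t46 ^ 2 * t57 + t38 * t39 * t40 * t46 * t50 * t57 + t38 * t39 * t43 * t44 * t46 ^ 2 * t56 + t38 * t39 * t43 * t46 * t51 * t56 + t38 * t39 * t44 * t46 * t47 * t57 + t38 * t39 * t44 * t46 * t50 * t56 + t38 * t39 * t44 * t46 * t61 + t38 * t39 * t46 * t53 * t57 + t38 * t39 * t48 * t50 * t57 + t38 * t39 * t50 * t62 + t38 * t39 * t51 * t61 + t38 * t39 ^ 2 * t44 * t46 ^ 2 * t57 + t38 * t39 ^ 2 * t46 * t51 * t57 + t38 * t40 * t43 * t46 * t47 * t57 + t38 * t40 * t43 * t46 * t61 + t38 * t43 * t44 * t46 * t47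 * t56 + t38 * t43 * t46 * t48 * t58 + t38 * t43 * t46 * t53 * t56 + t38 * t43 * t47 * t51 * t56 + t38 * t43 ^ 2 * t46 * t48 * t56 + t39 * t40 * t46 * t52 * t57 + t39 * t44 * t46 * t49 * t57 + t39 * t44 * t46 * t52 * t56 + t39 * t45 * t46 * t48 * t57 + t39 * t45 * t46 * t62 + t39 * t49 * t51 * t57 + t40 * t47 * t52 * t57 + t40 * t49 * t50 * t57 + t40 * t50 * t52 * t56 + t41 * t50 * t62 + t41 * t51 * t61 + t43 * t49 * t51 * t56 + t44 * t47 * t49 * t57 + t44 * t47 * t52 * t56 + t44 * t49 * t50 * t56 + t45 * t47 * t48 * t57 + t45 * t47 * t62 + t45 * t48 * t50 * t56 + t45 * t48 * t61 + t48 * t52 * t58 + t49 * t51 * t58 + t71) := by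
  have h2 : (2 : K) = 0 := CharTwo.two_eq_zero
  have h : R.X36 t36 * (R.X37 t37 * (R.X43 t39 * (R.X42 0 * (R.X46 t46 * (R.X57 t56 * (R.X38 t38 * (R.X44 t40 * (R.X39 t43 * (R.X50 t47 * (R.X56 t57 * (R.X45 t41 * (R.X40 t44 * (R.X51 t48 * (R.X47 t50 * (R.X58 t58 * (R.X41 t45 * (R.X52 t49 * (R.X48 t51 * (R.X59 t59 * (R.X61 t61 * (R.X49 t52 * (R.X53 t53 * (R.X60 t60 * (R.X62 t62 * (R.X54 t54 * (R.X63 t63 * (R.X67 t64 * (R.X55 t55 * (R.X68 t65 * (R.X64 t67 * (R.X69 t66 * (R.X65 t68 * (R.X66 t69 * (R.X70 t70 * (R.X71 t71))))))))))))))))))))))))))))))))))) =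
      R.X36 t36 * (R.X37 t37 * (R.X43 t39 * (R.X42 0 * (R.X46 t46 * (R.X57 t56 * (R.X38 t38 * (R.X44 t40 * (R.X39 t43 * (R.X50 t47 * (R.X56 t57 * (R.X45 t41 * (R.X40 t44 * (R.X51 t48 * (R.X47 t50 * (R.X58 t58 * (R.X41 t45 * (R.X52 t49 * (R.X48 t51 * (R.X59 t59 * (R.X61 t61 * (R.X49 t52 * (R.X53 t53 * (R.X60 t60 * (R.X62 t62 * (R.X54 t54 * (R.X63 t63 * (R.X67 t64 * (R.X55 t55 * (R.X68 t65 * (R.X64 t67 * (R.X69 t66 * (R.X65 t68 * (R.X66 t69 * (R.X70 t70 * (R.X71 t71 * (R.RNF 0 0 0 0 0 0 0 0 0 0 0 0 0 0 0 0 0 0 0 0 0 0 0 0 0 0 0 0 0 0 0 0 0 0 0 0)))))))))))))))))))))))))))))))))))) := by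
    rw [R.RNF_zeros, mul_one]
  rw [h]
  simp only [R.ulm36, R.ulm37, R.ulm39, R.ulm42, R.ulm46, R.ulm56, R.ulm38, R.ulm40, R.ulm43, R.ulm47, R.ulm57, R.ulm41, R.ulm44, R.ulm48, R.ulm50, R.ulm58, R.ulm45, R.ulm49, R.ulm51, R.ulm59, R.ulm61, R.ulm52, R.ulm53, R.ulm60, R.ulm62, R.ulm54, R.ulm63, R.ulm64, R.ulm55, R.ulm65, R.ulm67, R.ulm66, R.ulm68, R.ulm69, R.ulm70, R.ulm71,
    zero_mul, mul_zero, add_zero, zero_add]
  refine R.RNF_congr ?_ ?_ ?_ ?_ ?_ ?_ ?_ ?_ ?_ ?_ ?_ ?_ ?_ ?_ ?_ ?_ ?_ ?_ ?_ ?_ ?_ ?_ ?_ ?_ ?_ ?_ ?_ ?_ ?_ ?_ ?_ ?_ ?_ ?_ ?_ ?_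
  · first | rfl | ring1
  · first | rfl | ring1
  · first | rfl | ring1
  · first | rfl | ring1
  · first | rfl | ring1
  · first | rfl | ring1
  · first | rfl | ring1
  · first | rfl | ring1
  · first | rfl | ring1
  · first | rfl | ring1
  · first | rfl | ring1
  · first | rfl | ring1
  · first | rfl | ring1
  · first | rfl | ring1
  · first | rfl | ring1
  · first | rfl | ring1
  · first | rfl | ring1
  · first | rfl | ring1
  · first | rfl | ring1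
  · first | rfl | ring1
  · first | rfl | ring1
  · first | rfl | ring1
  · first | rfl | ring1
  · first | rfl | ring1
  · first | rfl | ring1
  · first | rfl | linear_combination (t38 * t39 * t43 * t46) * h2
  · first | rfl | ring1
  · first | rfl | ring1
  · first | rfl | ring1
  · first | rfl | linear_combination (t38 * t39 * t43 * t46 * t57 + t38 * t43 * t50 * t56) * h2
  · first | rfl | ring1
  · first | rfl | ring1
  · first | rfl | linear_combination (t38 * t39 * t43 * t46 * t56) * h2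
  · first | rfl | linear_combination (t38 * t39 * t40 * t46 * t57 + t38 * t39 * t44 * t46 * t56) * h2
  · first | rfl | linear_combination (2 * t38 * t39 * t40 * t43 * t46 * t57 + t38 * t39 * t40 * t50 * t57 + 2 * t38 * t39 * t43 * t44 * t46 * t56 + t38 * t39 * t43 * t46 * t59 + t38 * t40 * t43 * t50 * t56 + t39 * t40 * t45 * t46 * t57 + t39 * t44 * t45 * t46 * t56) * h2
  · first | rfl | linear_combination (t38 * t39 * t43 * t46 * t48 * t57 + t38 * t39 * t43 * t46 * t62 + t38 * t39 * t44 * t46 * t47 * t57 + t38 * t39 * t47 * t51 * t57 + t38 * t39 * t50 * t51 * t56 + t38 * t40 * t43 * t46 * t50 * t56 + t38 * t43 * t48 * t50 * t56) * h2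

end RelE6

end Cfsg.Agent.Helper4.E6Inv
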