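import Cfsg.Agent.Helper4.E6Inv.AbsZ
import Cfsg.Agent.Helper4.E6Inv.ULm0
import Cfsg.Agent.Helper4.E6Inv.ULm1
import Cfsg.Agent.Helper4.E6Inv.ULm2
import Cfsg.Agent.Helper4.E6Inv.ULm3
import Cfsg.Agent.Helper4.E6Inv.ULm4
import Cfsg.Agent.Helper4.E6Inv.ULm5
import Cfsg.Agent.Helper4.E6Inv.ULm6
import Cfsg.Agent.Helper4.E6Inv.ULm7
import Cfsg.Agent.Helper4.E6Inv.ULm8

/-! Generated: the image of an ordered product of root elements of `E₆` under a fundamental reflection (characteristic two). -/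

set_option autoImplicit false
set_option maxHeartbeats 8000000
set_option maxRecDepth 100000
set_option linter.unusedSimpArgs false
set_option linter.unusedVariables false
set_option linter.unusedTactic false
set_option linter.unreachableTactic false

namespace Cfsg.Agent.Helper4.E6Inv

variable {K Γ : Type*} [Field K] [Group Γ] (R : RelE6 K Γ) [CharP K 2]

namespace RelE6
theorem uw4 (t36 t37 t42 t46 t56 t38 t40 t43 t47 t57 t41 t44 t48 t50 t58 t45 t49 t51 t59 t61 t52 t53 t60 t62 t54 t63 t64 t55 t65 t67 t66 t68 t69 t70 t71 : K) :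
    R.X36 t36 * (R.X40 t37 * (R.X39 0 * (R.X43 t42 * (R.X47 t46 * (R.X56 t56 * (R.X41 t38 * (R.X37 t40 * (R.X42 t43 * (R.X46 t47 * (R.X58 t57 * (R.X38 t41 * (R.X44 t44 * (R.X48 t48 * (R.X50 t50 * (R.X57 t58 * (R.X45 t45 * (R.X49 t49 * (R.X53 t51 * (R.X59 t59 * (R.X61 t61 * (R.X54 t52 * (R.X51 t53 * (R.X60 t60 * (R.X64 t62 * (R.X52 t54 * (R.X65 t63 * (R.X62 t64 * (R.X55 t55 * (R.X63 t65 * (R.X67 t67 * (R.X66 t66 * (R.X68 t68 * (R.X70 t69 * (R.X69 t70 * (R.X71 t71))))))))))))))))))))))))))))))))))) =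
      R.RNF (t36) (t40) (0) (t43) (t47) (t56) (t41) (t37) (t42) (t46) (t43 * t56 + t58) (t38) (t37 * t43 + t40 * t42 + t44) (t37 * t47 + t40 * t46 + t48) (t42 * t47 + t43 * t46 + t50) (t42 * t56 + t57) (t38 * t43 + t41 * t42 + t45) (t38 * t47 + t41 * t46 + t49) (t37 * t43 * t47 + t40 * t42 * t47 + t40 * t43 * t46 + t53) (t37 * t43 * t56 + t40 * t42 * t56 + t59) (t42 * t47 * t56 + t43 * t46 * t56 + t61) (t38 * t43 * t47 + t41 * t42 * t47 + t41 * t43 * t46 + t54) (t37 * t42 * t47 + t37 * t43 * t46 + t40 * t42 * t46 + t51) (t38 * t58 + t41 * t42 * t56 + t41 * t57 + t60) (t37 * t47 * t58 + t40 * t42 * t47 * t56 + t40 * t46 * t58 + t48 * t58 + t64) (t38 * t42 * t47 + t38 * t43 * t46 + t41 * t42 * t46 + t52) (t38 * t47 * t58 + t41 * t42 * t47 * t56 + t41 * t46 * t58 + t65) (t37 * t43 * t46 * t56 + t42 * t48 * t56 + t48 * t57 + t62) (t37 * t38 * t43 * t47 + t38 * t40 * t42 * t47 + t38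 * t40 * t43 * t46 + t38 * t43 * t48 + t38 * t44 * t47 + t40 * t41 * t42 * t46 + t41 * t42 * t48 + t41 * t44 * t46 + t55) (t38 * t42 * t47 * t56 + t38 * t43 * t46 * t56 + t38 * t47 * t57 + t41 * t42 * t46 * t56 + t41 * t46 * t57 + t63) (t37 * t42 * t47 * t58 + t37 * t43 * t46 * t58 + t37 * t43 * t47 * t57 + t37 * t43 * t50 * t56 + t40 * t42 * t46 * t58 + t40 * t42 * t47 * t57 + t40 * t42 * t50 * t56 + t40 * t42 ^ 2 * t47 * t56 + t40 * t43 * t46 * t57 + t42 * t44 * t47 * t56 + t43 * t44 * t46 * t56 + t67) (t37 * t38 * t43 * t47 * t56 + t37 * t38 * t47 * t58 + t37 * t41 * t43 * t46 * t56 + t37 * t43 * t49 * t56 + t38 * t40 * t46 * t58 + t38 * t48 * t58 + t40 * t42 * t49 * t56 + t41 * t42 * t48 * t56 + t41 * t48 * t57 + t66) (t38 * t42 * t43 * t47 * t56 + t38 * t43 * t47 * t57 + t38 * t43 ^ 2 * t46 * t56 + t38 * t50 * t58 + t41 * t42 * t46 * t58 + t41 * t42 * t47 * t57 + t41 * t42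 * t50 * t56 + t41 * t42 ^ 2 * t47 * t56 + t41 * t43 * t46 * t57 + t41 * t50 * t57 + t42 * t45 * t47 * t56 + t43 * t45 * t46 * t56 + t68) (t37 * t38 * t43 * t47 * t58 + t37 * t41 * t42 * t47 * t58 + t37 * t45 * t47 * t58 + t38 * t40 * t42 * t43 * t47 * t56 + t38 * t40 * t43 * t46 * t58 + t38 * t43 * t47 * t59 + t38 * t44 * t47 * t58 + t38 * t53 * t58 + t40 * t41 * t42 * t43 * t46 * t56 + t40 * t41 * t42 ^ 2 * t47 * t56 + t40 * t42 * t45 * t47 * t56 + t40 * t45 * t46 * t58 + t41 * t42 * t44 * t47 * t56 + t41 * t42 * t47 * t59 + t41 * t42 * t53 * t56 + t41 * t43 * t46 * t59 + t41 * t44 * t46 * t58 + t41 * t53 * t57 + t45 * t48 * t58 + t70) (t37 * t38 * t42 * t43 * t47 * t56 + t37 * t38 * t42 * t47 * t58 + t37 * t38 * t43 * t46 * t58 + t37 * t38 * t43 * t47 * t57 + t37 * t41 * t42 * t43 * t46 * t56 + t37 * t43 * t45 * t46 * t56 + t38 * t40 * t42 * t43 * t46 * t56 + t38 * t40 * t42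 * t46 * t58 + t38 * t40 * t42 * t47 * t57 + t38 * t40 * t43 * t46 * t57 + t38 * t42 * t43 * t48 * t56 + t38 * t42 * t44 * t47 * t56 + t38 * t42 * t47 * t59 + t38 * t43 * t44 * t46 * t56 + t38 * t43 * t46 * t59 + t38 * t43 * t48 * t57 + t38 * t44 * t47 * t57 + t38 * t51 * t58 + t40 * t41 * t42 * t46 * t57 + t41 * t42 * t44 * t46 * t56 + t41 * t42 * t46 * t59 + t41 * t42 * t48 * t57 + t41 * t42 * t51 * t56 + t41 * t42 ^ 2 * t48 * t56 + t41 * t44 * t46 * t57 + t41 * t51 * t57 + t42 * t45 * t48 * t56 + t45 * t48 * t57 + t69) (t37 * t38 * t42 * t43 * t47 ^ 2 * t56 + t37 * t38 * t43 * t47 * t50 * t56 + t37 * t38 * t43 * t47 * t61 + t37 * t38 * t43 * t47 ^ 2 * t57 + t37 * t38 * t47 * t50 * t58 + t37 * t41 * t42 * t43 * t46 * t47 * t56 + t37 * t41 * t42 * t46 * t47 * t58 + t37 * t41 * t43 * t46 * t47 * t57 + t37 * t41 * t43 * t46 * t50 * t56 + t37 * t41 * t43 * t46 ^ 2 * t58 + t37 * t41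 * t43 ^ 2 * t46 ^ 2 * t56 + t37 * t42 * t47 * t49 * t58 + t37 * t43 * t46 * t49 * t58 + t37 * t43 * t46 * t54 * t56 + t37 * t43 * t47 * t49 * t57 + t37 * t43 * t49 * t50 * t56 + t38 * t40 * t42 * t43 * t46 * t47 * t56 + t38 * t40 * t42 * t47 * t61 + t38 * t40 * t42 * t47 ^ 2 * t57 + t38 * t40 * t42 ^ 2 * t47 ^ 2 * t56 + t38 * t40 * t43 * t46 * t47 * t57 + t38 * t40 * t43 * t46 * t61 + t38 * t40 * t43 * t46 ^ 2 * t58 + t38 * t40 * t43 ^ 2 * t46 ^ 2 * t56 + t38 * t40 * t46 * t50 * t58 + t38 * t42 * t43 * t47 * t48 * t56 + t38 * t42 * t44 * t47 ^ 2 * t56 + t38 * t42 * t47 * t48 * t58 + t38 * t42 * t47 * t53 * t56 + t38 * t42 * t47 * t64 + t38 * t43 * t44 * t46 * t47 * t56 + t38 * t43 * t46 * t48 * t58 + t38 * t43 * t46 * t53 * t56 + t38 * t43 * t46 * t64 + t38 * t43 * t48 * t61 + t38 * t44 * t47 * t61 + t38 * t47 * t51 * t58 + t38 * t47 * t53 * t57 + t38 * t48 * t50 * t58 + t40 *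 t41 * t42 * t46 * t47 * t57 + t40 * t41 * t42 * t46 * t61 + t40 * t41 * t42 * t46 ^ 2 * t58 + t40 * t41 * t42 ^ 2 * t46 * t47 * t56 + t40 * t41 * t43 * t46 ^ 2 * t57 + t40 * t42 * t46 * t49 * t58 + t40 * t42 * t47 * t49 * t57 + t40 * t42 * t49 * t50 * t56 + t40 * t42 ^ 2 * t47 * t49 * t56 + t40 * t43 * t46 * t49 * t57 + t41 * t42 * t44 * t46 * t47 * t56 + t41 * t42 * t46 * t53 * t56 + t41 * t42 * t46 * t64 + t41 * t42 * t47 * t51 * t56 + t41 * t42 * t48 * t50 * t56 + t41 * t42 * t48 * t61 + t41 * t42 ^ 2 * t47 * t48 * t56 + t41 * t43 * t44 * t46 ^ 2 * t56 + t41 * t44 * t46 * t61 + t41 * t46 * t51 * t58 + t41 * t46 * t53 * t57 + t41 * t48 * t50 * t57 + t42 * t44 * t47 * t49 * t56 + t42 * t48 * t54 * t56 + t43 * t44 * t46 * t49 * t56 + t48 * t54 * t57 + t52 * t64 + t54 * t62 + t71) := by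
  have h2 : (2 : K) = 0 := CharTwo.two_eq_zero
  have h : R.X36 t36 * (R.X40 t37 * (R.X39 0 * (R.X43 t42 * (R.X47 t46 * (R.X56 t56 * (R.X41 t38 * (R.X37 t40 * (R.X42 t43 * (R.X46 t47 * (R.X58 t57 * (R.X38 t41 * (R.X44 t44 * (R.X48 t48 * (R.X50 t50 * (R.X57 t58 * (R.X45 t45 * (R.X49 t49 * (R.X53 t51 * (R.X59 t59 * (R.X61 t61 * (R.X54 t52 * (R.X51 t53 * (R.X60 t60 * (R.X64 t62 * (R.X52 t54 * (R.X65 t63 * (R.X62 t64 * (R.X55 t55 * (R.X63 t65 * (R.X67 t67 * (R.X66 t66 * (R.X68 t68 * (R.X70 t69 * (R.X69 t70 * (R.X71 t71))))))))))))))))))))))))))))))))))) =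
      R.X36 t36 * (R.X40 t37 * (R.X39 0 * (R.X43 t42 * (R.X47 t46 * (R.X56 t56 * (R.X41 t38 * (R.X37 t40 * (R.X42 t43 * (R.X46 t47 * (R.X58 t57 * (R.X38 t41 * (R.X44 t44 * (R.X48 t48 * (R.X50 t50 * (R.X57 t58 * (R.X45 t45 * (R.X49 t49 * (R.X53 t51 * (R.X59 t59 * (R.X61 t61 * (R.X54 t52 * (R.X51 t53 * (R.X60 t60 * (R.X64 t62 * (R.X52 t54 * (R.X65 t63 * (R.X62 t64 * (R.X55 t55 * (R.X63 t65 * (R.X67 t67 * (R.X66 t66 * (R.X68 t68 * (R.X70 t69 * (R.X69 t70 * (R.X71 t71 * (R.RNF 0 0 0 0 0 0 0 0 0 0 0 0 0 0 0 0 0 0 0 0 0 0 0 0 0 0 0 0 0 0 0 0 0 0 0 0)))))))))))))))))))))))))))))))))))) := by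
    rw [R.RNF_zeros, mul_one]
  rw [h]
  simp only [R.ulm36, R.ulm37, R.ulm39, R.ulm42, R.ulm46, R.ulm56, R.ulm38, R.ulm40, R.ulm43, R.ulm47, R.ulm57, R.ulm41, R.ulm44, R.ulm48, R.ulm50, R.ulm58, R.ulm45, R.ulm49, R.ulm51, R.ulm59, R.ulm61, R.ulm52, R.ulm53, R.ulm60, R.ulm62, R.ulm54, R.ulm63, R.ulm64, R.ulm55, R.ulm65, R.ulm67, R.ulm66, R.ulm68, R.ulm69, R.ulm70, R.ulm71,
    zero_mul, mul_zero, add_zero, zero_add]
  refine R.RNF_congr ?_ ?_ ?_ ?_ ?_ ?_ ?_ ?_ ?_ ?_ ?_ ?_ ?_ ?_ ?_ ?_ ?_ ?_ ?_ ?_ ?_ ?_ ?_ ?_ ?_ ?_ ?_ ?_ ?_ ?_ ?_ ?_ ?_ ?_ ?_ ?_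
  · first | rfl | ring1
  · first | rfl | ring1
  · first | rfl | ring1
  · first | rfl | ring1
  · first | rfl | ring1
  · first | rfl | ring1
  · first | rfl | ring1
  · first | rfl | ring1
  · first | rfl | ring1
  · first | rfl | ring1
  · first | rfl | ring1
  · first | rfl | ring1
  · first | rfl | ring1
  · first | rfl | ring1
  · first | rfl | ring1
  · first | rfl | ring1
  · first | rfl | ring1
  · first | rfl | ring1
  · first | rfl | ring1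
  · first | rfl | ring1
  · first | rfl | ring1
  · first | rfl | ring1
  · first | rfl | ring1
  · first | rfl | ring1
  · first | rfl | linear_combination (t37 * t43 * t47 * t56 + t40 * t43 * t46 * t56) * h2
  · first | rfl | ring1
  · first | rfl | linear_combination (t41 * t43 * t46 * t56) * h2
  · first | rfl | linear_combination (t40 * t42 * t46 * t56) * h2
  · first | rfl | ring1
  · first | rfl | ring1
  · first | rfl | linear_combination (2 * t37 * t42 * t43 * t47 * t56 + t37 * t43 ^ 2 * t46 * t56 + t40 * t42 * t43 * t46 * t56) * h2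
  · first | rfl | linear_combination (t37 * t38 * t43 * t47 * t56 + t38 * t40 * t42 * t47 * t56 + t38 * t40 * t43 * t46 * t56 + t40 * t41 * t42 * t46 * t56) * h2
  · first | rfl | linear_combination (t41 * t42 * t43 * t46 * t56) * h2
  · first | rfl | linear_combination (t37 * t38 * t43 ^ 2 * t47 * t56 + t37 * t41 * t42 * t43 * t47 * t56 + t37 * t43 * t45 * t47 * t56 + t38 * t40 * t43 ^ 2 * t46 * t56 + t40 * t43 * t45 * t46 * t56 + t41 * t43 * t44 * t46 * t56) * h2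
  · first | rfl | linear_combination (t37 * t38 * t42 * t43 * t47 * t56 + t37 * t38 * t43 ^ 2 * t46 * t56 + t38 * t40 * t42 * t43 * t46 * t56 + t40 * t41 * t42 ^ 2 * t46 * t56 + t40 * t42 * t45 * t46 * t56) * h2
  · first | rfl | linear_combination (3 * t37 * t38 * t42 * t43 * t47 ^ 2 * t56 + t37 * t38 * t42 * t47 ^ 2 * t58 + t37 * t38 * t43 * t46 * t47 * t58 + t37 * t38 * t43 * t47 * t50 * t56 + 3 * t37 * t38 * t43 ^ 2 * t46 * t47 * t56 + 2 * t37 * t41 * t42 * t43 * t46 * t47 * t56 + t37 * t41 * t43 ^ 2 * t46 ^ 2 * t56 + 2 * t37 * t42 * t43 * t47 * t49 * t56 + t37 * t43 ^ 2 * t46 * t49 * t56 + 4 * t38 * t40 * t42 * t43 * t46 * t47 * t56 + t38 * t40 * t42 * t46 * t47 * t58 + t38 * t40 * t42 * t47 * t50 * t56 + t38 * t40 * t43 * t46 * t50 * t56 + 5 * t40 * t41 * t42 * t43 * t46 ^ 2 * t56 + t40 * t41 * t42 * t46 * t50 * t56 + t40 * t41 * t42 * t46 ^ 2 * t58 + t40 * t41 * t42 ^ 2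 * t46 * t47 * t56 + t40 * t42 * t43 * t46 * t49 * t56 + t40 * t42 * t46 * t54 * t56 + 2 * t41 * t42 * t43 * t46 * t48 * t56 + t41 * t42 * t46 * t48 * t58 + t41 * t43 * t46 * t51 * t56) * h2

end RelE6

end Cfsg.Agent.Helper4.E6Inv
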