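import Cfsg.Agent.Helper4.E6Inv.AbsZ
import Cfsg.Agent.Helper4.E6Inv.ULm0
import Cfsg.Agent.Helper4.E6Inv.ULm1
import Cfsg.Agent.Helper4.E6Inv.ULm2
import Cfsg.Agent.Helper4.E6Inv.ULm3
import Cfsg.Agent.Helper4.E6Inv.ULm4
import Cfsg.Agent.Helper4.E6Inv.ULm5
import Cfsg.Agent.Helper4.E6Inv.ULm6
import Cfsg.Agent.Helper4.E6Inv.ULm7
import Cfsg.Agent.Helper4.E6Inv.ULm8

/-! Generated: the image of an ordered product of root elements of `E₆` under a fundamental reflection (characteristic two). -/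

set_option autoImplicit false
set_option maxHeartbeats 8000000
set_option maxRecDepth 100000
set_option linter.unusedSimpArgs false
set_option linter.unusedVariables false
set_option linter.unusedTactic false
set_option linter.unreachableTactic false

namespace Cfsg.Agent.Helper4.E6Inv

variable {K Γ : Type*} [Field K] [Group Γ] (R : RelE6 K Γ) [CharP K 2]

namespace RelE6
theorem uw5 (t36 t39 t42 t46 t56 t38 t40 t43 t47 t57 t41 t44 t48 t50 t58 t45 t49 t51 t59 t61 t52 t53 t60 t62 t54 t63 t64 t55 t65 t67 t66 t68 t69 t70 t71 : K) :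
    R.X38 t36 * (R.X37 0 * (R.X40 t39 * (R.X42 t42 * (R.X46 t46 * (R.X56 t56 * (R.X36 t38 * (R.X39 t40 * (R.X44 t43 * (R.X48 t47 * (R.X57 t57 * (R.X41 t41 * (R.X43 t44 * (R.X47 t48 * (R.X51 t50 * (R.X59 t58 * (R.X45 t45 * (R.X49 t49 * (R.X50 t51 * (R.X58 t59 * (R.X62 t61 * (R.X52 t52 * (R.X53 t53 * (R.X60 t60 * (R.X61 t62 * (R.X55 t54 * (R.X63 t63 * (R.X64 t64 * (R.X54 t55 * (R.X66 t65 * (R.X67 t67 * (R.X65 t66 * (R.X69 t68 * (R.X68 t69 * (R.X70 t70 * (R.X71 t71))))))))))))))))))))))))))))))))))) =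
      R.RNF (t38) (0) (t40) (t42) (t46) (t56) (t36) (t39) (t40 * t42 + t44) (t40 * t46 + t48) (t57) (t36 * t40 + t38 * t39 + t41) (t39 * t42 + t43) (t39 * t46 + t47) (t40 * t42 * t46 + t51) (t40 * t42 * t56 + t59) (t36 * t40 * t42 + t38 * t39 * t42 + t45) (t36 * t40 * t46 + t38 * t39 * t46 + t49) (t39 * t42 * t46 + t50) (t39 * t42 * t56 + t58) (t40 * t42 * t46 * t56 + t48 * t57 + t62) (t36 * t40 * t42 * t46 + t38 * t39 * t42 * t46 + t52) (t39 * t42 * t48 + t39 * t44 * t46 + t43 * t48 + t44 * t47 + t53) (t36 * t40 * t42 * t56 + t36 * t40 * t57 + t38 * t39 * t42 * t56 + t38 * t39 * t57 + t60) (t39 * t42 * t46 * t56 + t39 * t46 * t57 + t47 * t57 + t61) (t36 * t40 * t42 * t48 + t36 * t40 * t44 * t46 + t38 * t39 * t42 * t48 + t38 * t39 * t44 * t46 + t40 * t41 * t42 * t46 + t55) (t36 * t40 * t42 * t46 * t56 + t36 * t40 * t46 * t57 + t38 * t39 * t42 * t46 * t56 + t38 *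 t39 * t46 * t57 + t63) (t39 * t40 * t42 * t46 * t56 + t39 * t42 * t48 * t56 + t40 * t42 * t47 * t56 + t64) (t36 * t39 * t40 * t42 * t46 + t36 * t40 * t42 * t47 + t36 * t40 * t43 * t46 + t38 * t39 * t42 * t47 + t38 * t39 * t43 * t46 + t38 * t39 ^ 2 * t42 * t46 + t39 * t41 * t42 * t46 + t54) (t36 * t40 * t42 * t48 * t56 + t36 * t40 * t46 * t59 + t38 * t39 * t42 * t48 * t56 + t38 * t39 * t46 * t59 + t40 * t41 * t42 * t46 * t56 + t41 * t48 * t57 + t49 * t59 + t66) (t39 * t40 * t42 ^ 2 * t46 * t56 + t39 * t42 * t44 * t46 * t56 + t39 * t42 * t46 * t59 + t39 * t42 * t48 * t57 + t39 * t42 * t51 * t56 + t39 * t44 * t46 * t57 + t40 * t42 * t43 * t46 * t56 + t43 * t48 * t57 + t44 * t47 * t57 + t50 * t59 + t51 * t58 + t67) (t36 * t39 * t40 * t46 * t57 + t36 * t40 * t42 * t47 * t56 + t36 * t40 * t47 * t57 + t38 * t39 * t42 * t47 * t56 + t38 * t39 * t47 * t57 + t38 * t39 ^ 2 *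 t46 * t57 + t39 * t41 * t42 * t46 * t56 + t39 * t41 * t46 * t57 + t39 * t42 * t49 * t56 + t41 * t47 * t57 + t49 * t58 + t65) (t36 * t40 * t42 * t44 * t46 * t56 + t36 * t40 * t42 * t46 * t59 + t36 * t40 * t42 * t48 * t57 + t36 * t40 * t42 * t51 * t56 + t36 * t40 * t44 * t46 * t57 + t36 * t40 * t51 * t57 + t36 * t40 ^ 2 * t42 * t46 * t57 + t36 * t40 ^ 2 * t42 ^ 2 * t46 * t56 + t38 * t39 * t40 * t42 * t46 * t57 + t38 * t39 * t40 * t42 ^ 2 * t46 * t56 + t38 * t39 * t42 * t44 * t46 * t56 + t38 * t39 * t42 * t46 * t59 + t38 * t39 * t42 * t48 * t57 + t38 * t39 * t42 * t51 * t56 + t38 * t39 * t44 * t46 * t57 + t38 * t39 * t51 * t57 + t40 * t42 * t45 * t46 * t56 + t45 * t48 * t57 + t69) (t36 * t39 * t40 * t42 * t46 * t57 + t36 * t39 * t40 * t42 ^ 2 * t46 * t56 + t36 * t40 * t42 * t43 * t46 * t56 + t36 * t40 * t42 * t46 * t58 + t36 * t40 * t42 * t50 * t56 + t36 * t40 * t43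 * t46 * t57 + t36 * t40 * t50 * t57 + t38 * t39 * t42 * t43 * t46 * t56 + t38 * t39 * t42 * t46 * t58 + t38 * t39 * t42 * t50 * t56 + t38 * t39 * t43 * t46 * t57 + t38 * t39 * t50 * t57 + t38 * t39 ^ 2 * t42 * t46 * t57 + t38 * t39 ^ 2 * t42 ^ 2 * t46 * t56 + t39 * t42 * t45 * t46 * t56 + t39 * t45 * t46 * t57 + t45 * t47 * t57 + t68) (t36 * t39 * t40 * t42 * t44 * t46 * t56 + t36 * t39 * t40 * t42 * t46 * t59 + t36 * t39 * t40 * t42 * t48 * t57 + t36 * t39 * t40 * t42 ^ 2 * t48 * t56 + t36 * t39 * t40 * t44 * t46 * t57 + t36 * t39 * t40 ^ 2 * t42 ^ 2 * t46 * t56 + t36 * t40 * t42 * t44 * t47 * t56 + t36 * t40 * t42 * t47 * t59 + t36 * t40 * t42 * t48 * t58 + t36 * t40 * t42 * t53 * t56 + t36 * t40 * t43 * t46 * t59 + t36 * t40 * t43 * t48 * t57 + t36 * t40 * t44 * t46 * t58 + t36 * t40 * t44 * t47 * t57 + t36 * t40 * t53 * t57 + t36 * t40 ^ 2 * t42 ^ 2 * t47 * t56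 + t38 * t39 * t40 * t42 ^ 2 * t47 * t56 + t38 * t39 * t42 * t44 * t47 * t56 + t38 * t39 * t42 * t47 * t59 + t38 * t39 * t42 * t48 * t58 + t38 * t39 * t42 * t53 * t56 + t38 * t39 * t43 * t46 * t59 + t38 * t39 * t43 * t48 * t57 + t38 * t39 * t44 * t46 * t58 + t38 * t39 * t44 * t47 * t57 + t38 * t39 * t53 * t57 + t38 * t39 ^ 2 * t40 * t42 ^ 2 * t46 * t56 + t38 * t39 ^ 2 * t42 * t44 * t46 * t56 + t38 * t39 ^ 2 * t42 * t46 * t59 + t38 * t39 ^ 2 * t42 * t48 * t57 + t38 * t39 ^ 2 * t42 ^ 2 * t48 * t56 + t38 * t39 ^ 2 * t44 * t46 * t57 + t39 * t40 * t42 * t45 * t46 * t56 + t39 * t41 * t42 * t44 * t46 * t56 + t39 * t41 * t42 * t46 * t59 + t39 * t41 * t42 * t48 * t57 + t39 * t41 * t44 * t46 * t57 + t39 * t42 * t45 * t48 * t56 + t40 * t41 * t42 * t43 * t46 * t56 + t40 * t41 * t42 * t46 * t58 + t40 * t42 * t45 * t47 * t56 + t41 * t43 * t48 * t57 + t41 * t44 * t47 * t57 + t70)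 (t36 * t39 * t40 * t42 * t44 * t46 ^ 2 * t56 + t36 * t39 * t40 * t42 * t46 * t62 + t36 * t39 * t40 * t42 * t46 ^ 2 * t59 + t36 * t39 * t40 * t42 ^ 2 * t46 * t48 * t56 + t36 * t39 * t40 * t44 * t46 ^ 2 * t57 + t36 * t39 * t40 * t46 * t51 * t57 + t36 * t39 * t40 ^ 2 * t42 * t46 ^ 2 * t57 + t36 * t40 * t42 * t43 * t46 * t48 * t56 + t36 * t40 * t42 * t46 * t53 * t56 + t36 * t40 * t42 * t47 * t48 * t57 + t36 * t40 * t42 * t47 * t51 * t56 + t36 * t40 * t42 * t47 * t62 + t36 * t40 * t42 * t48 * t50 * t56 + t36 * t40 * t42 * t48 * t61 + t36 * t40 * t43 * t46 * t62 + t36 * t40 * t44 * t46 * t47 * t57 + t36 * t40 * t44 * t46 * t61 + t36 * t40 * t46 * t50 * t59 + t36 * t40 * t46 * t53 * t57 + t36 * t40 * t47 * t51 * t57 + t36 * t40 ^ 2 * t42 * t43 * t46 ^ 2 * t56 + t36 * t40 ^ 2 * t42 * t46 * t47 * t57 + t36 * t40 ^ 2 * t42 ^ 2 * t46 * t47 * t56 + t38 * t39 * t40 * t42 * t43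 * t46 ^ 2 * t56 + t38 * t39 * t40 * t42 * t46 * t47 * t57 + t38 * t39 * t40 * t42 ^ 2 * t46 * t47 * t56 + t38 * t39 * t42 * t43 * t46 * t48 * t56 + t38 * t39 * t42 * t46 * t53 * t56 + t38 * t39 * t42 * t47 * t48 * t57 + t38 * t39 * t42 * t47 * t51 * t56 + t38 * t39 * t42 * t47 * t62 + t38 * t39 * t42 * t48 * t50 * t56 + t38 * t39 * t42 * t48 * t61 + t38 * t39 * t43 * t46 * t62 + t38 * t39 * t44 * t46 * t47 * t57 + t38 * t39 * t44 * t46 * t61 + t38 * t39 * t46 * t50 * t59 + t38 * t39 * t46 * t53 * t57 + t38 * t39 * t47 * t51 * t57 + t38 * t39 ^ 2 * t40 * t42 * t46 ^ 2 * t57 + t38 * t39 ^ 2 * t42 * t44 * t46 ^ 2 * t56 + t38 * t39 ^ 2 * t42 * t46 * t62 + t38 * t39 ^ 2 * t42 * t46 ^ 2 * t59 + t38 * t39 ^ 2 * t42 ^ 2 * t46 * t48 * t56 + t38 * t39 ^ 2 * t44 * t46 ^ 2 * t57 + t38 * t39 ^ 2 * t46 * t51 * t57 + t39 * t40 * t41 * t42 * t46 ^ 2 * t57 + t39 * t40 * t42 * t46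 * t52 * t56 + t39 * t40 * t42 ^ 2 * t46 * t49 * t56 + t39 * t41 * t42 * t46 * t48 * t57 + t39 * t41 * t42 * t46 * t51 * t56 + t39 * t41 * t42 * t46 * t62 + t39 * t41 * t46 * t51 * t57 + t39 * t42 * t44 * t46 * t49 * t56 + t39 * t42 * t46 * t49 * t59 + t39 * t42 * t48 * t49 * t57 + t39 * t42 * t48 * t52 * t56 + t39 * t42 * t49 * t51 * t56 + t39 * t44 * t46 * t49 * t57 + t40 * t41 * t42 * t46 * t47 * t57 + t40 * t41 * t42 * t46 * t50 * t56 + t40 * t41 * t42 * t46 * t61 + t40 * t42 * t43 * t46 * t49 * t56 + t40 * t42 * t47 * t52 * t56 + t41 * t47 * t51 * t57 + t41 * t48 * t50 * t57 + t43 * t48 * t49 * t57 + t44 * t47 * t49 * t57 + t49 * t50 * t59 + t49 * t51 * t58 + t71) := by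
  have h2 : (2 : K) = 0 := CharTwo.two_eq_zero
  have h : R.X38 t36 * (R.X37 0 * (R.X40 t39 * (R.X42 t42 * (R.X46 t46 * (R.X56 t56 * (R.X36 t38 * (R.X39 t40 * (R.X44 t43 * (R.X48 t47 * (R.X57 t57 * (R.X41 t41 * (R.X43 t44 * (R.X47 t48 * (R.X51 t50 * (R.X59 t58 * (R.X45 t45 * (R.X49 t49 * (R.X50 t51 * (R.X58 t59 * (R.X62 t61 * (R.X52 t52 * (R.X53 t53 * (R.X60 t60 * (R.X61 t62 * (R.X55 t54 * (R.X63 t63 * (R.X64 t64 * (R.X54 t55 * (R.X66 t65 * (R.X67 t67 * (R.X65 t66 * (R.X69 t68 * (R.X68 t69 * (R.X70 t70 * (R.X71 t71))))))))))))))))))))))))))))))))))) =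
      R.X38 t36 * (R.X37 0 * (R.X40 t39 * (R.X42 t42 * (R.X46 t46 * (R.X56 t56 * (R.X36 t38 * (R.X39 t40 * (R.X44 t43 * (R.X48 t47 * (R.X57 t57 * (R.X41 t41 * (R.X43 t44 * (R.X47 t48 * (R.X51 t50 * (R.X59 t58 * (R.X45 t45 * (R.X49 t49 * (R.X50 t51 * (R.X58 t59 * (R.X62 t61 * (R.X52 t52 * (R.X53 t53 * (R.X60 t60 * (R.X61 t62 * (R.X55 t54 * (R.X63 t63 * (R.X64 t64 * (R.X54 t55 * (R.X66 t65 * (R.X67 t67 * (R.X65 t66 * (R.X69 t68 * (R.X68 t69 * (R.X70 t70 * (R.X71 t71 * (R.RNF 0 0 0 0 0 0 0 0 0 0 0 0 0 0 0 0 0 0 0 0 0 0 0 0 0 0 0 0 0 0 0 0 0 0 0 0)))))))))))))))))))))))))))))))))))) := by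
    rw [R.RNF_zeros, mul_one]
  rw [h]
  simp only [R.ulm36, R.ulm37, R.ulm39, R.ulm42, R.ulm46, R.ulm56, R.ulm38, R.ulm40, R.ulm43, R.ulm47, R.ulm57, R.ulm41, R.ulm44, R.ulm48, R.ulm50, R.ulm58, R.ulm45, R.ulm49, R.ulm51, R.ulm59, R.ulm61, R.ulm52, R.ulm53, R.ulm60, R.ulm62, R.ulm54, R.ulm63, R.ulm64, R.ulm55, R.ulm65, R.ulm67, R.ulm66, R.ulm68, R.ulm69, R.ulm70, R.ulm71,
    zero_mul, mul_zero, add_zero, zero_add]
  refine R.RNF_congr ?_ ?_ ?_ ?_ ?_ ?_ ?_ ?_ ?_ ?_ ?_ ?_ ?_ ?_ ?_ ?_ ?_ ?_ ?_ ?_ ?_ ?_ ?_ ?_ ?_ ?_ ?_ ?_ ?_ ?_ ?_ ?_ ?_ ?_ ?_ ?_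
  · first | rfl | ring1
  · first | rfl | ring1
  · first | rfl | ring1
  · first | rfl | ring1
  · first | rfl | ring1
  · first | rfl | ring1
  · first | rfl | ring1
  · first | rfl | ring1
  · first | rfl | ring1
  · first | rfl | ring1
  · first | rfl | ring1
  · first | rfl | ring1
  · first | rfl | ring1
  · first | rfl | ring1
  · first | rfl | ring1
  · first | rfl | ring1
  · first | rfl | ring1
  · first | rfl | ring1
  · first | rfl | ring1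
  · first | rfl | ring1
  · first | rfl | ring1
  · first | rfl | ring1
  · first | rfl | linear_combination (t39 * t40 * t42 * t46) * h2
  · first | rfl | ring1
  · first | rfl | ring1
  · first | rfl | linear_combination (t36 * t40 ^ 2 * t42 * t46 + t38 * t39 * t40 * t42 * t46) * h2
  · first | rfl | ring1
  · first | rfl | ring1
  · first | rfl | linear_combination (t36 * t39 * t40 * t42 * t46) * h2
  · first | rfl | linear_combination (t36 * t40 ^ 2 * t42 * t46 * t56 + t38 * t39 * t40 * t42 * t46 * t56) * h2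
  · first | rfl | linear_combination (t39 * t40 * t42 * t46 * t57 + t39 * t40 * t42 ^ 2 * t46 * t56) * h2
  · first | rfl | linear_combination (t36 * t39 * t40 * t42 * t46 * t56) * h2
  · first | rfl | linear_combination (t36 * t40 ^ 2 * t42 * t46 * t57 + t36 * t40 ^ 2 * t42 ^ 2 * t46 * t56 + t38 * t39 * t40 * t42 * t46 * t57 + t38 * t39 * t40 * t42 ^ 2 * t46 * t56) * h2
  · first | rfl | linear_combination (t36 * t39 * t40 * t42 * t46 * t57 + t36 * t39 * t40 * t42 ^ 2 * t46 * t56) * h2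
  · first | rfl | linear_combination (t36 * t39 * t40 * t42 * t44 * t46 * t56 + t36 * t39 * t40 * t42 * t46 * t59 + t36 * t39 * t40 * t42 ^ 2 * t48 * t56 + t36 * t39 * t40 ^ 2 * t42 * t46 * t57 + 4 * t36 * t39 * t40 ^ 2 * t42 ^ 2 * t46 * t56 + t36 * t40 * t42 * t43 * t48 * t56 + t36 * t40 ^ 2 * t42 * t43 * t46 * t56 + t36 * t40 ^ 2 * t42 * t46 * t58 + t38 * t39 * t40 * t42 * t43 * t46 * t56 + t38 * t39 * t40 * t42 * t46 * t58 + t38 * t39 * t42 * t43 * t48 * t56 + t38 * t39 ^ 2 * t40 * t42 * t46 * t57 + t38 * t39 ^ 2 * t40 * t42 ^ 2 * t46 * t56 + t39 * t40 * t41 * t42 * t46 * t57 + t39 * t40 * t41 * t42 ^ 2 * t46 * t56) * h2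
  · first | rfl | linear_combination (t36 * t39 * t40 * t42 * t44 * t46 ^ 2 * t56 + 3 * t36 * t39 * t40 * t42 * t46 * t48 * t57 + t36 * t39 * t40 * t42 * t46 * t51 * t56 + t36 * t39 * t40 * t42 * t46 * t62 + t36 * t39 * t40 * t42 ^ 2 * t46 * t48 * t56 + t36 * t39 * t40 * t44 * t46 ^ 2 * t57 + 3 * t36 * t39 * t40 ^ 2 * t42 * t46 ^ 2 * t57 + 6 * t36 * t39 * t40 ^ 2 * t42 ^ 2 * t46 ^ 2 * t56 + t36 * t40 * t42 * t44 * t46 * t47 * t56 + t36 * t40 * t42 * t47 * t48 * t57 + t36 * t40 * t43 * t46 * t48 * t57 + t36 * t40 * t44 * t46 * t47 * t57 + 2 * t36 * t40 ^ 2 * t42 * t46 * t47 * t57 + t36 * t40 ^ 2 * t42 * t46 * t50 * t56 + t36 * t40 ^ 2 * t42 * t46 * t61 + t36 * t40 ^ 2 * t42 ^ 2 * t46 * t47 * t56 + 2 * t38 * t39 * t40 * t42 * t46 * t47 * t57 + t38 * t39 * t40 * t42 * t46 * t50 * t56 + t38 * t39 * t40 * t42 * t46 * t61 + t38 * t39 * t40 * t42 ^ 2 * t46 * t47 * t56 +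 t38 * t39 * t42 * t44 * t46 * t47 * t56 + t38 * t39 * t42 * t47 * t48 * t57 + t38 * t39 * t43 * t46 * t48 * t57 + t38 * t39 * t44 * t46 * t47 * t57 + t38 * t39 ^ 2 * t40 * t42 * t46 ^ 2 * t57 + 2 * t38 * t39 ^ 2 * t40 * t42 ^ 2 * t46 ^ 2 * t56 + t38 * t39 ^ 2 * t42 * t46 * t48 * t57 + t39 * t40 * t41 * t42 ^ 2 * t46 ^ 2 * t56 + t39 * t40 * t42 * t46 * t49 * t57 + t39 * t40 * t42 ^ 2 * t46 * t49 * t56) * h2

end RelE6

end Cfsg.Agent.Helper4.E6Inv
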