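import Cfsg.Agent.Helper4.E6Inv.USq
import Cfsg.Agent.Helper4.E6Inv.UW1
import Cfsg.Agent.Helper4.E6Inv.UW2
import Cfsg.Agent.Helper4.E6Inv.UW3
import Cfsg.Agent.Helper4.E6Inv.UW4
import Cfsg.Agent.Helper4.E6Inv.UW5
import Cfsg.Agent.Helper4.E6Inv.UW6
import Cfsg.Agent.Helper4.E6Inv.UCj0
import Cfsg.Agent.Helper4.E6Inv.UCj1
import Cfsg.Agent.Helper4.E6Inv.UCj2
import Cfsg.Agent.Helper4.E6Inv.UCj3
import Cfsg.Agent.Helper4.E6Inv.UCj4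
import Cfsg.Agent.Helper4.E6Inv.UCj5
import Cfsg.Agent.Helper4.E6Inv.UCj6
import Cfsg.Agent.Helper4.E6Inv.UCj7
import Cfsg.Agent.Helper4.E6Inv.UCj8
import Cfsg.Agent.Helper4.E6Inv.UCj9
import Cfsg.Agent.Helper4.E6Inv.UCj10
import Cfsg.Agent.Helper4.E6Inv.UCj11

/-!
# Involutions of the unipotent subgroup of `E₆` in characteristic two (abstract data)

`WeylE6 R`: six elements `n1, …, n6` acting on the root maps of `R : RelE6 K Γ` as the fundamental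
reflections of `E₆` (fundamental roots `56, 46, 42, 39, 37, 36`).  `UData R`: in addition a subgroup
`H` containing them and the root elements, uniqueness of the ordered products, square roots in `K`
and three families of torus elements.  `UP D u` says that if `u` is an involution then it is
`H`-conjugate to one of the three representatives.  (Partly generated.)
-/

set_option autoImplicit false
set_option maxHeartbeats 4000000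
set_option maxRecDepth 100000
set_option linter.unusedSimpArgs false
set_option linter.unusedVariables false
set_option linter.unusedSectionVars false

namespace Cfsg.Agent.Helper4.E6Inv

variable {K Γ : Type*} [Field K] [Group Γ]

/-- conjugate under a subgroup -/
def ConjIn (H : Subgroup Γ) (x y : Γ) : Prop := ∃ g ∈ H, g * x * g⁻¹ = y

theorem ConjIn.refl (H : Subgroup Γ) (x : Γ) : ConjIn H x x := ⟨1, H.one_mem, by group⟩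

theorem ConjIn.trans {H : Subgroup Γ} {x y z : Γ} (h1 : ConjIn H x y) (h2 : ConjIn H y z) :
    ConjIn H x z := by
  obtain ⟨g, hg, rfl⟩ := h1
  obtain ⟨k, hk, rfl⟩ := h2
  exact ⟨k * g, H.mul_mem hk hg, by group⟩

theorem conj_mul' (n x y : Γ) : n * (x * y) * n⁻¹ = (n * x * n⁻¹) * (n * y * n⁻¹) := by group

set_option maxHeartbeats 20000000 in
/-- six elements acting on the root maps as the fundamental reflections of `E₆` -/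
structure WeylE6 (R : RelE6 K Γ) where
  n1 : Γ
  n1_36 : ∀ t, n1 * R.X36 t * n1⁻¹ = R.X36 t
  n1_37 : ∀ t, n1 * R.X37 t * n1⁻¹ = R.X37 t
  n1_39 : ∀ t, n1 * R.X39 t * n1⁻¹ = R.X39 t
  n1_42 : ∀ t, n1 * R.X42 t * n1⁻¹ = R.X57 t
  n1_46 : ∀ t, n1 * R.X46 t * n1⁻¹ = R.X46 t
  n1_38 : ∀ t, n1 * R.X38 t * n1⁻¹ = R.X38 t
  n1_40 : ∀ t, n1 * R.X40 t * n1⁻¹ = R.X40 t
  n1_43 : ∀ t, n1 * R.X43 t * n1⁻¹ = R.X58 t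
  n1_47 : ∀ t, n1 * R.X47 t * n1⁻¹ = R.X47 t
  n1_57 : ∀ t, n1 * R.X57 t * n1⁻¹ = R.X42 t
  n1_41 : ∀ t, n1 * R.X41 t * n1⁻¹ = R.X41 t
  n1_44 : ∀ t, n1 * R.X44 t * n1⁻¹ = R.X59 t
  n1_48 : ∀ t, n1 * R.X48 t * n1⁻¹ = R.X48 t
  n1_50 : ∀ t, n1 * R.X50 t * n1⁻¹ = R.X61 t
  n1_58 : ∀ t, n1 * R.X58 t * n1⁻¹ = R.X43 t
  n1_45 : ∀ t, n1 * R.X45 t * n1⁻¹ = R.X60 t
  n1_49 : ∀ t, n1 * R.X49 t * n1⁻¹ = R.X49 t
  n1_51 : ∀ t, n1 * R.X51 t * n1⁻¹ = R.X62 t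
  n1_59 : ∀ t, n1 * R.X59 t * n1⁻¹ = R.X44 t
  n1_61 : ∀ t, n1 * R.X61 t * n1⁻¹ = R.X50 t
  n1_52 : ∀ t, n1 * R.X52 t * n1⁻¹ = R.X63 t
  n1_53 : ∀ t, n1 * R.X53 t * n1⁻¹ = R.X64 t
  n1_60 : ∀ t, n1 * R.X60 t * n1⁻¹ = R.X45 t
  n1_62 : ∀ t, n1 * R.X62 t * n1⁻¹ = R.X51 t
  n1_54 : ∀ t, n1 * R.X54 t * n1⁻¹ = R.X65 t
  n1_63 : ∀ t, n1 * R.X63 t * n1⁻¹ = R.X52 t
  n1_64 : ∀ t, n1 * R.X64 t * n1⁻¹ = R.X53 t
  n1_55 : ∀ t, n1 * R.X55 t * n1⁻¹ = R.X66 t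
  n1_65 : ∀ t, n1 * R.X65 t * n1⁻¹ = R.X54 t
  n1_67 : ∀ t, n1 * R.X67 t * n1⁻¹ = R.X67 t
  n1_66 : ∀ t, n1 * R.X66 t * n1⁻¹ = R.X55 t
  n1_68 : ∀ t, n1 * R.X68 t * n1⁻¹ = R.X68 t
  n1_69 : ∀ t, n1 * R.X69 t * n1⁻¹ = R.X69 t
  n1_70 : ∀ t, n1 * R.X70 t * n1⁻¹ = R.X70 t
  n1_71 : ∀ t, n1 * R.X71 t * n1⁻¹ = R.X71 t
  n2 : Γ
  n2_36 : ∀ t, n2 * R.X36 t * n2⁻¹ = R.X36 t
  n2_37 : ∀ t, n2 * R.X37 t * n2⁻¹ = R.X37 t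
  n2_39 : ∀ t, n2 * R.X39 t * n2⁻¹ = R.X47 t
  n2_42 : ∀ t, n2 * R.X42 t * n2⁻¹ = R.X42 t
  n2_56 : ∀ t, n2 * R.X56 t * n2⁻¹ = R.X56 t
  n2_38 : ∀ t, n2 * R.X38 t * n2⁻¹ = R.X38 t
  n2_40 : ∀ t, n2 * R.X40 t * n2⁻¹ = R.X48 t
  n2_43 : ∀ t, n2 * R.X43 t * n2⁻¹ = R.X50 t
  n2_47 : ∀ t, n2 * R.X47 t * n2⁻¹ = R.X39 t
  n2_57 : ∀ t, n2 * R.X57 t * n2⁻¹ = R.X57 t
  n2_41 : ∀ t, n2 * R.X41 t * n2⁻¹ = R.X49 t
  n2_44 : ∀ t, n2 * R.X44 t * n2⁻¹ = R.X51 t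
  n2_48 : ∀ t, n2 * R.X48 t * n2⁻¹ = R.X40 t
  n2_50 : ∀ t, n2 * R.X50 t * n2⁻¹ = R.X43 t
  n2_58 : ∀ t, n2 * R.X58 t * n2⁻¹ = R.X61 t
  n2_45 : ∀ t, n2 * R.X45 t * n2⁻¹ = R.X52 t
  n2_49 : ∀ t, n2 * R.X49 t * n2⁻¹ = R.X41 t
  n2_51 : ∀ t, n2 * R.X51 t * n2⁻¹ = R.X44 t
  n2_59 : ∀ t, n2 * R.X59 t * n2⁻¹ = R.X62 t
  n2_61 : ∀ t, n2 * R.X61 t * n2⁻¹ = R.X58 t
  n2_52 : ∀ t, n2 * R.X52 t * n2⁻¹ = R.X45 t
  n2_53 : ∀ t, n2 * R.X53 t * n2⁻¹ = R.X53 t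
  n2_60 : ∀ t, n2 * R.X60 t * n2⁻¹ = R.X63 t
  n2_62 : ∀ t, n2 * R.X62 t * n2⁻¹ = R.X59 t
  n2_54 : ∀ t, n2 * R.X54 t * n2⁻¹ = R.X54 t
  n2_63 : ∀ t, n2 * R.X63 t * n2⁻¹ = R.X60 t
  n2_64 : ∀ t, n2 * R.X64 t * n2⁻¹ = R.X64 t
  n2_55 : ∀ t, n2 * R.X55 t * n2⁻¹ = R.X55 t
  n2_65 : ∀ t, n2 * R.X65 t * n2⁻¹ = R.X65 t
  n2_67 : ∀ t, n2 * R.X67 t * n2⁻¹ = R.X67 t
  n2_66 : ∀ t, n2 * R.X66 t * n2⁻¹ = R.X66 t
  n2_68 : ∀ t, n2 * R.X68 t * n2⁻¹ = R.X68 t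
  n2_69 : ∀ t, n2 * R.X69 t * n2⁻¹ = R.X69 t
  n2_70 : ∀ t, n2 * R.X70 t * n2⁻¹ = R.X71 t
  n2_71 : ∀ t, n2 * R.X71 t * n2⁻¹ = R.X70 t
  n3 : Γ
  n3_36 : ∀ t, n3 * R.X36 t * n3⁻¹ = R.X36 t
  n3_37 : ∀ t, n3 * R.X37 t * n3⁻¹ = R.X37 t
  n3_39 : ∀ t, n3 * R.X39 t * n3⁻¹ = R.X43 t
  n3_46 : ∀ t, n3 * R.X46 t * n3⁻¹ = R.X46 t
  n3_56 : ∀ t, n3 * R.X56 t * n3⁻¹ = R.X57 t
  n3_38 : ∀ t, n3 * R.X38 t * n3⁻¹ = R.X38 t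
  n3_40 : ∀ t, n3 * R.X40 t * n3⁻¹ = R.X44 t
  n3_43 : ∀ t, n3 * R.X43 t * n3⁻¹ = R.X39 t
  n3_47 : ∀ t, n3 * R.X47 t * n3⁻¹ = R.X50 t
  n3_57 : ∀ t, n3 * R.X57 t * n3⁻¹ = R.X56 t
  n3_41 : ∀ t, n3 * R.X41 t * n3⁻¹ = R.X45 t
  n3_44 : ∀ t, n3 * R.X44 t * n3⁻¹ = R.X40 t
  n3_48 : ∀ t, n3 * R.X48 t * n3⁻¹ = R.X51 t
  n3_50 : ∀ t, n3 * R.X50 t * n3⁻¹ = R.X47 t
  n3_58 : ∀ t, n3 * R.X58 t * n3⁻¹ = R.X58 t
  n3_45 : ∀ t, n3 * R.X45 t * n3⁻¹ = R.X41 t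
  n3_49 : ∀ t, n3 * R.X49 t * n3⁻¹ = R.X52 t
  n3_51 : ∀ t, n3 * R.X51 t * n3⁻¹ = R.X48 t
  n3_59 : ∀ t, n3 * R.X59 t * n3⁻¹ = R.X59 t
  n3_61 : ∀ t, n3 * R.X61 t * n3⁻¹ = R.X61 t
  n3_52 : ∀ t, n3 * R.X52 t * n3⁻¹ = R.X49 t
  n3_53 : ∀ t, n3 * R.X53 t * n3⁻¹ = R.X53 t
  n3_60 : ∀ t, n3 * R.X60 t * n3⁻¹ = R.X60 t
  n3_62 : ∀ t, n3 * R.X62 t * n3⁻¹ = R.X62 t
  n3_54 : ∀ t, n3 * R.X54 t * n3⁻¹ = R.X54 t
  n3_63 : ∀ t, n3 * R.X63 t * n3⁻¹ = R.X63 t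
  n3_64 : ∀ t, n3 * R.X64 t * n3⁻¹ = R.X67 t
  n3_55 : ∀ t, n3 * R.X55 t * n3⁻¹ = R.X55 t
  n3_65 : ∀ t, n3 * R.X65 t * n3⁻¹ = R.X68 t
  n3_67 : ∀ t, n3 * R.X67 t * n3⁻¹ = R.X64 t
  n3_66 : ∀ t, n3 * R.X66 t * n3⁻¹ = R.X69 t
  n3_68 : ∀ t, n3 * R.X68 t * n3⁻¹ = R.X65 t
  n3_69 : ∀ t, n3 * R.X69 t * n3⁻¹ = R.X66 t
  n3_70 : ∀ t, n3 * R.X70 t * n3⁻¹ = R.X70 t
  n3_71 : ∀ t, n3 * R.X71 t * n3⁻¹ = R.X71 t
  n4 : Γ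
  n4_36 : ∀ t, n4 * R.X36 t * n4⁻¹ = R.X36 t
  n4_37 : ∀ t, n4 * R.X37 t * n4⁻¹ = R.X40 t
  n4_42 : ∀ t, n4 * R.X42 t * n4⁻¹ = R.X43 t
  n4_46 : ∀ t, n4 * R.X46 t * n4⁻¹ = R.X47 t
  n4_56 : ∀ t, n4 * R.X56 t * n4⁻¹ = R.X56 t
  n4_38 : ∀ t, n4 * R.X38 t * n4⁻¹ = R.X41 t
  n4_40 : ∀ t, n4 * R.X40 t * n4⁻¹ = R.X37 t
  n4_43 : ∀ t, n4 * R.X43 t * n4⁻¹ = R.X42 t
  n4_47 : ∀ t, n4 * R.X47 t * n4⁻¹ = R.X46 t
  n4_57 : ∀ t, n4 * R.X57 t * n4⁻¹ = R.X58 t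
  n4_41 : ∀ t, n4 * R.X41 t * n4⁻¹ = R.X38 t
  n4_44 : ∀ t, n4 * R.X44 t * n4⁻¹ = R.X44 t
  n4_48 : ∀ t, n4 * R.X48 t * n4⁻¹ = R.X48 t
  n4_50 : ∀ t, n4 * R.X50 t * n4⁻¹ = R.X50 t
  n4_58 : ∀ t, n4 * R.X58 t * n4⁻¹ = R.X57 t
  n4_45 : ∀ t, n4 * R.X45 t * n4⁻¹ = R.X45 t
  n4_49 : ∀ t, n4 * R.X49 t * n4⁻¹ = R.X49 t
  n4_51 : ∀ t, n4 * R.X51 t * n4⁻¹ = R.X53 t
  n4_59 : ∀ t, n4 * R.X59 t * n4⁻¹ = R.X59 t
  n4_61 : ∀ t, n4 * R.X61 t * n4⁻¹ = R.X61 t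
  n4_52 : ∀ t, n4 * R.X52 t * n4⁻¹ = R.X54 t
  n4_53 : ∀ t, n4 * R.X53 t * n4⁻¹ = R.X51 t
  n4_60 : ∀ t, n4 * R.X60 t * n4⁻¹ = R.X60 t
  n4_62 : ∀ t, n4 * R.X62 t * n4⁻¹ = R.X64 t
  n4_54 : ∀ t, n4 * R.X54 t * n4⁻¹ = R.X52 t
  n4_63 : ∀ t, n4 * R.X63 t * n4⁻¹ = R.X65 t
  n4_64 : ∀ t, n4 * R.X64 t * n4⁻¹ = R.X62 t
  n4_55 : ∀ t, n4 * R.X55 t * n4⁻¹ = R.X55 t
  n4_65 : ∀ t, n4 * R.X65 t * n4⁻¹ = R.X63 t
  n4_67 : ∀ t, n4 * R.X67 t * n4⁻¹ = R.X67 t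
  n4_66 : ∀ t, n4 * R.X66 t * n4⁻¹ = R.X66 t
  n4_68 : ∀ t, n4 * R.X68 t * n4⁻¹ = R.X68 t
  n4_69 : ∀ t, n4 * R.X69 t * n4⁻¹ = R.X70 t
  n4_70 : ∀ t, n4 * R.X70 t * n4⁻¹ = R.X69 t
  n4_71 : ∀ t, n4 * R.X71 t * n4⁻¹ = R.X71 t
  n5 : Γ
  n5_36 : ∀ t, n5 * R.X36 t * n5⁻¹ = R.X38 t
  n5_39 : ∀ t, n5 * R.X39 t * n5⁻¹ = R.X40 t
  n5_42 : ∀ t, n5 * R.X42 t * n5⁻¹ = R.X42 t
  n5_46 : ∀ t, n5 * R.X46 t * n5⁻¹ = R.X46 t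
  n5_56 : ∀ t, n5 * R.X56 t * n5⁻¹ = R.X56 t
  n5_38 : ∀ t, n5 * R.X38 t * n5⁻¹ = R.X36 t
  n5_40 : ∀ t, n5 * R.X40 t * n5⁻¹ = R.X39 t
  n5_43 : ∀ t, n5 * R.X43 t * n5⁻¹ = R.X44 t
  n5_47 : ∀ t, n5 * R.X47 t * n5⁻¹ = R.X48 t
  n5_57 : ∀ t, n5 * R.X57 t * n5⁻¹ = R.X57 t
  n5_41 : ∀ t, n5 * R.X41 t * n5⁻¹ = R.X41 t
  n5_44 : ∀ t, n5 * R.X44 t * n5⁻¹ = R.X43 t
  n5_48 : ∀ t, n5 * R.X48 t * n5⁻¹ = R.X47 t
  n5_50 : ∀ t, n5 * R.X50 t * n5⁻¹ = R.X51 t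
  n5_58 : ∀ t, n5 * R.X58 t * n5⁻¹ = R.X59 t
  n5_45 : ∀ t, n5 * R.X45 t * n5⁻¹ = R.X45 t
  n5_49 : ∀ t, n5 * R.X49 t * n5⁻¹ = R.X49 t
  n5_51 : ∀ t, n5 * R.X51 t * n5⁻¹ = R.X50 t
  n5_59 : ∀ t, n5 * R.X59 t * n5⁻¹ = R.X58 t
  n5_61 : ∀ t, n5 * R.X61 t * n5⁻¹ = R.X62 t
  n5_52 : ∀ t, n5 * R.X52 t * n5⁻¹ = R.X52 t
  n5_53 : ∀ t, n5 * R.X53 t * n5⁻¹ = R.X53 t
  n5_60 : ∀ t, n5 * R.X60 t * n5⁻¹ = R.X60 t
  n5_62 : ∀ t, n5 * R.X62 t * n5⁻¹ = R.X61 t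
  n5_54 : ∀ t, n5 * R.X54 t * n5⁻¹ = R.X55 t
  n5_63 : ∀ t, n5 * R.X63 t * n5⁻¹ = R.X63 t
  n5_64 : ∀ t, n5 * R.X64 t * n5⁻¹ = R.X64 t
  n5_55 : ∀ t, n5 * R.X55 t * n5⁻¹ = R.X54 t
  n5_65 : ∀ t, n5 * R.X65 t * n5⁻¹ = R.X66 t
  n5_67 : ∀ t, n5 * R.X67 t * n5⁻¹ = R.X67 t
  n5_66 : ∀ t, n5 * R.X66 t * n5⁻¹ = R.X65 t
  n5_68 : ∀ t, n5 * R.X68 t * n5⁻¹ = R.X69 t
  n5_69 : ∀ t, n5 * R.X69 t * n5⁻¹ = R.X68 t
  n5_70 : ∀ t, n5 * R.X70 t * n5⁻¹ = R.X70 t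
  n5_71 : ∀ t, n5 * R.X71 t * n5⁻¹ = R.X71 t
  n6 : Γ
  n6_37 : ∀ t, n6 * R.X37 t * n6⁻¹ = R.X38 t
  n6_39 : ∀ t, n6 * R.X39 t * n6⁻¹ = R.X39 t
  n6_42 : ∀ t, n6 * R.X42 t * n6⁻¹ = R.X42 t
  n6_46 : ∀ t, n6 * R.X46 t * n6⁻¹ = R.X46 t
  n6_56 : ∀ t, n6 * R.X56 t * n6⁻¹ = R.X56 t
  n6_38 : ∀ t, n6 * R.X38 t * n6⁻¹ = R.X37 t
  n6_40 : ∀ t, n6 * R.X40 t * n6⁻¹ = R.X41 t
  n6_43 : ∀ t, n6 * R.X43 t * n6⁻¹ = R.X43 t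
  n6_47 : ∀ t, n6 * R.X47 t * n6⁻¹ = R.X47 t
  n6_57 : ∀ t, n6 * R.X57 t * n6⁻¹ = R.X57 t
  n6_41 : ∀ t, n6 * R.X41 t * n6⁻¹ = R.X40 t
  n6_44 : ∀ t, n6 * R.X44 t * n6⁻¹ = R.X45 t
  n6_48 : ∀ t, n6 * R.X48 t * n6⁻¹ = R.X49 t
  n6_50 : ∀ t, n6 * R.X50 t * n6⁻¹ = R.X50 t
  n6_58 : ∀ t, n6 * R.X58 t * n6⁻¹ = R.X58 t
  n6_45 : ∀ t, n6 * R.X45 t * n6⁻¹ = R.X44 t
  n6_49 : ∀ t, n6 * R.X49 t * n6⁻¹ = R.X48 t
  n6_51 : ∀ t, n6 * R.X51 t * n6⁻¹ = R.X52 t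
  n6_59 : ∀ t, n6 * R.X59 t * n6⁻¹ = R.X60 t
  n6_61 : ∀ t, n6 * R.X61 t * n6⁻¹ = R.X61 t
  n6_52 : ∀ t, n6 * R.X52 t * n6⁻¹ = R.X51 t
  n6_53 : ∀ t, n6 * R.X53 t * n6⁻¹ = R.X54 t
  n6_60 : ∀ t, n6 * R.X60 t * n6⁻¹ = R.X59 t
  n6_62 : ∀ t, n6 * R.X62 t * n6⁻¹ = R.X63 t
  n6_54 : ∀ t, n6 * R.X54 t * n6⁻¹ = R.X53 t
  n6_63 : ∀ t, n6 * R.X63 t * n6⁻¹ = R.X62 t
  n6_64 : ∀ t, n6 * R.X64 t * n6⁻¹ = R.X65 t
  n6_55 : ∀ t, n6 * R.X55 t * n6⁻¹ = R.X55 t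
  n6_65 : ∀ t, n6 * R.X65 t * n6⁻¹ = R.X64 t
  n6_67 : ∀ t, n6 * R.X67 t * n6⁻¹ = R.X68 t
  n6_66 : ∀ t, n6 * R.X66 t * n6⁻¹ = R.X66 t
  n6_68 : ∀ t, n6 * R.X68 t * n6⁻¹ = R.X67 t
  n6_69 : ∀ t, n6 * R.X69 t * n6⁻¹ = R.X69 t
  n6_70 : ∀ t, n6 * R.X70 t * n6⁻¹ = R.X70 t
  n6_71 : ∀ t, n6 * R.X71 t * n6⁻¹ = R.X71 t

set_option maxHeartbeats 20000000 in
/-- the data for the reduction of involutions -/
structure UData (R : RelE6 K Γ) extends WeylE6 R where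
  H : Subgroup Γ
  n1_mem : n1 ∈ H
  n2_mem : n2 ∈ H
  n3_mem : n3 ∈ H
  n4_mem : n4 ∈ H
  n5_mem : n5 ∈ H
  n6_mem : n6 ∈ H
  xmem36 : ∀ t, R.X36 t ∈ H
  xmem37 : ∀ t, R.X37 t ∈ H
  xmem39 : ∀ t, R.X39 t ∈ H
  xmem42 : ∀ t, R.X42 t ∈ H
  xmem46 : ∀ t, R.X46 t ∈ H
  xmem56 : ∀ t, R.X56 t ∈ H
  xmem38 : ∀ t, R.X38 t ∈ H
  xmem40 : ∀ t, R.X40 t ∈ H
  xmem43 : ∀ t, R.X43 t ∈ H
  xmem47 : ∀ t, R.X47 t ∈ H
  xmem57 : ∀ t, R.X57 t ∈ H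
  xmem41 : ∀ t, R.X41 t ∈ H
  xmem44 : ∀ t, R.X44 t ∈ H
  xmem48 : ∀ t, R.X48 t ∈ H
  xmem50 : ∀ t, R.X50 t ∈ H
  xmem58 : ∀ t, R.X58 t ∈ H
  xmem45 : ∀ t, R.X45 t ∈ H
  xmem49 : ∀ t, R.X49 t ∈ H
  xmem51 : ∀ t, R.X51 t ∈ H
  xmem59 : ∀ t, R.X59 t ∈ H
  xmem61 : ∀ t, R.X61 t ∈ H
  xmem52 : ∀ t, R.X52 t ∈ H
  xmem53 : ∀ t, R.X53 t ∈ H
  xmem60 : ∀ t, R.X60 t ∈ H
  xmem62 : ∀ t, R.X62 t ∈ H
  xmem54 : ∀ t, R.X54 t ∈ H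
  xmem63 : ∀ t, R.X63 t ∈ H
  xmem64 : ∀ t, R.X64 t ∈ H
  xmem55 : ∀ t, R.X55 t ∈ H
  xmem65 : ∀ t, R.X65 t ∈ H
  xmem67 : ∀ t, R.X67 t ∈ H
  xmem66 : ∀ t, R.X66 t ∈ H
  xmem68 : ∀ t, R.X68 t ∈ H
  xmem69 : ∀ t, R.X69 t ∈ H
  xmem70 : ∀ t, R.X70 t ∈ H
  xmem71 : ∀ t, R.X71 t ∈ H
  inj : ∀ t36 t37 t39 t42 t46 t56 t38 t40 t43 t47 t57 t41 t44 t48 t50 t58 t45 t49 t51 t59 t61 t52 t53 t60 t62 t54 t63 t64 t55 t65 t67 t66 t68 t69 t70 t71 : K, R.RNF t36 t37 t39 t42 t46 t56 t38 t40 t43 t47 t57 t41 t44 t48 t50 t58 t45 t49 t51 t59 t61 t52 t53 t60 t62 t54 t63 t64 t55 t65 t67 t66 t68 t69 t70 t71 = 1 →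
    t36 = 0 ∧ t37 = 0 ∧ t39 = 0 ∧ t42 = 0 ∧ t46 = 0 ∧ t56 = 0 ∧ t38 = 0 ∧ t40 = 0 ∧ t43 = 0 ∧ t47 = 0 ∧ t57 = 0 ∧ t41 = 0 ∧ t44 = 0 ∧ t48 = 0 ∧ t50 = 0 ∧ t58 = 0 ∧ t45 = 0 ∧ t49 = 0 ∧ t51 = 0 ∧ t59 = 0 ∧ t61 = 0 ∧ t52 = 0 ∧ t53 = 0 ∧ t60 = 0 ∧ t62 = 0 ∧ t54 = 0 ∧ t63 = 0 ∧ t64 = 0 ∧ t55 = 0 ∧ t65 = 0 ∧ t67 = 0 ∧ t66 = 0 ∧ t68 = 0 ∧ t69 = 0 ∧ t70 = 0 ∧ t71 = 0
  sqrt : ∀ y : K, ∃ x : K, x ^ 2 = y
  tor1 : ∀ a : K, a ≠ 0 → ∃ h ∈ H, ∀ t, h * R.X71 t * h⁻¹ = R.X71 (a * t)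
  tor2 : ∀ a b : K, a ≠ 0 → b ≠ 0 → ∃ h ∈ H, (∀ t, h * R.X68 t * h⁻¹ = R.X68 (a * t)) ∧
    (∀ t, h * R.X66 t * h⁻¹ = R.X66 (b * t))
  tor3 : ∀ a b c : K, a ≠ 0 → b ≠ 0 → c ≠ 0 → ∃ h ∈ H, (∀ t, h * R.X55 t * h⁻¹ = R.X55 (a * t)) ∧
    (∀ t, h * R.X65 t * h⁻¹ = R.X65 (b * t)) ∧ (∀ t, h * R.X67 t * h⁻¹ = R.X67 (c * t))

variable {R : RelE6 K Γ}

/-- conjugate in `H` to one of the three representatives -/
def Good (D : UData R) (u : Γ) : Prop :=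
  ConjIn D.H u (R.X71 1) ∨ ConjIn D.H u (R.X68 1 * R.X66 1) ∨ ConjIn D.H u (R.X55 1 * R.X65 1 * R.X67 1)

/-- an involution is conjugate to one of the three representatives -/
def UP (D : UData R) (u : Γ) : Prop := u * u = 1 → u ≠ 1 → Good D u

theorem Good_of_conj (D : UData R) {u u' : Γ} (h : ConjIn D.H u u') (hg : Good D u') : Good D u := by
  rcases hg with h1 | h1 | h1
  · exact Or.inl (h.trans h1)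
  · exact Or.inr (Or.inl (h.trans h1))
  · exact Or.inr (Or.inr (h.trans h1))

theorem UP_conj (D : UData R) {u u' : Γ} (h : ConjIn D.H u u') (hp : UP D u') : UP D u := by
  intro hu hne
  obtain ⟨g, hg, rfl⟩ := h
  refine Good_of_conj D ⟨g, hg, rfl⟩ (hp ?_ ?_)
  · calc g * u * g⁻¹ * (g * u * g⁻¹) = g * (u * u) * g⁻¹ := by group
      _ = 1 := by rw [hu]; group
  · intro h1
    apply hne
    calc u = g⁻¹ * (g * u * g⁻¹) * g := by group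
      _ = 1 := by rw [h1]; group

theorem UP_cj (D : UData R) {x u u' : Γ} (hx : x ∈ D.H) (hxi : x⁻¹ = x)
    (h : x * u * x = u') (hp : UP D u') : UP D u := by
  refine UP_conj D ⟨x, hx, ?_⟩ hp
  rw [hxi, h]

theorem UP_n (D : UData R) {n u u' : Γ} (hn : n ∈ D.H)
    (h : n * u * n⁻¹ = u') (hp : UP D u') : UP D u :=
  UP_conj D ⟨n, hn, h⟩ hp

namespace WeylE6

section char2

variable [CharP K 2] (W : WeylE6 R)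

theorem conj_n1 (t36 t37 t39 t42 t46 t38 t40 t43 t47 t57 t41 t44 t48 t50 t58 t45 t49 t51 t59 t61 t52 t53 t60 t62 t54 t63 t64 t55 t65 t67 t66 t68 t69 t70 t71 : K) :
    W.n1 * R.RNF t36 t37 t39 t42 t46 0 t38 t40 t43 t47 t57 t41 t44 t48 t50 t58 t45 t49 t51 t59 t61 t52 t53 t60 t62 t54 t63 t64 t55 t65 t67 t66 t68 t69 t70 t71 * W.n1⁻¹ =
      R.RNF (t36) (t37) (t39) (t57) (t46) (0) (t38) (t40) (t58) (t47) (t42) (t41) (t40 * t57 + t59) (t48) (t47 * t57 + t61) (t43) (t60) (t49) (t62) (t40 * t42 + t44) (t42 * t47 + t50) (t63) (t40 * t47 * t57 + t48 * t58 + t64) (t45) (t51) (t41 * t47 * t57 + t65) (t52) (t40 * t42 * t47 + t43 * t48 + t53) (t49 * t59 + t66) (t41 * t42 * t47 + t54) (t40 * t42 * t61 + t42 * t47 * t59 + t44 * t61 + t50 * t59 + t67) (t40 * t42 * t49 + t44 * t49 + t55) (t42 * t47 * t60 + t45 * t61 +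 t50 * t60 + t68) (t45 * t62 + t51 * t60 + t69) (t40 * t41 * t42 * t47 * t57 + t40 * t42 * t47 * t60 + t41 * t42 * t47 * t59 + t41 * t44 * t47 * t57 + t43 * t48 * t60 + t45 * t64 + t53 * t60 + t70) (t40 * t42 * t47 * t63 + t40 * t42 * t49 * t61 + t41 * t42 * t47 * t62 + t41 * t47 * t51 * t57 + t42 * t47 * t49 * t59 + t43 * t48 * t63 + t44 * t49 * t61 + t49 * t50 * t59 + t52 * t64 + t53 * t63 + t71) := by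
  rw [← R.uw1]
  unfold RelE6.RNF
  simp only [R.zero56, one_mul]
  simp only [conj_mul']
  simp only [W.n1_36, W.n1_37, W.n1_39, W.n1_42, W.n1_46, W.n1_38, W.n1_40, W.n1_43, W.n1_47, W.n1_57, W.n1_41, W.n1_44, W.n1_48, W.n1_50, W.n1_58, W.n1_45, W.n1_49, W.n1_51, W.n1_59, W.n1_61, W.n1_52, W.n1_53, W.n1_60, W.n1_62, W.n1_54, W.n1_63, W.n1_64, W.n1_55, W.n1_65, W.n1_67, W.n1_66, W.n1_68, W.n1_69, W.n1_70, W.n1_71]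

theorem conj_n2 (t36 t37 t39 t42 t56 t38 t40 t43 t47 t57 t41 t44 t48 t50 t58 t45 t49 t51 t59 t61 t52 t53 t60 t62 t54 t63 t64 t55 t65 t67 t66 t68 t69 t70 t71 : K) :
    W.n2 * R.RNF t36 t37 t39 t42 0 t56 t38 t40 t43 t47 t57 t41 t44 t48 t50 t58 t45 t49 t51 t59 t61 t52 t53 t60 t62 t54 t63 t64 t55 t65 t67 t66 t68 t69 t70 t71 * W.n2⁻¹ =
      R.RNF (t36) (t37) (t47) (t42) (0) (t56) (t38) (t48) (t42 * t47 + t50) (t39) (t57) (t38 * t47 + t49) (t51) (t40) (t39 * t42 + t43) (t42 * t47 * t56 + t61) (t38 * t42 * t47 + t52) (t38 * t39 + t41) (t44) (t48 * t57 + t62) (t39 * t42 * t56 + t58) (t38 * t39 * t42 + t45) (t39 * t42 * t48 + t40 * t50 + t43 * t48 + t53) (t38 * t42 * t47 * t56 + t38 * t47 * t57 + t63) (t40 * t57 + t59) (t38 * t39 * t50 + t39 * t42 * t49 + t41 * t50 + t43 * t49 + t54) (t38 * t39 * t42 * t56 +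 t38 * t39 * t57 + t60) (t39 * t42 * t48 * t56 + t40 * t42 * t47 * t56 + t64) (t38 * t39 * t42 * t48 + t38 * t39 * t51 + t38 * t40 * t42 * t47 + t41 * t51 + t44 * t49 + t55) (t38 * t39 * t61 + t39 * t42 * t49 * t56 + t41 * t61 + t49 * t58 + t65) (t39 * t42 * t48 * t57 + t39 * t42 * t51 * t56 + t40 * t50 * t57 + t43 * t48 * t57 + t44 * t61 + t51 * t58 + t67) (t38 * t39 * t42 * t48 * t56 + t38 * t40 * t42 * t47 * t56 + t38 * t40 * t47 * t57 + t40 * t49 * t57 + t41 * t48 * t57 + t66) (t38 * t39 * t42 * t47 * t57 + t38 * t39 * t42 * t50 * t56 + t38 * t39 * t42 * t61 + t38 * t39 * t42 ^ 2 * t47 * t56 + t38 * t39 * t50 * t57 + t38 * t42 * t43 * t47 * t56 + t38 * t43 * t47 * t57 + t39 * t42 * t52 * t56 + t45 * t61 + t52 * t58 + t68) (t38 * t39 * t42 * t51 * t56 + t38 * t39 * t42 * t62 + t38 * t39 * t51 * t57 +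 t38 * t42 * t44 * t47 * t56 + t38 * t44 * t47 * t57 + t40 * t52 * t57 + t45 * t62 + t52 * t59 + t69) (t38 * t39 * t42 * t47 * t48 * t57 + t38 * t39 * t42 * t48 * t50 * t56 + t38 * t39 * t42 * t48 * t61 + t38 * t39 * t42 ^ 2 * t47 * t48 * t56 + t38 * t39 * t48 * t50 * t57 + t38 * t39 * t50 * t62 + t38 * t39 * t51 * t61 + t38 * t40 * t42 * t47 * t50 * t56 + t38 * t40 * t42 * t47 * t61 + t38 * t40 * t42 ^ 2 * t47 ^ 2 * t56 + t38 * t40 * t47 * t50 * t57 + t38 * t42 * t43 * t47 * t48 * t56 + t38 * t42 * t47 * t53 * t56 + t38 * t43 * t47 * t48 * t57 + t38 * t47 * t53 * t57 + t39 * t42 * t48 * t52 * t56 + t39 * t42 * t49 * t51 * t56 + t39 * t42 * t49 * t62 + t40 * t42 * t47 * t52 * t56 + t40 * t49 * t50 * t57 + t41 * t50 * t62 + t41 * t51 * t61 + t43 * t49 * t62 + t44 * t49 * t61 + t49 * t51 * t58 + t71) (t38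 * t39 * t40 * t42 * t47 * t57 + t38 * t39 * t40 * t42 ^ 2 * t47 * t56 + t38 * t39 * t40 * t50 * t57 + t38 * t39 * t42 * t48 * t58 + t38 * t39 * t42 * t53 * t56 + t38 * t39 * t43 * t48 * t57 + t38 * t39 * t44 * t61 + t38 * t39 * t50 * t59 + t38 * t39 * t51 * t58 + t38 * t39 * t53 * t57 + t38 * t39 ^ 2 * t42 * t48 * t57 + t38 * t39 ^ 2 * t42 * t51 * t56 + t38 * t39 ^ 2 * t42 ^ 2 * t48 * t56 + t38 * t40 * t42 * t43 * t47 * t56 + t38 * t40 * t42 * t47 * t58 + t38 * t40 * t43 * t47 * t57 + t39 * t40 * t42 * t49 * t57 + t39 * t41 * t42 * t48 * t57 + t39 * t41 * t42 * t51 * t56 + t39 * t42 * t44 * t49 * t56 + t39 * t42 * t45 * t48 * t56 + t39 * t42 * t49 * t59 + t40 * t41 * t50 * t57 + t40 * t42 * t45 * t47 * t56 + t40 * t43 * t49 * t57 + t41 * t43 * t48 * t57 + t41 * t44 * t61 + t41 * t50 * t59 + t41 * t51 *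 t58 + t43 * t49 * t59 + t44 * t49 * t58 + t70) := by
  rw [← R.uw2]
  unfold RelE6.RNF
  simp only [R.zero46, one_mul]
  simp only [conj_mul']
  simp only [W.n2_36, W.n2_37, W.n2_39, W.n2_42, W.n2_56, W.n2_38, W.n2_40, W.n2_43, W.n2_47, W.n2_57, W.n2_41, W.n2_44, W.n2_48, W.n2_50, W.n2_58, W.n2_45, W.n2_49, W.n2_51, W.n2_59, W.n2_61, W.n2_52, W.n2_53, W.n2_60, W.n2_62, W.n2_54, W.n2_63, W.n2_64, W.n2_55, W.n2_65, W.n2_67, W.n2_66, W.n2_68, W.n2_69, W.n2_70, W.n2_71]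

theorem conj_n3 (t36 t37 t39 t46 t56 t38 t40 t43 t47 t57 t41 t44 t48 t50 t58 t45 t49 t51 t59 t61 t52 t53 t60 t62 t54 t63 t64 t55 t65 t67 t66 t68 t69 t70 t71 : K) :
    W.n3 * R.RNF t36 t37 t39 0 t46 t56 t38 t40 t43 t47 t57 t41 t44 t48 t50 t58 t45 t49 t51 t59 t61 t52 t53 t60 t62 t54 t63 t64 t55 t65 t67 t66 t68 t69 t70 t71 * W.n3⁻¹ =
      R.RNF (t36) (t37) (t43) (0) (t46) (t57) (t38) (t44) (t39) (t43 * t46 + t50) (t56) (t38 * t43 + t45) (t40) (t51) (t39 * t46 + t47) (t39 * t57 + t43 * t56 + t58) (t38 * t39 + t41) (t38 * t43 * t46 + t52) (t48) (t40 * t57 + t44 * t56 + t59) (t39 * t46 * t57 + t47 * t57 + t50 * t56 + t61) (t38 * t39 * t46 + t49) (t39 * t44 * t46 + t40 * t50 + t44 * t47 + t53) (t38 * t39 * t57 + t38 * t43 * t56 + t60) (t62) (t38 * t39 * t50 + t39 * t45 * t46 + t41 * t50 + t45 * t47 + t54) (t38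 * t39 * t46 * t57 + t38 * t43 * t46 * t56 + t63) (t39 * t44 * t46 * t57 + t39 * t51 * t57 + t40 * t50 * t57 + t43 * t51 * t56 + t44 * t47 * t57 + t44 * t50 * t56 + t51 * t58 + t67) (t38 * t39 * t44 * t46 + t38 * t39 * t51 + t38 * t40 * t43 * t46 + t41 * t51 + t45 * t48 + t55) (t38 * t39 * t50 * t57 + t38 * t43 * t46 * t58 + t38 * t43 ^ 2 * t46 * t56 + t39 * t45 * t46 * t57 + t45 * t47 * t57 + t45 * t50 * t56 + t68) (t39 * t40 * t46 * t57 + t39 * t44 * t46 * t56 + t40 * t47 * t57 + t40 * t50 * t56 + t44 * t47 * t56 + t48 * t58 + t64) (t38 * t39 * t44 * t46 * t57 + t38 * t39 * t51 * t57 + t38 * t43 * t51 * t56 + t40 * t52 * t57 + t44 * t52 * t56 + t52 * t59 + t69) (t38 * t39 * t46 * t58 + t38 * t39 * t47 * t57 + t38 * t39 * t50 * t56 + t38 * t39 ^ 2 * t46 * t57 + t38 * t43 * t47 * t56 + t39 * t41 * t46 *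 t57 + t41 * t47 * t57 + t41 * t50 * t56 + t65) (t38 * t39 * t46 * t59 + t38 * t39 * t48 * t57 + t38 * t40 * t43 * t46 * t56 + t38 * t43 * t48 * t56 + t49 * t59 + t66) (t38 * t39 * t40 * t50 * t57 + t38 * t39 * t43 * t51 * t56 + t38 * t39 * t44 * t46 * t58 + t38 * t39 * t44 * t47 * t57 + t38 * t39 * t44 * t50 * t56 + t38 * t39 * t50 * t59 + t38 * t39 * t51 * t58 + t38 * t39 * t53 * t57 + t38 * t39 ^ 2 * t44 * t46 * t57 + t38 * t39 ^ 2 * t51 * t57 + t38 * t40 * t43 * t46 * t58 + t38 * t40 * t43 * t50 * t56 + t38 * t40 * t43 ^ 2 * t46 * t56 + t38 * t43 * t44 * t47 * t56 + t38 * t43 * t53 * t56 + t39 * t41 * t44 * t46 * t57 + t39 * t41 * t51 * t57 + t39 * t45 * t46 * t59 + t40 * t41 * t50 * t57 + t40 * t45 * t50 * t56 + t41 * t43 * t51 * t56 + t41 * t44 * t47 * t57 + t41 * t44 * t50 * t56 + t41 * t50 * t59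 + t41 * t51 * t58 + t45 * t47 * t59 + t45 * t48 * t58 + t70) (t38 * t39 * t40 * t43 * t46 ^ 2 * t57 + t38 * t39 * t40 * t46 * t50 * t57 + t38 * t39 * t43 * t44 * t46 ^ 2 * t56 + t38 * t39 * t43 * t46 * t51 * t56 + t38 * t39 * t44 * t46 * t47 * t57 + t38 * t39 * t44 * t46 * t50 * t56 + t38 * t39 * t44 * t46 * t61 + t38 * t39 * t46 * t53 * t57 + t38 * t39 * t48 * t50 * t57 + t38 * t39 * t50 * t62 + t38 * t39 * t51 * t61 + t38 * t39 ^ 2 * t44 * t46 ^ 2 * t57 + t38 * t39 ^ 2 * t46 * t51 * t57 + t38 * t40 * t43 * t46 * t47 * t57 + t38 * t40 * t43 * t46 * t61 + t38 * t43 * t44 * t46 * t47 * t56 + t38 * t43 * t46 * t48 * t58 + t38 * t43 * t46 * t53 * t56 + t38 * t43 * t47 * t51 * t56 + t38 * t43 ^ 2 * t46 * t48 * t56 + t39 * t40 * t46 * t52 * t57 + t39 * t44 * t46 * t49 * t57 + t39 * t44 * t46 * t52 * t56 + t39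 * t45 * t46 * t48 * t57 + t39 * t45 * t46 * t62 + t39 * t49 * t51 * t57 + t40 * t47 * t52 * t57 + t40 * t49 * t50 * t57 + t40 * t50 * t52 * t56 + t41 * t50 * t62 + t41 * t51 * t61 + t43 * t49 * t51 * t56 + t44 * t47 * t49 * t57 + t44 * t47 * t52 * t56 + t44 * t49 * t50 * t56 + t45 * t47 * t48 * t57 + t45 * t47 * t62 + t45 * t48 * t50 * t56 + t45 * t48 * t61 + t48 * t52 * t58 + t49 * t51 * t58 + t71) := by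
  rw [← R.uw3]
  unfold RelE6.RNF
  simp only [R.zero42, one_mul]
  simp only [conj_mul']
  simp only [W.n3_36, W.n3_37, W.n3_39, W.n3_46, W.n3_56, W.n3_38, W.n3_40, W.n3_43, W.n3_47, W.n3_57, W.n3_41, W.n3_44, W.n3_48, W.n3_50, W.n3_58, W.n3_45, W.n3_49, W.n3_51, W.n3_59, W.n3_61, W.n3_52, W.n3_53, W.n3_60, W.n3_62, W.n3_54, W.n3_63, W.n3_64, W.n3_55, W.n3_65, W.n3_67, W.n3_66, W.n3_68, W.n3_69, W.n3_70, W.n3_71]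

theorem conj_n4 (t36 t37 t42 t46 t56 t38 t40 t43 t47 t57 t41 t44 t48 t50 t58 t45 t49 t51 t59 t61 t52 t53 t60 t62 t54 t63 t64 t55 t65 t67 t66 t68 t69 t70 t71 : K) :
    W.n4 * R.RNF t36 t37 0 t42 t46 t56 t38 t40 t43 t47 t57 t41 t44 t48 t50 t58 t45 t49 t51 t59 t61 t52 t53 t60 t62 t54 t63 t64 t55 t65 t67 t66 t68 t69 t70 t71 * W.n4⁻¹ =
      R.RNF (t36) (t40) (0) (t43) (t47) (t56) (t41) (t37) (t42) (t46) (t43 * t56 + t58) (t38) (t37 * t43 + t40 * t42 + t44) (t37 * t47 + t40 * t46 + t48) (t42 * t47 + t43 * t46 + t50) (t42 * t56 + t57) (t38 * t43 + t41 * t42 + t45) (t38 * t47 + t41 * t46 + t49) (t37 * t43 * t47 + t40 * t42 * t47 + t40 * t43 * t46 + t53) (t37 * t43 * t56 + t40 * t42 * t56 + t59) (t42 * t47 * t56 + t43 * t46 * t56 + t61) (t38 * t43 * t47 + t41 * t42 * t47 + t41 * t43 * t46 + t54) (t37 * t42 *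 t47 + t37 * t43 * t46 + t40 * t42 * t46 + t51) (t38 * t58 + t41 * t42 * t56 + t41 * t57 + t60) (t37 * t47 * t58 + t40 * t42 * t47 * t56 + t40 * t46 * t58 + t48 * t58 + t64) (t38 * t42 * t47 + t38 * t43 * t46 + t41 * t42 * t46 + t52) (t38 * t47 * t58 + t41 * t42 * t47 * t56 + t41 * t46 * t58 + t65) (t37 * t43 * t46 * t56 + t42 * t48 * t56 + t48 * t57 + t62) (t37 * t38 * t43 * t47 + t38 * t40 * t42 * t47 + t38 * t40 * t43 * t46 + t38 * t43 * t48 + t38 * t44 * t47 + t40 * t41 * t42 * t46 + t41 * t42 * t48 + t41 * t44 * t46 + t55) (t38 * t42 * t47 * t56 + t38 * t43 * t46 * t56 + t38 * t47 * t57 + t41 * t42 * t46 * t56 + t41 * t46 * t57 + t63) (t37 * t42 * t47 * t58 + t37 * t43 * t46 * t58 + t37 * t43 * t47 * t57 + t37 * t43 * t50 * t56 + t40 * t42 * t46 * t58 + t40 * t42 * t47 * t57 + t40 * t42 * t50 * t56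 + t40 * t42 ^ 2 * t47 * t56 + t40 * t43 * t46 * t57 + t42 * t44 * t47 * t56 + t43 * t44 * t46 * t56 + t67) (t37 * t38 * t43 * t47 * t56 + t37 * t38 * t47 * t58 + t37 * t41 * t43 * t46 * t56 + t37 * t43 * t49 * t56 + t38 * t40 * t46 * t58 + t38 * t48 * t58 + t40 * t42 * t49 * t56 + t41 * t42 * t48 * t56 + t41 * t48 * t57 + t66) (t38 * t42 * t43 * t47 * t56 + t38 * t43 * t47 * t57 + t38 * t43 ^ 2 * t46 * t56 + t38 * t50 * t58 + t41 * t42 * t46 * t58 + t41 * t42 * t47 * t57 + t41 * t42 * t50 * t56 + t41 * t42 ^ 2 * t47 * t56 + t41 * t43 * t46 * t57 + t41 * t50 * t57 + t42 * t45 * t47 * t56 + t43 * t45 * t46 * t56 + t68) (t37 * t38 * t43 * t47 * t58 + t37 * t41 * t42 * t47 * t58 + t37 * t45 * t47 * t58 + t38 * t40 * t42 * t43 * t47 * t56 + t38 * t40 * t43 * t46 * t58 + t38 * t43 * t47 * t59 + t38 * t44 * t47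 * t58 + t38 * t53 * t58 + t40 * t41 * t42 * t43 * t46 * t56 + t40 * t41 * t42 ^ 2 * t47 * t56 + t40 * t42 * t45 * t47 * t56 + t40 * t45 * t46 * t58 + t41 * t42 * t44 * t47 * t56 + t41 * t42 * t47 * t59 + t41 * t42 * t53 * t56 + t41 * t43 * t46 * t59 + t41 * t44 * t46 * t58 + t41 * t53 * t57 + t45 * t48 * t58 + t70) (t37 * t38 * t42 * t43 * t47 * t56 + t37 * t38 * t42 * t47 * t58 + t37 * t38 * t43 * t46 * t58 + t37 * t38 * t43 * t47 * t57 + t37 * t41 * t42 * t43 * t46 * t56 + t37 * t43 * t45 * t46 * t56 + t38 * t40 * t42 * t43 * t46 * t56 + t38 * t40 * t42 * t46 * t58 + t38 * t40 * t42 * t47 * t57 + t38 * t40 * t43 * t46 * t57 + t38 * t42 * t43 * t48 * t56 + t38 * t42 * t44 * t47 * t56 + t38 * t42 * t47 * t59 + t38 * t43 * t44 * t46 * t56 + t38 * t43 * t46 * t59 + t38 * t43 * t48 * t57 + t38 * t44 * t47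 * t57 + t38 * t51 * t58 + t40 * t41 * t42 * t46 * t57 + t41 * t42 * t44 * t46 * t56 + t41 * t42 * t46 * t59 + t41 * t42 * t48 * t57 + t41 * t42 * t51 * t56 + t41 * t42 ^ 2 * t48 * t56 + t41 * t44 * t46 * t57 + t41 * t51 * t57 + t42 * t45 * t48 * t56 + t45 * t48 * t57 + t69) (t37 * t38 * t42 * t43 * t47 ^ 2 * t56 + t37 * t38 * t43 * t47 * t50 * t56 + t37 * t38 * t43 * t47 * t61 + t37 * t38 * t43 * t47 ^ 2 * t57 + t37 * t38 * t47 * t50 * t58 + t37 * t41 * t42 * t43 * t46 * t47 * t56 + t37 * t41 * t42 * t46 * t47 * t58 + t37 * t41 * t43 * t46 * t47 * t57 + t37 * t41 * t43 * t46 * t50 * t56 + t37 * t41 * t43 * t46 ^ 2 * t58 + t37 * t41 * t43 ^ 2 * t46 ^ 2 * t56 + t37 * t42 * t47 * t49 * t58 + t37 * t43 * t46 * t49 * t58 + t37 * t43 * t46 * t54 * t56 + t37 * t43 * t47 * t49 * t57 + t37 * t43 * t49 * t50 * t56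 + t38 * t40 * t42 * t43 * t46 * t47 * t56 + t38 * t40 * t42 * t47 * t61 + t38 * t40 * t42 * t47 ^ 2 * t57 + t38 * t40 * t42 ^ 2 * t47 ^ 2 * t56 + t38 * t40 * t43 * t46 * t47 * t57 + t38 * t40 * t43 * t46 * t61 + t38 * t40 * t43 * t46 ^ 2 * t58 + t38 * t40 * t43 ^ 2 * t46 ^ 2 * t56 + t38 * t40 * t46 * t50 * t58 + t38 * t42 * t43 * t47 * t48 * t56 + t38 * t42 * t44 * t47 ^ 2 * t56 + t38 * t42 * t47 * t48 * t58 + t38 * t42 * t47 * t53 * t56 + t38 * t42 * t47 * t64 + t38 * t43 * t44 * t46 * t47 * t56 + t38 * t43 * t46 * t48 * t58 + t38 * t43 * t46 * t53 * t56 + t38 * t43 * t46 * t64 + t38 * t43 * t48 * t61 + t38 * t44 * t47 * t61 + t38 * t47 * t51 * t58 + t38 * t47 * t53 * t57 + t38 * t48 * t50 * t58 + t40 * t41 * t42 * t46 * t47 * t57 + t40 * t41 * t42 * t46 * t61 + t40 * t41 * t42 * t46 ^ 2 * t58 + t40 *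 t41 * t42 ^ 2 * t46 * t47 * t56 + t40 * t41 * t43 * t46 ^ 2 * t57 + t40 * t42 * t46 * t49 * t58 + t40 * t42 * t47 * t49 * t57 + t40 * t42 * t49 * t50 * t56 + t40 * t42 ^ 2 * t47 * t49 * t56 + t40 * t43 * t46 * t49 * t57 + t41 * t42 * t44 * t46 * t47 * t56 + t41 * t42 * t46 * t53 * t56 + t41 * t42 * t46 * t64 + t41 * t42 * t47 * t51 * t56 + t41 * t42 * t48 * t50 * t56 + t41 * t42 * t48 * t61 + t41 * t42 ^ 2 * t47 * t48 * t56 + t41 * t43 * t44 * t46 ^ 2 * t56 + t41 * t44 * t46 * t61 + t41 * t46 * t51 * t58 + t41 * t46 * t53 * t57 + t41 * t48 * t50 * t57 + t42 * t44 * t47 * t49 * t56 + t42 * t48 * t54 * t56 + t43 * t44 * t46 * t49 * t56 + t48 * t54 * t57 + t52 * t64 + t54 * t62 + t71) := by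
  rw [← R.uw4]
  unfold RelE6.RNF
  simp only [R.zero39, one_mul]
  simp only [conj_mul']
  simp only [W.n4_36, W.n4_37, W.n4_42, W.n4_46, W.n4_56, W.n4_38, W.n4_40, W.n4_43, W.n4_47, W.n4_57, W.n4_41, W.n4_44, W.n4_48, W.n4_50, W.n4_58, W.n4_45, W.n4_49, W.n4_51, W.n4_59, W.n4_61, W.n4_52, W.n4_53, W.n4_60, W.n4_62, W.n4_54, W.n4_63, W.n4_64, W.n4_55, W.n4_65, W.n4_67, W.n4_66, W.n4_68, W.n4_69, W.n4_70, W.n4_71]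

theorem conj_n5 (t36 t39 t42 t46 t56 t38 t40 t43 t47 t57 t41 t44 t48 t50 t58 t45 t49 t51 t59 t61 t52 t53 t60 t62 t54 t63 t64 t55 t65 t67 t66 t68 t69 t70 t71 : K) :
    W.n5 * R.RNF t36 0 t39 t42 t46 t56 t38 t40 t43 t47 t57 t41 t44 t48 t50 t58 t45 t49 t51 t59 t61 t52 t53 t60 t62 t54 t63 t64 t55 t65 t67 t66 t68 t69 t70 t71 * W.n5⁻¹ =
      R.RNF (t38) (0) (t40) (t42) (t46) (t56) (t36) (t39) (t40 * t42 + t44) (t40 * t46 + t48) (t57) (t36 * t40 + t38 * t39 + t41) (t39 * t42 + t43) (t39 * t46 + t47) (t40 * t42 * t46 + t51) (t40 * t42 * t56 + t59) (t36 * t40 * t42 + t38 * t39 * t42 + t45) (t36 * t40 * t46 + t38 * t39 * t46 + t49) (t39 * t42 * t46 + t50) (t39 * t42 * t56 + t58) (t40 * t42 * t46 * t56 + t48 * t57 + t62) (t36 * t40 * t42 * t46 + t38 * t39 * t42 * t46 + t52) (t39 * t42 * t48 + t39 * t44 * t46 +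 t43 * t48 + t44 * t47 + t53) (t36 * t40 * t42 * t56 + t36 * t40 * t57 + t38 * t39 * t42 * t56 + t38 * t39 * t57 + t60) (t39 * t42 * t46 * t56 + t39 * t46 * t57 + t47 * t57 + t61) (t36 * t40 * t42 * t48 + t36 * t40 * t44 * t46 + t38 * t39 * t42 * t48 + t38 * t39 * t44 * t46 + t40 * t41 * t42 * t46 + t55) (t36 * t40 * t42 * t46 * t56 + t36 * t40 * t46 * t57 + t38 * t39 * t42 * t46 * t56 + t38 * t39 * t46 * t57 + t63) (t39 * t40 * t42 * t46 * t56 + t39 * t42 * t48 * t56 + t40 * t42 * t47 * t56 + t64) (t36 * t39 * t40 * t42 * t46 + t36 * t40 * t42 * t47 + t36 * t40 * t43 * t46 + t38 * t39 * t42 * t47 + t38 * t39 * t43 * t46 + t38 * t39 ^ 2 * t42 * t46 + t39 * t41 * t42 * t46 + t54) (t36 * t40 * t42 * t48 * t56 + t36 * t40 * t46 * t59 + t38 * t39 * t42 * t48 * t56 + t38 * t39 * t46 * t59 + t40 * t41 * t42 *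 t46 * t56 + t41 * t48 * t57 + t49 * t59 + t66) (t39 * t40 * t42 ^ 2 * t46 * t56 + t39 * t42 * t44 * t46 * t56 + t39 * t42 * t46 * t59 + t39 * t42 * t48 * t57 + t39 * t42 * t51 * t56 + t39 * t44 * t46 * t57 + t40 * t42 * t43 * t46 * t56 + t43 * t48 * t57 + t44 * t47 * t57 + t50 * t59 + t51 * t58 + t67) (t36 * t39 * t40 * t46 * t57 + t36 * t40 * t42 * t47 * t56 + t36 * t40 * t47 * t57 + t38 * t39 * t42 * t47 * t56 + t38 * t39 * t47 * t57 + t38 * t39 ^ 2 * t46 * t57 + t39 * t41 * t42 * t46 * t56 + t39 * t41 * t46 * t57 + t39 * t42 * t49 * t56 + t41 * t47 * t57 + t49 * t58 + t65) (t36 * t40 * t42 * t44 * t46 * t56 + t36 * t40 * t42 * t46 * t59 + t36 * t40 * t42 * t48 * t57 + t36 * t40 * t42 * t51 * t56 + t36 * t40 * t44 * t46 * t57 + t36 * t40 * t51 * t57 + t36 * t40 ^ 2 * t42 * t46 * t57 + t36 * t40 ^ 2 *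 t42 ^ 2 * t46 * t56 + t38 * t39 * t40 * t42 * t46 * t57 + t38 * t39 * t40 * t42 ^ 2 * t46 * t56 + t38 * t39 * t42 * t44 * t46 * t56 + t38 * t39 * t42 * t46 * t59 + t38 * t39 * t42 * t48 * t57 + t38 * t39 * t42 * t51 * t56 + t38 * t39 * t44 * t46 * t57 + t38 * t39 * t51 * t57 + t40 * t42 * t45 * t46 * t56 + t45 * t48 * t57 + t69) (t36 * t39 * t40 * t42 * t46 * t57 + t36 * t39 * t40 * t42 ^ 2 * t46 * t56 + t36 * t40 * t42 * t43 * t46 * t56 + t36 * t40 * t42 * t46 * t58 + t36 * t40 * t42 * t50 * t56 + t36 * t40 * t43 * t46 * t57 + t36 * t40 * t50 * t57 + t38 * t39 * t42 * t43 * t46 * t56 + t38 * t39 * t42 * t46 * t58 + t38 * t39 * t42 * t50 * t56 + t38 * t39 * t43 * t46 * t57 + t38 * t39 * t50 * t57 + t38 * t39 ^ 2 * t42 * t46 * t57 + t38 * t39 ^ 2 * t42 ^ 2 * t46 * t56 + t39 * t42 * t45 * t46 * t56 + t39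 * t45 * t46 * t57 + t45 * t47 * t57 + t68) (t36 * t39 * t40 * t42 * t44 * t46 * t56 + t36 * t39 * t40 * t42 * t46 * t59 + t36 * t39 * t40 * t42 * t48 * t57 + t36 * t39 * t40 * t42 ^ 2 * t48 * t56 + t36 * t39 * t40 * t44 * t46 * t57 + t36 * t39 * t40 ^ 2 * t42 ^ 2 * t46 * t56 + t36 * t40 * t42 * t44 * t47 * t56 + t36 * t40 * t42 * t47 * t59 + t36 * t40 * t42 * t48 * t58 + t36 * t40 * t42 * t53 * t56 + t36 * t40 * t43 * t46 * t59 + t36 * t40 * t43 * t48 * t57 + t36 * t40 * t44 * t46 * t58 + t36 * t40 * t44 * t47 * t57 + t36 * t40 * t53 * t57 + t36 * t40 ^ 2 * t42 ^ 2 * t47 * t56 + t38 * t39 * t40 * t42 ^ 2 * t47 * t56 + t38 * t39 * t42 * t44 * t47 * t56 + t38 * t39 * t42 * t47 * t59 + t38 * t39 * t42 * t48 * t58 + t38 * t39 * t42 * t53 * t56 + t38 * t39 * t43 * t46 * t59 + t38 * t39 * t43 * t48 * t57 + t38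 * t39 * t44 * t46 * t58 + t38 * t39 * t44 * t47 * t57 + t38 * t39 * t53 * t57 + t38 * t39 ^ 2 * t40 * t42 ^ 2 * t46 * t56 + t38 * t39 ^ 2 * t42 * t44 * t46 * t56 + t38 * t39 ^ 2 * t42 * t46 * t59 + t38 * t39 ^ 2 * t42 * t48 * t57 + t38 * t39 ^ 2 * t42 ^ 2 * t48 * t56 + t38 * t39 ^ 2 * t44 * t46 * t57 + t39 * t40 * t42 * t45 * t46 * t56 + t39 * t41 * t42 * t44 * t46 * t56 + t39 * t41 * t42 * t46 * t59 + t39 * t41 * t42 * t48 * t57 + t39 * t41 * t44 * t46 * t57 + t39 * t42 * t45 * t48 * t56 + t40 * t41 * t42 * t43 * t46 * t56 + t40 * t41 * t42 * t46 * t58 + t40 * t42 * t45 * t47 * t56 + t41 * t43 * t48 * t57 + t41 * t44 * t47 * t57 + t70) (t36 * t39 * t40 * t42 * t44 * t46 ^ 2 * t56 + t36 * t39 * t40 * t42 * t46 * t62 + t36 * t39 * t40 * t42 * t46 ^ 2 * t59 + t36 * t39 * t40 * t42 ^ 2 * t46 * t48 * t56 +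 t36 * t39 * t40 * t44 * t46 ^ 2 * t57 + t36 * t39 * t40 * t46 * t51 * t57 + t36 * t39 * t40 ^ 2 * t42 * t46 ^ 2 * t57 + t36 * t40 * t42 * t43 * t46 * t48 * t56 + t36 * t40 * t42 * t46 * t53 * t56 + t36 * t40 * t42 * t47 * t48 * t57 + t36 * t40 * t42 * t47 * t51 * t56 + t36 * t40 * t42 * t47 * t62 + t36 * t40 * t42 * t48 * t50 * t56 + t36 * t40 * t42 * t48 * t61 + t36 * t40 * t43 * t46 * t62 + t36 * t40 * t44 * t46 * t47 * t57 + t36 * t40 * t44 * t46 * t61 + t36 * t40 * t46 * t50 * t59 + t36 * t40 * t46 * t53 * t57 + t36 * t40 * t47 * t51 * t57 + t36 * t40 ^ 2 * t42 * t43 * t46 ^ 2 * t56 + t36 * t40 ^ 2 * t42 * t46 * t47 * t57 + t36 * t40 ^ 2 * t42 ^ 2 * t46 * t47 * t56 + t38 * t39 * t40 * t42 * t43 * t46 ^ 2 * t56 + t38 * t39 * t40 * t42 * t46 * t47 * t57 + t38 * t39 * t40 * t42 ^ 2 * t46 * t47 * t56 +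 t38 * t39 * t42 * t43 * t46 * t48 * t56 + t38 * t39 * t42 * t46 * t53 * t56 + t38 * t39 * t42 * t47 * t48 * t57 + t38 * t39 * t42 * t47 * t51 * t56 + t38 * t39 * t42 * t47 * t62 + t38 * t39 * t42 * t48 * t50 * t56 + t38 * t39 * t42 * t48 * t61 + t38 * t39 * t43 * t46 * t62 + t38 * t39 * t44 * t46 * t47 * t57 + t38 * t39 * t44 * t46 * t61 + t38 * t39 * t46 * t50 * t59 + t38 * t39 * t46 * t53 * t57 + t38 * t39 * t47 * t51 * t57 + t38 * t39 ^ 2 * t40 * t42 * t46 ^ 2 * t57 + t38 * t39 ^ 2 * t42 * t44 * t46 ^ 2 * t56 + t38 * t39 ^ 2 * t42 * t46 * t62 + t38 * t39 ^ 2 * t42 * t46 ^ 2 * t59 + t38 * t39 ^ 2 * t42 ^ 2 * t46 * t48 * t56 + t38 * t39 ^ 2 * t44 * t46 ^ 2 * t57 + t38 * t39 ^ 2 * t46 * t51 * t57 + t39 * t40 * t41 * t42 * t46 ^ 2 * t57 + t39 * t40 * t42 * t46 * t52 * t56 + t39 * t40 * t42 ^ 2 * t46 * t49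 * t56 + t39 * t41 * t42 * t46 * t48 * t57 + t39 * t41 * t42 * t46 * t51 * t56 + t39 * t41 * t42 * t46 * t62 + t39 * t41 * t46 * t51 * t57 + t39 * t42 * t44 * t46 * t49 * t56 + t39 * t42 * t46 * t49 * t59 + t39 * t42 * t48 * t49 * t57 + t39 * t42 * t48 * t52 * t56 + t39 * t42 * t49 * t51 * t56 + t39 * t44 * t46 * t49 * t57 + t40 * t41 * t42 * t46 * t47 * t57 + t40 * t41 * t42 * t46 * t50 * t56 + t40 * t41 * t42 * t46 * t61 + t40 * t42 * t43 * t46 * t49 * t56 + t40 * t42 * t47 * t52 * t56 + t41 * t47 * t51 * t57 + t41 * t48 * t50 * t57 + t43 * t48 * t49 * t57 + t44 * t47 * t49 * t57 + t49 * t50 * t59 + t49 * t51 * t58 + t71) := by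
  rw [← R.uw5]
  unfold RelE6.RNF
  simp only [R.zero37, one_mul]
  simp only [conj_mul']
  simp only [W.n5_36, W.n5_39, W.n5_42, W.n5_46, W.n5_56, W.n5_38, W.n5_40, W.n5_43, W.n5_47, W.n5_57, W.n5_41, W.n5_44, W.n5_48, W.n5_50, W.n5_58, W.n5_45, W.n5_49, W.n5_51, W.n5_59, W.n5_61, W.n5_52, W.n5_53, W.n5_60, W.n5_62, W.n5_54, W.n5_63, W.n5_64, W.n5_55, W.n5_65, W.n5_67, W.n5_66, W.n5_68, W.n5_69, W.n5_70, W.n5_71]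

theorem conj_n6 (t37 t39 t42 t46 t56 t38 t40 t43 t47 t57 t41 t44 t48 t50 t58 t45 t49 t51 t59 t61 t52 t53 t60 t62 t54 t63 t64 t55 t65 t67 t66 t68 t69 t70 t71 : K) :
    W.n6 * R.RNF 0 t37 t39 t42 t46 t56 t38 t40 t43 t47 t57 t41 t44 t48 t50 t58 t45 t49 t51 t59 t61 t52 t53 t60 t62 t54 t63 t64 t55 t65 t67 t66 t68 t69 t70 t71 * W.n6⁻¹ =
      R.RNF (0) (t38) (t39) (t42) (t46) (t56) (t37) (t38 * t39 + t41) (t43) (t47) (t57) (t37 * t39 + t40) (t38 * t39 * t42 + t45) (t38 * t39 * t46 + t49) (t50) (t58) (t37 * t39 * t42 + t44) (t37 * t39 * t46 + t48) (t38 * t39 * t42 * t46 + t52) (t38 * t39 * t42 * t56 + t41 * t57 + t60) (t61) (t37 * t39 * t42 * t46 + t51) (t38 * t39 * t42 * t47 + t38 * t39 * t43 * t46 + t54) (t37 * t39 * t42 * t56 + t37 * t39 * t57 + t40 * t57 + t59) (t38 * t39 * t42 * t46 * t56 + t38 * t39 *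 t46 * t57 + t63) (t37 * t39 * t42 * t47 + t37 * t39 * t43 * t46 + t53) (t37 * t39 * t42 * t46 * t56 + t37 * t39 * t46 * t57 + t62) (t38 * t39 * t42 * t47 * t56 + t49 * t58 + t65) (t37 * t38 * t39 ^ 2 * t42 * t46 + t37 * t39 * t41 * t42 * t46 + t37 * t39 * t42 * t49 + t37 * t39 * t45 * t46 + t38 * t39 * t40 * t42 * t46 + t44 * t49 + t45 * t48 + t55) (t37 * t39 * t42 * t47 * t56 + t37 * t39 * t46 * t58 + t48 * t58 + t64) (t38 * t39 * t42 * t43 * t46 * t56 + t38 * t39 * t42 * t46 * t58 + t38 * t39 * t42 * t47 * t57 + t38 * t39 * t42 * t50 * t56 + t38 * t39 * t43 * t46 * t57 + t41 * t50 * t57 + t68) (t37 * t38 * t39 ^ 2 * t46 * t57 + t37 * t39 * t41 * t42 * t46 * t56 + t37 * t39 * t42 * t49 * t56 + t37 * t39 * t49 * t57 + t38 * t39 * t40 * t42 * t46 * t56 + t38 * t39 * t40 * t46 * t57 + t38 * t39 * t42 * t48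 * t56 + t40 * t49 * t57 + t41 * t48 * t57 + t66) (t37 * t39 * t42 * t43 * t46 * t56 + t37 * t39 * t42 * t46 * t58 + t37 * t39 * t42 * t47 * t57 + t37 * t39 * t42 * t50 * t56 + t37 * t39 * t43 * t46 * t57 + t37 * t39 * t50 * t57 + t40 * t50 * t57 + t67) (t37 * t38 * t39 ^ 2 * t42 * t46 * t57 + t37 * t38 * t39 ^ 2 * t42 ^ 2 * t46 * t56 + t37 * t39 * t42 * t45 * t46 * t56 + t37 * t39 * t42 * t46 * t60 + t37 * t39 * t42 * t52 * t56 + t37 * t39 * t45 * t46 * t57 + t37 * t39 * t52 * t57 + t38 * t39 * t42 * t44 * t46 * t56 + t38 * t39 * t44 * t46 * t57 + t40 * t52 * t57 + t51 * t60 + t52 * t59 + t69) (t37 * t38 * t39 ^ 2 * t42 * t43 * t46 * t56 + t37 * t38 * t39 ^ 2 * t42 * t46 * t58 + t37 * t38 * t39 ^ 2 * t42 * t47 * t57 + t37 * t38 * t39 ^ 2 * t42 ^ 2 * t47 * t56 + t37 * t38 * t39 ^ 2 * t43 * t46 * t57 + t37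 * t39 * t41 * t42 * t43 * t46 * t56 + t37 * t39 * t41 * t42 * t46 * t58 + t37 * t39 * t41 * t42 * t47 * t57 + t37 * t39 * t41 * t43 * t46 * t57 + t37 * t39 * t42 * t45 * t47 * t56 + t37 * t39 * t42 * t47 * t60 + t37 * t39 * t42 * t49 * t58 + t37 * t39 * t42 * t54 * t56 + t37 * t39 * t43 * t46 * t60 + t37 * t39 * t45 * t46 * t58 + t37 * t39 * t54 * t57 + t38 * t39 * t40 * t42 * t43 * t46 * t56 + t38 * t39 * t40 * t42 * t46 * t58 + t38 * t39 * t40 * t42 * t47 * t57 + t38 * t39 * t40 * t43 * t46 * t57 + t38 * t39 * t42 * t44 * t47 * t56 + t40 * t54 * t57 + t44 * t49 * t58 + t45 * t48 * t58 + t53 * t60 + t54 * t59 + t70) (t37 * t38 * t39 ^ 2 * t42 * t43 * t46 ^ 2 * t56 + t37 * t38 * t39 ^ 2 * t42 * t46 * t47 * t57 + t37 * t38 * t39 ^ 2 * t42 * t46 * t61 + t37 * t38 * t39 ^ 2 * t42 * t46 ^ 2 * t58 + t37 * t38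 * t39 ^ 2 * t42 ^ 2 * t46 * t47 * t56 + t37 * t38 * t39 ^ 2 * t43 * t46 ^ 2 * t57 + t37 * t38 * t39 ^ 2 * t46 * t50 * t57 + t37 * t39 * t41 * t42 * t46 * t50 * t56 + t37 * t39 * t41 * t42 * t46 * t61 + t37 * t39 * t42 * t43 * t46 * t49 * t56 + t37 * t39 * t42 * t46 * t54 * t56 + t37 * t39 * t42 * t47 * t49 * t57 + t37 * t39 * t42 * t47 * t52 * t56 + t37 * t39 * t42 * t47 * t63 + t37 * t39 * t42 * t49 * t50 * t56 + t37 * t39 * t42 * t49 * t61 + t37 * t39 * t43 * t46 * t49 * t57 + t37 * t39 * t43 * t46 * t63 + t37 * t39 * t45 * t46 * t61 + t37 * t39 * t46 * t52 * t58 + t37 * t39 * t46 * t54 * t57 + t37 * t39 * t49 * t50 * t57 + t38 * t39 * t40 * t42 * t46 * t50 * t56 + t38 * t39 * t40 * t42 * t46 * t61 + t38 * t39 * t40 * t46 * t50 * t57 + t38 * t39 * t42 * t43 * t46 * t48 * t56 + t38 * t39 * t42 * t46 *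 t48 * t58 + t38 * t39 * t42 * t47 * t48 * t57 + t38 * t39 * t42 * t47 * t51 * t56 + t38 * t39 * t42 * t48 * t50 * t56 + t38 * t39 * t43 * t46 * t48 * t57 + t40 * t49 * t50 * t57 + t41 * t48 * t50 * t57 + t44 * t49 * t61 + t45 * t48 * t61 + t48 * t52 * t58 + t49 * t51 * t58 + t53 * t63 + t54 * t62 + t71) := by
  rw [← R.uw6]
  unfold RelE6.RNF
  simp only [R.zero36, one_mul]
  simp only [conj_mul']
  simp only [W.n6_37, W.n6_39, W.n6_42, W.n6_46, W.n6_56, W.n6_38, W.n6_40, W.n6_43, W.n6_47, W.n6_57, W.n6_41, W.n6_44, W.n6_48, W.n6_50, W.n6_58, W.n6_45, W.n6_49, W.n6_51, W.n6_59, W.n6_61, W.n6_52, W.n6_53, W.n6_60, W.n6_62, W.n6_54, W.n6_63, W.n6_64, W.n6_55, W.n6_65, W.n6_67, W.n6_66, W.n6_68, W.n6_69, W.n6_70, W.n6_71]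

end char2

end WeylE6

end Cfsg.Agent.Helper4.E6Inv
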