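import Cfsg.Agent.Helper4.E6Inv.UBase
import Cfsg.Agent.Helper4.E6Inv.ConcRel
import Cfsg.Agent.Helper18.Weyl
import Cfsg.Agent.Helper18.Borel
import Cfsg.Agent.Helper18.BNMain
import Cfsg.Agent.S1027
import Cfsg.Agent.S1031

/-!
# Involutions of `E₆(K)`, `K` of characteristic two: the Weyl elements (concrete data)

The fundamental reflections `n_p(1)` act on the root elements of `E₆(K)` as in `WeylE6`. (Generated.)
-/

set_option autoImplicit false
set_option maxRecDepth 100000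
set_option maxHeartbeats 4000000
set_option linter.unusedSimpArgs false
set_option linter.unusedVariables false
set_option linter.unusedSectionVars false

namespace Cfsg.Agent.Helper4.E6Inv

open Cfsg Cfsg.Lie Cfsg.Agent.Helper18

variable {K : Type*} [Field K]

/-- the fundamental reflection `n_{p_{i+1}}(1)` -/
noncomputable def nE6 (K : Type*) [Field K] (i : ℕ) : GL chevE6.Idx K :=
  wordGL chevE6 K (chevE6.nWord (chevE6.simple i) (1 : K))

theorem nE6_mem (i : ℕ) : nE6 K i ∈ chevE6.group K := by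
  unfold nE6
  rw [wordGL_nWord']
  exact mul_mem (mul_mem (xGL_mem_group' chevE6 hE6 _ _) (xGL_mem_group' chevE6 hE6 _ _))
    (xGL_mem_group' chevE6 hE6 _ _)

/-- the table of the fundamental reflections on the positive roots -/
def reflTab : List (ℕ × ℕ × ℕ) :=
  [(0, 36, 36), (0, 37, 37), (0, 39, 39), (0, 42, 57), (0, 46, 46), (0, 38, 38), (0, 40, 40), (0, 43, 58), (0, 47, 47), (0, 57, 42), (0, 41, 41), (0, 44, 59), (0, 48, 48), (0, 50, 61), (0, 58, 43), (0, 45, 60), (0, 49, 49), (0, 51, 62), (0, 59, 44), (0, 61, 50), (0, 52, 63), (0, 53, 64), (0, 60, 45), (0, 62, 51), (0, 54, 65), (0, 63, 52), (0, 64, 53), (0, 55, 66), (0, 65, 54), (0, 67, 67), (0, 66, 55), (0, 68, 68), (0, 69, 69), (0, 70, 70), (0, 71, 71), (1, 36, 36), (1, 37, 37), (1, 39, 47), (1, 42, 42), (1, 56, 56), (1, 38, 38), (1, 40, 48), (1, 43, 50), (1, 47, 39), (1, 57, 57), (1, 41, 49), (1, 44, 51), (1, 48, 40), (1, 50, 43), (1, 58, 61), (1,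 45, 52), (1, 49, 41), (1, 51, 44), (1, 59, 62), (1, 61, 58), (1, 52, 45), (1, 53, 53), (1, 60, 63), (1, 62, 59), (1, 54, 54), (1, 63, 60), (1, 64, 64), (1, 55, 55), (1, 65, 65), (1, 67, 67), (1, 66, 66), (1, 68, 68), (1, 69, 69), (1, 70, 71), (1, 71, 70), (2, 36, 36), (2, 37, 37), (2, 39, 43), (2, 46, 46), (2, 56, 57), (2, 38, 38), (2, 40, 44), (2, 43, 39), (2, 47, 50), (2, 57, 56), (2, 41, 45), (2, 44, 40), (2, 48, 51), (2, 50, 47), (2, 58, 58), (2, 45, 41), (2, 49, 52), (2, 51, 48), (2, 59, 59), (2, 61, 61), (2, 52, 49), (2, 53, 53), (2, 60, 60), (2, 62, 62), (2, 54, 54), (2, 63, 63), (2, 64, 67), (2, 55, 55), (2, 65, 68), (2, 67, 64), (2, 66, 69), (2, 68, 65), (2, 69, 66), (2, 70, 70), (2, 71, 71), (3, 36, 36), (3, 37, 40), (3, 42, 43), (3, 46, 47), (3, 56, 56), (3, 38, 41), (3, 40, 37), (3, 43, 42), (3, 47, 46), (3, 57, 58), (3, 41, 38), (3, 44, 44), (3, 48, 48), (3, 50, 50), (3, 58, 57), (3, 45, 45), (3,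 49, 49), (3, 51, 53), (3, 59, 59), (3, 61, 61), (3, 52, 54), (3, 53, 51), (3, 60, 60), (3, 62, 64), (3, 54, 52), (3, 63, 65), (3, 64, 62), (3, 55, 55), (3, 65, 63), (3, 67, 67), (3, 66, 66), (3, 68, 68), (3, 69, 70), (3, 70, 69), (3, 71, 71), (4, 36, 38), (4, 39, 40), (4, 42, 42), (4, 46, 46), (4, 56, 56), (4, 38, 36), (4, 40, 39), (4, 43, 44), (4, 47, 48), (4, 57, 57), (4, 41, 41), (4, 44, 43), (4, 48, 47), (4, 50, 51), (4, 58, 59), (4, 45, 45), (4, 49, 49), (4, 51, 50), (4, 59, 58), (4, 61, 62), (4, 52, 52), (4, 53, 53), (4, 60, 60), (4, 62, 61), (4, 54, 55), (4, 63, 63), (4, 64, 64), (4, 55, 54), (4, 65, 66), (4, 67, 67), (4, 66, 65), (4, 68, 69), (4, 69, 68), (4, 70, 70), (4, 71, 71), (5, 37, 38), (5, 39, 39), (5, 42, 42), (5, 46, 46), (5, 56, 56), (5, 38, 37), (5, 40, 41), (5, 43, 43), (5, 47, 47), (5, 57, 57), (5, 41, 40), (5, 44, 45), (5, 48, 49), (5, 50, 50), (5, 58, 58), (5, 45, 44), (5, 49, 48), (5,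 51, 52), (5, 59, 60), (5, 61, 61), (5, 52, 51), (5, 53, 54), (5, 60, 59), (5, 62, 63), (5, 54, 53), (5, 63, 62), (5, 64, 65), (5, 55, 55), (5, 65, 64), (5, 67, 68), (5, 66, 66), (5, 68, 67), (5, 69, 69), (5, 70, 70), (5, 71, 71)]

theorem reflTab_ok : ∀ p ∈ reflTab, chevE6.reflectRoot p.1 p.2.1 = p.2.2 ∧ p.1 < chevE6.rank ∧
    p.2.1 < chevE6.nroots := by decide +kernel

section char2

variable [CharP K 2]

theorem nE6_conj (i s s' : ℕ) (h : (i, s, s') ∈ reflTab) (t : K) :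
    nE6 K i * xGL chevE6 K s t * (nE6 K i)⁻¹ = xGL chevE6 K s' t := by
  obtain ⟨h1, hi, hs⟩ := reflTab_ok _ h
  simp only at h1 hi hs
  obtain ⟨η, hη, hc⟩ := nGL_conj_xGL (F := K) chevE6 hE6
    (fun i s hi hs => Cfsg.Agent.S1031.result (F := K) chevE6 hE6 i s hi hs) i s hi hs
  rw [mul_inv_eq_iff_eq_mul]
  unfold nE6
  rw [hc t, h1, cast_odd η hη, one_mul]

set_option maxHeartbeats 20000000 in
/-- the fundamental reflections of `E₆(K)` -/
noncomputable def weylE6 : WeylE6 (e6Rel (K := K)) where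
  n1 := nE6 K 0
  n1_36 := nE6_conj 0 36 36 (by decide)
  n1_37 := nE6_conj 0 37 37 (by decide)
  n1_39 := nE6_conj 0 39 39 (by decide)
  n1_42 := nE6_conj 0 42 57 (by decide)
  n1_46 := nE6_conj 0 46 46 (by decide)
  n1_38 := nE6_conj 0 38 38 (by decide)
  n1_40 := nE6_conj 0 40 40 (by decide)
  n1_43 := nE6_conj 0 43 58 (by decide)
  n1_47 := nE6_conj 0 47 47 (by decide)
  n1_57 := nE6_conj 0 57 42 (by decide)
  n1_41 := nE6_conj 0 41 41 (by decide)
  n1_44 := nE6_conj 0 44 59 (by decide)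
  n1_48 := nE6_conj 0 48 48 (by decide)
  n1_50 := nE6_conj 0 50 61 (by decide)
  n1_58 := nE6_conj 0 58 43 (by decide)
  n1_45 := nE6_conj 0 45 60 (by decide)
  n1_49 := nE6_conj 0 49 49 (by decide)
  n1_51 := nE6_conj 0 51 62 (by decide)
  n1_59 := nE6_conj 0 59 44 (by decide)
  n1_61 := nE6_conj 0 61 50 (by decide)
  n1_52 := nE6_conj 0 52 63 (by decide)
  n1_53 := nE6_conj 0 53 64 (by decide)
  n1_60 := nE6_conj 0 60 45 (by decide)
  n1_62 := nE6_conj 0 62 51 (by decide)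
  n1_54 := nE6_conj 0 54 65 (by decide)
  n1_63 := nE6_conj 0 63 52 (by decide)
  n1_64 := nE6_conj 0 64 53 (by decide)
  n1_55 := nE6_conj 0 55 66 (by decide)
  n1_65 := nE6_conj 0 65 54 (by decide)
  n1_67 := nE6_conj 0 67 67 (by decide)
  n1_66 := nE6_conj 0 66 55 (by decide)
  n1_68 := nE6_conj 0 68 68 (by decide)
  n1_69 := nE6_conj 0 69 69 (by decide)
  n1_70 := nE6_conj 0 70 70 (by decide)
  n1_71 := nE6_conj 0 71 71 (by decide)
  n2 := nE6 K 1
  n2_36 := nE6_conj 1 36 36 (by decide)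
  n2_37 := nE6_conj 1 37 37 (by decide)
  n2_39 := nE6_conj 1 39 47 (by decide)
  n2_42 := nE6_conj 1 42 42 (by decide)
  n2_56 := nE6_conj 1 56 56 (by decide)
  n2_38 := nE6_conj 1 38 38 (by decide)
  n2_40 := nE6_conj 1 40 48 (by decide)
  n2_43 := nE6_conj 1 43 50 (by decide)
  n2_47 := nE6_conj 1 47 39 (by decide)
  n2_57 := nE6_conj 1 57 57 (by decide)
  n2_41 := nE6_conj 1 41 49 (by decide)
  n2_44 := nE6_conj 1 44 51 (by decide)
  n2_48 := nE6_conj 1 48 40 (by decide)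
  n2_50 := nE6_conj 1 50 43 (by decide)
  n2_58 := nE6_conj 1 58 61 (by decide)
  n2_45 := nE6_conj 1 45 52 (by decide)
  n2_49 := nE6_conj 1 49 41 (by decide)
  n2_51 := nE6_conj 1 51 44 (by decide)
  n2_59 := nE6_conj 1 59 62 (by decide)
  n2_61 := nE6_conj 1 61 58 (by decide)
  n2_52 := nE6_conj 1 52 45 (by decide)
  n2_53 := nE6_conj 1 53 53 (by decide)
  n2_60 := nE6_conj 1 60 63 (by decide)
  n2_62 := nE6_conj 1 62 59 (by decide)
  n2_54 := nE6_conj 1 54 54 (by decide)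
  n2_63 := nE6_conj 1 63 60 (by decide)
  n2_64 := nE6_conj 1 64 64 (by decide)
  n2_55 := nE6_conj 1 55 55 (by decide)
  n2_65 := nE6_conj 1 65 65 (by decide)
  n2_67 := nE6_conj 1 67 67 (by decide)
  n2_66 := nE6_conj 1 66 66 (by decide)
  n2_68 := nE6_conj 1 68 68 (by decide)
  n2_69 := nE6_conj 1 69 69 (by decide)
  n2_70 := nE6_conj 1 70 71 (by decide)
  n2_71 := nE6_conj 1 71 70 (by decide)
  n3 := nE6 K 2
  n3_36 := nE6_conj 2 36 36 (by decide)
  n3_37 := nE6_conj 2 37 37 (by decide)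
  n3_39 := nE6_conj 2 39 43 (by decide)
  n3_46 := nE6_conj 2 46 46 (by decide)
  n3_56 := nE6_conj 2 56 57 (by decide)
  n3_38 := nE6_conj 2 38 38 (by decide)
  n3_40 := nE6_conj 2 40 44 (by decide)
  n3_43 := nE6_conj 2 43 39 (by decide)
  n3_47 := nE6_conj 2 47 50 (by decide)
  n3_57 := nE6_conj 2 57 56 (by decide)
  n3_41 := nE6_conj 2 41 45 (by decide)
  n3_44 := nE6_conj 2 44 40 (by decide)
  n3_48 := nE6_conj 2 48 51 (by decide)
  n3_50 := nE6_conj 2 50 47 (by decide)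
  n3_58 := nE6_conj 2 58 58 (by decide)
  n3_45 := nE6_conj 2 45 41 (by decide)
  n3_49 := nE6_conj 2 49 52 (by decide)
  n3_51 := nE6_conj 2 51 48 (by decide)
  n3_59 := nE6_conj 2 59 59 (by decide)
  n3_61 := nE6_conj 2 61 61 (by decide)
  n3_52 := nE6_conj 2 52 49 (by decide)
  n3_53 := nE6_conj 2 53 53 (by decide)
  n3_60 := nE6_conj 2 60 60 (by decide)
  n3_62 := nE6_conj 2 62 62 (by decide)
  n3_54 := nE6_conj 2 54 54 (by decide)
  n3_63 := nE6_conj 2 63 63 (by decide)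
  n3_64 := nE6_conj 2 64 67 (by decide)
  n3_55 := nE6_conj 2 55 55 (by decide)
  n3_65 := nE6_conj 2 65 68 (by decide)
  n3_67 := nE6_conj 2 67 64 (by decide)
  n3_66 := nE6_conj 2 66 69 (by decide)
  n3_68 := nE6_conj 2 68 65 (by decide)
  n3_69 := nE6_conj 2 69 66 (by decide)
  n3_70 := nE6_conj 2 70 70 (by decide)
  n3_71 := nE6_conj 2 71 71 (by decide)
  n4 := nE6 K 3
  n4_36 := nE6_conj 3 36 36 (by decide)
  n4_37 := nE6_conj 3 37 40 (by decide)
  n4_42 := nE6_conj 3 42 43 (by decide)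
  n4_46 := nE6_conj 3 46 47 (by decide)
  n4_56 := nE6_conj 3 56 56 (by decide)
  n4_38 := nE6_conj 3 38 41 (by decide)
  n4_40 := nE6_conj 3 40 37 (by decide)
  n4_43 := nE6_conj 3 43 42 (by decide)
  n4_47 := nE6_conj 3 47 46 (by decide)
  n4_57 := nE6_conj 3 57 58 (by decide)
  n4_41 := nE6_conj 3 41 38 (by decide)
  n4_44 := nE6_conj 3 44 44 (by decide)
  n4_48 := nE6_conj 3 48 48 (by decide)
  n4_50 := nE6_conj 3 50 50 (by decide)
  n4_58 := nE6_conj 3 58 57 (by decide)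
  n4_45 := nE6_conj 3 45 45 (by decide)
  n4_49 := nE6_conj 3 49 49 (by decide)
  n4_51 := nE6_conj 3 51 53 (by decide)
  n4_59 := nE6_conj 3 59 59 (by decide)
  n4_61 := nE6_conj 3 61 61 (by decide)
  n4_52 := nE6_conj 3 52 54 (by decide)
  n4_53 := nE6_conj 3 53 51 (by decide)
  n4_60 := nE6_conj 3 60 60 (by decide)
  n4_62 := nE6_conj 3 62 64 (by decide)
  n4_54 := nE6_conj 3 54 52 (by decide)
  n4_63 := nE6_conj 3 63 65 (by decide)
  n4_64 := nE6_conj 3 64 62 (by decide)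
  n4_55 := nE6_conj 3 55 55 (by decide)
  n4_65 := nE6_conj 3 65 63 (by decide)
  n4_67 := nE6_conj 3 67 67 (by decide)
  n4_66 := nE6_conj 3 66 66 (by decide)
  n4_68 := nE6_conj 3 68 68 (by decide)
  n4_69 := nE6_conj 3 69 70 (by decide)
  n4_70 := nE6_conj 3 70 69 (by decide)
  n4_71 := nE6_conj 3 71 71 (by decide)
  n5 := nE6 K 4
  n5_36 := nE6_conj 4 36 38 (by decide)
  n5_39 := nE6_conj 4 39 40 (by decide)
  n5_42 := nE6_conj 4 42 42 (by decide)
  n5_46 := nE6_conj 4 46 46 (by decide)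
  n5_56 := nE6_conj 4 56 56 (by decide)
  n5_38 := nE6_conj 4 38 36 (by decide)
  n5_40 := nE6_conj 4 40 39 (by decide)
  n5_43 := nE6_conj 4 43 44 (by decide)
  n5_47 := nE6_conj 4 47 48 (by decide)
  n5_57 := nE6_conj 4 57 57 (by decide)
  n5_41 := nE6_conj 4 41 41 (by decide)
  n5_44 := nE6_conj 4 44 43 (by decide)
  n5_48 := nE6_conj 4 48 47 (by decide)
  n5_50 := nE6_conj 4 50 51 (by decide)
  n5_58 := nE6_conj 4 58 59 (by decide)
  n5_45 := nE6_conj 4 45 45 (by decide)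
  n5_49 := nE6_conj 4 49 49 (by decide)
  n5_51 := nE6_conj 4 51 50 (by decide)
  n5_59 := nE6_conj 4 59 58 (by decide)
  n5_61 := nE6_conj 4 61 62 (by decide)
  n5_52 := nE6_conj 4 52 52 (by decide)
  n5_53 := nE6_conj 4 53 53 (by decide)
  n5_60 := nE6_conj 4 60 60 (by decide)
  n5_62 := nE6_conj 4 62 61 (by decide)
  n5_54 := nE6_conj 4 54 55 (by decide)
  n5_63 := nE6_conj 4 63 63 (by decide)
  n5_64 := nE6_conj 4 64 64 (by decide)
  n5_55 := nE6_conj 4 55 54 (by decide)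
  n5_65 := nE6_conj 4 65 66 (by decide)
  n5_67 := nE6_conj 4 67 67 (by decide)
  n5_66 := nE6_conj 4 66 65 (by decide)
  n5_68 := nE6_conj 4 68 69 (by decide)
  n5_69 := nE6_conj 4 69 68 (by decide)
  n5_70 := nE6_conj 4 70 70 (by decide)
  n5_71 := nE6_conj 4 71 71 (by decide)
  n6 := nE6 K 5
  n6_37 := nE6_conj 5 37 38 (by decide)
  n6_39 := nE6_conj 5 39 39 (by decide)
  n6_42 := nE6_conj 5 42 42 (by decide)
  n6_46 := nE6_conj 5 46 46 (by decide)
  n6_56 := nE6_conj 5 56 56 (by decide)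
  n6_38 := nE6_conj 5 38 37 (by decide)
  n6_40 := nE6_conj 5 40 41 (by decide)
  n6_43 := nE6_conj 5 43 43 (by decide)
  n6_47 := nE6_conj 5 47 47 (by decide)
  n6_57 := nE6_conj 5 57 57 (by decide)
  n6_41 := nE6_conj 5 41 40 (by decide)
  n6_44 := nE6_conj 5 44 45 (by decide)
  n6_48 := nE6_conj 5 48 49 (by decide)
  n6_50 := nE6_conj 5 50 50 (by decide)
  n6_58 := nE6_conj 5 58 58 (by decide)
  n6_45 := nE6_conj 5 45 44 (by decide)
  n6_49 := nE6_conj 5 49 48 (by decide)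
  n6_51 := nE6_conj 5 51 52 (by decide)
  n6_59 := nE6_conj 5 59 60 (by decide)
  n6_61 := nE6_conj 5 61 61 (by decide)
  n6_52 := nE6_conj 5 52 51 (by decide)
  n6_53 := nE6_conj 5 53 54 (by decide)
  n6_60 := nE6_conj 5 60 59 (by decide)
  n6_62 := nE6_conj 5 62 63 (by decide)
  n6_54 := nE6_conj 5 54 53 (by decide)
  n6_63 := nE6_conj 5 63 62 (by decide)
  n6_64 := nE6_conj 5 64 65 (by decide)
  n6_55 := nE6_conj 5 55 55 (by decide)
  n6_65 := nE6_conj 5 65 64 (by decide)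
  n6_67 := nE6_conj 5 67 68 (by decide)
  n6_66 := nE6_conj 5 66 66 (by decide)
  n6_68 := nE6_conj 5 68 67 (by decide)
  n6_69 := nE6_conj 5 69 69 (by decide)
  n6_70 := nE6_conj 5 70 70 (by decide)
  n6_71 := nE6_conj 5 71 71 (by decide)

end char2

end Cfsg.Agent.Helper4.E6Inv
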