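import Cfsg.Agent.Helper4.E6Inv.UBase

/-!
# Involutions of the unipotent subgroup of `E₆` in characteristic two: the terminal cases

The products of root elements for the three sets of pairwise orthogonal roots `{71}`, `{66, 68}`,
`{55, 65, 67}` are normalised by torus elements.  (Partly generated.)
-/

set_option autoImplicit false
set_option maxHeartbeats 4000000
set_option maxRecDepth 100000
set_option linter.unusedSimpArgs false
set_option linter.unusedVariables false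
set_option linter.unusedSectionVars false

namespace Cfsg.Agent.Helper4.E6Inv

variable {K Γ : Type*} [Field K] [Group Γ] {R : RelE6 K Γ} [CharP K 2]

theorem RNF_55_65_67_66_68_71 (R : RelE6 K Γ) (a b c d e f : K) :
    R.RNF 0 0 0 0 0 0 0 0 0 0 0 0 0 0 0 0 0 0 0 0 0 0 0 0 0 0 0 0 a b c d e 0 0 f =
      R.X55 a * (R.X65 b * (R.X67 c * (R.X66 d * (R.X68 e * R.X71 f)))) := by
  unfold RelE6.RNF
  simp only [R.zero36, R.zero37, R.zero39, R.zero42, R.zero46, R.zero56, R.zero38, R.zero40, R.zero43, R.zero47, R.zero57, R.zero41, R.zero44, R.zero48, R.zero50, R.zero58, R.zero45, R.zero49, R.zero51, R.zero59, R.zero61, R.zero52, R.zero53, R.zero60, R.zero62, R.zero54, R.zero63, R.zero64, R.zero69, R.zero70, one_mul, mul_one]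

theorem RNF_all_zero (R : RelE6 K Γ) :
    R.RNF 0 0 0 0 0 0 0 0 0 0 0 0 0 0 0 0 0 0 0 0 0 0 0 0 0 0 0 0 0 0 0 0 0 0 0 0 = 1 := by
  rw [RNF_55_65_67_66_68_71]; simp only [R.zero55, R.zero65, R.zero67, R.zero66, R.zero68, R.zero71, mul_one]

theorem Tfin71 (D : UData R) :
    ∀ (t71 : K), t71 ≠ 0 → UP D (R.RNF (0) (0) (0) (0) (0) (0) (0) (0) (0) (0) (0) (0) (0) (0) (0) (0) (0) (0) (0) (0) (0) (0) (0) (0) (0) (0) (0) (0) (0) (0) (0) (0) (0) (0) (0) (t71)) := by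
  intro a ha hu hne
  rw [RNF_55_65_67_66_68_71]
  simp only [R.zero55, R.zero65, R.zero67, R.zero66, R.zero68, one_mul]
  obtain ⟨h, hh, h71⟩ := D.tor1 a⁻¹ (inv_ne_zero ha)
  left
  refine ⟨h, hh, ?_⟩
  rw [h71, inv_mul_cancel₀ ha]

theorem Tfin66_68 (D : UData R) :
    ∀ (t66 t68 : K), t66 ≠ 0 → t68 ≠ 0 → UP D (R.RNF (0) (0) (0) (0) (0) (0) (0) (0) (0) (0) (0) (0) (0) (0) (0) (0) (0) (0) (0) (0) (0) (0) (0) (0) (0) (0) (0) (0) (0) (0) (0) (t66) (t68) (0) (0) (0)) := by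
  intro b a hb ha hu hne
  rw [RNF_55_65_67_66_68_71]
  simp only [R.zero55, R.zero65, R.zero67, R.zero71, one_mul, mul_one]
  obtain ⟨h, hh, h68, h66⟩ := D.tor2 a⁻¹ b⁻¹ (inv_ne_zero ha) (inv_ne_zero hb)
  right; left
  refine ⟨h, hh, ?_⟩
  rw [conj_mul', h66, h68, inv_mul_cancel₀ ha, inv_mul_cancel₀ hb, R.c66_68]

theorem Tfin55_65_67 (D : UData R) :
    ∀ (t55 t65 t67 : K), t55 ≠ 0 → t65 ≠ 0 → t67 ≠ 0 → UP D (R.RNF (0) (0) (0) (0) (0) (0) (0) (0) (0) (0) (0) (0) (0) (0) (0) (0) (0) (0) (0) (0) (0) (0) (0) (0) (0) (0) (0) (0) (t55) (t65) (t67) (0) (0) (0) (0) (0)) := by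
  intro a b c ha hb hc hu hne
  rw [RNF_55_65_67_66_68_71]
  simp only [R.zero66, R.zero68, R.zero71, mul_one]
  obtain ⟨h, hh, h55, h65, h67⟩ := D.tor3 a⁻¹ b⁻¹ c⁻¹ (inv_ne_zero ha) (inv_ne_zero hb) (inv_ne_zero hc)
  right; right
  refine ⟨h, hh, ?_⟩
  rw [conj_mul', conj_mul', h55, h65, h67, inv_mul_cancel₀ ha, inv_mul_cancel₀ hb, inv_mul_cancel₀ hc, mul_assoc]

theorem upiv35 (D : UData R) :
    ∀ (t71 : K), UP D (R.RNF (0) (0) (0) (0) (0) (0) (0) (0) (0) (0) (0) (0) (0) (0) (0) (0) (0) (0) (0) (0) (0) (0) (0) (0) (0) (0) (0) (0) (0) (0) (0) (0) (0) (0) (0) (t71)) := by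
  intro t71
  by_cases h : t71 = 0
  · subst h
    intro hu hne
    exact absurd (RNF_all_zero R) hne
  · exact Tfin71 D t71 h

end Cfsg.Agent.Helper4.E6Inv
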