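import Cfsg.Agent.Helper4.E6Inv.ULm0
import Cfsg.Agent.Helper4.E6Inv.ULm1
import Cfsg.Agent.Helper4.E6Inv.ULm2
import Cfsg.Agent.Helper4.E6Inv.ULm3
import Cfsg.Agent.Helper4.E6Inv.ULm4
import Cfsg.Agent.Helper4.E6Inv.ULm5
import Cfsg.Agent.Helper4.E6Inv.ULm6
import Cfsg.Agent.Helper4.E6Inv.ULm7
import Cfsg.Agent.Helper4.E6Inv.ULm8

/-! Generated: the set of ordered products of root elements of `E₆` (characteristic two) is closed
under left multiplication by root elements. -/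

set_option autoImplicit false
set_option maxHeartbeats 4000000
set_option maxRecDepth 100000
set_option linter.unusedSimpArgs false
set_option linter.unusedVariables false
set_option linter.unusedSectionVars false

namespace Cfsg.Agent.Helper4.E6Inv

variable {K Γ : Type*} [Field K] [Group Γ] (R : RelE6 K Γ)

/-- the set of ordered products of root elements -/
def rnfSet : Set Γ :=
  {y | ∃ t36 t37 t39 t42 t46 t56 t38 t40 t43 t47 t57 t41 t44 t48 t50 t58 t45 t49 t51 t59 t61 t52 t53 t60 t62 t54 t63 t64 t55 t65 t67 t66 t68 t69 t70 t71 : K, y = R.RNF t36 t37 t39 t42 t46 t56 t38 t40 t43 t47 t57 t41 t44 t48 t50 t58 t45 t49 t51 t59 t61 t52 t53 t60 t62 t54 t63 t64 t55 t65 t67 t66 t68 t69 t70 t71}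

variable {R}

theorem rnfSet_one : 1 ∈ rnfSet R := by
  refine ⟨0, 0, 0, 0, 0, 0, 0, 0, 0, 0, 0, 0, 0, 0, 0, 0, 0, 0, 0, 0, 0, 0, 0, 0, 0, 0, 0, 0, 0, 0, 0, 0, 0, 0, 0, 0, ?_⟩
  unfold RelE6.RNF
  simp only [R.zero36, R.zero37, R.zero39, R.zero42, R.zero46, R.zero56, R.zero38, R.zero40, R.zero43, R.zero47, R.zero57, R.zero41, R.zero44, R.zero48, R.zero50, R.zero58, R.zero45, R.zero49, R.zero51, R.zero59, R.zero61, R.zero52, R.zero53, R.zero60, R.zero62, R.zero54, R.zero63, R.zero64, R.zero55, R.zero65, R.zero67, R.zero66, R.zero68, R.zero69, R.zero70, R.zero71, mul_one]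

variable [CharP K 2]

theorem rnfSet_lm36 {y : Γ} (hy : y ∈ rnfSet R) (c : K) : R.X36 c * y ∈ rnfSet R := by
  obtain ⟨t36, t37, t39, t42, t46, t56, t38, t40, t43, t47, t57, t41, t44, t48, t50, t58, t45, t49, t51, t59, t61, t52, t53, t60, t62, t54, t63, t64, t55, t65, t67, t66, t68, t69, t70, t71, rfl⟩ := hy
  exact ⟨_, _, _, _, _, _, _, _, _, _, _, _, _, _, _, _, _, _, _, _, _, _, _, _, _, _, _, _, _, _, _, _, _, _, _, _, R.ulm36 t36 t37 t39 t42 t46 t56 t38 t40 t43 t47 t57 t41 t44 t48 t50 t58 t45 t49 t51 t59 t61 t52 t53 t60 t62 t54 t63 t64 t55 t65 t67 t66 t68 t69 t70 t71 c⟩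

theorem rnfSet_lm37 {y : Γ} (hy : y ∈ rnfSet R) (c : K) : R.X37 c * y ∈ rnfSet R := by
  obtain ⟨t36, t37, t39, t42, t46, t56, t38, t40, t43, t47, t57, t41, t44, t48, t50, t58, t45, t49, t51, t59, t61, t52, t53, t60, t62, t54, t63, t64, t55, t65, t67, t66, t68, t69, t70, t71, rfl⟩ := hy
  exact ⟨_, _, _, _, _, _, _, _, _, _, _, _, _, _, _, _, _, _, _, _, _, _, _, _, _, _, _, _, _, _, _, _, _, _, _, _, R.ulm37 t36 t37 t39 t42 t46 t56 t38 t40 t43 t47 t57 t41 t44 t48 t50 t58 t45 t49 t51 t59 t61 t52 t53 t60 t62 t54 t63 t64 t55 t65 t67 t66 t68 t69 t70 t71 c⟩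

theorem rnfSet_lm39 {y : Γ} (hy : y ∈ rnfSet R) (c : K) : R.X39 c * y ∈ rnfSet R := by
  obtain ⟨t36, t37, t39, t42, t46, t56, t38, t40, t43, t47, t57, t41, t44, t48, t50, t58, t45, t49, t51, t59, t61, t52, t53, t60, t62, t54, t63, t64, t55, t65, t67, t66, t68, t69, t70, t71, rfl⟩ := hy
  exact ⟨_, _, _, _, _, _, _, _, _, _, _, _, _, _, _, _, _, _, _, _, _, _, _, _, _, _, _, _, _, _, _, _, _, _, _, _, R.ulm39 t36 t37 t39 t42 t46 t56 t38 t40 t43 t47 t57 t41 t44 t48 t50 t58 t45 t49 t51 t59 t61 t52 t53 t60 t62 t54 t63 t64 t55 t65 t67 t66 t68 t69 t70 t71 c⟩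

theorem rnfSet_lm42 {y : Γ} (hy : y ∈ rnfSet R) (c : K) : R.X42 c * y ∈ rnfSet R := by
  obtain ⟨t36, t37, t39, t42, t46, t56, t38, t40, t43, t47, t57, t41, t44, t48, t50, t58, t45, t49, t51, t59, t61, t52, t53, t60, t62, t54, t63, t64, t55, t65, t67, t66, t68, t69, t70, t71, rfl⟩ := hy
  exact ⟨_, _, _, _, _, _, _, _, _, _, _, _, _, _, _, _, _, _, _, _, _, _, _, _, _, _, _, _, _, _, _, _, _, _, _, _, R.ulm42 t36 t37 t39 t42 t46 t56 t38 t40 t43 t47 t57 t41 t44 t48 t50 t58 t45 t49 t51 t59 t61 t52 t53 t60 t62 t54 t63 t64 t55 t65 t67 t66 t68 t69 t70 t71 c⟩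

theorem rnfSet_lm46 {y : Γ} (hy : y ∈ rnfSet R) (c : K) : R.X46 c * y ∈ rnfSet R := by
  obtain ⟨t36, t37, t39, t42, t46, t56, t38, t40, t43, t47, t57, t41, t44, t48, t50, t58, t45, t49, t51, t59, t61, t52, t53, t60, t62, t54, t63, t64, t55, t65, t67, t66, t68, t69, t70, t71, rfl⟩ := hy
  exact ⟨_, _, _, _, _, _, _, _, _, _, _, _, _, _, _, _, _, _, _, _, _, _, _, _, _, _, _, _, _, _, _, _, _, _, _, _, R.ulm46 t36 t37 t39 t42 t46 t56 t38 t40 t43 t47 t57 t41 t44 t48 t50 t58 t45 t49 t51 t59 t61 t52 t53 t60 t62 t54 t63 t64 t55 t65 t67 t66 t68 t69 t70 t71 c⟩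

theorem rnfSet_lm56 {y : Γ} (hy : y ∈ rnfSet R) (c : K) : R.X56 c * y ∈ rnfSet R := by
  obtain ⟨t36, t37, t39, t42, t46, t56, t38, t40, t43, t47, t57, t41, t44, t48, t50, t58, t45, t49, t51, t59, t61, t52, t53, t60, t62, t54, t63, t64, t55, t65, t67, t66, t68, t69, t70, t71, rfl⟩ := hy
  exact ⟨_, _, _, _, _, _, _, _, _, _, _, _, _, _, _, _, _, _, _, _, _, _, _, _, _, _, _, _, _, _, _, _, _, _, _, _, R.ulm56 t36 t37 t39 t42 t46 t56 t38 t40 t43 t47 t57 t41 t44 t48 t50 t58 t45 t49 t51 t59 t61 t52 t53 t60 t62 t54 t63 t64 t55 t65 t67 t66 t68 t69 t70 t71 c⟩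

theorem rnfSet_lm38 {y : Γ} (hy : y ∈ rnfSet R) (c : K) : R.X38 c * y ∈ rnfSet R := by
  obtain ⟨t36, t37, t39, t42, t46, t56, t38, t40, t43, t47, t57, t41, t44, t48, t50, t58, t45, t49, t51, t59, t61, t52, t53, t60, t62, t54, t63, t64, t55, t65, t67, t66, t68, t69, t70, t71, rfl⟩ := hy
  exact ⟨_, _, _, _, _, _, _, _, _, _, _, _, _, _, _, _, _, _, _, _, _, _, _, _, _, _, _, _, _, _, _, _, _, _, _, _, R.ulm38 t36 t37 t39 t42 t46 t56 t38 t40 t43 t47 t57 t41 t44 t48 t50 t58 t45 t49 t51 t59 t61 t52 t53 t60 t62 t54 t63 t64 t55 t65 t67 t66 t68 t69 t70 t71 c⟩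

theorem rnfSet_lm40 {y : Γ} (hy : y ∈ rnfSet R) (c : K) : R.X40 c * y ∈ rnfSet R := by
  obtain ⟨t36, t37, t39, t42, t46, t56, t38, t40, t43, t47, t57, t41, t44, t48, t50, t58, t45, t49, t51, t59, t61, t52, t53, t60, t62, t54, t63, t64, t55, t65, t67, t66, t68, t69, t70, t71, rfl⟩ := hy
  exact ⟨_, _, _, _, _, _, _, _, _, _, _, _, _, _, _, _, _, _, _, _, _, _, _, _, _, _, _, _, _, _, _, _, _, _, _, _, R.ulm40 t36 t37 t39 t42 t46 t56 t38 t40 t43 t47 t57 t41 t44 t48 t50 t58 t45 t49 t51 t59 t61 t52 t53 t60 t62 t54 t63 t64 t55 t65 t67 t66 t68 t69 t70 t71 c⟩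

theorem rnfSet_lm43 {y : Γ} (hy : y ∈ rnfSet R) (c : K) : R.X43 c * y ∈ rnfSet R := by
  obtain ⟨t36, t37, t39, t42, t46, t56, t38, t40, t43, t47, t57, t41, t44, t48, t50, t58, t45, t49, t51, t59, t61, t52, t53, t60, t62, t54, t63, t64, t55, t65, t67, t66, t68, t69, t70, t71, rfl⟩ := hy
  exact ⟨_, _, _, _, _, _, _, _, _, _, _, _, _, _, _, _, _, _, _, _, _, _, _, _, _, _, _, _, _, _, _, _, _, _, _, _, R.ulm43 t36 t37 t39 t42 t46 t56 t38 t40 t43 t47 t57 t41 t44 t48 t50 t58 t45 t49 t51 t59 t61 t52 t53 t60 t62 t54 t63 t64 t55 t65 t67 t66 t68 t69 t70 t71 c⟩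

theorem rnfSet_lm47 {y : Γ} (hy : y ∈ rnfSet R) (c : K) : R.X47 c * y ∈ rnfSet R := by
  obtain ⟨t36, t37, t39, t42, t46, t56, t38, t40, t43, t47, t57, t41, t44, t48, t50, t58, t45, t49, t51, t59, t61, t52, t53, t60, t62, t54, t63, t64, t55, t65, t67, t66, t68, t69, t70, t71, rfl⟩ := hy
  exact ⟨_, _, _, _, _, _, _, _, _, _, _, _, _, _, _, _, _, _, _, _, _, _, _, _, _, _, _, _, _, _, _, _, _, _, _, _, R.ulm47 t36 t37 t39 t42 t46 t56 t38 t40 t43 t47 t57 t41 t44 t48 t50 t58 t45 t49 t51 t59 t61 t52 t53 t60 t62 t54 t63 t64 t55 t65 t67 t66 t68 t69 t70 t71 c⟩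

theorem rnfSet_lm57 {y : Γ} (hy : y ∈ rnfSet R) (c : K) : R.X57 c * y ∈ rnfSet R := by
  obtain ⟨t36, t37, t39, t42, t46, t56, t38, t40, t43, t47, t57, t41, t44, t48, t50, t58, t45, t49, t51, t59, t61, t52, t53, t60, t62, t54, t63, t64, t55, t65, t67, t66, t68, t69, t70, t71, rfl⟩ := hy
  exact ⟨_, _, _, _, _, _, _, _, _, _, _, _, _, _, _, _, _, _, _, _, _, _, _, _, _, _, _, _, _, _, _, _, _, _, _, _, R.ulm57 t36 t37 t39 t42 t46 t56 t38 t40 t43 t47 t57 t41 t44 t48 t50 t58 t45 t49 t51 t59 t61 t52 t53 t60 t62 t54 t63 t64 t55 t65 t67 t66 t68 t69 t70 t71 c⟩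

theorem rnfSet_lm41 {y : Γ} (hy : y ∈ rnfSet R) (c : K) : R.X41 c * y ∈ rnfSet R := by
  obtain ⟨t36, t37, t39, t42, t46, t56, t38, t40, t43, t47, t57, t41, t44, t48, t50, t58, t45, t49, t51, t59, t61, t52, t53, t60, t62, t54, t63, t64, t55, t65, t67, t66, t68, t69, t70, t71, rfl⟩ := hy
  exact ⟨_, _, _, _, _, _, _, _, _, _, _, _, _, _, _, _, _, _, _, _, _, _, _, _, _, _, _, _, _, _, _, _, _, _, _, _, R.ulm41 t36 t37 t39 t42 t46 t56 t38 t40 t43 t47 t57 t41 t44 t48 t50 t58 t45 t49 t51 t59 t61 t52 t53 t60 t62 t54 t63 t64 t55 t65 t67 t66 t68 t69 t70 t71 c⟩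

theorem rnfSet_lm44 {y : Γ} (hy : y ∈ rnfSet R) (c : K) : R.X44 c * y ∈ rnfSet R := by
  obtain ⟨t36, t37, t39, t42, t46, t56, t38, t40, t43, t47, t57, t41, t44, t48, t50, t58, t45, t49, t51, t59, t61, t52, t53, t60, t62, t54, t63, t64, t55, t65, t67, t66, t68, t69, t70, t71, rfl⟩ := hy
  exact ⟨_, _, _, _, _, _, _, _, _, _, _, _, _, _, _, _, _, _, _, _, _, _, _, _, _, _, _, _, _, _, _, _, _, _, _, _, R.ulm44 t36 t37 t39 t42 t46 t56 t38 t40 t43 t47 t57 t41 t44 t48 t50 t58 t45 t49 t51 t59 t61 t52 t53 t60 t62 t54 t63 t64 t55 t65 t67 t66 t68 t69 t70 t71 c⟩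

theorem rnfSet_lm48 {y : Γ} (hy : y ∈ rnfSet R) (c : K) : R.X48 c * y ∈ rnfSet R := by
  obtain ⟨t36, t37, t39, t42, t46, t56, t38, t40, t43, t47, t57, t41, t44, t48, t50, t58, t45, t49, t51, t59, t61, t52, t53, t60, t62, t54, t63, t64, t55, t65, t67, t66, t68, t69, t70, t71, rfl⟩ := hy
  exact ⟨_, _, _, _, _, _, _, _, _, _, _, _, _, _, _, _, _, _, _, _, _, _, _, _, _, _, _, _, _, _, _, _, _, _, _, _, R.ulm48 t36 t37 t39 t42 t46 t56 t38 t40 t43 t47 t57 t41 t44 t48 t50 t58 t45 t49 t51 t59 t61 t52 t53 t60 t62 t54 t63 t64 t55 t65 t67 t66 t68 t69 t70 t71 c⟩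

theorem rnfSet_lm50 {y : Γ} (hy : y ∈ rnfSet R) (c : K) : R.X50 c * y ∈ rnfSet R := by
  obtain ⟨t36, t37, t39, t42, t46, t56, t38, t40, t43, t47, t57, t41, t44, t48, t50, t58, t45, t49, t51, t59, t61, t52, t53, t60, t62, t54, t63, t64, t55, t65, t67, t66, t68, t69, t70, t71, rfl⟩ := hy
  exact ⟨_, _, _, _, _, _, _, _, _, _, _, _, _, _, _, _, _, _, _, _, _, _, _, _, _, _, _, _, _, _, _, _, _, _, _, _, R.ulm50 t36 t37 t39 t42 t46 t56 t38 t40 t43 t47 t57 t41 t44 t48 t50 t58 t45 t49 t51 t59 t61 t52 t53 t60 t62 t54 t63 t64 t55 t65 t67 t66 t68 t69 t70 t71 c⟩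

theorem rnfSet_lm58 {y : Γ} (hy : y ∈ rnfSet R) (c : K) : R.X58 c * y ∈ rnfSet R := by
  obtain ⟨t36, t37, t39, t42, t46, t56, t38, t40, t43, t47, t57, t41, t44, t48, t50, t58, t45, t49, t51, t59, t61, t52, t53, t60, t62, t54, t63, t64, t55, t65, t67, t66, t68, t69, t70, t71, rfl⟩ := hy
  exact ⟨_, _, _, _, _, _, _, _, _, _, _, _, _, _, _, _, _, _, _, _, _, _, _, _, _, _, _, _, _, _, _, _, _, _, _, _, R.ulm58 t36 t37 t39 t42 t46 t56 t38 t40 t43 t47 t57 t41 t44 t48 t50 t58 t45 t49 t51 t59 t61 t52 t53 t60 t62 t54 t63 t64 t55 t65 t67 t66 t68 t69 t70 t71 c⟩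

theorem rnfSet_lm45 {y : Γ} (hy : y ∈ rnfSet R) (c : K) : R.X45 c * y ∈ rnfSet R := by
  obtain ⟨t36, t37, t39, t42, t46, t56, t38, t40, t43, t47, t57, t41, t44, t48, t50, t58, t45, t49, t51, t59, t61, t52, t53, t60, t62, t54, t63, t64, t55, t65, t67, t66, t68, t69, t70, t71, rfl⟩ := hy
  exact ⟨_, _, _, _, _, _, _, _, _, _, _, _, _, _, _, _, _, _, _, _, _, _, _, _, _, _, _, _, _, _, _, _, _, _, _, _, R.ulm45 t36 t37 t39 t42 t46 t56 t38 t40 t43 t47 t57 t41 t44 t48 t50 t58 t45 t49 t51 t59 t61 t52 t53 t60 t62 t54 t63 t64 t55 t65 t67 t66 t68 t69 t70 t71 c⟩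

theorem rnfSet_lm49 {y : Γ} (hy : y ∈ rnfSet R) (c : K) : R.X49 c * y ∈ rnfSet R := by
  obtain ⟨t36, t37, t39, t42, t46, t56, t38, t40, t43, t47, t57, t41, t44, t48, t50, t58, t45, t49, t51, t59, t61, t52, t53, t60, t62, t54, t63, t64, t55, t65, t67, t66, t68, t69, t70, t71, rfl⟩ := hy
  exact ⟨_, _, _, _, _, _, _, _, _, _, _, _, _, _, _, _, _, _, _, _, _, _, _, _, _, _, _, _, _, _, _, _, _, _, _, _, R.ulm49 t36 t37 t39 t42 t46 t56 t38 t40 t43 t47 t57 t41 t44 t48 t50 t58 t45 t49 t51 t59 t61 t52 t53 t60 t62 t54 t63 t64 t55 t65 t67 t66 t68 t69 t70 t71 c⟩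

theorem rnfSet_lm51 {y : Γ} (hy : y ∈ rnfSet R) (c : K) : R.X51 c * y ∈ rnfSet R := by
  obtain ⟨t36, t37, t39, t42, t46, t56, t38, t40, t43, t47, t57, t41, t44, t48, t50, t58, t45, t49, t51, t59, t61, t52, t53, t60, t62, t54, t63, t64, t55, t65, t67, t66, t68, t69, t70, t71, rfl⟩ := hy
  exact ⟨_, _, _, _, _, _, _, _, _, _, _, _, _, _, _, _, _, _, _, _, _, _, _, _, _, _, _, _, _, _, _, _, _, _, _, _, R.ulm51 t36 t37 t39 t42 t46 t56 t38 t40 t43 t47 t57 t41 t44 t48 t50 t58 t45 t49 t51 t59 t61 t52 t53 t60 t62 t54 t63 t64 t55 t65 t67 t66 t68 t69 t70 t71 c⟩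

theorem rnfSet_lm59 {y : Γ} (hy : y ∈ rnfSet R) (c : K) : R.X59 c * y ∈ rnfSet R := by
  obtain ⟨t36, t37, t39, t42, t46, t56, t38, t40, t43, t47, t57, t41, t44, t48, t50, t58, t45, t49, t51, t59, t61, t52, t53, t60, t62, t54, t63, t64, t55, t65, t67, t66, t68, t69, t70, t71, rfl⟩ := hy
  exact ⟨_, _, _, _, _, _, _, _, _, _, _, _, _, _, _, _, _, _, _, _, _, _, _, _, _, _, _, _, _, _, _, _, _, _, _, _, R.ulm59 t36 t37 t39 t42 t46 t56 t38 t40 t43 t47 t57 t41 t44 t48 t50 t58 t45 t49 t51 t59 t61 t52 t53 t60 t62 t54 t63 t64 t55 t65 t67 t66 t68 t69 t70 t71 c⟩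

theorem rnfSet_lm61 {y : Γ} (hy : y ∈ rnfSet R) (c : K) : R.X61 c * y ∈ rnfSet R := by
  obtain ⟨t36, t37, t39, t42, t46, t56, t38, t40, t43, t47, t57, t41, t44, t48, t50, t58, t45, t49, t51, t59, t61, t52, t53, t60, t62, t54, t63, t64, t55, t65, t67, t66, t68, t69, t70, t71, rfl⟩ := hy
  exact ⟨_, _, _, _, _, _, _, _, _, _, _, _, _, _, _, _, _, _, _, _, _, _, _, _, _, _, _, _, _, _, _, _, _, _, _, _, R.ulm61 t36 t37 t39 t42 t46 t56 t38 t40 t43 t47 t57 t41 t44 t48 t50 t58 t45 t49 t51 t59 t61 t52 t53 t60 t62 t54 t63 t64 t55 t65 t67 t66 t68 t69 t70 t71 c⟩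

theorem rnfSet_lm52 {y : Γ} (hy : y ∈ rnfSet R) (c : K) : R.X52 c * y ∈ rnfSet R := by
  obtain ⟨t36, t37, t39, t42, t46, t56, t38, t40, t43, t47, t57, t41, t44, t48, t50, t58, t45, t49, t51, t59, t61, t52, t53, t60, t62, t54, t63, t64, t55, t65, t67, t66, t68, t69, t70, t71, rfl⟩ := hy
  exact ⟨_, _, _, _, _, _, _, _, _, _, _, _, _, _, _, _, _, _, _, _, _, _, _, _, _, _, _, _, _, _, _, _, _, _, _, _, R.ulm52 t36 t37 t39 t42 t46 t56 t38 t40 t43 t47 t57 t41 t44 t48 t50 t58 t45 t49 t51 t59 t61 t52 t53 t60 t62 t54 t63 t64 t55 t65 t67 t66 t68 t69 t70 t71 c⟩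

theorem rnfSet_lm53 {y : Γ} (hy : y ∈ rnfSet R) (c : K) : R.X53 c * y ∈ rnfSet R := by
  obtain ⟨t36, t37, t39, t42, t46, t56, t38, t40, t43, t47, t57, t41, t44, t48, t50, t58, t45, t49, t51, t59, t61, t52, t53, t60, t62, t54, t63, t64, t55, t65, t67, t66, t68, t69, t70, t71, rfl⟩ := hy
  exact ⟨_, _, _, _, _, _, _, _, _, _, _, _, _, _, _, _, _, _, _, _, _, _, _, _, _, _, _, _, _, _, _, _, _, _, _, _, R.ulm53 t36 t37 t39 t42 t46 t56 t38 t40 t43 t47 t57 t41 t44 t48 t50 t58 t45 t49 t51 t59 t61 t52 t53 t60 t62 t54 t63 t64 t55 t65 t67 t66 t68 t69 t70 t71 c⟩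

theorem rnfSet_lm60 {y : Γ} (hy : y ∈ rnfSet R) (c : K) : R.X60 c * y ∈ rnfSet R := by
  obtain ⟨t36, t37, t39, t42, t46, t56, t38, t40, t43, t47, t57, t41, t44, t48, t50, t58, t45, t49, t51, t59, t61, t52, t53, t60, t62, t54, t63, t64, t55, t65, t67, t66, t68, t69, t70, t71, rfl⟩ := hy
  exact ⟨_, _, _, _, _, _, _, _, _, _, _, _, _, _, _, _, _, _, _, _, _, _, _, _, _, _, _, _, _, _, _, _, _, _, _, _, R.ulm60 t36 t37 t39 t42 t46 t56 t38 t40 t43 t47 t57 t41 t44 t48 t50 t58 t45 t49 t51 t59 t61 t52 t53 t60 t62 t54 t63 t64 t55 t65 t67 t66 t68 t69 t70 t71 c⟩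

theorem rnfSet_lm62 {y : Γ} (hy : y ∈ rnfSet R) (c : K) : R.X62 c * y ∈ rnfSet R := by
  obtain ⟨t36, t37, t39, t42, t46, t56, t38, t40, t43, t47, t57, t41, t44, t48, t50, t58, t45, t49, t51, t59, t61, t52, t53, t60, t62, t54, t63, t64, t55, t65, t67, t66, t68, t69, t70, t71, rfl⟩ := hy
  exact ⟨_, _, _, _, _, _, _, _, _, _, _, _, _, _, _, _, _, _, _, _, _, _, _, _, _, _, _, _, _, _, _, _, _, _, _, _, R.ulm62 t36 t37 t39 t42 t46 t56 t38 t40 t43 t47 t57 t41 t44 t48 t50 t58 t45 t49 t51 t59 t61 t52 t53 t60 t62 t54 t63 t64 t55 t65 t67 t66 t68 t69 t70 t71 c⟩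

theorem rnfSet_lm54 {y : Γ} (hy : y ∈ rnfSet R) (c : K) : R.X54 c * y ∈ rnfSet R := by
  obtain ⟨t36, t37, t39, t42, t46, t56, t38, t40, t43, t47, t57, t41, t44, t48, t50, t58, t45, t49, t51, t59, t61, t52, t53, t60, t62, t54, t63, t64, t55, t65, t67, t66, t68, t69, t70, t71, rfl⟩ := hy
  exact ⟨_, _, _, _, _, _, _, _, _, _, _, _, _, _, _, _, _, _, _, _, _, _, _, _, _, _, _, _, _, _, _, _, _, _, _, _, R.ulm54 t36 t37 t39 t42 t46 t56 t38 t40 t43 t47 t57 t41 t44 t48 t50 t58 t45 t49 t51 t59 t61 t52 t53 t60 t62 t54 t63 t64 t55 t65 t67 t66 t68 t69 t70 t71 c⟩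

theorem rnfSet_lm63 {y : Γ} (hy : y ∈ rnfSet R) (c : K) : R.X63 c * y ∈ rnfSet R := by
  obtain ⟨t36, t37, t39, t42, t46, t56, t38, t40, t43, t47, t57, t41, t44, t48, t50, t58, t45, t49, t51, t59, t61, t52, t53, t60, t62, t54, t63, t64, t55, t65, t67, t66, t68, t69, t70, t71, rfl⟩ := hy
  exact ⟨_, _, _, _, _, _, _, _, _, _, _, _, _, _, _, _, _, _, _, _, _, _, _, _, _, _, _, _, _, _, _, _, _, _, _, _, R.ulm63 t36 t37 t39 t42 t46 t56 t38 t40 t43 t47 t57 t41 t44 t48 t50 t58 t45 t49 t51 t59 t61 t52 t53 t60 t62 t54 t63 t64 t55 t65 t67 t66 t68 t69 t70 t71 c⟩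

theorem rnfSet_lm64 {y : Γ} (hy : y ∈ rnfSet R) (c : K) : R.X64 c * y ∈ rnfSet R := by
  obtain ⟨t36, t37, t39, t42, t46, t56, t38, t40, t43, t47, t57, t41, t44, t48, t50, t58, t45, t49, t51, t59, t61, t52, t53, t60, t62, t54, t63, t64, t55, t65, t67, t66, t68, t69, t70, t71, rfl⟩ := hy
  exact ⟨_, _, _, _, _, _, _, _, _, _, _, _, _, _, _, _, _, _, _, _, _, _, _, _, _, _, _, _, _, _, _, _, _, _, _, _, R.ulm64 t36 t37 t39 t42 t46 t56 t38 t40 t43 t47 t57 t41 t44 t48 t50 t58 t45 t49 t51 t59 t61 t52 t53 t60 t62 t54 t63 t64 t55 t65 t67 t66 t68 t69 t70 t71 c⟩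

theorem rnfSet_lm55 {y : Γ} (hy : y ∈ rnfSet R) (c : K) : R.X55 c * y ∈ rnfSet R := by
  obtain ⟨t36, t37, t39, t42, t46, t56, t38, t40, t43, t47, t57, t41, t44, t48, t50, t58, t45, t49, t51, t59, t61, t52, t53, t60, t62, t54, t63, t64, t55, t65, t67, t66, t68, t69, t70, t71, rfl⟩ := hy
  exact ⟨_, _, _, _, _, _, _, _, _, _, _, _, _, _, _, _, _, _, _, _, _, _, _, _, _, _, _, _, _, _, _, _, _, _, _, _, R.ulm55 t36 t37 t39 t42 t46 t56 t38 t40 t43 t47 t57 t41 t44 t48 t50 t58 t45 t49 t51 t59 t61 t52 t53 t60 t62 t54 t63 t64 t55 t65 t67 t66 t68 t69 t70 t71 c⟩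

theorem rnfSet_lm65 {y : Γ} (hy : y ∈ rnfSet R) (c : K) : R.X65 c * y ∈ rnfSet R := by
  obtain ⟨t36, t37, t39, t42, t46, t56, t38, t40, t43, t47, t57, t41, t44, t48, t50, t58, t45, t49, t51, t59, t61, t52, t53, t60, t62, t54, t63, t64, t55, t65, t67, t66, t68, t69, t70, t71, rfl⟩ := hy
  exact ⟨_, _, _, _, _, _, _, _, _, _, _, _, _, _, _, _, _, _, _, _, _, _, _, _, _, _, _, _, _, _, _, _, _, _, _, _, R.ulm65 t36 t37 t39 t42 t46 t56 t38 t40 t43 t47 t57 t41 t44 t48 t50 t58 t45 t49 t51 t59 t61 t52 t53 t60 t62 t54 t63 t64 t55 t65 t67 t66 t68 t69 t70 t71 c⟩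

theorem rnfSet_lm67 {y : Γ} (hy : y ∈ rnfSet R) (c : K) : R.X67 c * y ∈ rnfSet R := by
  obtain ⟨t36, t37, t39, t42, t46, t56, t38, t40, t43, t47, t57, t41, t44, t48, t50, t58, t45, t49, t51, t59, t61, t52, t53, t60, t62, t54, t63, t64, t55, t65, t67, t66, t68, t69, t70, t71, rfl⟩ := hy
  exact ⟨_, _, _, _, _, _, _, _, _, _, _, _, _, _, _, _, _, _, _, _, _, _, _, _, _, _, _, _, _, _, _, _, _, _, _, _, R.ulm67 t36 t37 t39 t42 t46 t56 t38 t40 t43 t47 t57 t41 t44 t48 t50 t58 t45 t49 t51 t59 t61 t52 t53 t60 t62 t54 t63 t64 t55 t65 t67 t66 t68 t69 t70 t71 c⟩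

theorem rnfSet_lm66 {y : Γ} (hy : y ∈ rnfSet R) (c : K) : R.X66 c * y ∈ rnfSet R := by
  obtain ⟨t36, t37, t39, t42, t46, t56, t38, t40, t43, t47, t57, t41, t44, t48, t50, t58, t45, t49, t51, t59, t61, t52, t53, t60, t62, t54, t63, t64, t55, t65, t67, t66, t68, t69, t70, t71, rfl⟩ := hy
  exact ⟨_, _, _, _, _, _, _, _, _, _, _, _, _, _, _, _, _, _, _, _, _, _, _, _, _, _, _, _, _, _, _, _, _, _, _, _, R.ulm66 t36 t37 t39 t42 t46 t56 t38 t40 t43 t47 t57 t41 t44 t48 t50 t58 t45 t49 t51 t59 t61 t52 t53 t60 t62 t54 t63 t64 t55 t65 t67 t66 t68 t69 t70 t71 c⟩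

theorem rnfSet_lm68 {y : Γ} (hy : y ∈ rnfSet R) (c : K) : R.X68 c * y ∈ rnfSet R := by
  obtain ⟨t36, t37, t39, t42, t46, t56, t38, t40, t43, t47, t57, t41, t44, t48, t50, t58, t45, t49, t51, t59, t61, t52, t53, t60, t62, t54, t63, t64, t55, t65, t67, t66, t68, t69, t70, t71, rfl⟩ := hy
  exact ⟨_, _, _, _, _, _, _, _, _, _, _, _, _, _, _, _, _, _, _, _, _, _, _, _, _, _, _, _, _, _, _, _, _, _, _, _, R.ulm68 t36 t37 t39 t42 t46 t56 t38 t40 t43 t47 t57 t41 t44 t48 t50 t58 t45 t49 t51 t59 t61 t52 t53 t60 t62 t54 t63 t64 t55 t65 t67 t66 t68 t69 t70 t71 c⟩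

theorem rnfSet_lm69 {y : Γ} (hy : y ∈ rnfSet R) (c : K) : R.X69 c * y ∈ rnfSet R := by
  obtain ⟨t36, t37, t39, t42, t46, t56, t38, t40, t43, t47, t57, t41, t44, t48, t50, t58, t45, t49, t51, t59, t61, t52, t53, t60, t62, t54, t63, t64, t55, t65, t67, t66, t68, t69, t70, t71, rfl⟩ := hy
  exact ⟨_, _, _, _, _, _, _, _, _, _, _, _, _, _, _, _, _, _, _, _, _, _, _, _, _, _, _, _, _, _, _, _, _, _, _, _, R.ulm69 t36 t37 t39 t42 t46 t56 t38 t40 t43 t47 t57 t41 t44 t48 t50 t58 t45 t49 t51 t59 t61 t52 t53 t60 t62 t54 t63 t64 t55 t65 t67 t66 t68 t69 t70 t71 c⟩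

theorem rnfSet_lm70 {y : Γ} (hy : y ∈ rnfSet R) (c : K) : R.X70 c * y ∈ rnfSet R := by
  obtain ⟨t36, t37, t39, t42, t46, t56, t38, t40, t43, t47, t57, t41, t44, t48, t50, t58, t45, t49, t51, t59, t61, t52, t53, t60, t62, t54, t63, t64, t55, t65, t67, t66, t68, t69, t70, t71, rfl⟩ := hy
  exact ⟨_, _, _, _, _, _, _, _, _, _, _, _, _, _, _, _, _, _, _, _, _, _, _, _, _, _, _, _, _, _, _, _, _, _, _, _, R.ulm70 t36 t37 t39 t42 t46 t56 t38 t40 t43 t47 t57 t41 t44 t48 t50 t58 t45 t49 t51 t59 t61 t52 t53 t60 t62 t54 t63 t64 t55 t65 t67 t66 t68 t69 t70 t71 c⟩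

theorem rnfSet_lm71 {y : Γ} (hy : y ∈ rnfSet R) (c : K) : R.X71 c * y ∈ rnfSet R := by
  obtain ⟨t36, t37, t39, t42, t46, t56, t38, t40, t43, t47, t57, t41, t44, t48, t50, t58, t45, t49, t51, t59, t61, t52, t53, t60, t62, t54, t63, t64, t55, t65, t67, t66, t68, t69, t70, t71, rfl⟩ := hy
  exact ⟨_, _, _, _, _, _, _, _, _, _, _, _, _, _, _, _, _, _, _, _, _, _, _, _, _, _, _, _, _, _, _, _, _, _, _, _, R.ulm71 t36 t37 t39 t42 t46 t56 t38 t40 t43 t47 t57 t41 t44 t48 t50 t58 t45 t49 t51 t59 t61 t52 t53 t60 t62 t54 t63 t64 t55 t65 t67 t66 t68 t69 t70 t71 c⟩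

end Cfsg.Agent.Helper4.E6Inv
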