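import Cfsg.Agent.Helper4.E6Inv.UConcA
import Cfsg.Agent.Helper4.E6Inv.UFinT
import Cfsg.Agent.Helper4.E6Inv.ULmE

/-!
# Involutions of `E₆(K)`, `K` finite of characteristic two: torus elements, ordered products

Torus elements normalising the root subgroups of the three representatives independently; the
ordered products `RNF` of root elements are exactly the elements of the unipotent subgroup, and
over a finite field the ordered product is injective (by counting). (Partly generated.)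
-/

set_option autoImplicit false
set_option maxRecDepth 100000
set_option maxHeartbeats 4000000
set_option linter.unusedSimpArgs false
set_option linter.unusedVariables false
set_option linter.unusedSectionVars false

namespace Cfsg.Agent.Helper4.E6Inv

open Cfsg Cfsg.Lie Cfsg.Agent.Helper18

variable {K : Type*} [Field K]

/-- the torus element `h_r(c)` -/
noncomputable def hE6t (K : Type*) [Field K] (r : ℕ) (c : K) : GL chevE6.Idx K :=
  wordGL chevE6 K (chevE6.hWord r c)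

theorem hE6t_mem (r : ℕ) (c : K) : hE6t K r c ∈ chevE6.group K := by
  unfold hE6t wordGL
  apply Subgroup.list_prod_mem
  intro x hx
  simp only [List.mem_map] at hx
  obtain ⟨p, -, rfl⟩ := hx
  exact xGL_mem_group' chevE6 hE6 _ _

theorem hE6t_conj (r : ℕ) (hr : r < 72) (c : K) (hc : c ≠ 0) (s : ℕ) (hs : s < 72) (t : K) :
    hE6t K r c * xGL chevE6 K s t * (hE6t K r c)⁻¹ = xGL chevE6 K s (c ^ pairing' chevE6 r s * t) :=
  (hMat_conj_x chevE6 hE6 _ r hr c hc (hWordGL_val chevE6 hE6 r c) s hs t).1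

theorem pair_tab : pairing' chevE6 46 71 = 1 ∧ pairing' chevE6 36 68 = 1 ∧ pairing' chevE6 36 66 = 0 ∧
    pairing' chevE6 56 68 = 0 ∧ pairing' chevE6 56 66 = 1 ∧
    pairing' chevE6 37 55 = 1 ∧ pairing' chevE6 37 65 = -1 ∧ pairing' chevE6 37 67 = 0 ∧
    pairing' chevE6 42 55 = 0 ∧ pairing' chevE6 42 65 = -1 ∧ pairing' chevE6 42 67 = 1 ∧
    pairing' chevE6 39 55 = 0 ∧ pairing' chevE6 39 65 = 1 ∧ pairing' chevE6 39 67 = 0 := by decide +kernel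

theorem tor1_E6 (a : K) (ha : a ≠ 0) :
    ∃ h ∈ chevE6.group K, ∀ t, h * xGL chevE6 K 71 t * h⁻¹ = xGL chevE6 K 71 (a * t) := by
  obtain ⟨p1, -⟩ := pair_tab
  refine ⟨hE6t K 46 a, hE6t_mem _ _, fun t => ?_⟩
  rw [hE6t_conj 46 (by norm_num) a ha 71 (by norm_num), p1, zpow_one]

theorem conj2 {Γ : Type*} [Group Γ] (g h x : Γ) : g * h * x * (g * h)⁻¹ = g * (h * x * h⁻¹) * g⁻¹ := by group

theorem conj3 {Γ : Type*} [Group Γ] (g h k x : Γ) :
    g * h * k * x * (g * h * k)⁻¹ = g * (h * (k * x * k⁻¹) * h⁻¹) * g⁻¹ := by group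

theorem tor2_E6 (a b : K) (ha : a ≠ 0) (hb : b ≠ 0) :
    ∃ h ∈ chevE6.group K, (∀ t, h * xGL chevE6 K 68 t * h⁻¹ = xGL chevE6 K 68 (a * t)) ∧
      (∀ t, h * xGL chevE6 K 66 t * h⁻¹ = xGL chevE6 K 66 (b * t)) := by
  obtain ⟨-, p1, p2, p3, p4, -⟩ := pair_tab
  refine ⟨hE6t K 36 a * hE6t K 56 b, mul_mem (hE6t_mem _ _) (hE6t_mem _ _), fun t => ?_, fun t => ?_⟩
  · rw [conj2, hE6t_conj 56 (by norm_num) b hb 68 (by norm_num), hE6t_conj 36 (by norm_num) a ha 68 (by norm_num),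
      p1, p3, zpow_zero, zpow_one, one_mul]
  · rw [conj2, hE6t_conj 56 (by norm_num) b hb 66 (by norm_num), hE6t_conj 36 (by norm_num) a ha 66 (by norm_num),
      p2, p4, zpow_zero, zpow_one, one_mul]

theorem tor3_E6 (a b c : K) (ha : a ≠ 0) (hb : b ≠ 0) (hc : c ≠ 0) :
    ∃ h ∈ chevE6.group K, (∀ t, h * xGL chevE6 K 55 t * h⁻¹ = xGL chevE6 K 55 (a * t)) ∧
      (∀ t, h * xGL chevE6 K 65 t * h⁻¹ = xGL chevE6 K 65 (b * t)) ∧
      (∀ t, h * xGL chevE6 K 67 t * h⁻¹ = xGL chevE6 K 67 (c * t)) := by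
  obtain ⟨-, -, -, -, -, q1, q2, q3, q4, q5, q6, q7, q8, q9⟩ := pair_tab
  have hd : a * b * c ≠ 0 := mul_ne_zero (mul_ne_zero ha hb) hc
  refine ⟨hE6t K 37 a * hE6t K 42 c * hE6t K 39 (a * b * c),
    mul_mem (mul_mem (hE6t_mem _ _) (hE6t_mem _ _)) (hE6t_mem _ _), fun t => ?_, fun t => ?_, fun t => ?_⟩
  · rw [conj3, hE6t_conj 39 (by norm_num) _ hd 55 (by norm_num), hE6t_conj 42 (by norm_num) c hc 55 (by norm_num),
      hE6t_conj 37 (by norm_num) a ha 55 (by norm_num), q1, q4, q7, zpow_zero, zpow_zero, zpow_one, one_mul, one_mul]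
  · rw [conj3, hE6t_conj 39 (by norm_num) _ hd 65 (by norm_num), hE6t_conj 42 (by norm_num) c hc 65 (by norm_num),
      hE6t_conj 37 (by norm_num) a ha 65 (by norm_num), q2, q5, q8, zpow_neg, zpow_neg, zpow_one, zpow_one]
    congr 1
    field_simp
  · rw [conj3, hE6t_conj 39 (by norm_num) _ hd 67 (by norm_num), hE6t_conj 42 (by norm_num) c hc 67 (by norm_num),
      hE6t_conj 37 (by norm_num) a ha 67 (by norm_num), q3, q6, q9, zpow_zero, zpow_zero, zpow_one, one_mul, one_mul]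

/-! ### the ordered products are the elements of `U` -/

theorem uxpos (r : ℕ) (hr : 36 ≤ r ∧ r < 72) (t : K) : xGL chevE6 K r t ∈ chevE6.posUnipotent K :=
  xGL_mem_posUnipotent chevE6 hE6 r hr t

section char2

variable [CharP K 2]

theorem RNF_pos (t36 t37 t39 t42 t46 t56 t38 t40 t43 t47 t57 t41 t44 t48 t50 t58 t45 t49 t51 t59 t61 t52 t53 t60 t62 t54 t63 t64 t55 t65 t67 t66 t68 t69 t70 t71 : K) :
    (e6Rel (K := K)).RNF t36 t37 t39 t42 t46 t56 t38 t40 t43 t47 t57 t41 t44 t48 t50 t58 t45 t49 t51 t59 t61 t52 t53 t60 t62 t54 t63 t64 t55 t65 t67 t66 t68 t69 t70 t71 ∈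
      chevE6.posUnipotent K := by
  unfold RelE6.RNF
  repeat (first | exact uxpos _ (by norm_num) _ | apply Subgroup.mul_mem)

theorem xGL_mul_rnfSet (r : ℕ) (hr : 36 ≤ r ∧ r < 72) (c : K) {y : GL chevE6.Idx K}
    (hy : y ∈ rnfSet (e6Rel (K := K))) : xGL chevE6 K r c * y ∈ rnfSet (e6Rel (K := K)) := by
  obtain ⟨h1, h2⟩ := hr
  interval_cases r
  · exact rnfSet_lm36 hy c
  · exact rnfSet_lm37 hy c
  · exact rnfSet_lm38 hy c
  · exact rnfSet_lm39 hy c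
  · exact rnfSet_lm40 hy c
  · exact rnfSet_lm41 hy c
  · exact rnfSet_lm42 hy c
  · exact rnfSet_lm43 hy c
  · exact rnfSet_lm44 hy c
  · exact rnfSet_lm45 hy c
  · exact rnfSet_lm46 hy c
  · exact rnfSet_lm47 hy c
  · exact rnfSet_lm48 hy c
  · exact rnfSet_lm49 hy c
  · exact rnfSet_lm50 hy c
  · exact rnfSet_lm51 hy c
  · exact rnfSet_lm52 hy c
  · exact rnfSet_lm53 hy c
  · exact rnfSet_lm54 hy c
  · exact rnfSet_lm55 hy c
  · exact rnfSet_lm56 hy c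
  · exact rnfSet_lm57 hy c
  · exact rnfSet_lm58 hy c
  · exact rnfSet_lm59 hy c
  · exact rnfSet_lm60 hy c
  · exact rnfSet_lm61 hy c
  · exact rnfSet_lm62 hy c
  · exact rnfSet_lm63 hy c
  · exact rnfSet_lm64 hy c
  · exact rnfSet_lm65 hy c
  · exact rnfSet_lm66 hy c
  · exact rnfSet_lm67 hy c
  · exact rnfSet_lm68 hy c
  · exact rnfSet_lm69 hy c
  · exact rnfSet_lm70 hy c
  · exact rnfSet_lm71 hy c

/-- every element of `U` is an ordered product -/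
theorem mem_rnfSet_of_mem_U (g : GL chevE6.Idx K) (hg : g ∈ chevE6.posUnipotent K) :
    g ∈ rnfSet (e6Rel (K := K)) := by
  unfold ChevalleyDatum.posUnipotent at hg
  have hgen : ∀ x ∈ {g : GL chevE6.Idx K | ∃ (r : ℕ) (t : K), chevE6.IsPosRoot r ∧
      (g : Matrix chevE6.Idx chevE6.Idx K) = chevE6.x K r t},
      ∃ r t, (36 ≤ r ∧ r < 72) ∧ x = xGL chevE6 K r t := by
    rintro x ⟨r, t, hr, hx⟩
    refine ⟨r, t, (isPosRoot_iff chevE6 _ (posOK_of_mem chevE6 hE6) r).mp hr, ?_⟩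
    apply Units.ext
    rw [hx, xGL_val chevE6 _ (triOK_of_mem chevE6 hE6)]
  induction hg using Subgroup.closure_induction_left with
  | one => exact rnfSet_one
  | mul_left x hx y _ ih =>
    obtain ⟨r, t, hr, rfl⟩ := hgen x hx
    exact xGL_mul_rnfSet r hr t ih
  | inv_mul_cancel x hx y _ ih =>
    obtain ⟨r, t, hr, rfl⟩ := hgen x hx
    rw [xGL_inv' chevE6 hE6]
    exact xGL_mul_rnfSet r hr (-t) ih

/-- the ordered product as a function of the vector of its coordinates -/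
noncomputable def rnfVec (v : Fin 36 → K) : GL chevE6.Idx K :=
  (e6Rel (K := K)).RNF (v 0) (v 1) (v 2) (v 3) (v 4) (v 5) (v 6) (v 7) (v 8) (v 9) (v 10) (v 11) (v 12) (v 13) (v 14) (v 15) (v 16) (v 17) (v 18) (v 19) (v 20) (v 21) (v 22) (v 23) (v 24) (v 25) (v 26) (v 27) (v 28) (v 29) (v 30) (v 31) (v 32) (v 33) (v 34) (v 35)

theorem rnfVec_cons (t36 t37 t39 t42 t46 t56 t38 t40 t43 t47 t57 t41 t44 t48 t50 t58 t45 t49 t51 t59 t61 t52 t53 t60 t62 t54 t63 t64 t55 t65 t67 t66 t68 t69 t70 t71 : K) :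
    rnfVec ![t36, t37, t39, t42, t46, t56, t38, t40, t43, t47, t57, t41, t44, t48, t50, t58, t45, t49, t51, t59, t61, t52, t53, t60, t62, t54, t63, t64, t55, t65, t67, t66, t68, t69, t70, t71] =
      (e6Rel (K := K)).RNF t36 t37 t39 t42 t46 t56 t38 t40 t43 t47 t57 t41 t44 t48 t50 t58 t45 t49 t51 t59 t61 t52 t53 t60 t62 t54 t63 t64 t55 t65 t67 t66 t68 t69 t70 t71 := by
  rfl

theorem rnfVec_surj (g : GL chevE6.Idx K) (hg : g ∈ chevE6.posUnipotent K) : ∃ v, rnfVec v = g := by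
  obtain ⟨t36, t37, t39, t42, t46, t56, t38, t40, t43, t47, t57, t41, t44, t48, t50, t58, t45, t49, t51, t59, t61, t52, t53, t60, t62, t54, t63, t64, t55, t65, t67, t66, t68, t69, t70, t71, rfl⟩ :=
    mem_rnfSet_of_mem_U g hg
  exact ⟨_, rnfVec_cons _ _ _ _ _ _ _ _ _ _ _ _ _ _ _ _ _ _ _ _ _ _ _ _ _ _ _ _ _ _ _ _ _ _ _ _⟩

theorem rnfVec_inj [Fintype K] : Function.Injective (rnfVec (K := K)) := by
  let f : (Fin 36 → K) → ↥(chevE6.posUnipotent K) := fun v => ⟨rnfVec v, RNF_pos _ _ _ _ _ _ _ _ _ _ _ _ _ _ _ _ _ _ _ _ _ _ _ _ _ _ _ _ _ _ _ _ _ _ _ _⟩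
  have hs : Function.Surjective f := by
    rintro ⟨g, hg⟩
    obtain ⟨v, hv⟩ := rnfVec_surj g hg
    exact ⟨v, Subtype.ext hv⟩
  have hc : Nat.card (Fin 36 → K) = Nat.card ↥(chevE6.posUnipotent K) := by
    rw [Cfsg.Agent.S1027.result chevE6 hE6, Nat.card_eq_fintype_card, Fintype.card_fun, Fintype.card_fin]
    rfl
  have hb := (Nat.bijective_iff_surjective_and_card f).mpr ⟨hs, hc⟩
  intro v w h
  exact hb.1 (Subtype.ext h)

theorem RNF_inj_one [Fintype K] (t36 t37 t39 t42 t46 t56 t38 t40 t43 t47 t57 t41 t44 t48 t50 t58 t45 t49 t51 t59 t61 t52 t53 t60 t62 t54 t63 t64 t55 t65 t67 t66 t68 t69 t70 t71 : K)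
    (h : (e6Rel (K := K)).RNF t36 t37 t39 t42 t46 t56 t38 t40 t43 t47 t57 t41 t44 t48 t50 t58 t45 t49 t51 t59 t61 t52 t53 t60 t62 t54 t63 t64 t55 t65 t67 t66 t68 t69 t70 t71 = 1) :
    t36 = 0 ∧ t37 = 0 ∧ t39 = 0 ∧ t42 = 0 ∧ t46 = 0 ∧ t56 = 0 ∧ t38 = 0 ∧ t40 = 0 ∧ t43 = 0 ∧ t47 = 0 ∧ t57 = 0 ∧ t41 = 0 ∧ t44 = 0 ∧ t48 = 0 ∧ t50 = 0 ∧ t58 = 0 ∧ t45 = 0 ∧ t49 = 0 ∧ t51 = 0 ∧ t59 = 0 ∧ t61 = 0 ∧ t52 = 0 ∧ t53 = 0 ∧ t60 = 0 ∧ t62 = 0 ∧ t54 = 0 ∧ t63 = 0 ∧ t64 = 0 ∧ t55 = 0 ∧ t65 = 0 ∧ t67 = 0 ∧ t66 = 0 ∧ t68 = 0 ∧ t69 = 0 ∧ t70 = 0 ∧ t71 = 0 := by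
  have h0 : rnfVec (K := K) ![0, 0, 0, 0, 0, 0, 0, 0, 0, 0, 0, 0, 0, 0, 0, 0, 0, 0, 0, 0, 0, 0, 0, 0, 0, 0, 0, 0, 0, 0, 0, 0, 0, 0, 0, 0] = 1 := by
    rw [rnfVec_cons]; exact RNF_all_zero _
  have h1 := rnfVec_inj (((rnfVec_cons t36 t37 t39 t42 t46 t56 t38 t40 t43 t47 t57 t41 t44 t48 t50 t58 t45 t49 t51 t59 t61 t52 t53 t60 t62 t54 t63 t64 t55 t65 t67 t66 t68 t69 t70 t71).trans h).trans h0.symm)
  have hv : ∀ i : Fin 36, (![t36, t37, t39, t42, t46, t56, t38, t40, t43, t47, t57, t41, t44, t48, t50, t58, t45, t49, t51, t59, t61, t52, t53, t60, t62, t54, t63, t64, t55, t65, t67, t66, t68, t69, t70, t71] : Fin 36 → K) i =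
      (![0, 0, 0, 0, 0, 0, 0, 0, 0, 0, 0, 0, 0, 0, 0, 0, 0, 0, 0, 0, 0, 0, 0, 0, 0, 0, 0, 0, 0, 0, 0, 0, 0, 0, 0, 0] : Fin 36 → K) i := fun i => congrFun h1 i
  exact ⟨hv 0, hv 1, hv 2, hv 3, hv 4, hv 5, hv 6, hv 7, hv 8, hv 9, hv 10, hv 11, hv 12, hv 13, hv 14, hv 15, hv 16, hv 17, hv 18, hv 19, hv 20, hv 21, hv 22, hv 23, hv 24, hv 25, hv 26, hv 27, hv 28, hv 29, hv 30, hv 31, hv 32, hv 33, hv 34, hv 35⟩

end char2

end Cfsg.Agent.Helper4.E6Inv
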