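import Cfsg.Agent.Helper4.E6Inv.UFinT

/-! Generated: steps of the reduction of involutions in the unipotent group of `E₆`
(characteristic two). -/

set_option autoImplicit false
set_option maxHeartbeats 8000000
set_option maxRecDepth 100000
set_option linter.unusedSimpArgs false
set_option linter.unusedVariables false
set_option linter.unusedSectionVars false
set_option linter.unusedTactic false
set_option linter.unreachableTactic false

namespace Cfsg.Agent.Helper4.E6Inv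

variable {K Γ : Type*} [Field K] [Group Γ] {R : RelE6 K Γ} [CharP K 2]

theorem e6s1_1 (D : UData R)
    (ih : ∀ (t37 t42 t46 t56 t38 t40 t43 t47 t57 t41 t44 t48 t50 t58 t45 t49 t51 t59 t61 t52 t53 t60 t62 t54 t63 t64 t55 t65 t67 t66 t68 t69 t70 t71 : K), t37 ≠ 0 → UP D (R.RNF (0) (t37) (0) (t42) (t46) (t56) (t38) (t40) (t43) (t47) (t57) (t41) (t44) (t48) (t50) (t58) (t45) (t49) (t51) (t59) (t61) (t52) (t53) (t60) (t62) (t54) (t63) (t64) (t55) (t65) (t67) (t66) (t68) (t69) (t70) (t71))) :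
    ∀ (t37 t39 t42 t46 t56 t38 t40 t43 t47 t57 t41 t44 t48 t50 t58 t45 t49 t51 t59 t61 t52 t53 t60 t62 t54 t63 t64 t55 t65 t67 t66 t68 t69 t70 t71 : K), t37 ≠ 0 → UP D (R.RNF (0) (t37) (t39) (t42) (t46) (t56) (t38) (t40) (t43) (t47) (t57) (t41) (t44) (t48) (t50) (t58) (t45) (t49) (t51) (t59) (t61) (t52) (t53) (t60) (t62) (t54) (t63) (t64) (t55) (t65) (t67) (t66) (t68) (t69) (t70) (t71)) := by
  intro t37 t39 t42 t46 t56 t38 t40 t43 t47 t57 t41 t44 t48 t50 t58 t45 t49 t51 t59 t61 t52 t53 t60 t62 t54 t63 t64 t55 t65 t67 t66 t68 t69 t70 t71 hn37 hu hne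
  have hsq := hu
  rw [R.usq] at hsq
  obtain ⟨e36, e37, e39, e42, e46, e56, e38, e40, e43, e47, e57, e41, e44, e48, e50, e58, e45, e49, e51, e59, e61, e52, e53, e60, e62, e54, e63, e64, e55, e65, e67, e66, e68, e69, e70, e71⟩ := D.inj _ _ _ _ _ _ _ _ _ _ _ _ _ _ _ _ _ _ _ _ _ _ _ _ _ _ _ _ _ _ _ _ _ _ _ _ hsq
  have hz : t39 = 0 := by
    have h : t37 * t39 = 0 := by linear_combination e40
    exact (mul_eq_zero.mp h).resolve_left hn37
  subst hz
  exact ih _ _ _ _ _ _ _ _ _ _ _ _ _ _ _ _ _ _ _ _ _ _ _ _ _ _ _ _ _ _ _ _ _ _ hn37 hu hne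

theorem e6s1_2 (D : UData R)
    (ih : ∀ (t37 t42 t46 t56 t40 t43 t47 t57 t41 t44 t48 t50 t58 t45 t49 t51 t59 t61 t52 t53 t60 t62 t54 t63 t64 t55 t65 t67 t66 t68 t69 t70 t71 : K), t37 ≠ 0 → UP D (R.RNF (0) (t37) (0) (t42) (t46) (t56) (0) (t40) (t43) (t47) (t57) (t41) (t44) (t48) (t50) (t58) (t45) (t49) (t51) (t59) (t61) (t52) (t53) (t60) (t62) (t54) (t63) (t64) (t55) (t65) (t67) (t66) (t68) (t69) (t70) (t71))) :
    ∀ (t37 t42 t46 t56 t38 t40 t43 t47 t57 t41 t44 t48 t50 t58 t45 t49 t51 t59 t61 t52 t53 t60 t62 t54 t63 t64 t55 t65 t67 t66 t68 t69 t70 t71 : K), t37 ≠ 0 → UP D (R.RNF (0) (t37) (0) (t42) (t46) (t56) (t38) (t40) (t43) (t47) (t57) (t41) (t44) (t48) (t50) (t58) (t45) (t49) (t51) (t59) (t61) (t52) (t53) (t60) (t62) (t54) (t63) (t64) (t55) (t65) (t67) (t66) (t68) (t69) (t70) (t71)) := by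
  intro t37 t42 t46 t56 t38 t40 t43 t47 t57 t41 t44 t48 t50 t58 t45 t49 t51 t59 t61 t52 t53 t60 t62 t54 t63 t64 t55 t65 t67 t66 t68 t69 t70 t71 hn37
  have h2 : (2 : K) = 0 := CharTwo.two_eq_zero
  have h4 : (4 : K) = 0 := by linear_combination 2 * h2
  have h6 : (6 : K) = 0 := by linear_combination 3 * h2
  have h8 : (8 : K) = 0 := by linear_combination 4 * h2
  have h10 : (10 : K) = 0 := by linear_combination 5 * h2
  have h12 : (12 : K) = 0 := by linear_combination 6 * h2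
  have h14 : (14 : K) = 0 := by linear_combination 7 * h2
  have h16 : (16 : K) = 0 := by linear_combination 8 * h2
  have h18 : (18 : K) = 0 := by linear_combination 9 * h2
  have h20 : (20 : K) = 0 := by linear_combination 10 * h2
  have h22 : (22 : K) = 0 := by linear_combination 11 * h2
  have h24 : (24 : K) = 0 := by linear_combination 12 * h2
  have h26 : (26 : K) = 0 := by linear_combination 13 * h2
  have h28 : (28 : K) = 0 := by linear_combination 14 * h2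
  have h30 : (30 : K) = 0 := by linear_combination 15 * h2
  have h32 : (32 : K) = 0 := by linear_combination 16 * h2
  obtain ⟨c, rfl⟩ : ∃ c, t38 = c * t37 := ⟨t38 / t37, by field_simp⟩
  have e : R.X36 c * R.RNF (0) (t37) (0) (t42) (t46) (t56) (c * t37) (t40) (t43) (t47) (t57) (t41) (t44) (t48) (t50) (t58) (t45) (t49) (t51) (t59) (t61) (t52) (t53) (t60) (t62) (t54) (t63) (t64) (t55) (t65) (t67) (t66) (t68) (t69) (t70) (t71) * R.X36 c =
      R.RNF (0) (t37) (0) (t42) (t46) (t56) (0) (t40) (t43) (t47) (t57) (c * t40 + t41) (t44) (t48) (t50) (t58) (c * t44 + t45) (c * t48 + t49) (t51) (t59) (t61) (c * t51 + t52) (t53) (c * t40 * t57 + c * t59 + t60) (t62) (c * t53 + t54) (c * t62 + t63) (t64) (c * t44 * t48 + t55) (c * t48 * t58 + c * t64 + t65) (t67) (c * t40 * t48 * t57 + t66) (c * t40 * t50 * t57 + c * t67 + t68) (c * t40 * t51 * t57 + c * t51 * t59 + t69) (c * t40 * t53 * t57 + c * t44 * t48 * t58 +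 c * t53 * t59 + t70) (c * t40 * t48 * t50 * t57 + c * t44 * t48 * t61 + c * t48 * t51 * t58 + c * t53 * t62 + t71) := by
    rw [R.ucj36]
    congr 1 <;> (first | rfl | ring1 | (rw [← sub_eq_zero]; ring_nf; simp only [h2, h4, h6, h8, h10, h12, h14, h16, h18, h20, h22, h24, h26, h28, h30, h32, mul_zero, zero_mul, add_zero, zero_add, neg_zero, sub_zero, sub_self]))
  exact UP_cj D (D.xmem36 c) (R.inv36 c) e (ih _ _ _ _ _ _ _ _ _ _ _ _ _ _ _ _ _ _ _ _ _ _ _ _ _ _ _ _ _ _ _ _ _ hn37)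

theorem e6s1_3 (D : UData R)
    (ih : ∀ (t37 t42 t46 t56 t43 t47 t57 t41 t44 t48 t50 t58 t45 t49 t51 t59 t61 t52 t53 t60 t62 t54 t63 t64 t55 t65 t67 t66 t68 t69 t70 t71 : K), t37 ≠ 0 → UP D (R.RNF (0) (t37) (0) (t42) (t46) (t56) (0) (0) (t43) (t47) (t57) (t41) (t44) (t48) (t50) (t58) (t45) (t49) (t51) (t59) (t61) (t52) (t53) (t60) (t62) (t54) (t63) (t64) (t55) (t65) (t67) (t66) (t68) (t69) (t70) (t71))) :
    ∀ (t37 t42 t46 t56 t40 t43 t47 t57 t41 t44 t48 t50 t58 t45 t49 t51 t59 t61 t52 t53 t60 t62 t54 t63 t64 t55 t65 t67 t66 t68 t69 t70 t71 : K), t37 ≠ 0 → UP D (R.RNF (0) (t37) (0) (t42) (t46) (t56) (0) (t40) (t43) (t47) (t57) (t41) (t44) (t48) (t50) (t58) (t45) (t49) (t51) (t59) (t61) (t52) (t53) (t60) (t62) (t54) (t63) (t64) (t55) (t65) (t67) (t66) (t68) (t69) (t70) (t71)) := by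
  intro t37 t42 t46 t56 t40 t43 t47 t57 t41 t44 t48 t50 t58 t45 t49 t51 t59 t61 t52 t53 t60 t62 t54 t63 t64 t55 t65 t67 t66 t68 t69 t70 t71 hn37
  have h2 : (2 : K) = 0 := CharTwo.two_eq_zero
  have h4 : (4 : K) = 0 := by linear_combination 2 * h2
  have h6 : (6 : K) = 0 := by linear_combination 3 * h2
  have h8 : (8 : K) = 0 := by linear_combination 4 * h2
  have h10 : (10 : K) = 0 := by linear_combination 5 * h2
  have h12 : (12 : K) = 0 := by linear_combination 6 * h2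
  have h14 : (14 : K) = 0 := by linear_combination 7 * h2
  have h16 : (16 : K) = 0 := by linear_combination 8 * h2
  have h18 : (18 : K) = 0 := by linear_combination 9 * h2
  have h20 : (20 : K) = 0 := by linear_combination 10 * h2
  have h22 : (22 : K) = 0 := by linear_combination 11 * h2
  have h24 : (24 : K) = 0 := by linear_combination 12 * h2
  have h26 : (26 : K) = 0 := by linear_combination 13 * h2
  have h28 : (28 : K) = 0 := by linear_combination 14 * h2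
  have h30 : (30 : K) = 0 := by linear_combination 15 * h2
  have h32 : (32 : K) = 0 := by linear_combination 16 * h2
  obtain ⟨c, rfl⟩ : ∃ c, t40 = c * t37 := ⟨t40 / t37, by field_simp⟩
  have e : R.X39 c * R.RNF (0) (t37) (0) (t42) (t46) (t56) (0) (c * t37) (t43) (t47) (t57) (t41) (t44) (t48) (t50) (t58) (t45) (t49) (t51) (t59) (t61) (t52) (t53) (t60) (t62) (t54) (t63) (t64) (t55) (t65) (t67) (t66) (t68) (t69) (t70) (t71) * R.X39 c =
      R.RNF (0) (t37) (0) (t42) (t46) (t56) (0) (0) (c * t42 + t43) (c * t46 + t47) (t57) (t41) (c * t37 * t42 + t44) (c * t37 * t46 + t48) (c * t42 * t46 + t50) (c * t42 * t56 + c * t57 + t58) (t45) (t49) (c * t37 * t42 * t46 + t51) (c * t37 * t42 * t56 + t59) (c * t42 * t46 * t56 + t61) (t52) (c * t37 * t42 * t47 + c * t37 * t43 * t46 + c * t51 + c ^ 2 * t37 * t42 * t46 + t53) (t60) (c * t37 * t42 * t46 * t56 + c * t37 * t46 * t57 + t62) (c * t41 * t42 * t46 + c * t52 +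 t54) (t63) (c * t37 * t42 * t47 * t56 + c * t42 * t48 * t56 + c * t48 * t57 + c * t62 + t64) (c * t37 * t41 * t42 * t46 + t55) (c * t41 * t42 * t46 * t56 + c * t63 + t65) (c * t37 * t42 * t43 * t46 * t56 + c * t37 * t42 * t46 * t58 + c * t37 * t42 * t47 * t57 + c * t37 * t42 * t50 * t56 + c * t37 * t43 * t46 * t57 + c * t42 * t44 * t46 * t56 + c ^ 2 * t37 * t42 ^ 2 * t46 * t56 + t67) (c * t37 * t41 * t42 * t46 * t56 + c * t37 * t41 * t46 * t57 + c * t37 * t42 * t49 * t56 + t66) (c * t42 * t45 * t46 * t56 + t68) (c * t37 * t42 * t45 * t46 * t56 + c * t37 * t45 * t46 * t57 + t69) (c * t37 * t41 * t42 * t43 * t46 * t56 + c * t37 * t41 * t42 * t46 * t58 + c * t37 * t41 * t42 * t47 * t57 + c * t37 * t41 * t43 * t46 * t57 + c * t37 * t42 * t45 * t47 * t56 + c * t41 * t42 * t44 * t46 * t56 + c * t41 * t42 * t46 * t59 + c * t42 * t45 * t48 * t56 + c * t45 * t48 * t57 + c * t69 + t70) (c * t37 * t41 * t42 * t46 *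 t50 * t56 + c * t37 * t41 * t42 * t46 * t61 + c * t37 * t41 * t46 * t50 * t57 + c * t37 * t42 * t43 * t46 * t49 * t56 + c * t37 * t42 * t46 * t49 * t58 + c * t37 * t42 * t47 * t49 * t57 + c * t37 * t42 * t47 * t52 * t56 + c * t37 * t42 * t49 * t50 * t56 + c * t37 * t43 * t46 * t49 * t57 + c * t41 * t42 * t46 * t51 * t56 + c * t41 * t42 * t46 * t62 + c * t42 * t44 * t46 * t49 * t56 + c * t42 * t48 * t52 * t56 + c * t48 * t52 * t57 + c * t52 * t62 + c ^ 2 * t37 * t41 * t42 * t46 ^ 2 * t57 + c ^ 2 * t37 * t42 ^ 2 * t46 * t49 * t56 + t71) := by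
    rw [R.ucj39]
    congr 1 <;> (first | rfl | ring1 | (rw [← sub_eq_zero]; ring_nf; simp only [h2, h4, h6, h8, h10, h12, h14, h16, h18, h20, h22, h24, h26, h28, h30, h32, mul_zero, zero_mul, add_zero, zero_add, neg_zero, sub_zero, sub_self]))
  exact UP_cj D (D.xmem39 c) (R.inv39 c) e (ih _ _ _ _ _ _ _ _ _ _ _ _ _ _ _ _ _ _ _ _ _ _ _ _ _ _ _ _ _ _ _ _ hn37)

theorem e6s1_4 (D : UData R)
    (ih : ∀ (t37 t42 t46 t56 t43 t47 t57 t41 t48 t50 t58 t45 t49 t51 t59 t61 t52 t53 t60 t62 t54 t63 t64 t55 t65 t67 t66 t68 t69 t70 t71 : K), t37 ≠ 0 → UP D (R.RNF (0) (t37) (0) (t42) (t46) (t56) (0) (0) (t43) (t47) (t57) (t41) (0) (t48) (t50) (t58) (t45) (t49) (t51) (t59) (t61) (t52) (t53) (t60) (t62) (t54) (t63) (t64) (t55) (t65) (t67) (t66) (t68) (t69) (t70) (t71))) :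
    ∀ (t37 t42 t46 t56 t43 t47 t57 t41 t44 t48 t50 t58 t45 t49 t51 t59 t61 t52 t53 t60 t62 t54 t63 t64 t55 t65 t67 t66 t68 t69 t70 t71 : K), t37 ≠ 0 → UP D (R.RNF (0) (t37) (0) (t42) (t46) (t56) (0) (0) (t43) (t47) (t57) (t41) (t44) (t48) (t50) (t58) (t45) (t49) (t51) (t59) (t61) (t52) (t53) (t60) (t62) (t54) (t63) (t64) (t55) (t65) (t67) (t66) (t68) (t69) (t70) (t71)) := by
  intro t37 t42 t46 t56 t43 t47 t57 t41 t44 t48 t50 t58 t45 t49 t51 t59 t61 t52 t53 t60 t62 t54 t63 t64 t55 t65 t67 t66 t68 t69 t70 t71 hn37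
  have h2 : (2 : K) = 0 := CharTwo.two_eq_zero
  have h4 : (4 : K) = 0 := by linear_combination 2 * h2
  have h6 : (6 : K) = 0 := by linear_combination 3 * h2
  have h8 : (8 : K) = 0 := by linear_combination 4 * h2
  have h10 : (10 : K) = 0 := by linear_combination 5 * h2
  have h12 : (12 : K) = 0 := by linear_combination 6 * h2
  have h14 : (14 : K) = 0 := by linear_combination 7 * h2
  have h16 : (16 : K) = 0 := by linear_combination 8 * h2
  have h18 : (18 : K) = 0 := by linear_combination 9 * h2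
  have h20 : (20 : K) = 0 := by linear_combination 10 * h2
  have h22 : (22 : K) = 0 := by linear_combination 11 * h2
  have h24 : (24 : K) = 0 := by linear_combination 12 * h2
  have h26 : (26 : K) = 0 := by linear_combination 13 * h2
  have h28 : (28 : K) = 0 := by linear_combination 14 * h2
  have h30 : (30 : K) = 0 := by linear_combination 15 * h2
  have h32 : (32 : K) = 0 := by linear_combination 16 * h2
  obtain ⟨c, rfl⟩ : ∃ c, t44 = c * t37 := ⟨t44 / t37, by field_simp⟩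
  have e : R.X43 c * R.RNF (0) (t37) (0) (t42) (t46) (t56) (0) (0) (t43) (t47) (t57) (t41) (c * t37) (t48) (t50) (t58) (t45) (t49) (t51) (t59) (t61) (t52) (t53) (t60) (t62) (t54) (t63) (t64) (t55) (t65) (t67) (t66) (t68) (t69) (t70) (t71) * R.X43 c =
      R.RNF (0) (t37) (0) (t42) (t46) (t56) (0) (0) (t43) (t47) (t57) (t41) (0) (t48) (c * t46 + t50) (c * t56 + t58) (t45) (t49) (c * t37 * t46 + t51) (c * t37 * t56 + t59) (c * t46 * t56 + t61) (t52) (c * t37 * t47 + c * t48 + t53) (t60) (c * t37 * t46 * t56 + t62) (c * t41 * t46 + c * t49 + t54) (t63) (c * t37 * t47 * t56 + c * t48 * t56 + t64) (c * t37 * t41 * t46 + t55) (c * t41 * t46 * t56 + t65) (c * t37 * t43 * t46 * t56 + c * t37 * t46 * t58 + c * t37 * t47 * t57 + c * t37 * t50 * t56 + c * t62 + c ^ 2 * t37 * t46 * t56 + t67) (c * t37 * t41 * t46 * t56 + c * t37 * t49 * t56 + t66) (c * t45 * t46 * t56 + c * t63 + t68) (c * t37 * t45 * t46 * t56 + t69)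 (c * t37 * t41 * t43 * t46 * t56 + c * t37 * t41 * t46 * t58 + c * t37 * t41 * t47 * t57 + c * t37 * t45 * t47 * t56 + c * t41 * t46 * t59 + c * t45 * t48 * t56 + c * t49 * t59 + c * t66 + t70) (c * t37 * t41 * t46 * t50 * t56 + c * t37 * t41 * t46 * t61 + c * t37 * t43 * t46 * t49 * t56 + c * t37 * t46 * t49 * t58 + c * t37 * t47 * t49 * t57 + c * t37 * t47 * t52 * t56 + c * t37 * t49 * t50 * t56 + c * t41 * t46 * t51 * t56 + c * t41 * t46 * t62 + c * t48 * t52 * t56 + c * t49 * t62 + c ^ 2 * t37 * t46 * t49 * t56 + t71) := by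
    rw [R.ucj43]
    congr 1 <;> (first | rfl | ring1 | (rw [← sub_eq_zero]; ring_nf; simp only [h2, h4, h6, h8, h10, h12, h14, h16, h18, h20, h22, h24, h26, h28, h30, h32, mul_zero, zero_mul, add_zero, zero_add, neg_zero, sub_zero, sub_self]))
  exact UP_cj D (D.xmem43 c) (R.inv43 c) e (ih _ _ _ _ _ _ _ _ _ _ _ _ _ _ _ _ _ _ _ _ _ _ _ _ _ _ _ _ _ _ _ hn37)

theorem e6s1_5 (D : UData R)
    (ih : ∀ (t37 t42 t46 t56 t43 t47 t57 t41 t50 t58 t45 t49 t51 t59 t61 t52 t53 t60 t62 t54 t63 t64 t55 t65 t67 t66 t68 t69 t70 t71 : K), t37 ≠ 0 → UP D (R.RNF (0) (t37) (0) (t42) (t46) (t56) (0) (0) (t43) (t47) (t57) (t41) (0) (0) (t50) (t58) (t45) (t49) (t51) (t59) (t61) (t52) (t53) (t60) (t62) (t54) (t63) (t64) (t55) (t65) (t67) (t66) (t68) (t69) (t70) (t71))) :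
    ∀ (t37 t42 t46 t56 t43 t47 t57 t41 t48 t50 t58 t45 t49 t51 t59 t61 t52 t53 t60 t62 t54 t63 t64 t55 t65 t67 t66 t68 t69 t70 t71 : K), t37 ≠ 0 → UP D (R.RNF (0) (t37) (0) (t42) (t46) (t56) (0) (0) (t43) (t47) (t57) (t41) (0) (t48) (t50) (t58) (t45) (t49) (t51) (t59) (t61) (t52) (t53) (t60) (t62) (t54) (t63) (t64) (t55) (t65) (t67) (t66) (t68) (t69) (t70) (t71)) := by
  intro t37 t42 t46 t56 t43 t47 t57 t41 t48 t50 t58 t45 t49 t51 t59 t61 t52 t53 t60 t62 t54 t63 t64 t55 t65 t67 t66 t68 t69 t70 t71 hn37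
  have h2 : (2 : K) = 0 := CharTwo.two_eq_zero
  have h4 : (4 : K) = 0 := by linear_combination 2 * h2
  have h6 : (6 : K) = 0 := by linear_combination 3 * h2
  have h8 : (8 : K) = 0 := by linear_combination 4 * h2
  have h10 : (10 : K) = 0 := by linear_combination 5 * h2
  have h12 : (12 : K) = 0 := by linear_combination 6 * h2
  have h14 : (14 : K) = 0 := by linear_combination 7 * h2
  have h16 : (16 : K) = 0 := by linear_combination 8 * h2
  have h18 : (18 : K) = 0 := by linear_combination 9 * h2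
  have h20 : (20 : K) = 0 := by linear_combination 10 * h2
  have h22 : (22 : K) = 0 := by linear_combination 11 * h2
  have h24 : (24 : K) = 0 := by linear_combination 12 * h2
  have h26 : (26 : K) = 0 := by linear_combination 13 * h2
  have h28 : (28 : K) = 0 := by linear_combination 14 * h2
  have h30 : (30 : K) = 0 := by linear_combination 15 * h2
  have h32 : (32 : K) = 0 := by linear_combination 16 * h2
  obtain ⟨c, rfl⟩ : ∃ c, t48 = c * t37 := ⟨t48 / t37, by field_simp⟩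
  have e : R.X47 c * R.RNF (0) (t37) (0) (t42) (t46) (t56) (0) (0) (t43) (t47) (t57) (t41) (0) (c * t37) (t50) (t58) (t45) (t49) (t51) (t59) (t61) (t52) (t53) (t60) (t62) (t54) (t63) (t64) (t55) (t65) (t67) (t66) (t68) (t69) (t70) (t71) * R.X47 c =
      R.RNF (0) (t37) (0) (t42) (t46) (t56) (0) (0) (t43) (t47) (t57) (t41) (0) (0) (c * t42 + t50) (t58) (t45) (t49) (c * t37 * t42 + t51) (t59) (c * t42 * t56 + c * t57 + t61) (t52) (c * t37 * t43 + t53) (t60) (c * t37 * t42 * t56 + c * t37 * t57 + t62) (c * t41 * t42 + c * t45 + t54) (t63) (c * t59 + t64) (c * t37 * t41 * t42 + t55) (c * t41 * t42 * t56 + c * t41 * t57 + c * t60 + t65) (c * t37 * t42 * t43 * t56 + c * t37 * t42 * t58 + c * t37 * t43 * t57 + t67) (c * t37 * t41 * t42 * t56 + c * t37 * t41 * t57 + t66) (c * t42 * t45 * t56 + c * t45 * t57 + t68) (c * t37 * t42 * t45 * t56 + c * t37 * t45 * t57 + t69) (c * t37 * t41 * t42 * t43 * t56 + c * t37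 * t41 * t42 * t58 + c * t37 * t41 * t43 * t57 + c * t41 * t42 * t59 + c * t45 * t59 + t70) (c * t37 * t41 * t42 * t50 * t56 + c * t37 * t41 * t42 * t61 + c * t37 * t41 * t50 * t57 + c * t37 * t42 * t43 * t49 * t56 + c * t37 * t42 * t49 * t58 + c * t37 * t43 * t49 * t57 + c * t41 * t42 * t51 * t56 + c * t41 * t42 * t62 + c * t41 * t51 * t57 + c * t45 * t62 + c * t52 * t59 + c * t69 + t71) := by
    rw [R.ucj47]
    congr 1 <;> (first | rfl | ring1 | (rw [← sub_eq_zero]; ring_nf; simp only [h2, h4, h6, h8, h10, h12, h14, h16, h18, h20, h22, h24, h26, h28, h30, h32, mul_zero, zero_mul, add_zero, zero_add, neg_zero, sub_zero, sub_self]))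
  exact UP_cj D (D.xmem47 c) (R.inv47 c) e (ih _ _ _ _ _ _ _ _ _ _ _ _ _ _ _ _ _ _ _ _ _ _ _ _ _ _ _ _ _ _ hn37)

theorem e6s1_6 (D : UData R)
    (ih : ∀ (t37 t42 t46 t56 t43 t47 t57 t41 t50 t58 t45 t49 t59 t61 t52 t53 t60 t62 t54 t63 t64 t55 t65 t67 t66 t68 t69 t70 t71 : K), t37 ≠ 0 → UP D (R.RNF (0) (t37) (0) (t42) (t46) (t56) (0) (0) (t43) (t47) (t57) (t41) (0) (0) (t50) (t58) (t45) (t49) (0) (t59) (t61) (t52) (t53) (t60) (t62) (t54) (t63) (t64) (t55) (t65) (t67) (t66) (t68) (t69) (t70) (t71))) :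
    ∀ (t37 t42 t46 t56 t43 t47 t57 t41 t50 t58 t45 t49 t51 t59 t61 t52 t53 t60 t62 t54 t63 t64 t55 t65 t67 t66 t68 t69 t70 t71 : K), t37 ≠ 0 → UP D (R.RNF (0) (t37) (0) (t42) (t46) (t56) (0) (0) (t43) (t47) (t57) (t41) (0) (0) (t50) (t58) (t45) (t49) (t51) (t59) (t61) (t52) (t53) (t60) (t62) (t54) (t63) (t64) (t55) (t65) (t67) (t66) (t68) (t69) (t70) (t71)) := by
  intro t37 t42 t46 t56 t43 t47 t57 t41 t50 t58 t45 t49 t51 t59 t61 t52 t53 t60 t62 t54 t63 t64 t55 t65 t67 t66 t68 t69 t70 t71 hn37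
  have h2 : (2 : K) = 0 := CharTwo.two_eq_zero
  have h4 : (4 : K) = 0 := by linear_combination 2 * h2
  have h6 : (6 : K) = 0 := by linear_combination 3 * h2
  have h8 : (8 : K) = 0 := by linear_combination 4 * h2
  have h10 : (10 : K) = 0 := by linear_combination 5 * h2
  have h12 : (12 : K) = 0 := by linear_combination 6 * h2
  have h14 : (14 : K) = 0 := by linear_combination 7 * h2
  have h16 : (16 : K) = 0 := by linear_combination 8 * h2
  have h18 : (18 : K) = 0 := by linear_combination 9 * h2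
  have h20 : (20 : K) = 0 := by linear_combination 10 * h2
  have h22 : (22 : K) = 0 := by linear_combination 11 * h2
  have h24 : (24 : K) = 0 := by linear_combination 12 * h2
  have h26 : (26 : K) = 0 := by linear_combination 13 * h2
  have h28 : (28 : K) = 0 := by linear_combination 14 * h2
  have h30 : (30 : K) = 0 := by linear_combination 15 * h2
  have h32 : (32 : K) = 0 := by linear_combination 16 * h2
  obtain ⟨c, rfl⟩ : ∃ c, t51 = c * t37 := ⟨t51 / t37, by field_simp⟩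
  have e : R.X50 c * R.RNF (0) (t37) (0) (t42) (t46) (t56) (0) (0) (t43) (t47) (t57) (t41) (0) (0) (t50) (t58) (t45) (t49) (c * t37) (t59) (t61) (t52) (t53) (t60) (t62) (t54) (t63) (t64) (t55) (t65) (t67) (t66) (t68) (t69) (t70) (t71) * R.X50 c =
      R.RNF (0) (t37) (0) (t42) (t46) (t56) (0) (0) (t43) (t47) (t57) (t41) (0) (0) (t50) (t58) (t45) (t49) (0) (t59) (c * t56 + t61) (t52) (t53) (t60) (c * t37 * t56 + t62) (c * t41 + t54) (t63) (t64) (c * t37 * t41 + t55) (c * t41 * t56 + t65) (c * t37 * t43 * t56 + c * t37 * t58 + c * t59 + t67) (c * t37 * t41 * t56 + t66) (c * t45 * t56 + c * t60 + t68) (c * t37 * t45 * t56 + t69) (c * t37 * t41 * t43 * t56 + c * t37 * t41 * t58 + c * t41 * t59 + t70) (c * t37 * t41 * t50 * t56 + c * t37 * t41 * t61 + c * t37 * t43 * t49 * t56 + c * t37 * t49 * t58 + c * t41 * t62 + c * t66 + t71) := by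
    rw [R.ucj50]
    congr 1 <;> (first | rfl | ring1 | (rw [← sub_eq_zero]; ring_nf; simp only [h2, h4, h6, h8, h10, h12, h14, h16, h18, h20, h22, h24, h26, h28, h30, h32, mul_zero, zero_mul, add_zero, zero_add, neg_zero, sub_zero, sub_self]))
  exact UP_cj D (D.xmem50 c) (R.inv50 c) e (ih _ _ _ _ _ _ _ _ _ _ _ _ _ _ _ _ _ _ _ _ _ _ _ _ _ _ _ _ _ hn37)

theorem e6s1_7 (D : UData R)
    (ih : ∀ (t37 t42 t46 t56 t43 t47 t57 t41 t50 t58 t45 t49 t61 t52 t53 t60 t62 t54 t63 t64 t55 t65 t67 t66 t68 t69 t70 t71 : K), t37 ≠ 0 → UP D (R.RNF (0) (t37) (0) (t42) (t46) (t56) (0) (0) (t43) (t47) (t57) (t41) (0) (0) (t50) (t58) (t45) (t49) (0) (0) (t61) (t52) (t53) (t60) (t62) (t54) (t63) (t64) (t55) (t65) (t67) (t66) (t68) (t69) (t70) (t71))) :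
    ∀ (t37 t42 t46 t56 t43 t47 t57 t41 t50 t58 t45 t49 t59 t61 t52 t53 t60 t62 t54 t63 t64 t55 t65 t67 t66 t68 t69 t70 t71 : K), t37 ≠ 0 → UP D (R.RNF (0) (t37) (0) (t42) (t46) (t56) (0) (0) (t43) (t47) (t57) (t41) (0) (0) (t50) (t58) (t45) (t49) (0) (t59) (t61) (t52) (t53) (t60) (t62) (t54) (t63) (t64) (t55) (t65) (t67) (t66) (t68) (t69) (t70) (t71)) := by
  intro t37 t42 t46 t56 t43 t47 t57 t41 t50 t58 t45 t49 t59 t61 t52 t53 t60 t62 t54 t63 t64 t55 t65 t67 t66 t68 t69 t70 t71 hn37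
  have h2 : (2 : K) = 0 := CharTwo.two_eq_zero
  have h4 : (4 : K) = 0 := by linear_combination 2 * h2
  have h6 : (6 : K) = 0 := by linear_combination 3 * h2
  have h8 : (8 : K) = 0 := by linear_combination 4 * h2
  have h10 : (10 : K) = 0 := by linear_combination 5 * h2
  have h12 : (12 : K) = 0 := by linear_combination 6 * h2
  have h14 : (14 : K) = 0 := by linear_combination 7 * h2
  have h16 : (16 : K) = 0 := by linear_combination 8 * h2
  have h18 : (18 : K) = 0 := by linear_combination 9 * h2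
  have h20 : (20 : K) = 0 := by linear_combination 10 * h2
  have h22 : (22 : K) = 0 := by linear_combination 11 * h2
  have h24 : (24 : K) = 0 := by linear_combination 12 * h2
  have h26 : (26 : K) = 0 := by linear_combination 13 * h2
  have h28 : (28 : K) = 0 := by linear_combination 14 * h2
  have h30 : (30 : K) = 0 := by linear_combination 15 * h2
  have h32 : (32 : K) = 0 := by linear_combination 16 * h2
  obtain ⟨c, rfl⟩ : ∃ c, t59 = c * t37 := ⟨t59 / t37, by field_simp⟩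
  have e : R.X58 c * R.RNF (0) (t37) (0) (t42) (t46) (t56) (0) (0) (t43) (t47) (t57) (t41) (0) (0) (t50) (t58) (t45) (t49) (0) (c * t37) (t61) (t52) (t53) (t60) (t62) (t54) (t63) (t64) (t55) (t65) (t67) (t66) (t68) (t69) (t70) (t71) * R.X58 c =
      R.RNF (0) (t37) (0) (t42) (t46) (t56) (0) (0) (t43) (t47) (t57) (t41) (0) (0) (t50) (t58) (t45) (t49) (0) (0) (c * t46 + t61) (t52) (t53) (t60) (c * t37 * t46 + t62) (t54) (t63) (c * t37 * t47 + t64) (t55) (c * t41 * t46 + c * t49 + t65) (c * t37 * t43 * t46 + c * t37 * t50 + t67) (c * t37 * t41 * t46 + c * t37 * t49 + t66) (c * t45 * t46 + c * t52 + t68) (c * t37 * t45 * t46 + t69) (c * t37 * t41 * t43 * t46 + c * t37 * t45 * t47 + c * t55 + t70) (c * t37 * t41 * t46 * t50 + c * t37 * t43 * t46 * t49 + c * t37 * t47 * t52 + c * t37 * t49 * t50 + t71) := by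
    rw [R.ucj58]
    congr 1 <;> (first | rfl | ring1 | (rw [← sub_eq_zero]; ring_nf; simp only [h2, h4, h6, h8, h10, h12, h14, h16, h18, h20, h22, h24, h26, h28, h30, h32, mul_zero, zero_mul, add_zero, zero_add, neg_zero, sub_zero, sub_self]))
  exact UP_cj D (D.xmem58 c) (R.inv58 c) e (ih _ _ _ _ _ _ _ _ _ _ _ _ _ _ _ _ _ _ _ _ _ _ _ _ _ _ _ _ hn37)

theorem e6s1_8 (D : UData R)
    (ih : ∀ (t37 t42 t46 t56 t43 t47 t57 t41 t50 t58 t45 t49 t61 t52 t53 t60 t54 t63 t64 t55 t65 t67 t66 t68 t69 t70 t71 : K), t37 ≠ 0 → UP D (R.RNF (0) (t37) (0) (t42) (t46) (t56) (0) (0) (t43) (t47) (t57) (t41) (0) (0) (t50) (t58) (t45) (t49) (0) (0) (t61) (t52) (t53) (t60) (0) (t54) (t63) (t64) (t55) (t65) (t67) (t66) (t68) (t69) (t70) (t71))) :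
    ∀ (t37 t42 t46 t56 t43 t47 t57 t41 t50 t58 t45 t49 t61 t52 t53 t60 t62 t54 t63 t64 t55 t65 t67 t66 t68 t69 t70 t71 : K), t37 ≠ 0 → UP D (R.RNF (0) (t37) (0) (t42) (t46) (t56) (0) (0) (t43) (t47) (t57) (t41) (0) (0) (t50) (t58) (t45) (t49) (0) (0) (t61) (t52) (t53) (t60) (t62) (t54) (t63) (t64) (t55) (t65) (t67) (t66) (t68) (t69) (t70) (t71)) := by
  intro t37 t42 t46 t56 t43 t47 t57 t41 t50 t58 t45 t49 t61 t52 t53 t60 t62 t54 t63 t64 t55 t65 t67 t66 t68 t69 t70 t71 hn37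
  have h2 : (2 : K) = 0 := CharTwo.two_eq_zero
  have h4 : (4 : K) = 0 := by linear_combination 2 * h2
  have h6 : (6 : K) = 0 := by linear_combination 3 * h2
  have h8 : (8 : K) = 0 := by linear_combination 4 * h2
  have h10 : (10 : K) = 0 := by linear_combination 5 * h2
  have h12 : (12 : K) = 0 := by linear_combination 6 * h2
  have h14 : (14 : K) = 0 := by linear_combination 7 * h2
  have h16 : (16 : K) = 0 := by linear_combination 8 * h2
  have h18 : (18 : K) = 0 := by linear_combination 9 * h2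
  have h20 : (20 : K) = 0 := by linear_combination 10 * h2
  have h22 : (22 : K) = 0 := by linear_combination 11 * h2
  have h24 : (24 : K) = 0 := by linear_combination 12 * h2
  have h26 : (26 : K) = 0 := by linear_combination 13 * h2
  have h28 : (28 : K) = 0 := by linear_combination 14 * h2
  have h30 : (30 : K) = 0 := by linear_combination 15 * h2
  have h32 : (32 : K) = 0 := by linear_combination 16 * h2
  obtain ⟨c, rfl⟩ : ∃ c, t62 = c * t37 := ⟨t62 / t37, by field_simp⟩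
  have e : R.X61 c * R.RNF (0) (t37) (0) (t42) (t46) (t56) (0) (0) (t43) (t47) (t57) (t41) (0) (0) (t50) (t58) (t45) (t49) (0) (0) (t61) (t52) (t53) (t60) (c * t37) (t54) (t63) (t64) (t55) (t65) (t67) (t66) (t68) (t69) (t70) (t71) * R.X61 c =
      R.RNF (0) (t37) (0) (t42) (t46) (t56) (0) (0) (t43) (t47) (t57) (t41) (0) (0) (t50) (t58) (t45) (t49) (0) (0) (t61) (t52) (t53) (t60) (0) (t54) (t63) (t64) (t55) (c * t41 + t65) (c * t37 * t43 + t67) (c * t37 * t41 + t66) (c * t45 + t68) (c * t37 * t45 + t69) (c * t37 * t41 * t43 + t70) (c * t37 * t41 * t50 + c * t37 * t43 * t49 + c * t55 + t71) := by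
    rw [R.ucj61]
    congr 1 <;> (first | rfl | ring1 | (rw [← sub_eq_zero]; ring_nf; simp only [h2, h4, h6, h8, h10, h12, h14, h16, h18, h20, h22, h24, h26, h28, h30, h32, mul_zero, zero_mul, add_zero, zero_add, neg_zero, sub_zero, sub_self]))
  exact UP_cj D (D.xmem61 c) (R.inv61 c) e (ih _ _ _ _ _ _ _ _ _ _ _ _ _ _ _ _ _ _ _ _ _ _ _ _ _ _ _ hn37)

theorem e6s1_9 (D : UData R)
    (ih : ∀ (t37 t42 t46 t56 t43 t47 t57 t41 t50 t58 t45 t49 t61 t52 t53 t60 t54 t63 t64 t65 t67 t66 t68 t69 t70 t71 : K), t37 ≠ 0 → UP D (R.RNF (0) (t37) (0) (t42) (t46) (t56) (0) (0) (t43) (t47) (t57) (t41) (0) (0) (t50) (t58) (t45) (t49) (0) (0) (t61) (t52) (t53) (t60) (0) (t54) (t63) (t64) (0) (t65) (t67) (t66) (t68) (t69) (t70) (t71))) :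
    ∀ (t37 t42 t46 t56 t43 t47 t57 t41 t50 t58 t45 t49 t61 t52 t53 t60 t54 t63 t64 t55 t65 t67 t66 t68 t69 t70 t71 : K), t37 ≠ 0 → UP D (R.RNF (0) (t37) (0) (t42) (t46) (t56) (0) (0) (t43) (t47) (t57) (t41) (0) (0) (t50) (t58) (t45) (t49) (0) (0) (t61) (t52) (t53) (t60) (0) (t54) (t63) (t64) (t55) (t65) (t67) (t66) (t68) (t69) (t70) (t71)) := by
  intro t37 t42 t46 t56 t43 t47 t57 t41 t50 t58 t45 t49 t61 t52 t53 t60 t54 t63 t64 t55 t65 t67 t66 t68 t69 t70 t71 hn37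
  have h2 : (2 : K) = 0 := CharTwo.two_eq_zero
  have h4 : (4 : K) = 0 := by linear_combination 2 * h2
  have h6 : (6 : K) = 0 := by linear_combination 3 * h2
  have h8 : (8 : K) = 0 := by linear_combination 4 * h2
  have h10 : (10 : K) = 0 := by linear_combination 5 * h2
  have h12 : (12 : K) = 0 := by linear_combination 6 * h2
  have h14 : (14 : K) = 0 := by linear_combination 7 * h2
  have h16 : (16 : K) = 0 := by linear_combination 8 * h2
  have h18 : (18 : K) = 0 := by linear_combination 9 * h2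
  have h20 : (20 : K) = 0 := by linear_combination 10 * h2
  have h22 : (22 : K) = 0 := by linear_combination 11 * h2
  have h24 : (24 : K) = 0 := by linear_combination 12 * h2
  have h26 : (26 : K) = 0 := by linear_combination 13 * h2
  have h28 : (28 : K) = 0 := by linear_combination 14 * h2
  have h30 : (30 : K) = 0 := by linear_combination 15 * h2
  have h32 : (32 : K) = 0 := by linear_combination 16 * h2
  obtain ⟨c, rfl⟩ : ∃ c, t55 = c * t37 := ⟨t55 / t37, by field_simp⟩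
  have e : R.X54 c * R.RNF (0) (t37) (0) (t42) (t46) (t56) (0) (0) (t43) (t47) (t57) (t41) (0) (0) (t50) (t58) (t45) (t49) (0) (0) (t61) (t52) (t53) (t60) (0) (t54) (t63) (t64) (c * t37) (t65) (t67) (t66) (t68) (t69) (t70) (t71) * R.X54 c =
      R.RNF (0) (t37) (0) (t42) (t46) (t56) (0) (0) (t43) (t47) (t57) (t41) (0) (0) (t50) (t58) (t45) (t49) (0) (0) (t61) (t52) (t53) (t60) (0) (t54) (t63) (t64) (0) (c * t56 + t65) (t67) (c * t37 * t56 + t66) (c * t57 + t68) (c * t37 * t57 + t69) (c * t37 * t43 * t56 + c * t37 * t58 + t70) (c * t37 * t50 * t56 + c * t37 * t61 + t71) := by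
    rw [R.ucj54]
    congr 1 <;> (first | rfl | ring1 | (rw [← sub_eq_zero]; ring_nf; simp only [h2, h4, h6, h8, h10, h12, h14, h16, h18, h20, h22, h24, h26, h28, h30, h32, mul_zero, zero_mul, add_zero, zero_add, neg_zero, sub_zero, sub_self]))
  exact UP_cj D (D.xmem54 c) (R.inv54 c) e (ih _ _ _ _ _ _ _ _ _ _ _ _ _ _ _ _ _ _ _ _ _ _ _ _ _ _ hn37)

theorem e6s1_10 (D : UData R)
    (ih : ∀ (t37 t42 t46 t56 t43 t47 t57 t41 t50 t58 t45 t49 t61 t52 t53 t60 t54 t63 t64 t65 t67 t68 t69 t70 t71 : K), t37 ≠ 0 → UP D (R.RNF (0) (t37) (0) (t42) (t46) (t56) (0) (0) (t43) (t47) (t57) (t41) (0) (0) (t50) (t58) (t45) (t49) (0) (0) (t61) (t52) (t53) (t60) (0) (t54) (t63) (t64) (0) (t65) (t67) (0) (t68) (t69) (t70) (t71))) :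
    ∀ (t37 t42 t46 t56 t43 t47 t57 t41 t50 t58 t45 t49 t61 t52 t53 t60 t54 t63 t64 t65 t67 t66 t68 t69 t70 t71 : K), t37 ≠ 0 → UP D (R.RNF (0) (t37) (0) (t42) (t46) (t56) (0) (0) (t43) (t47) (t57) (t41) (0) (0) (t50) (t58) (t45) (t49) (0) (0) (t61) (t52) (t53) (t60) (0) (t54) (t63) (t64) (0) (t65) (t67) (t66) (t68) (t69) (t70) (t71)) := by
  intro t37 t42 t46 t56 t43 t47 t57 t41 t50 t58 t45 t49 t61 t52 t53 t60 t54 t63 t64 t65 t67 t66 t68 t69 t70 t71 hn37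
  have h2 : (2 : K) = 0 := CharTwo.two_eq_zero
  have h4 : (4 : K) = 0 := by linear_combination 2 * h2
  have h6 : (6 : K) = 0 := by linear_combination 3 * h2
  have h8 : (8 : K) = 0 := by linear_combination 4 * h2
  have h10 : (10 : K) = 0 := by linear_combination 5 * h2
  have h12 : (12 : K) = 0 := by linear_combination 6 * h2
  have h14 : (14 : K) = 0 := by linear_combination 7 * h2
  have h16 : (16 : K) = 0 := by linear_combination 8 * h2
  have h18 : (18 : K) = 0 := by linear_combination 9 * h2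
  have h20 : (20 : K) = 0 := by linear_combination 10 * h2
  have h22 : (22 : K) = 0 := by linear_combination 11 * h2
  have h24 : (24 : K) = 0 := by linear_combination 12 * h2
  have h26 : (26 : K) = 0 := by linear_combination 13 * h2
  have h28 : (28 : K) = 0 := by linear_combination 14 * h2
  have h30 : (30 : K) = 0 := by linear_combination 15 * h2
  have h32 : (32 : K) = 0 := by linear_combination 16 * h2
  obtain ⟨c, rfl⟩ : ∃ c, t66 = c * t37 := ⟨t66 / t37, by field_simp⟩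
  have e : R.X65 c * R.RNF (0) (t37) (0) (t42) (t46) (t56) (0) (0) (t43) (t47) (t57) (t41) (0) (0) (t50) (t58) (t45) (t49) (0) (0) (t61) (t52) (t53) (t60) (0) (t54) (t63) (t64) (0) (t65) (t67) (c * t37) (t68) (t69) (t70) (t71) * R.X65 c =
      R.RNF (0) (t37) (0) (t42) (t46) (t56) (0) (0) (t43) (t47) (t57) (t41) (0) (0) (t50) (t58) (t45) (t49) (0) (0) (t61) (t52) (t53) (t60) (0) (t54) (t63) (t64) (0) (t65) (t67) (0) (c * t42 + t68) (c * t37 * t42 + t69) (c * t37 * t43 + t70) (c * t37 * t42 * t47 + c * t37 * t50 + t71) := by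
    rw [R.ucj65]
    congr 1 <;> (first | rfl | ring1 | (rw [← sub_eq_zero]; ring_nf; simp only [h2, h4, h6, h8, h10, h12, h14, h16, h18, h20, h22, h24, h26, h28, h30, h32, mul_zero, zero_mul, add_zero, zero_add, neg_zero, sub_zero, sub_self]))
  exact UP_cj D (D.xmem65 c) (R.inv65 c) e (ih _ _ _ _ _ _ _ _ _ _ _ _ _ _ _ _ _ _ _ _ _ _ _ _ _ hn37)

theorem e6s1_11 (D : UData R)
    (ih : ∀ (t37 t42 t46 t56 t43 t47 t57 t41 t50 t58 t45 t49 t61 t52 t53 t60 t54 t63 t64 t65 t67 t68 t70 t71 : K), t37 ≠ 0 → UP D (R.RNF (0) (t37) (0) (t42) (t46) (t56) (0) (0) (t43) (t47) (t57) (t41) (0) (0) (t50) (t58) (t45) (t49) (0) (0) (t61) (t52) (t53) (t60) (0) (t54) (t63) (t64) (0) (t65) (t67) (0) (t68) (0) (t70) (t71))) :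
    ∀ (t37 t42 t46 t56 t43 t47 t57 t41 t50 t58 t45 t49 t61 t52 t53 t60 t54 t63 t64 t65 t67 t68 t69 t70 t71 : K), t37 ≠ 0 → UP D (R.RNF (0) (t37) (0) (t42) (t46) (t56) (0) (0) (t43) (t47) (t57) (t41) (0) (0) (t50) (t58) (t45) (t49) (0) (0) (t61) (t52) (t53) (t60) (0) (t54) (t63) (t64) (0) (t65) (t67) (0) (t68) (t69) (t70) (t71)) := by
  intro t37 t42 t46 t56 t43 t47 t57 t41 t50 t58 t45 t49 t61 t52 t53 t60 t54 t63 t64 t65 t67 t68 t69 t70 t71 hn37
  have h2 : (2 : K) = 0 := CharTwo.two_eq_zero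
  have h4 : (4 : K) = 0 := by linear_combination 2 * h2
  have h6 : (6 : K) = 0 := by linear_combination 3 * h2
  have h8 : (8 : K) = 0 := by linear_combination 4 * h2
  have h10 : (10 : K) = 0 := by linear_combination 5 * h2
  have h12 : (12 : K) = 0 := by linear_combination 6 * h2
  have h14 : (14 : K) = 0 := by linear_combination 7 * h2
  have h16 : (16 : K) = 0 := by linear_combination 8 * h2
  have h18 : (18 : K) = 0 := by linear_combination 9 * h2
  have h20 : (20 : K) = 0 := by linear_combination 10 * h2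
  have h22 : (22 : K) = 0 := by linear_combination 11 * h2
  have h24 : (24 : K) = 0 := by linear_combination 12 * h2
  have h26 : (26 : K) = 0 := by linear_combination 13 * h2
  have h28 : (28 : K) = 0 := by linear_combination 14 * h2
  have h30 : (30 : K) = 0 := by linear_combination 15 * h2
  have h32 : (32 : K) = 0 := by linear_combination 16 * h2
  obtain ⟨c, rfl⟩ : ∃ c, t69 = c * t37 := ⟨t69 / t37, by field_simp⟩
  have e : R.X68 c * R.RNF (0) (t37) (0) (t42) (t46) (t56) (0) (0) (t43) (t47) (t57) (t41) (0) (0) (t50) (t58) (t45) (t49) (0) (0) (t61) (t52) (t53) (t60) (0) (t54) (t63) (t64) (0) (t65) (t67) (0) (t68) (c * t37) (t70) (t71) * R.X68 c =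
      R.RNF (0) (t37) (0) (t42) (t46) (t56) (0) (0) (t43) (t47) (t57) (t41) (0) (0) (t50) (t58) (t45) (t49) (0) (0) (t61) (t52) (t53) (t60) (0) (t54) (t63) (t64) (0) (t65) (t67) (0) (t68) (0) (t70) (c * t37 * t47 + t71) := by
    rw [R.ucj68]
    congr 1 <;> (first | rfl | ring1 | (rw [← sub_eq_zero]; ring_nf; simp only [h2, h4, h6, h8, h10, h12, h14, h16, h18, h20, h22, h24, h26, h28, h30, h32, mul_zero, zero_mul, add_zero, zero_add, neg_zero, sub_zero, sub_self]))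
  exact UP_cj D (D.xmem68 c) (R.inv68 c) e (ih _ _ _ _ _ _ _ _ _ _ _ _ _ _ _ _ _ _ _ _ _ _ _ _ hn37)

theorem e6s1_12 (D : UData R)
    (ih : ∀ (t37 t42 t46 t56 t47 t57 t41 t50 t58 t45 t49 t61 t52 t53 t60 t54 t63 t64 t65 t67 t68 t70 t71 : K), t37 ≠ 0 → UP D (R.RNF (0) (t37) (0) (t42) (t46) (t56) (0) (0) (0) (t47) (t57) (t41) (0) (0) (t50) (t58) (t45) (t49) (0) (0) (t61) (t52) (t53) (t60) (0) (t54) (t63) (t64) (0) (t65) (t67) (0) (t68) (0) (t70) (t71))) :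
    ∀ (t37 t42 t46 t56 t43 t47 t57 t41 t50 t58 t45 t49 t61 t52 t53 t60 t54 t63 t64 t65 t67 t68 t70 t71 : K), t37 ≠ 0 → UP D (R.RNF (0) (t37) (0) (t42) (t46) (t56) (0) (0) (t43) (t47) (t57) (t41) (0) (0) (t50) (t58) (t45) (t49) (0) (0) (t61) (t52) (t53) (t60) (0) (t54) (t63) (t64) (0) (t65) (t67) (0) (t68) (0) (t70) (t71)) := by
  intro t37 t42 t46 t56 t43 t47 t57 t41 t50 t58 t45 t49 t61 t52 t53 t60 t54 t63 t64 t65 t67 t68 t70 t71 hn37 hu hne
  have hsq := hu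
  rw [R.usq] at hsq
  obtain ⟨e36, e37, e39, e42, e46, e56, e38, e40, e43, e47, e57, e41, e44, e48, e50, e58, e45, e49, e51, e59, e61, e52, e53, e60, e62, e54, e63, e64, e55, e65, e67, e66, e68, e69, e70, e71⟩ := D.inj _ _ _ _ _ _ _ _ _ _ _ _ _ _ _ _ _ _ _ _ _ _ _ _ _ _ _ _ _ _ _ _ _ _ _ _ hsq
  have hz : t43 = 0 := by
    have h : t37 * t43 = 0 := by linear_combination e44
    exact (mul_eq_zero.mp h).resolve_left hn37
  subst hz
  exact ih _ _ _ _ _ _ _ _ _ _ _ _ _ _ _ _ _ _ _ _ _ _ _ hn37 hu hne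

theorem e6s1_13 (D : UData R)
    (ih : ∀ (t37 t42 t46 t56 t57 t41 t50 t58 t45 t49 t61 t52 t53 t60 t54 t63 t64 t65 t67 t68 t70 t71 : K), t37 ≠ 0 → UP D (R.RNF (0) (t37) (0) (t42) (t46) (t56) (0) (0) (0) (0) (t57) (t41) (0) (0) (t50) (t58) (t45) (t49) (0) (0) (t61) (t52) (t53) (t60) (0) (t54) (t63) (t64) (0) (t65) (t67) (0) (t68) (0) (t70) (t71))) :
    ∀ (t37 t42 t46 t56 t47 t57 t41 t50 t58 t45 t49 t61 t52 t53 t60 t54 t63 t64 t65 t67 t68 t70 t71 : K), t37 ≠ 0 → UP D (R.RNF (0) (t37) (0) (t42) (t46) (t56) (0) (0) (0) (t47) (t57) (t41) (0) (0) (t50) (t58) (t45) (t49) (0) (0) (t61) (t52) (t53) (t60) (0) (t54) (t63) (t64) (0) (t65) (t67) (0) (t68) (0) (t70) (t71)) := by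
  intro t37 t42 t46 t56 t47 t57 t41 t50 t58 t45 t49 t61 t52 t53 t60 t54 t63 t64 t65 t67 t68 t70 t71 hn37 hu hne
  have hsq := hu
  rw [R.usq] at hsq
  obtain ⟨e36, e37, e39, e42, e46, e56, e38, e40, e43, e47, e57, e41, e44, e48, e50, e58, e45, e49, e51, e59, e61, e52, e53, e60, e62, e54, e63, e64, e55, e65, e67, e66, e68, e69, e70, e71⟩ := D.inj _ _ _ _ _ _ _ _ _ _ _ _ _ _ _ _ _ _ _ _ _ _ _ _ _ _ _ _ _ _ _ _ _ _ _ _ hsq
  have hz : t47 = 0 := by
    have h : t37 * t47 = 0 := by linear_combination e48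
    exact (mul_eq_zero.mp h).resolve_left hn37
  subst hz
  exact ih _ _ _ _ _ _ _ _ _ _ _ _ _ _ _ _ _ _ _ _ _ _ hn37 hu hne

theorem e6s1_14 (D : UData R)
    (ih : ∀ (t37 t42 t46 t56 t57 t41 t58 t45 t49 t61 t52 t53 t60 t54 t63 t64 t65 t67 t68 t70 t71 : K), t37 ≠ 0 → UP D (R.RNF (0) (t37) (0) (t42) (t46) (t56) (0) (0) (0) (0) (t57) (t41) (0) (0) (0) (t58) (t45) (t49) (0) (0) (t61) (t52) (t53) (t60) (0) (t54) (t63) (t64) (0) (t65) (t67) (0) (t68) (0) (t70) (t71))) :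
    ∀ (t37 t42 t46 t56 t57 t41 t50 t58 t45 t49 t61 t52 t53 t60 t54 t63 t64 t65 t67 t68 t70 t71 : K), t37 ≠ 0 → UP D (R.RNF (0) (t37) (0) (t42) (t46) (t56) (0) (0) (0) (0) (t57) (t41) (0) (0) (t50) (t58) (t45) (t49) (0) (0) (t61) (t52) (t53) (t60) (0) (t54) (t63) (t64) (0) (t65) (t67) (0) (t68) (0) (t70) (t71)) := by
  intro t37 t42 t46 t56 t57 t41 t50 t58 t45 t49 t61 t52 t53 t60 t54 t63 t64 t65 t67 t68 t70 t71 hn37 hu hne
  have hsq := hu
  rw [R.usq] at hsq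
  obtain ⟨e36, e37, e39, e42, e46, e56, e38, e40, e43, e47, e57, e41, e44, e48, e50, e58, e45, e49, e51, e59, e61, e52, e53, e60, e62, e54, e63, e64, e55, e65, e67, e66, e68, e69, e70, e71⟩ := D.inj _ _ _ _ _ _ _ _ _ _ _ _ _ _ _ _ _ _ _ _ _ _ _ _ _ _ _ _ _ _ _ _ _ _ _ _ hsq
  have hz : t50 = 0 := by
    have h : t37 * t50 = 0 := by linear_combination e51
    exact (mul_eq_zero.mp h).resolve_left hn37
  subst hz
  exact ih _ _ _ _ _ _ _ _ _ _ _ _ _ _ _ _ _ _ _ _ _ hn37 hu hne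

theorem e6s1_15 (D : UData R)
    (ih : ∀ (t37 t42 t46 t56 t57 t41 t45 t49 t61 t52 t53 t60 t54 t63 t64 t65 t67 t68 t70 t71 : K), t37 ≠ 0 → UP D (R.RNF (0) (t37) (0) (t42) (t46) (t56) (0) (0) (0) (0) (t57) (t41) (0) (0) (0) (0) (t45) (t49) (0) (0) (t61) (t52) (t53) (t60) (0) (t54) (t63) (t64) (0) (t65) (t67) (0) (t68) (0) (t70) (t71))) :
    ∀ (t37 t42 t46 t56 t57 t41 t58 t45 t49 t61 t52 t53 t60 t54 t63 t64 t65 t67 t68 t70 t71 : K), t37 ≠ 0 → UP D (R.RNF (0) (t37) (0) (t42) (t46) (t56) (0) (0) (0) (0) (t57) (t41) (0) (0) (0) (t58) (t45) (t49) (0) (0) (t61) (t52) (t53) (t60) (0) (t54) (t63) (t64) (0) (t65) (t67) (0) (t68) (0) (t70) (t71)) := by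
  intro t37 t42 t46 t56 t57 t41 t58 t45 t49 t61 t52 t53 t60 t54 t63 t64 t65 t67 t68 t70 t71 hn37 hu hne
  have hsq := hu
  rw [R.usq] at hsq
  obtain ⟨e36, e37, e39, e42, e46, e56, e38, e40, e43, e47, e57, e41, e44, e48, e50, e58, e45, e49, e51, e59, e61, e52, e53, e60, e62, e54, e63, e64, e55, e65, e67, e66, e68, e69, e70, e71⟩ := D.inj _ _ _ _ _ _ _ _ _ _ _ _ _ _ _ _ _ _ _ _ _ _ _ _ _ _ _ _ _ _ _ _ _ _ _ _ hsq
  have hz : t58 = 0 := by
    have h : t37 * t58 = 0 := by linear_combination e59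
    exact (mul_eq_zero.mp h).resolve_left hn37
  subst hz
  exact ih _ _ _ _ _ _ _ _ _ _ _ _ _ _ _ _ _ _ _ _ hn37 hu hne

theorem e6s1_16 (D : UData R)
    (ih : ∀ (t37 t42 t46 t56 t57 t41 t45 t49 t52 t53 t60 t54 t63 t64 t65 t67 t68 t70 t71 : K), t37 ≠ 0 → UP D (R.RNF (0) (t37) (0) (t42) (t46) (t56) (0) (0) (0) (0) (t57) (t41) (0) (0) (0) (0) (t45) (t49) (0) (0) (0) (t52) (t53) (t60) (0) (t54) (t63) (t64) (0) (t65) (t67) (0) (t68) (0) (t70) (t71))) :
    ∀ (t37 t42 t46 t56 t57 t41 t45 t49 t61 t52 t53 t60 t54 t63 t64 t65 t67 t68 t70 t71 : K), t37 ≠ 0 → UP D (R.RNF (0) (t37) (0) (t42) (t46) (t56) (0) (0) (0) (0) (t57) (t41) (0) (0) (0) (0) (t45) (t49) (0) (0) (t61) (t52) (t53) (t60) (0) (t54) (t63) (t64) (0) (t65) (t67) (0) (t68) (0) (t70) (t71)) := by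
  intro t37 t42 t46 t56 t57 t41 t45 t49 t61 t52 t53 t60 t54 t63 t64 t65 t67 t68 t70 t71 hn37 hu hne
  have hsq := hu
  rw [R.usq] at hsq
  obtain ⟨e36, e37, e39, e42, e46, e56, e38, e40, e43, e47, e57, e41, e44, e48, e50, e58, e45, e49, e51, e59, e61, e52, e53, e60, e62, e54, e63, e64, e55, e65, e67, e66, e68, e69, e70, e71⟩ := D.inj _ _ _ _ _ _ _ _ _ _ _ _ _ _ _ _ _ _ _ _ _ _ _ _ _ _ _ _ _ _ _ _ _ _ _ _ hsq
  have hz : t61 = 0 := by
    have h : t37 * t61 = 0 := by linear_combination e62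
    exact (mul_eq_zero.mp h).resolve_left hn37
  subst hz
  exact ih _ _ _ _ _ _ _ _ _ _ _ _ _ _ _ _ _ _ _ hn37 hu hne

theorem e6s1_17 (D : UData R)
    (ih : ∀ (t37 t42 t46 t56 t57 t41 t45 t49 t52 t53 t60 t63 t64 t65 t67 t68 t70 t71 : K), t37 ≠ 0 → UP D (R.RNF (0) (t37) (0) (t42) (t46) (t56) (0) (0) (0) (0) (t57) (t41) (0) (0) (0) (0) (t45) (t49) (0) (0) (0) (t52) (t53) (t60) (0) (0) (t63) (t64) (0) (t65) (t67) (0) (t68) (0) (t70) (t71))) :
    ∀ (t37 t42 t46 t56 t57 t41 t45 t49 t52 t53 t60 t54 t63 t64 t65 t67 t68 t70 t71 : K), t37 ≠ 0 → UP D (R.RNF (0) (t37) (0) (t42) (t46) (t56) (0) (0) (0) (0) (t57) (t41) (0) (0) (0) (0) (t45) (t49) (0) (0) (0) (t52) (t53) (t60) (0) (t54) (t63) (t64) (0) (t65) (t67) (0) (t68) (0) (t70) (t71)) := by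
  intro t37 t42 t46 t56 t57 t41 t45 t49 t52 t53 t60 t54 t63 t64 t65 t67 t68 t70 t71 hn37 hu hne
  have hsq := hu
  rw [R.usq] at hsq
  obtain ⟨e36, e37, e39, e42, e46, e56, e38, e40, e43, e47, e57, e41, e44, e48, e50, e58, e45, e49, e51, e59, e61, e52, e53, e60, e62, e54, e63, e64, e55, e65, e67, e66, e68, e69, e70, e71⟩ := D.inj _ _ _ _ _ _ _ _ _ _ _ _ _ _ _ _ _ _ _ _ _ _ _ _ _ _ _ _ _ _ _ _ _ _ _ _ hsq
  have hz : t54 = 0 := by
    have h : t37 * t54 = 0 := by linear_combination e55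
    exact (mul_eq_zero.mp h).resolve_left hn37
  subst hz
  exact ih _ _ _ _ _ _ _ _ _ _ _ _ _ _ _ _ _ _ hn37 hu hne

theorem e6s1_18 (D : UData R)
    (ih : ∀ (t37 t42 t46 t56 t57 t41 t45 t49 t52 t53 t60 t63 t64 t67 t68 t70 t71 : K), t37 ≠ 0 → UP D (R.RNF (0) (t37) (0) (t42) (t46) (t56) (0) (0) (0) (0) (t57) (t41) (0) (0) (0) (0) (t45) (t49) (0) (0) (0) (t52) (t53) (t60) (0) (0) (t63) (t64) (0) (0) (t67) (0) (t68) (0) (t70) (t71))) :
    ∀ (t37 t42 t46 t56 t57 t41 t45 t49 t52 t53 t60 t63 t64 t65 t67 t68 t70 t71 : K), t37 ≠ 0 → UP D (R.RNF (0) (t37) (0) (t42) (t46) (t56) (0) (0) (0) (0) (t57) (t41) (0) (0) (0) (0) (t45) (t49) (0) (0) (0) (t52) (t53) (t60) (0) (0) (t63) (t64) (0) (t65) (t67) (0) (t68) (0) (t70) (t71)) := by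
  intro t37 t42 t46 t56 t57 t41 t45 t49 t52 t53 t60 t63 t64 t65 t67 t68 t70 t71 hn37 hu hne
  have hsq := hu
  rw [R.usq] at hsq
  obtain ⟨e36, e37, e39, e42, e46, e56, e38, e40, e43, e47, e57, e41, e44, e48, e50, e58, e45, e49, e51, e59, e61, e52, e53, e60, e62, e54, e63, e64, e55, e65, e67, e66, e68, e69, e70, e71⟩ := D.inj _ _ _ _ _ _ _ _ _ _ _ _ _ _ _ _ _ _ _ _ _ _ _ _ _ _ _ _ _ _ _ _ _ _ _ _ hsq
  have hz : t65 = 0 := by
    have h : t37 * t65 = 0 := by linear_combination e66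
    exact (mul_eq_zero.mp h).resolve_left hn37
  subst hz
  exact ih _ _ _ _ _ _ _ _ _ _ _ _ _ _ _ _ _ hn37 hu hne

theorem e6s1_19 (D : UData R)
    (ih : ∀ (t37 t42 t46 t56 t57 t41 t45 t49 t52 t53 t60 t63 t64 t67 t70 t71 : K), t37 ≠ 0 → UP D (R.RNF (0) (t37) (0) (t42) (t46) (t56) (0) (0) (0) (0) (t57) (t41) (0) (0) (0) (0) (t45) (t49) (0) (0) (0) (t52) (t53) (t60) (0) (0) (t63) (t64) (0) (0) (t67) (0) (0) (0) (t70) (t71))) :
    ∀ (t37 t42 t46 t56 t57 t41 t45 t49 t52 t53 t60 t63 t64 t67 t68 t70 t71 : K), t37 ≠ 0 → UP D (R.RNF (0) (t37) (0) (t42) (t46) (t56) (0) (0) (0) (0) (t57) (t41) (0) (0) (0) (0) (t45) (t49) (0) (0) (0) (t52) (t53) (t60) (0) (0) (t63) (t64) (0) (0) (t67) (0) (t68) (0) (t70) (t71)) := by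
  intro t37 t42 t46 t56 t57 t41 t45 t49 t52 t53 t60 t63 t64 t67 t68 t70 t71 hn37 hu hne
  have hsq := hu
  rw [R.usq] at hsq
  obtain ⟨e36, e37, e39, e42, e46, e56, e38, e40, e43, e47, e57, e41, e44, e48, e50, e58, e45, e49, e51, e59, e61, e52, e53, e60, e62, e54, e63, e64, e55, e65, e67, e66, e68, e69, e70, e71⟩ := D.inj _ _ _ _ _ _ _ _ _ _ _ _ _ _ _ _ _ _ _ _ _ _ _ _ _ _ _ _ _ _ _ _ _ _ _ _ hsq
  have hz : t68 = 0 := by
    have h : t37 * t68 = 0 := by linear_combination e69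
    exact (mul_eq_zero.mp h).resolve_left hn37
  subst hz
  exact ih _ _ _ _ _ _ _ _ _ _ _ _ _ _ _ _ hn37 hu hne

theorem e6s1_20 (D : UData R)
    (ih : ∀ (t56 t38 t40 t43 t47 t58 t45 t49 t51 t60 t62 t54 t65 t67 t69 t71 : K), t40 ≠ 0 → UP D (R.RNF (0) (0) (0) (0) (0) (t56) (t38) (t40) (t43) (t47) (0) (0) (0) (0) (0) (t58) (t45) (t49) (t51) (0) (0) (0) (0) (t60) (t62) (t54) (0) (0) (0) (t65) (t67) (0) (0) (t69) (0) (t71))) :
    ∀ (t37 t42 t46 t56 t57 t41 t45 t49 t52 t53 t60 t63 t64 t67 t70 t71 : K), t37 ≠ 0 → UP D (R.RNF (0) (t37) (0) (t42) (t46) (t56) (0) (0) (0) (0) (t57) (t41) (0) (0) (0) (0) (t45) (t49) (0) (0) (0) (t52) (t53) (t60) (0) (0) (t63) (t64) (0) (0) (t67) (0) (0) (0) (t70) (t71)) := by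
  intro t37 t42 t46 t56 t57 t41 t45 t49 t52 t53 t60 t63 t64 t67 t70 t71 hn37
  have h2 : (2 : K) = 0 := CharTwo.two_eq_zero
  have h4 : (4 : K) = 0 := by linear_combination 2 * h2
  have h6 : (6 : K) = 0 := by linear_combination 3 * h2
  have h8 : (8 : K) = 0 := by linear_combination 4 * h2
  have h10 : (10 : K) = 0 := by linear_combination 5 * h2
  have h12 : (12 : K) = 0 := by linear_combination 6 * h2
  have h14 : (14 : K) = 0 := by linear_combination 7 * h2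
  have h16 : (16 : K) = 0 := by linear_combination 8 * h2
  have h18 : (18 : K) = 0 := by linear_combination 9 * h2
  have h20 : (20 : K) = 0 := by linear_combination 10 * h2
  have h22 : (22 : K) = 0 := by linear_combination 11 * h2
  have h24 : (24 : K) = 0 := by linear_combination 12 * h2
  have h26 : (26 : K) = 0 := by linear_combination 13 * h2
  have h28 : (28 : K) = 0 := by linear_combination 14 * h2
  have h30 : (30 : K) = 0 := by linear_combination 15 * h2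
  have h32 : (32 : K) = 0 := by linear_combination 16 * h2
  have e : D.n4 * R.RNF (0) (t37) (0) (t42) (t46) (t56) (0) (0) (0) (0) (t57) (t41) (0) (0) (0) (0) (t45) (t49) (0) (0) (0) (t52) (t53) (t60) (0) (0) (t63) (t64) (0) (0) (t67) (0) (0) (0) (t70) (t71) * D.n4⁻¹ =
      R.RNF (0) (0) (0) (0) (0) (t56) (t41) (t37) (t42) (t46) (0) (0) (0) (0) (0) (t42 * t56 + t57) (t41 * t42 + t45) (t41 * t46 + t49) (t53) (0) (0) (0) (0) (t41 * t42 * t56 + t41 * t57 + t60) (t64) (t41 * t42 * t46 + t52) (0) (0) (0) (t41 * t42 * t46 * t56 + t41 * t46 * t57 + t63) (t67) (0) (0) (t41 * t42 * t53 * t56 + t41 * t53 * t57 + t70) (0) (t41 * t42 * t46 * t53 * t56 + t41 * t42 * t46 * t64 + t41 * t46 * t53 * t57 + t52 * t64 + t71) := by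
    rw [D.toWeylE6.conj_n4]
    congr 1 <;> (first | rfl | ring1 | (rw [← sub_eq_zero]; ring_nf; simp only [h2, h4, h6, h8, h10, h12, h14, h16, h18, h20, h22, h24, h26, h28, h30, h32, mul_zero, zero_mul, add_zero, zero_add, neg_zero, sub_zero, sub_self]))
  exact UP_n D D.n4_mem e (ih _ _ _ _ _ _ _ _ _ _ _ _ _ _ _ _ hn37)

theorem upiv1 (D : UData R)
    (ih : ∀ (t39 t42 t46 t56 t38 t40 t43 t47 t57 t41 t44 t48 t50 t58 t45 t49 t51 t59 t61 t52 t53 t60 t62 t54 t63 t64 t55 t65 t67 t66 t68 t69 t70 t71 : K), UP D (R.RNF (0) (0) (t39) (t42) (t46) (t56) (t38) (t40) (t43) (t47) (t57) (t41) (t44) (t48) (t50) (t58) (t45) (t49) (t51) (t59) (t61) (t52) (t53) (t60) (t62) (t54) (t63) (t64) (t55) (t65) (t67) (t66) (t68) (t69) (t70) (t71))) :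
    ∀ (t37 t39 t42 t46 t56 t38 t40 t43 t47 t57 t41 t44 t48 t50 t58 t45 t49 t51 t59 t61 t52 t53 t60 t62 t54 t63 t64 t55 t65 t67 t66 t68 t69 t70 t71 : K), UP D (R.RNF (0) (t37) (t39) (t42) (t46) (t56) (t38) (t40) (t43) (t47) (t57) (t41) (t44) (t48) (t50) (t58) (t45) (t49) (t51) (t59) (t61) (t52) (t53) (t60) (t62) (t54) (t63) (t64) (t55) (t65) (t67) (t66) (t68) (t69) (t70) (t71)) := by
  intro t37 t39 t42 t46 t56 t38 t40 t43 t47 t57 t41 t44 t48 t50 t58 t45 t49 t51 t59 t61 t52 t53 t60 t62 t54 t63 t64 t55 t65 t67 t66 t68 t69 t70 t71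
  by_cases h0 : t37 = 0
  · subst h0; exact ih _ _ _ _ _ _ _ _ _ _ _ _ _ _ _ _ _ _ _ _ _ _ _ _ _ _ _ _ _ _ _ _ _ _
  · exact (e6s1_1 D (e6s1_2 D (e6s1_3 D (e6s1_4 D (e6s1_5 D (e6s1_6 D (e6s1_7 D (e6s1_8 D (e6s1_9 D (e6s1_10 D (e6s1_11 D (e6s1_12 D (e6s1_13 D (e6s1_14 D (e6s1_15 D (e6s1_16 D (e6s1_17 D (e6s1_18 D (e6s1_19 D (e6s1_20 D (fun t56 t38 t40 t43 t47 t58 t45 t49 t51 t60 t62 t54 t65 t67 t69 t71 _ => ih 0 0 0 t56 t38 t40 t43 t47 0 0 0 0 0 t58 t45 t49 t51 0 0 0 0 t60 t62 t54 0 0 0 t65 t67 0 0 t69 0 t71))))))))))))))))))))) t37 t39 t42 t46 t56 t38 t40 t43 t47 t57 t41 t44 t48 t50 t58 t45 t49 t51 t59 t61 t52 t53 t60 t62 t54 t63 t64 t55 t65 t67 t66 t68 t69 t70 t71 h0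

end Cfsg.Agent.Helper4.E6Inv
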