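import Cfsg.Agent.Helper4.E6Inv.UFinT

/-! Generated: steps of the reduction of involutions in the unipotent group of `E₆`
(characteristic two). -/

set_option autoImplicit false
set_option maxHeartbeats 8000000
set_option maxRecDepth 100000
set_option linter.unusedSimpArgs false
set_option linter.unusedVariables false
set_option linter.unusedSectionVars false
set_option linter.unusedTactic false
set_option linter.unreachableTactic false

namespace Cfsg.Agent.Helper4.E6Inv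

variable {K Γ : Type*} [Field K] [Group Γ] {R : RelE6 K Γ} [CharP K 2]

theorem e6s10_1 (D : UData R)
    (ih : ∀ (t57 t44 t48 t50 t58 t45 t49 t51 t59 t61 t52 t53 t60 t62 t54 t63 t64 t55 t65 t67 t66 t68 t69 t70 t71 : K), t57 ≠ 0 → UP D (R.RNF (0) (0) (0) (0) (0) (0) (0) (0) (0) (0) (t57) (0) (t44) (t48) (t50) (t58) (t45) (t49) (t51) (t59) (t61) (t52) (t53) (t60) (t62) (t54) (t63) (t64) (t55) (t65) (t67) (t66) (t68) (t69) (t70) (t71))) :
    ∀ (t57 t41 t44 t48 t50 t58 t45 t49 t51 t59 t61 t52 t53 t60 t62 t54 t63 t64 t55 t65 t67 t66 t68 t69 t70 t71 : K), t57 ≠ 0 → UP D (R.RNF (0) (0) (0) (0) (0) (0) (0) (0) (0) (0) (t57) (t41) (t44) (t48) (t50) (t58) (t45) (t49) (t51) (t59) (t61) (t52) (t53) (t60) (t62) (t54) (t63) (t64) (t55) (t65) (t67) (t66) (t68) (t69) (t70) (t71)) := by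
  intro t57 t41 t44 t48 t50 t58 t45 t49 t51 t59 t61 t52 t53 t60 t62 t54 t63 t64 t55 t65 t67 t66 t68 t69 t70 t71 hn57 hu hne
  have hsq := hu
  rw [R.usq] at hsq
  obtain ⟨e36, e37, e39, e42, e46, e56, e38, e40, e43, e47, e57, e41, e44, e48, e50, e58, e45, e49, e51, e59, e61, e52, e53, e60, e62, e54, e63, e64, e55, e65, e67, e66, e68, e69, e70, e71⟩ := D.inj _ _ _ _ _ _ _ _ _ _ _ _ _ _ _ _ _ _ _ _ _ _ _ _ _ _ _ _ _ _ _ _ _ _ _ _ hsq
  have hz : t41 = 0 := by
    have h : t57 * t41 = 0 := by linear_combination e60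
    exact (mul_eq_zero.mp h).resolve_left hn57
  subst hz
  exact ih _ _ _ _ _ _ _ _ _ _ _ _ _ _ _ _ _ _ _ _ _ _ _ _ _ hn57 hu hne

theorem e6s10_2 (D : UData R)
    (ih : ∀ (t57 t44 t50 t58 t45 t49 t51 t59 t61 t52 t53 t60 t62 t54 t63 t64 t55 t65 t67 t66 t68 t69 t70 t71 : K), t57 ≠ 0 → UP D (R.RNF (0) (0) (0) (0) (0) (0) (0) (0) (0) (0) (t57) (0) (t44) (0) (t50) (t58) (t45) (t49) (t51) (t59) (t61) (t52) (t53) (t60) (t62) (t54) (t63) (t64) (t55) (t65) (t67) (t66) (t68) (t69) (t70) (t71))) :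
    ∀ (t57 t44 t48 t50 t58 t45 t49 t51 t59 t61 t52 t53 t60 t62 t54 t63 t64 t55 t65 t67 t66 t68 t69 t70 t71 : K), t57 ≠ 0 → UP D (R.RNF (0) (0) (0) (0) (0) (0) (0) (0) (0) (0) (t57) (0) (t44) (t48) (t50) (t58) (t45) (t49) (t51) (t59) (t61) (t52) (t53) (t60) (t62) (t54) (t63) (t64) (t55) (t65) (t67) (t66) (t68) (t69) (t70) (t71)) := by
  intro t57 t44 t48 t50 t58 t45 t49 t51 t59 t61 t52 t53 t60 t62 t54 t63 t64 t55 t65 t67 t66 t68 t69 t70 t71 hn57 hu hne
  have hsq := hu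
  rw [R.usq] at hsq
  obtain ⟨e36, e37, e39, e42, e46, e56, e38, e40, e43, e47, e57, e41, e44, e48, e50, e58, e45, e49, e51, e59, e61, e52, e53, e60, e62, e54, e63, e64, e55, e65, e67, e66, e68, e69, e70, e71⟩ := D.inj _ _ _ _ _ _ _ _ _ _ _ _ _ _ _ _ _ _ _ _ _ _ _ _ _ _ _ _ _ _ _ _ _ _ _ _ hsq
  have hz : t48 = 0 := by
    have h : t57 * t48 = 0 := by linear_combination e62
    exact (mul_eq_zero.mp h).resolve_left hn57
  subst hz
  exact ih _ _ _ _ _ _ _ _ _ _ _ _ _ _ _ _ _ _ _ _ _ _ _ _ hn57 hu hne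

theorem e6s10_3 (D : UData R)
    (ih : ∀ (t57 t44 t50 t58 t45 t51 t59 t61 t52 t53 t60 t62 t54 t63 t64 t55 t65 t67 t66 t68 t69 t70 t71 : K), t57 ≠ 0 → UP D (R.RNF (0) (0) (0) (0) (0) (0) (0) (0) (0) (0) (t57) (0) (t44) (0) (t50) (t58) (t45) (0) (t51) (t59) (t61) (t52) (t53) (t60) (t62) (t54) (t63) (t64) (t55) (t65) (t67) (t66) (t68) (t69) (t70) (t71))) :
    ∀ (t57 t44 t50 t58 t45 t49 t51 t59 t61 t52 t53 t60 t62 t54 t63 t64 t55 t65 t67 t66 t68 t69 t70 t71 : K), t57 ≠ 0 → UP D (R.RNF (0) (0) (0) (0) (0) (0) (0) (0) (0) (0) (t57) (0) (t44) (0) (t50) (t58) (t45) (t49) (t51) (t59) (t61) (t52) (t53) (t60) (t62) (t54) (t63) (t64) (t55) (t65) (t67) (t66) (t68) (t69) (t70) (t71)) := by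
  intro t57 t44 t50 t58 t45 t49 t51 t59 t61 t52 t53 t60 t62 t54 t63 t64 t55 t65 t67 t66 t68 t69 t70 t71 hn57 hu hne
  have hsq := hu
  rw [R.usq] at hsq
  obtain ⟨e36, e37, e39, e42, e46, e56, e38, e40, e43, e47, e57, e41, e44, e48, e50, e58, e45, e49, e51, e59, e61, e52, e53, e60, e62, e54, e63, e64, e55, e65, e67, e66, e68, e69, e70, e71⟩ := D.inj _ _ _ _ _ _ _ _ _ _ _ _ _ _ _ _ _ _ _ _ _ _ _ _ _ _ _ _ _ _ _ _ _ _ _ _ hsq
  have hz : t49 = 0 := by
    have h : t57 * t49 = 0 := by linear_combination e63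
    exact (mul_eq_zero.mp h).resolve_left hn57
  subst hz
  exact ih _ _ _ _ _ _ _ _ _ _ _ _ _ _ _ _ _ _ _ _ _ _ _ hn57 hu hne

theorem e6s10_4 (D : UData R)
    (ih : ∀ (t57 t44 t50 t45 t51 t59 t61 t52 t53 t60 t62 t54 t63 t64 t55 t65 t67 t66 t68 t69 t70 t71 : K), t57 ≠ 0 → UP D (R.RNF (0) (0) (0) (0) (0) (0) (0) (0) (0) (0) (t57) (0) (t44) (0) (t50) (0) (t45) (0) (t51) (t59) (t61) (t52) (t53) (t60) (t62) (t54) (t63) (t64) (t55) (t65) (t67) (t66) (t68) (t69) (t70) (t71))) :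
    ∀ (t57 t44 t50 t58 t45 t51 t59 t61 t52 t53 t60 t62 t54 t63 t64 t55 t65 t67 t66 t68 t69 t70 t71 : K), t57 ≠ 0 → UP D (R.RNF (0) (0) (0) (0) (0) (0) (0) (0) (0) (0) (t57) (0) (t44) (0) (t50) (t58) (t45) (0) (t51) (t59) (t61) (t52) (t53) (t60) (t62) (t54) (t63) (t64) (t55) (t65) (t67) (t66) (t68) (t69) (t70) (t71)) := by
  intro t57 t44 t50 t58 t45 t51 t59 t61 t52 t53 t60 t62 t54 t63 t64 t55 t65 t67 t66 t68 t69 t70 t71 hn57
  have h2 : (2 : K) = 0 := CharTwo.two_eq_zero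
  have h4 : (4 : K) = 0 := by linear_combination 2 * h2
  have h6 : (6 : K) = 0 := by linear_combination 3 * h2
  have h8 : (8 : K) = 0 := by linear_combination 4 * h2
  have h10 : (10 : K) = 0 := by linear_combination 5 * h2
  have h12 : (12 : K) = 0 := by linear_combination 6 * h2
  have h14 : (14 : K) = 0 := by linear_combination 7 * h2
  have h16 : (16 : K) = 0 := by linear_combination 8 * h2
  have h18 : (18 : K) = 0 := by linear_combination 9 * h2
  have h20 : (20 : K) = 0 := by linear_combination 10 * h2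
  have h22 : (22 : K) = 0 := by linear_combination 11 * h2
  have h24 : (24 : K) = 0 := by linear_combination 12 * h2
  have h26 : (26 : K) = 0 := by linear_combination 13 * h2
  have h28 : (28 : K) = 0 := by linear_combination 14 * h2
  have h30 : (30 : K) = 0 := by linear_combination 15 * h2
  have h32 : (32 : K) = 0 := by linear_combination 16 * h2
  obtain ⟨c, rfl⟩ : ∃ c, t58 = c * t57 := ⟨t58 / t57, by field_simp⟩
  have e : R.X39 c * R.RNF (0) (0) (0) (0) (0) (0) (0) (0) (0) (0) (t57) (0) (t44) (0) (t50) (c * t57) (t45) (0) (t51) (t59) (t61) (t52) (t53) (t60) (t62) (t54) (t63) (t64) (t55) (t65) (t67) (t66) (t68) (t69) (t70) (t71) * R.X39 c =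
      R.RNF (0) (0) (0) (0) (0) (0) (0) (0) (0) (0) (t57) (0) (t44) (0) (t50) (0) (t45) (0) (t51) (t59) (t61) (t52) (c * t51 + t53) (t60) (t62) (c * t52 + t54) (t63) (c * t62 + t64) (t55) (c * t63 + t65) (t67) (t66) (t68) (t69) (c * t69 + t70) (c * t52 * t62 + t71) := by
    rw [R.ucj39]
    congr 1 <;> (first | rfl | ring1 | (rw [← sub_eq_zero]; ring_nf; simp only [h2, h4, h6, h8, h10, h12, h14, h16, h18, h20, h22, h24, h26, h28, h30, h32, mul_zero, zero_mul, add_zero, zero_add, neg_zero, sub_zero, sub_self]))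
  exact UP_cj D (D.xmem39 c) (R.inv39 c) e (ih _ _ _ _ _ _ _ _ _ _ _ _ _ _ _ _ _ _ _ _ _ _ hn57)

theorem e6s10_5 (D : UData R)
    (ih : ∀ (t57 t44 t50 t45 t51 t61 t52 t53 t60 t62 t54 t63 t64 t55 t65 t67 t66 t68 t69 t70 t71 : K), t57 ≠ 0 → UP D (R.RNF (0) (0) (0) (0) (0) (0) (0) (0) (0) (0) (t57) (0) (t44) (0) (t50) (0) (t45) (0) (t51) (0) (t61) (t52) (t53) (t60) (t62) (t54) (t63) (t64) (t55) (t65) (t67) (t66) (t68) (t69) (t70) (t71))) :
    ∀ (t57 t44 t50 t45 t51 t59 t61 t52 t53 t60 t62 t54 t63 t64 t55 t65 t67 t66 t68 t69 t70 t71 : K), t57 ≠ 0 → UP D (R.RNF (0) (0) (0) (0) (0) (0) (0) (0) (0) (0) (t57) (0) (t44) (0) (t50) (0) (t45) (0) (t51) (t59) (t61) (t52) (t53) (t60) (t62) (t54) (t63) (t64) (t55) (t65) (t67) (t66) (t68) (t69) (t70) (t71)) := by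
  intro t57 t44 t50 t45 t51 t59 t61 t52 t53 t60 t62 t54 t63 t64 t55 t65 t67 t66 t68 t69 t70 t71 hn57
  have h2 : (2 : K) = 0 := CharTwo.two_eq_zero
  have h4 : (4 : K) = 0 := by linear_combination 2 * h2
  have h6 : (6 : K) = 0 := by linear_combination 3 * h2
  have h8 : (8 : K) = 0 := by linear_combination 4 * h2
  have h10 : (10 : K) = 0 := by linear_combination 5 * h2
  have h12 : (12 : K) = 0 := by linear_combination 6 * h2
  have h14 : (14 : K) = 0 := by linear_combination 7 * h2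
  have h16 : (16 : K) = 0 := by linear_combination 8 * h2
  have h18 : (18 : K) = 0 := by linear_combination 9 * h2
  have h20 : (20 : K) = 0 := by linear_combination 10 * h2
  have h22 : (22 : K) = 0 := by linear_combination 11 * h2
  have h24 : (24 : K) = 0 := by linear_combination 12 * h2
  have h26 : (26 : K) = 0 := by linear_combination 13 * h2
  have h28 : (28 : K) = 0 := by linear_combination 14 * h2
  have h30 : (30 : K) = 0 := by linear_combination 15 * h2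
  have h32 : (32 : K) = 0 := by linear_combination 16 * h2
  obtain ⟨c, rfl⟩ : ∃ c, t59 = c * t57 := ⟨t59 / t57, by field_simp⟩
  have e : R.X40 c * R.RNF (0) (0) (0) (0) (0) (0) (0) (0) (0) (0) (t57) (0) (t44) (0) (t50) (0) (t45) (0) (t51) (c * t57) (t61) (t52) (t53) (t60) (t62) (t54) (t63) (t64) (t55) (t65) (t67) (t66) (t68) (t69) (t70) (t71) * R.X40 c =
      R.RNF (0) (0) (0) (0) (0) (0) (0) (0) (0) (0) (t57) (0) (t44) (0) (t50) (0) (t45) (0) (t51) (0) (t61) (t52) (c * t50 + t53) (t60) (t62) (t54) (t63) (c * t61 + t64) (c * t52 + t55) (t65) (c * t50 * t57 + t67) (c * t63 + t66) (t68) (t69) (c * t68 + t70) (c * t52 * t61 + t71) := by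
    rw [R.ucj40]
    congr 1 <;> (first | rfl | ring1 | (rw [← sub_eq_zero]; ring_nf; simp only [h2, h4, h6, h8, h10, h12, h14, h16, h18, h20, h22, h24, h26, h28, h30, h32, mul_zero, zero_mul, add_zero, zero_add, neg_zero, sub_zero, sub_self]))
  exact UP_cj D (D.xmem40 c) (R.inv40 c) e (ih _ _ _ _ _ _ _ _ _ _ _ _ _ _ _ _ _ _ _ _ _ hn57)

theorem e6s10_6 (D : UData R)
    (ih : ∀ (t57 t44 t50 t45 t51 t52 t53 t60 t62 t54 t63 t64 t55 t65 t67 t66 t68 t69 t70 t71 : K), t57 ≠ 0 → UP D (R.RNF (0) (0) (0) (0) (0) (0) (0) (0) (0) (0) (t57) (0) (t44) (0) (t50) (0) (t45) (0) (t51) (0) (0) (t52) (t53) (t60) (t62) (t54) (t63) (t64) (t55) (t65) (t67) (t66) (t68) (t69) (t70) (t71))) :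
    ∀ (t57 t44 t50 t45 t51 t61 t52 t53 t60 t62 t54 t63 t64 t55 t65 t67 t66 t68 t69 t70 t71 : K), t57 ≠ 0 → UP D (R.RNF (0) (0) (0) (0) (0) (0) (0) (0) (0) (0) (t57) (0) (t44) (0) (t50) (0) (t45) (0) (t51) (0) (t61) (t52) (t53) (t60) (t62) (t54) (t63) (t64) (t55) (t65) (t67) (t66) (t68) (t69) (t70) (t71)) := by
  intro t57 t44 t50 t45 t51 t61 t52 t53 t60 t62 t54 t63 t64 t55 t65 t67 t66 t68 t69 t70 t71 hn57
  have h2 : (2 : K) = 0 := CharTwo.two_eq_zero
  have h4 : (4 : K) = 0 := by linear_combination 2 * h2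
  have h6 : (6 : K) = 0 := by linear_combination 3 * h2
  have h8 : (8 : K) = 0 := by linear_combination 4 * h2
  have h10 : (10 : K) = 0 := by linear_combination 5 * h2
  have h12 : (12 : K) = 0 := by linear_combination 6 * h2
  have h14 : (14 : K) = 0 := by linear_combination 7 * h2
  have h16 : (16 : K) = 0 := by linear_combination 8 * h2
  have h18 : (18 : K) = 0 := by linear_combination 9 * h2
  have h20 : (20 : K) = 0 := by linear_combination 10 * h2
  have h22 : (22 : K) = 0 := by linear_combination 11 * h2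
  have h24 : (24 : K) = 0 := by linear_combination 12 * h2
  have h26 : (26 : K) = 0 := by linear_combination 13 * h2
  have h28 : (28 : K) = 0 := by linear_combination 14 * h2
  have h30 : (30 : K) = 0 := by linear_combination 15 * h2
  have h32 : (32 : K) = 0 := by linear_combination 16 * h2
  obtain ⟨c, rfl⟩ : ∃ c, t61 = c * t57 := ⟨t61 / t57, by field_simp⟩
  have e : R.X47 c * R.RNF (0) (0) (0) (0) (0) (0) (0) (0) (0) (0) (t57) (0) (t44) (0) (t50) (0) (t45) (0) (t51) (0) (c * t57) (t52) (t53) (t60) (t62) (t54) (t63) (t64) (t55) (t65) (t67) (t66) (t68) (t69) (t70) (t71) * R.X47 c =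
      R.RNF (0) (0) (0) (0) (0) (0) (0) (0) (0) (0) (t57) (0) (t44) (0) (t50) (0) (t45) (0) (t51) (0) (0) (t52) (c * t44 + t53) (t60) (t62) (c * t45 + t54) (t63) (t64) (t55) (c * t60 + t65) (c * t44 * t57 + t67) (t66) (c * t45 * t57 + t68) (t69) (t70) (c * t45 * t62 + c * t69 + t71) := by
    rw [R.ucj47]
    congr 1 <;> (first | rfl | ring1 | (rw [← sub_eq_zero]; ring_nf; simp only [h2, h4, h6, h8, h10, h12, h14, h16, h18, h20, h22, h24, h26, h28, h30, h32, mul_zero, zero_mul, add_zero, zero_add, neg_zero, sub_zero, sub_self]))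
  exact UP_cj D (D.xmem47 c) (R.inv47 c) e (ih _ _ _ _ _ _ _ _ _ _ _ _ _ _ _ _ _ _ _ _ hn57)

theorem e6s10_7 (D : UData R)
    (ih : ∀ (t57 t44 t50 t45 t51 t52 t53 t62 t54 t63 t64 t55 t65 t67 t66 t68 t69 t70 t71 : K), t57 ≠ 0 → UP D (R.RNF (0) (0) (0) (0) (0) (0) (0) (0) (0) (0) (t57) (0) (t44) (0) (t50) (0) (t45) (0) (t51) (0) (0) (t52) (t53) (0) (t62) (t54) (t63) (t64) (t55) (t65) (t67) (t66) (t68) (t69) (t70) (t71))) :
    ∀ (t57 t44 t50 t45 t51 t52 t53 t60 t62 t54 t63 t64 t55 t65 t67 t66 t68 t69 t70 t71 : K), t57 ≠ 0 → UP D (R.RNF (0) (0) (0) (0) (0) (0) (0) (0) (0) (0) (t57) (0) (t44) (0) (t50) (0) (t45) (0) (t51) (0) (0) (t52) (t53) (t60) (t62) (t54) (t63) (t64) (t55) (t65) (t67) (t66) (t68) (t69) (t70) (t71)) := by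
  intro t57 t44 t50 t45 t51 t52 t53 t60 t62 t54 t63 t64 t55 t65 t67 t66 t68 t69 t70 t71 hn57
  have h2 : (2 : K) = 0 := CharTwo.two_eq_zero
  have h4 : (4 : K) = 0 := by linear_combination 2 * h2
  have h6 : (6 : K) = 0 := by linear_combination 3 * h2
  have h8 : (8 : K) = 0 := by linear_combination 4 * h2
  have h10 : (10 : K) = 0 := by linear_combination 5 * h2
  have h12 : (12 : K) = 0 := by linear_combination 6 * h2
  have h14 : (14 : K) = 0 := by linear_combination 7 * h2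
  have h16 : (16 : K) = 0 := by linear_combination 8 * h2
  have h18 : (18 : K) = 0 := by linear_combination 9 * h2
  have h20 : (20 : K) = 0 := by linear_combination 10 * h2
  have h22 : (22 : K) = 0 := by linear_combination 11 * h2
  have h24 : (24 : K) = 0 := by linear_combination 12 * h2
  have h26 : (26 : K) = 0 := by linear_combination 13 * h2
  have h28 : (28 : K) = 0 := by linear_combination 14 * h2
  have h30 : (30 : K) = 0 := by linear_combination 15 * h2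
  have h32 : (32 : K) = 0 := by linear_combination 16 * h2
  obtain ⟨c, rfl⟩ : ∃ c, t60 = c * t57 := ⟨t60 / t57, by field_simp⟩
  have e : R.X41 c * R.RNF (0) (0) (0) (0) (0) (0) (0) (0) (0) (0) (t57) (0) (t44) (0) (t50) (0) (t45) (0) (t51) (0) (0) (t52) (t53) (c * t57) (t62) (t54) (t63) (t64) (t55) (t65) (t67) (t66) (t68) (t69) (t70) (t71) * R.X41 c =
      R.RNF (0) (0) (0) (0) (0) (0) (0) (0) (0) (0) (t57) (0) (t44) (0) (t50) (0) (t45) (0) (t51) (0) (0) (t52) (t53) (0) (t62) (c * t50 + t54) (t63) (t64) (c * t51 + t55) (t65) (t67) (c * t62 + t66) (c * t50 * t57 + t68) (c * t51 * t57 + t69) (c * t53 * t57 + c * t67 + t70) (c * t50 * t62 + t71) := by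
    rw [R.ucj41]
    congr 1 <;> (first | rfl | ring1 | (rw [← sub_eq_zero]; ring_nf; simp only [h2, h4, h6, h8, h10, h12, h14, h16, h18, h20, h22, h24, h26, h28, h30, h32, mul_zero, zero_mul, add_zero, zero_add, neg_zero, sub_zero, sub_self]))
  exact UP_cj D (D.xmem41 c) (R.inv41 c) e (ih _ _ _ _ _ _ _ _ _ _ _ _ _ _ _ _ _ _ _ hn57)

theorem e6s10_8 (D : UData R)
    (ih : ∀ (t57 t44 t50 t45 t51 t52 t53 t54 t63 t64 t55 t65 t67 t66 t68 t69 t70 t71 : K), t57 ≠ 0 → UP D (R.RNF (0) (0) (0) (0) (0) (0) (0) (0) (0) (0) (t57) (0) (t44) (0) (t50) (0) (t45) (0) (t51) (0) (0) (t52) (t53) (0) (0) (t54) (t63) (t64) (t55) (t65) (t67) (t66) (t68) (t69) (t70) (t71))) :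
    ∀ (t57 t44 t50 t45 t51 t52 t53 t62 t54 t63 t64 t55 t65 t67 t66 t68 t69 t70 t71 : K), t57 ≠ 0 → UP D (R.RNF (0) (0) (0) (0) (0) (0) (0) (0) (0) (0) (t57) (0) (t44) (0) (t50) (0) (t45) (0) (t51) (0) (0) (t52) (t53) (0) (t62) (t54) (t63) (t64) (t55) (t65) (t67) (t66) (t68) (t69) (t70) (t71)) := by
  intro t57 t44 t50 t45 t51 t52 t53 t62 t54 t63 t64 t55 t65 t67 t66 t68 t69 t70 t71 hn57
  have h2 : (2 : K) = 0 := CharTwo.two_eq_zero
  have h4 : (4 : K) = 0 := by linear_combination 2 * h2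
  have h6 : (6 : K) = 0 := by linear_combination 3 * h2
  have h8 : (8 : K) = 0 := by linear_combination 4 * h2
  have h10 : (10 : K) = 0 := by linear_combination 5 * h2
  have h12 : (12 : K) = 0 := by linear_combination 6 * h2
  have h14 : (14 : K) = 0 := by linear_combination 7 * h2
  have h16 : (16 : K) = 0 := by linear_combination 8 * h2
  have h18 : (18 : K) = 0 := by linear_combination 9 * h2
  have h20 : (20 : K) = 0 := by linear_combination 10 * h2
  have h22 : (22 : K) = 0 := by linear_combination 11 * h2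
  have h24 : (24 : K) = 0 := by linear_combination 12 * h2
  have h26 : (26 : K) = 0 := by linear_combination 13 * h2
  have h28 : (28 : K) = 0 := by linear_combination 14 * h2
  have h30 : (30 : K) = 0 := by linear_combination 15 * h2
  have h32 : (32 : K) = 0 := by linear_combination 16 * h2
  obtain ⟨c, rfl⟩ : ∃ c, t62 = c * t57 := ⟨t62 / t57, by field_simp⟩
  have e : R.X48 c * R.RNF (0) (0) (0) (0) (0) (0) (0) (0) (0) (0) (t57) (0) (t44) (0) (t50) (0) (t45) (0) (t51) (0) (0) (t52) (t53) (0) (c * t57) (t54) (t63) (t64) (t55) (t65) (t67) (t66) (t68) (t69) (t70) (t71) * R.X48 c =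
      R.RNF (0) (0) (0) (0) (0) (0) (0) (0) (0) (0) (t57) (0) (t44) (0) (t50) (0) (t45) (0) (t51) (0) (0) (t52) (t53) (0) (0) (t54) (t63) (t64) (c * t45 + t55) (t65) (t67) (t66) (t68) (c * t45 * t57 + t69) (t70) (c * t68 + t71) := by
    rw [R.ucj48]
    congr 1 <;> (first | rfl | ring1 | (rw [← sub_eq_zero]; ring_nf; simp only [h2, h4, h6, h8, h10, h12, h14, h16, h18, h20, h22, h24, h26, h28, h30, h32, mul_zero, zero_mul, add_zero, zero_add, neg_zero, sub_zero, sub_self]))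
  exact UP_cj D (D.xmem48 c) (R.inv48 c) e (ih _ _ _ _ _ _ _ _ _ _ _ _ _ _ _ _ _ _ hn57)

theorem e6s10_9 (D : UData R)
    (ih : ∀ (t57 t44 t50 t45 t51 t52 t53 t54 t64 t55 t65 t67 t66 t68 t69 t70 t71 : K), t57 ≠ 0 → UP D (R.RNF (0) (0) (0) (0) (0) (0) (0) (0) (0) (0) (t57) (0) (t44) (0) (t50) (0) (t45) (0) (t51) (0) (0) (t52) (t53) (0) (0) (t54) (0) (t64) (t55) (t65) (t67) (t66) (t68) (t69) (t70) (t71))) :
    ∀ (t57 t44 t50 t45 t51 t52 t53 t54 t63 t64 t55 t65 t67 t66 t68 t69 t70 t71 : K), t57 ≠ 0 → UP D (R.RNF (0) (0) (0) (0) (0) (0) (0) (0) (0) (0) (t57) (0) (t44) (0) (t50) (0) (t45) (0) (t51) (0) (0) (t52) (t53) (0) (0) (t54) (t63) (t64) (t55) (t65) (t67) (t66) (t68) (t69) (t70) (t71)) := by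
  intro t57 t44 t50 t45 t51 t52 t53 t54 t63 t64 t55 t65 t67 t66 t68 t69 t70 t71 hn57
  have h2 : (2 : K) = 0 := CharTwo.two_eq_zero
  have h4 : (4 : K) = 0 := by linear_combination 2 * h2
  have h6 : (6 : K) = 0 := by linear_combination 3 * h2
  have h8 : (8 : K) = 0 := by linear_combination 4 * h2
  have h10 : (10 : K) = 0 := by linear_combination 5 * h2
  have h12 : (12 : K) = 0 := by linear_combination 6 * h2
  have h14 : (14 : K) = 0 := by linear_combination 7 * h2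
  have h16 : (16 : K) = 0 := by linear_combination 8 * h2
  have h18 : (18 : K) = 0 := by linear_combination 9 * h2
  have h20 : (20 : K) = 0 := by linear_combination 10 * h2
  have h22 : (22 : K) = 0 := by linear_combination 11 * h2
  have h24 : (24 : K) = 0 := by linear_combination 12 * h2
  have h26 : (26 : K) = 0 := by linear_combination 13 * h2
  have h28 : (28 : K) = 0 := by linear_combination 14 * h2
  have h30 : (30 : K) = 0 := by linear_combination 15 * h2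
  have h32 : (32 : K) = 0 := by linear_combination 16 * h2
  obtain ⟨c, rfl⟩ : ∃ c, t63 = c * t57 := ⟨t63 / t57, by field_simp⟩
  have e : R.X49 c * R.RNF (0) (0) (0) (0) (0) (0) (0) (0) (0) (0) (t57) (0) (t44) (0) (t50) (0) (t45) (0) (t51) (0) (0) (t52) (t53) (0) (0) (t54) (c * t57) (t64) (t55) (t65) (t67) (t66) (t68) (t69) (t70) (t71) * R.X49 c =
      R.RNF (0) (0) (0) (0) (0) (0) (0) (0) (0) (0) (t57) (0) (t44) (0) (t50) (0) (t45) (0) (t51) (0) (0) (t52) (t53) (0) (0) (t54) (0) (t64) (c * t44 + t55) (t65) (t67) (t66) (t68) (c * t44 * t57 + t69) (t70) (c * t53 * t57 + c * t67 + t71) := by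
    rw [R.ucj49]
    congr 1 <;> (first | rfl | ring1 | (rw [← sub_eq_zero]; ring_nf; simp only [h2, h4, h6, h8, h10, h12, h14, h16, h18, h20, h22, h24, h26, h28, h30, h32, mul_zero, zero_mul, add_zero, zero_add, neg_zero, sub_zero, sub_self]))
  exact UP_cj D (D.xmem49 c) (R.inv49 c) e (ih _ _ _ _ _ _ _ _ _ _ _ _ _ _ _ _ _ hn57)

theorem e6s10_10 (D : UData R)
    (ih : ∀ (t57 t44 t50 t45 t51 t52 t53 t54 t64 t55 t65 t66 t68 t69 t70 t71 : K), t57 ≠ 0 → UP D (R.RNF (0) (0) (0) (0) (0) (0) (0) (0) (0) (0) (t57) (0) (t44) (0) (t50) (0) (t45) (0) (t51) (0) (0) (t52) (t53) (0) (0) (t54) (0) (t64) (t55) (t65) (0) (t66) (t68) (t69) (t70) (t71))) :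
    ∀ (t57 t44 t50 t45 t51 t52 t53 t54 t64 t55 t65 t67 t66 t68 t69 t70 t71 : K), t57 ≠ 0 → UP D (R.RNF (0) (0) (0) (0) (0) (0) (0) (0) (0) (0) (t57) (0) (t44) (0) (t50) (0) (t45) (0) (t51) (0) (0) (t52) (t53) (0) (0) (t54) (0) (t64) (t55) (t65) (t67) (t66) (t68) (t69) (t70) (t71)) := by
  intro t57 t44 t50 t45 t51 t52 t53 t54 t64 t55 t65 t67 t66 t68 t69 t70 t71 hn57
  have h2 : (2 : K) = 0 := CharTwo.two_eq_zero
  have h4 : (4 : K) = 0 := by linear_combination 2 * h2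
  have h6 : (6 : K) = 0 := by linear_combination 3 * h2
  have h8 : (8 : K) = 0 := by linear_combination 4 * h2
  have h10 : (10 : K) = 0 := by linear_combination 5 * h2
  have h12 : (12 : K) = 0 := by linear_combination 6 * h2
  have h14 : (14 : K) = 0 := by linear_combination 7 * h2
  have h16 : (16 : K) = 0 := by linear_combination 8 * h2
  have h18 : (18 : K) = 0 := by linear_combination 9 * h2
  have h20 : (20 : K) = 0 := by linear_combination 10 * h2
  have h22 : (22 : K) = 0 := by linear_combination 11 * h2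
  have h24 : (24 : K) = 0 := by linear_combination 12 * h2
  have h26 : (26 : K) = 0 := by linear_combination 13 * h2
  have h28 : (28 : K) = 0 := by linear_combination 14 * h2
  have h30 : (30 : K) = 0 := by linear_combination 15 * h2
  have h32 : (32 : K) = 0 := by linear_combination 16 * h2
  obtain ⟨c, rfl⟩ : ∃ c, t67 = c * t57 := ⟨t67 / t57, by field_simp⟩
  have e : R.X53 c * R.RNF (0) (0) (0) (0) (0) (0) (0) (0) (0) (0) (t57) (0) (t44) (0) (t50) (0) (t45) (0) (t51) (0) (0) (t52) (t53) (0) (0) (t54) (0) (t64) (t55) (t65) (c * t57) (t66) (t68) (t69) (t70) (t71) * R.X53 c =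
      R.RNF (0) (0) (0) (0) (0) (0) (0) (0) (0) (0) (t57) (0) (t44) (0) (t50) (0) (t45) (0) (t51) (0) (0) (t52) (t53) (0) (0) (t54) (0) (t64) (t55) (t65) (0) (t66) (t68) (t69) (t70) (t71) := by
    rw [R.ucj53]
    congr 1 <;> (first | rfl | ring1 | (rw [← sub_eq_zero]; ring_nf; simp only [h2, h4, h6, h8, h10, h12, h14, h16, h18, h20, h22, h24, h26, h28, h30, h32, mul_zero, zero_mul, add_zero, zero_add, neg_zero, sub_zero, sub_self]))
  exact UP_cj D (D.xmem53 c) (R.inv53 c) e (ih _ _ _ _ _ _ _ _ _ _ _ _ _ _ _ _ hn57)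

theorem e6s10_11 (D : UData R)
    (ih : ∀ (t57 t44 t50 t45 t51 t52 t53 t54 t64 t55 t65 t66 t69 t70 t71 : K), t57 ≠ 0 → UP D (R.RNF (0) (0) (0) (0) (0) (0) (0) (0) (0) (0) (t57) (0) (t44) (0) (t50) (0) (t45) (0) (t51) (0) (0) (t52) (t53) (0) (0) (t54) (0) (t64) (t55) (t65) (0) (t66) (0) (t69) (t70) (t71))) :
    ∀ (t57 t44 t50 t45 t51 t52 t53 t54 t64 t55 t65 t66 t68 t69 t70 t71 : K), t57 ≠ 0 → UP D (R.RNF (0) (0) (0) (0) (0) (0) (0) (0) (0) (0) (t57) (0) (t44) (0) (t50) (0) (t45) (0) (t51) (0) (0) (t52) (t53) (0) (0) (t54) (0) (t64) (t55) (t65) (0) (t66) (t68) (t69) (t70) (t71)) := by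
  intro t57 t44 t50 t45 t51 t52 t53 t54 t64 t55 t65 t66 t68 t69 t70 t71 hn57
  have h2 : (2 : K) = 0 := CharTwo.two_eq_zero
  have h4 : (4 : K) = 0 := by linear_combination 2 * h2
  have h6 : (6 : K) = 0 := by linear_combination 3 * h2
  have h8 : (8 : K) = 0 := by linear_combination 4 * h2
  have h10 : (10 : K) = 0 := by linear_combination 5 * h2
  have h12 : (12 : K) = 0 := by linear_combination 6 * h2
  have h14 : (14 : K) = 0 := by linear_combination 7 * h2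
  have h16 : (16 : K) = 0 := by linear_combination 8 * h2
  have h18 : (18 : K) = 0 := by linear_combination 9 * h2
  have h20 : (20 : K) = 0 := by linear_combination 10 * h2
  have h22 : (22 : K) = 0 := by linear_combination 11 * h2
  have h24 : (24 : K) = 0 := by linear_combination 12 * h2
  have h26 : (26 : K) = 0 := by linear_combination 13 * h2
  have h28 : (28 : K) = 0 := by linear_combination 14 * h2
  have h30 : (30 : K) = 0 := by linear_combination 15 * h2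
  have h32 : (32 : K) = 0 := by linear_combination 16 * h2
  obtain ⟨c, rfl⟩ : ∃ c, t68 = c * t57 := ⟨t68 / t57, by field_simp⟩
  have e : R.X54 c * R.RNF (0) (0) (0) (0) (0) (0) (0) (0) (0) (0) (t57) (0) (t44) (0) (t50) (0) (t45) (0) (t51) (0) (0) (t52) (t53) (0) (0) (t54) (0) (t64) (t55) (t65) (0) (t66) (c * t57) (t69) (t70) (t71) * R.X54 c =
      R.RNF (0) (0) (0) (0) (0) (0) (0) (0) (0) (0) (t57) (0) (t44) (0) (t50) (0) (t45) (0) (t51) (0) (0) (t52) (t53) (0) (0) (t54) (0) (t64) (t55) (t65) (0) (t66) (0) (t69) (t70) (t71) := by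
    rw [R.ucj54]
    congr 1 <;> (first | rfl | ring1 | (rw [← sub_eq_zero]; ring_nf; simp only [h2, h4, h6, h8, h10, h12, h14, h16, h18, h20, h22, h24, h26, h28, h30, h32, mul_zero, zero_mul, add_zero, zero_add, neg_zero, sub_zero, sub_self]))
  exact UP_cj D (D.xmem54 c) (R.inv54 c) e (ih _ _ _ _ _ _ _ _ _ _ _ _ _ _ _ hn57)

theorem e6s10_12 (D : UData R)
    (ih : ∀ (t57 t44 t50 t45 t51 t52 t53 t54 t64 t55 t65 t66 t70 t71 : K), t57 ≠ 0 → UP D (R.RNF (0) (0) (0) (0) (0) (0) (0) (0) (0) (0) (t57) (0) (t44) (0) (t50) (0) (t45) (0) (t51) (0) (0) (t52) (t53) (0) (0) (t54) (0) (t64) (t55) (t65) (0) (t66) (0) (0) (t70) (t71))) :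
    ∀ (t57 t44 t50 t45 t51 t52 t53 t54 t64 t55 t65 t66 t69 t70 t71 : K), t57 ≠ 0 → UP D (R.RNF (0) (0) (0) (0) (0) (0) (0) (0) (0) (0) (t57) (0) (t44) (0) (t50) (0) (t45) (0) (t51) (0) (0) (t52) (t53) (0) (0) (t54) (0) (t64) (t55) (t65) (0) (t66) (0) (t69) (t70) (t71)) := by
  intro t57 t44 t50 t45 t51 t52 t53 t54 t64 t55 t65 t66 t69 t70 t71 hn57
  have h2 : (2 : K) = 0 := CharTwo.two_eq_zero
  have h4 : (4 : K) = 0 := by linear_combination 2 * h2
  have h6 : (6 : K) = 0 := by linear_combination 3 * h2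
  have h8 : (8 : K) = 0 := by linear_combination 4 * h2
  have h10 : (10 : K) = 0 := by linear_combination 5 * h2
  have h12 : (12 : K) = 0 := by linear_combination 6 * h2
  have h14 : (14 : K) = 0 := by linear_combination 7 * h2
  have h16 : (16 : K) = 0 := by linear_combination 8 * h2
  have h18 : (18 : K) = 0 := by linear_combination 9 * h2
  have h20 : (20 : K) = 0 := by linear_combination 10 * h2
  have h22 : (22 : K) = 0 := by linear_combination 11 * h2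
  have h24 : (24 : K) = 0 := by linear_combination 12 * h2
  have h26 : (26 : K) = 0 := by linear_combination 13 * h2
  have h28 : (28 : K) = 0 := by linear_combination 14 * h2
  have h30 : (30 : K) = 0 := by linear_combination 15 * h2
  have h32 : (32 : K) = 0 := by linear_combination 16 * h2
  obtain ⟨c, rfl⟩ : ∃ c, t69 = c * t57 := ⟨t69 / t57, by field_simp⟩
  have e : R.X55 c * R.RNF (0) (0) (0) (0) (0) (0) (0) (0) (0) (0) (t57) (0) (t44) (0) (t50) (0) (t45) (0) (t51) (0) (0) (t52) (t53) (0) (0) (t54) (0) (t64) (t55) (t65) (0) (t66) (0) (c * t57) (t70) (t71) * R.X55 c =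
      R.RNF (0) (0) (0) (0) (0) (0) (0) (0) (0) (0) (t57) (0) (t44) (0) (t50) (0) (t45) (0) (t51) (0) (0) (t52) (t53) (0) (0) (t54) (0) (t64) (t55) (t65) (0) (t66) (0) (0) (t70) (t71) := by
    rw [R.ucj55]
    congr 1 <;> (first | rfl | ring1 | (rw [← sub_eq_zero]; ring_nf; simp only [h2, h4, h6, h8, h10, h12, h14, h16, h18, h20, h22, h24, h26, h28, h30, h32, mul_zero, zero_mul, add_zero, zero_add, neg_zero, sub_zero, sub_self]))
  exact UP_cj D (D.xmem55 c) (R.inv55 c) e (ih _ _ _ _ _ _ _ _ _ _ _ _ _ _ hn57)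

theorem e6s10_13 (D : UData R)
    (ih : ∀ (t57 t44 t50 t45 t51 t52 t54 t64 t55 t65 t66 t70 t71 : K), t57 ≠ 0 → UP D (R.RNF (0) (0) (0) (0) (0) (0) (0) (0) (0) (0) (t57) (0) (t44) (0) (t50) (0) (t45) (0) (t51) (0) (0) (t52) (0) (0) (0) (t54) (0) (t64) (t55) (t65) (0) (t66) (0) (0) (t70) (t71))) :
    ∀ (t57 t44 t50 t45 t51 t52 t53 t54 t64 t55 t65 t66 t70 t71 : K), t57 ≠ 0 → UP D (R.RNF (0) (0) (0) (0) (0) (0) (0) (0) (0) (0) (t57) (0) (t44) (0) (t50) (0) (t45) (0) (t51) (0) (0) (t52) (t53) (0) (0) (t54) (0) (t64) (t55) (t65) (0) (t66) (0) (0) (t70) (t71)) := by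
  intro t57 t44 t50 t45 t51 t52 t53 t54 t64 t55 t65 t66 t70 t71 hn57 hu hne
  have hsq := hu
  rw [R.usq] at hsq
  obtain ⟨e36, e37, e39, e42, e46, e56, e38, e40, e43, e47, e57, e41, e44, e48, e50, e58, e45, e49, e51, e59, e61, e52, e53, e60, e62, e54, e63, e64, e55, e65, e67, e66, e68, e69, e70, e71⟩ := D.inj _ _ _ _ _ _ _ _ _ _ _ _ _ _ _ _ _ _ _ _ _ _ _ _ _ _ _ _ _ _ _ _ _ _ _ _ hsq
  have hz : t53 = 0 := by
    have h : t57 * t53 = 0 := by linear_combination e67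
    exact (mul_eq_zero.mp h).resolve_left hn57
  subst hz
  exact ih _ _ _ _ _ _ _ _ _ _ _ _ _ hn57 hu hne

theorem e6s10_14 (D : UData R)
    (ih : ∀ (t57 t44 t50 t45 t51 t52 t64 t55 t65 t66 t70 t71 : K), t57 ≠ 0 → UP D (R.RNF (0) (0) (0) (0) (0) (0) (0) (0) (0) (0) (t57) (0) (t44) (0) (t50) (0) (t45) (0) (t51) (0) (0) (t52) (0) (0) (0) (0) (0) (t64) (t55) (t65) (0) (t66) (0) (0) (t70) (t71))) :
    ∀ (t57 t44 t50 t45 t51 t52 t54 t64 t55 t65 t66 t70 t71 : K), t57 ≠ 0 → UP D (R.RNF (0) (0) (0) (0) (0) (0) (0) (0) (0) (0) (t57) (0) (t44) (0) (t50) (0) (t45) (0) (t51) (0) (0) (t52) (0) (0) (0) (t54) (0) (t64) (t55) (t65) (0) (t66) (0) (0) (t70) (t71)) := by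
  intro t57 t44 t50 t45 t51 t52 t54 t64 t55 t65 t66 t70 t71 hn57 hu hne
  have hsq := hu
  rw [R.usq] at hsq
  obtain ⟨e36, e37, e39, e42, e46, e56, e38, e40, e43, e47, e57, e41, e44, e48, e50, e58, e45, e49, e51, e59, e61, e52, e53, e60, e62, e54, e63, e64, e55, e65, e67, e66, e68, e69, e70, e71⟩ := D.inj _ _ _ _ _ _ _ _ _ _ _ _ _ _ _ _ _ _ _ _ _ _ _ _ _ _ _ _ _ _ _ _ _ _ _ _ hsq
  have hz : t54 = 0 := by
    have h : t57 * t54 = 0 := by linear_combination e68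
    exact (mul_eq_zero.mp h).resolve_left hn57
  subst hz
  exact ih _ _ _ _ _ _ _ _ _ _ _ _ hn57 hu hne

theorem e6s10_15 (D : UData R)
    (ih : ∀ (t57 t44 t50 t45 t51 t52 t64 t65 t66 t70 t71 : K), t57 ≠ 0 → UP D (R.RNF (0) (0) (0) (0) (0) (0) (0) (0) (0) (0) (t57) (0) (t44) (0) (t50) (0) (t45) (0) (t51) (0) (0) (t52) (0) (0) (0) (0) (0) (t64) (0) (t65) (0) (t66) (0) (0) (t70) (t71))) :
    ∀ (t57 t44 t50 t45 t51 t52 t64 t55 t65 t66 t70 t71 : K), t57 ≠ 0 → UP D (R.RNF (0) (0) (0) (0) (0) (0) (0) (0) (0) (0) (t57) (0) (t44) (0) (t50) (0) (t45) (0) (t51) (0) (0) (t52) (0) (0) (0) (0) (0) (t64) (t55) (t65) (0) (t66) (0) (0) (t70) (t71)) := by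
  intro t57 t44 t50 t45 t51 t52 t64 t55 t65 t66 t70 t71 hn57 hu hne
  have hsq := hu
  rw [R.usq] at hsq
  obtain ⟨e36, e37, e39, e42, e46, e56, e38, e40, e43, e47, e57, e41, e44, e48, e50, e58, e45, e49, e51, e59, e61, e52, e53, e60, e62, e54, e63, e64, e55, e65, e67, e66, e68, e69, e70, e71⟩ := D.inj _ _ _ _ _ _ _ _ _ _ _ _ _ _ _ _ _ _ _ _ _ _ _ _ _ _ _ _ _ _ _ _ _ _ _ _ hsq
  have hz : t55 = 0 := by
    have h : t57 * t55 = 0 := by linear_combination e69
    exact (mul_eq_zero.mp h).resolve_left hn57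
  subst hz
  exact ih _ _ _ _ _ _ _ _ _ _ _ hn57 hu hne

theorem e6s10_16 (D : UData R)
    (ih : ∀ (t44 t50 t58 t45 t53 t62 t54 t63 t66 t69 t71 : K), t58 ≠ 0 → UP D (R.RNF (0) (0) (0) (0) (0) (0) (0) (0) (0) (0) (0) (0) (t44) (0) (t50) (t58) (t45) (0) (0) (0) (0) (0) (t53) (0) (t62) (t54) (t63) (0) (0) (0) (0) (t66) (0) (t69) (0) (t71))) :
    ∀ (t57 t44 t50 t45 t51 t52 t64 t65 t66 t70 t71 : K), t57 ≠ 0 → UP D (R.RNF (0) (0) (0) (0) (0) (0) (0) (0) (0) (0) (t57) (0) (t44) (0) (t50) (0) (t45) (0) (t51) (0) (0) (t52) (0) (0) (0) (0) (0) (t64) (0) (t65) (0) (t66) (0) (0) (t70) (t71)) := by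
  intro t57 t44 t50 t45 t51 t52 t64 t65 t66 t70 t71 hn57
  have h2 : (2 : K) = 0 := CharTwo.two_eq_zero
  have h4 : (4 : K) = 0 := by linear_combination 2 * h2
  have h6 : (6 : K) = 0 := by linear_combination 3 * h2
  have h8 : (8 : K) = 0 := by linear_combination 4 * h2
  have h10 : (10 : K) = 0 := by linear_combination 5 * h2
  have h12 : (12 : K) = 0 := by linear_combination 6 * h2
  have h14 : (14 : K) = 0 := by linear_combination 7 * h2
  have h16 : (16 : K) = 0 := by linear_combination 8 * h2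
  have h18 : (18 : K) = 0 := by linear_combination 9 * h2
  have h20 : (20 : K) = 0 := by linear_combination 10 * h2
  have h22 : (22 : K) = 0 := by linear_combination 11 * h2
  have h24 : (24 : K) = 0 := by linear_combination 12 * h2
  have h26 : (26 : K) = 0 := by linear_combination 13 * h2
  have h28 : (28 : K) = 0 := by linear_combination 14 * h2
  have h30 : (30 : K) = 0 := by linear_combination 15 * h2
  have h32 : (32 : K) = 0 := by linear_combination 16 * h2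
  have e : D.n4 * R.RNF (0) (0) (0) (0) (0) (0) (0) (0) (0) (0) (t57) (0) (t44) (0) (t50) (0) (t45) (0) (t51) (0) (0) (t52) (0) (0) (0) (0) (0) (t64) (0) (t65) (0) (t66) (0) (0) (t70) (t71) * D.n4⁻¹ =
      R.RNF (0) (0) (0) (0) (0) (0) (0) (0) (0) (0) (0) (0) (t44) (0) (t50) (t57) (t45) (0) (0) (0) (0) (0) (t51) (0) (t64) (t52) (t65) (0) (0) (0) (0) (t66) (0) (t70) (0) (t52 * t64 + t71) := by
    rw [D.toWeylE6.conj_n4]
    congr 1 <;> (first | rfl | ring1 | (rw [← sub_eq_zero]; ring_nf; simp only [h2, h4, h6, h8, h10, h12, h14, h16, h18, h20, h22, h24, h26, h28, h30, h32, mul_zero, zero_mul, add_zero, zero_add, neg_zero, sub_zero, sub_self]))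
  exact UP_n D D.n4_mem e (ih _ _ _ _ _ _ _ _ _ _ _ hn57)

theorem upiv10 (D : UData R)
    (ih : ∀ (t41 t44 t48 t50 t58 t45 t49 t51 t59 t61 t52 t53 t60 t62 t54 t63 t64 t55 t65 t67 t66 t68 t69 t70 t71 : K), UP D (R.RNF (0) (0) (0) (0) (0) (0) (0) (0) (0) (0) (0) (t41) (t44) (t48) (t50) (t58) (t45) (t49) (t51) (t59) (t61) (t52) (t53) (t60) (t62) (t54) (t63) (t64) (t55) (t65) (t67) (t66) (t68) (t69) (t70) (t71))) :
    ∀ (t57 t41 t44 t48 t50 t58 t45 t49 t51 t59 t61 t52 t53 t60 t62 t54 t63 t64 t55 t65 t67 t66 t68 t69 t70 t71 : K), UP D (R.RNF (0) (0) (0) (0) (0) (0) (0) (0) (0) (0) (t57) (t41) (t44) (t48) (t50) (t58) (t45) (t49) (t51) (t59) (t61) (t52) (t53) (t60) (t62) (t54) (t63) (t64) (t55) (t65) (t67) (t66) (t68) (t69) (t70) (t71)) := by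
  intro t57 t41 t44 t48 t50 t58 t45 t49 t51 t59 t61 t52 t53 t60 t62 t54 t63 t64 t55 t65 t67 t66 t68 t69 t70 t71
  by_cases h0 : t57 = 0
  · subst h0; exact ih _ _ _ _ _ _ _ _ _ _ _ _ _ _ _ _ _ _ _ _ _ _ _ _ _
  · exact (e6s10_1 D (e6s10_2 D (e6s10_3 D (e6s10_4 D (e6s10_5 D (e6s10_6 D (e6s10_7 D (e6s10_8 D (e6s10_9 D (e6s10_10 D (e6s10_11 D (e6s10_12 D (e6s10_13 D (e6s10_14 D (e6s10_15 D (e6s10_16 D (fun t44 t50 t58 t45 t53 t62 t54 t63 t66 t69 t71 _ => ih 0 t44 0 t50 t58 t45 0 0 0 0 0 t53 0 t62 t54 t63 0 0 0 0 t66 0 t69 0 t71))))))))))))))))) t57 t41 t44 t48 t50 t58 t45 t49 t51 t59 t61 t52 t53 t60 t62 t54 t63 t64 t55 t65 t67 t66 t68 t69 t70 t71 h0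

end Cfsg.Agent.Helper4.E6Inv
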