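import Cfsg.Agent.Helper4.E6Inv.UFinT

/-! Generated: steps of the reduction of involutions in the unipotent group of `E₆`
(characteristic two). -/

set_option autoImplicit false
set_option maxHeartbeats 8000000
set_option maxRecDepth 100000
set_option linter.unusedSimpArgs false
set_option linter.unusedVariables false
set_option linter.unusedSectionVars false
set_option linter.unusedTactic false
set_option linter.unreachableTactic false

namespace Cfsg.Agent.Helper4.E6Inv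

variable {K Γ : Type*} [Field K] [Group Γ] {R : RelE6 K Γ} [CharP K 2]

theorem e6s12_1 (D : UData R)
    (ih : ∀ (t44 t48 t50 t58 t49 t51 t59 t61 t52 t53 t60 t62 t54 t63 t64 t55 t65 t67 t66 t68 t69 t70 t71 : K), t44 ≠ 0 → UP D (R.RNF (0) (0) (0) (0) (0) (0) (0) (0) (0) (0) (0) (0) (t44) (t48) (t50) (t58) (0) (t49) (t51) (t59) (t61) (t52) (t53) (t60) (t62) (t54) (t63) (t64) (t55) (t65) (t67) (t66) (t68) (t69) (t70) (t71))) :
    ∀ (t44 t48 t50 t58 t45 t49 t51 t59 t61 t52 t53 t60 t62 t54 t63 t64 t55 t65 t67 t66 t68 t69 t70 t71 : K), t44 ≠ 0 → UP D (R.RNF (0) (0) (0) (0) (0) (0) (0) (0) (0) (0) (0) (0) (t44) (t48) (t50) (t58) (t45) (t49) (t51) (t59) (t61) (t52) (t53) (t60) (t62) (t54) (t63) (t64) (t55) (t65) (t67) (t66) (t68) (t69) (t70) (t71)) := by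
  intro t44 t48 t50 t58 t45 t49 t51 t59 t61 t52 t53 t60 t62 t54 t63 t64 t55 t65 t67 t66 t68 t69 t70 t71 hn44
  have h2 : (2 : K) = 0 := CharTwo.two_eq_zero
  have h4 : (4 : K) = 0 := by linear_combination 2 * h2
  have h6 : (6 : K) = 0 := by linear_combination 3 * h2
  have h8 : (8 : K) = 0 := by linear_combination 4 * h2
  have h10 : (10 : K) = 0 := by linear_combination 5 * h2
  have h12 : (12 : K) = 0 := by linear_combination 6 * h2
  have h14 : (14 : K) = 0 := by linear_combination 7 * h2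
  have h16 : (16 : K) = 0 := by linear_combination 8 * h2
  have h18 : (18 : K) = 0 := by linear_combination 9 * h2
  have h20 : (20 : K) = 0 := by linear_combination 10 * h2
  have h22 : (22 : K) = 0 := by linear_combination 11 * h2
  have h24 : (24 : K) = 0 := by linear_combination 12 * h2
  have h26 : (26 : K) = 0 := by linear_combination 13 * h2
  have h28 : (28 : K) = 0 := by linear_combination 14 * h2
  have h30 : (30 : K) = 0 := by linear_combination 15 * h2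
  have h32 : (32 : K) = 0 := by linear_combination 16 * h2
  obtain ⟨c, rfl⟩ : ∃ c, t45 = c * t44 := ⟨t45 / t44, by field_simp⟩
  have e : R.X36 c * R.RNF (0) (0) (0) (0) (0) (0) (0) (0) (0) (0) (0) (0) (t44) (t48) (t50) (t58) (c * t44) (t49) (t51) (t59) (t61) (t52) (t53) (t60) (t62) (t54) (t63) (t64) (t55) (t65) (t67) (t66) (t68) (t69) (t70) (t71) * R.X36 c =
      R.RNF (0) (0) (0) (0) (0) (0) (0) (0) (0) (0) (0) (0) (t44) (t48) (t50) (t58) (0) (c * t48 + t49) (t51) (t59) (t61) (c * t51 + t52) (t53) (c * t59 + t60) (t62) (c * t53 + t54) (c * t62 + t63) (t64) (c * t44 * t48 + t55) (c * t48 * t58 + c * t64 + t65) (t67) (t66) (c * t67 + t68) (c * t51 * t59 + t69) (c * t44 * t48 * t58 + c * t53 * t59 + t70) (c * t44 * t48 * t61 + c * t48 * t51 * t58 + c * t53 * t62 + t71) := by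
    rw [R.ucj36]
    congr 1 <;> (first | rfl | ring1 | (rw [← sub_eq_zero]; ring_nf; simp only [h2, h4, h6, h8, h10, h12, h14, h16, h18, h20, h22, h24, h26, h28, h30, h32, mul_zero, zero_mul, add_zero, zero_add, neg_zero, sub_zero, sub_self]))
  exact UP_cj D (D.xmem36 c) (R.inv36 c) e (ih _ _ _ _ _ _ _ _ _ _ _ _ _ _ _ _ _ _ _ _ _ _ _ hn44)

theorem e6s12_2 (D : UData R)
    (ih : ∀ (t44 t48 t50 t58 t49 t59 t61 t52 t53 t60 t62 t54 t63 t64 t55 t65 t67 t66 t68 t69 t70 t71 : K), t44 ≠ 0 → UP D (R.RNF (0) (0) (0) (0) (0) (0) (0) (0) (0) (0) (0) (0) (t44) (t48) (t50) (t58) (0) (t49) (0) (t59) (t61) (t52) (t53) (t60) (t62) (t54) (t63) (t64) (t55) (t65) (t67) (t66) (t68) (t69) (t70) (t71))) :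
    ∀ (t44 t48 t50 t58 t49 t51 t59 t61 t52 t53 t60 t62 t54 t63 t64 t55 t65 t67 t66 t68 t69 t70 t71 : K), t44 ≠ 0 → UP D (R.RNF (0) (0) (0) (0) (0) (0) (0) (0) (0) (0) (0) (0) (t44) (t48) (t50) (t58) (0) (t49) (t51) (t59) (t61) (t52) (t53) (t60) (t62) (t54) (t63) (t64) (t55) (t65) (t67) (t66) (t68) (t69) (t70) (t71)) := by
  intro t44 t48 t50 t58 t49 t51 t59 t61 t52 t53 t60 t62 t54 t63 t64 t55 t65 t67 t66 t68 t69 t70 t71 hn44
  have h2 : (2 : K) = 0 := CharTwo.two_eq_zero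
  have h4 : (4 : K) = 0 := by linear_combination 2 * h2
  have h6 : (6 : K) = 0 := by linear_combination 3 * h2
  have h8 : (8 : K) = 0 := by linear_combination 4 * h2
  have h10 : (10 : K) = 0 := by linear_combination 5 * h2
  have h12 : (12 : K) = 0 := by linear_combination 6 * h2
  have h14 : (14 : K) = 0 := by linear_combination 7 * h2
  have h16 : (16 : K) = 0 := by linear_combination 8 * h2
  have h18 : (18 : K) = 0 := by linear_combination 9 * h2
  have h20 : (20 : K) = 0 := by linear_combination 10 * h2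
  have h22 : (22 : K) = 0 := by linear_combination 11 * h2
  have h24 : (24 : K) = 0 := by linear_combination 12 * h2
  have h26 : (26 : K) = 0 := by linear_combination 13 * h2
  have h28 : (28 : K) = 0 := by linear_combination 14 * h2
  have h30 : (30 : K) = 0 := by linear_combination 15 * h2
  have h32 : (32 : K) = 0 := by linear_combination 16 * h2
  obtain ⟨c, rfl⟩ : ∃ c, t51 = c * t44 := ⟨t51 / t44, by field_simp⟩
  have e : R.X46 c * R.RNF (0) (0) (0) (0) (0) (0) (0) (0) (0) (0) (0) (0) (t44) (t48) (t50) (t58) (0) (t49) (c * t44) (t59) (t61) (t52) (t53) (t60) (t62) (t54) (t63) (t64) (t55) (t65) (t67) (t66) (t68) (t69) (t70) (t71) * R.X46 c =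
      R.RNF (0) (0) (0) (0) (0) (0) (0) (0) (0) (0) (0) (0) (t44) (t48) (t50) (t58) (0) (t49) (0) (t59) (c * t58 + t61) (t52) (t53) (t60) (c * t59 + t62) (t54) (c * t60 + t63) (t64) (t55) (t65) (c * t44 * t58 + t67) (t66) (t68) (t69) (t70) (c * t44 * t49 * t58 + c * t70 + t71) := by
    rw [R.ucj46]
    congr 1 <;> (first | rfl | ring1 | (rw [← sub_eq_zero]; ring_nf; simp only [h2, h4, h6, h8, h10, h12, h14, h16, h18, h20, h22, h24, h26, h28, h30, h32, mul_zero, zero_mul, add_zero, zero_add, neg_zero, sub_zero, sub_self]))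
  exact UP_cj D (D.xmem46 c) (R.inv46 c) e (ih _ _ _ _ _ _ _ _ _ _ _ _ _ _ _ _ _ _ _ _ _ _ hn44)

theorem e6s12_3 (D : UData R)
    (ih : ∀ (t44 t48 t50 t58 t49 t61 t52 t53 t60 t62 t54 t63 t64 t55 t65 t67 t66 t68 t69 t70 t71 : K), t44 ≠ 0 → UP D (R.RNF (0) (0) (0) (0) (0) (0) (0) (0) (0) (0) (0) (0) (t44) (t48) (t50) (t58) (0) (t49) (0) (0) (t61) (t52) (t53) (t60) (t62) (t54) (t63) (t64) (t55) (t65) (t67) (t66) (t68) (t69) (t70) (t71))) :
    ∀ (t44 t48 t50 t58 t49 t59 t61 t52 t53 t60 t62 t54 t63 t64 t55 t65 t67 t66 t68 t69 t70 t71 : K), t44 ≠ 0 → UP D (R.RNF (0) (0) (0) (0) (0) (0) (0) (0) (0) (0) (0) (0) (t44) (t48) (t50) (t58) (0) (t49) (0) (t59) (t61) (t52) (t53) (t60) (t62) (t54) (t63) (t64) (t55) (t65) (t67) (t66) (t68) (t69) (t70) (t71)) := by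
  intro t44 t48 t50 t58 t49 t59 t61 t52 t53 t60 t62 t54 t63 t64 t55 t65 t67 t66 t68 t69 t70 t71 hn44
  have h2 : (2 : K) = 0 := CharTwo.two_eq_zero
  have h4 : (4 : K) = 0 := by linear_combination 2 * h2
  have h6 : (6 : K) = 0 := by linear_combination 3 * h2
  have h8 : (8 : K) = 0 := by linear_combination 4 * h2
  have h10 : (10 : K) = 0 := by linear_combination 5 * h2
  have h12 : (12 : K) = 0 := by linear_combination 6 * h2
  have h14 : (14 : K) = 0 := by linear_combination 7 * h2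
  have h16 : (16 : K) = 0 := by linear_combination 8 * h2
  have h18 : (18 : K) = 0 := by linear_combination 9 * h2
  have h20 : (20 : K) = 0 := by linear_combination 10 * h2
  have h22 : (22 : K) = 0 := by linear_combination 11 * h2
  have h24 : (24 : K) = 0 := by linear_combination 12 * h2
  have h26 : (26 : K) = 0 := by linear_combination 13 * h2
  have h28 : (28 : K) = 0 := by linear_combination 14 * h2
  have h30 : (30 : K) = 0 := by linear_combination 15 * h2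
  have h32 : (32 : K) = 0 := by linear_combination 16 * h2
  obtain ⟨c, rfl⟩ : ∃ c, t59 = c * t44 := ⟨t59 / t44, by field_simp⟩
  have e : R.X56 c * R.RNF (0) (0) (0) (0) (0) (0) (0) (0) (0) (0) (0) (0) (t44) (t48) (t50) (t58) (0) (t49) (0) (c * t44) (t61) (t52) (t53) (t60) (t62) (t54) (t63) (t64) (t55) (t65) (t67) (t66) (t68) (t69) (t70) (t71) * R.X56 c =
      R.RNF (0) (0) (0) (0) (0) (0) (0) (0) (0) (0) (0) (0) (t44) (t48) (t50) (t58) (0) (t49) (0) (0) (c * t50 + t61) (t52) (t53) (t60) (t62) (t54) (c * t52 + t63) (c * t53 + t64) (t55) (c * t54 + t65) (c * t44 * t50 + t67) (c * t44 * t49 + c * t55 + t66) (t68) (t69) (t70) (c * t44 * t49 * t50 + c * t52 * t53 + t71) := by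
    rw [R.ucj56]
    congr 1 <;> (first | rfl | ring1 | (rw [← sub_eq_zero]; ring_nf; simp only [h2, h4, h6, h8, h10, h12, h14, h16, h18, h20, h22, h24, h26, h28, h30, h32, mul_zero, zero_mul, add_zero, zero_add, neg_zero, sub_zero, sub_self]))
  exact UP_cj D (D.xmem56 c) (R.inv56 c) e (ih _ _ _ _ _ _ _ _ _ _ _ _ _ _ _ _ _ _ _ _ _ hn44)

theorem e6s12_4 (D : UData R)
    (ih : ∀ (t44 t48 t50 t58 t49 t61 t52 t60 t62 t54 t63 t64 t55 t65 t67 t66 t68 t69 t70 t71 : K), t44 ≠ 0 → UP D (R.RNF (0) (0) (0) (0) (0) (0) (0) (0) (0) (0) (0) (0) (t44) (t48) (t50) (t58) (0) (t49) (0) (0) (t61) (t52) (0) (t60) (t62) (t54) (t63) (t64) (t55) (t65) (t67) (t66) (t68) (t69) (t70) (t71))) :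
    ∀ (t44 t48 t50 t58 t49 t61 t52 t53 t60 t62 t54 t63 t64 t55 t65 t67 t66 t68 t69 t70 t71 : K), t44 ≠ 0 → UP D (R.RNF (0) (0) (0) (0) (0) (0) (0) (0) (0) (0) (0) (0) (t44) (t48) (t50) (t58) (0) (t49) (0) (0) (t61) (t52) (t53) (t60) (t62) (t54) (t63) (t64) (t55) (t65) (t67) (t66) (t68) (t69) (t70) (t71)) := by
  intro t44 t48 t50 t58 t49 t61 t52 t53 t60 t62 t54 t63 t64 t55 t65 t67 t66 t68 t69 t70 t71 hn44
  have h2 : (2 : K) = 0 := CharTwo.two_eq_zero
  have h4 : (4 : K) = 0 := by linear_combination 2 * h2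
  have h6 : (6 : K) = 0 := by linear_combination 3 * h2
  have h8 : (8 : K) = 0 := by linear_combination 4 * h2
  have h10 : (10 : K) = 0 := by linear_combination 5 * h2
  have h12 : (12 : K) = 0 := by linear_combination 6 * h2
  have h14 : (14 : K) = 0 := by linear_combination 7 * h2
  have h16 : (16 : K) = 0 := by linear_combination 8 * h2
  have h18 : (18 : K) = 0 := by linear_combination 9 * h2
  have h20 : (20 : K) = 0 := by linear_combination 10 * h2
  have h22 : (22 : K) = 0 := by linear_combination 11 * h2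
  have h24 : (24 : K) = 0 := by linear_combination 12 * h2
  have h26 : (26 : K) = 0 := by linear_combination 13 * h2
  have h28 : (28 : K) = 0 := by linear_combination 14 * h2
  have h30 : (30 : K) = 0 := by linear_combination 15 * h2
  have h32 : (32 : K) = 0 := by linear_combination 16 * h2
  obtain ⟨c, rfl⟩ : ∃ c, t53 = c * t44 := ⟨t53 / t44, by field_simp⟩
  have e : R.X47 c * R.RNF (0) (0) (0) (0) (0) (0) (0) (0) (0) (0) (0) (0) (t44) (t48) (t50) (t58) (0) (t49) (0) (0) (t61) (t52) (c * t44) (t60) (t62) (t54) (t63) (t64) (t55) (t65) (t67) (t66) (t68) (t69) (t70) (t71) * R.X47 c =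
      R.RNF (0) (0) (0) (0) (0) (0) (0) (0) (0) (0) (0) (0) (t44) (t48) (t50) (t58) (0) (t49) (0) (0) (t61) (t52) (0) (t60) (t62) (t54) (t63) (t64) (t55) (c * t60 + t65) (t67) (t66) (t68) (t69) (t70) (c * t69 + t71) := by
    rw [R.ucj47]
    congr 1 <;> (first | rfl | ring1 | (rw [← sub_eq_zero]; ring_nf; simp only [h2, h4, h6, h8, h10, h12, h14, h16, h18, h20, h22, h24, h26, h28, h30, h32, mul_zero, zero_mul, add_zero, zero_add, neg_zero, sub_zero, sub_self]))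
  exact UP_cj D (D.xmem47 c) (R.inv47 c) e (ih _ _ _ _ _ _ _ _ _ _ _ _ _ _ _ _ _ _ _ _ hn44)

theorem e6s12_5 (D : UData R)
    (ih : ∀ (t44 t48 t50 t58 t49 t61 t52 t60 t62 t54 t63 t64 t65 t67 t66 t68 t69 t70 t71 : K), t44 ≠ 0 → UP D (R.RNF (0) (0) (0) (0) (0) (0) (0) (0) (0) (0) (0) (0) (t44) (t48) (t50) (t58) (0) (t49) (0) (0) (t61) (t52) (0) (t60) (t62) (t54) (t63) (t64) (0) (t65) (t67) (t66) (t68) (t69) (t70) (t71))) :
    ∀ (t44 t48 t50 t58 t49 t61 t52 t60 t62 t54 t63 t64 t55 t65 t67 t66 t68 t69 t70 t71 : K), t44 ≠ 0 → UP D (R.RNF (0) (0) (0) (0) (0) (0) (0) (0) (0) (0) (0) (0) (t44) (t48) (t50) (t58) (0) (t49) (0) (0) (t61) (t52) (0) (t60) (t62) (t54) (t63) (t64) (t55) (t65) (t67) (t66) (t68) (t69) (t70) (t71)) := by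
  intro t44 t48 t50 t58 t49 t61 t52 t60 t62 t54 t63 t64 t55 t65 t67 t66 t68 t69 t70 t71 hn44
  have h2 : (2 : K) = 0 := CharTwo.two_eq_zero
  have h4 : (4 : K) = 0 := by linear_combination 2 * h2
  have h6 : (6 : K) = 0 := by linear_combination 3 * h2
  have h8 : (8 : K) = 0 := by linear_combination 4 * h2
  have h10 : (10 : K) = 0 := by linear_combination 5 * h2
  have h12 : (12 : K) = 0 := by linear_combination 6 * h2
  have h14 : (14 : K) = 0 := by linear_combination 7 * h2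
  have h16 : (16 : K) = 0 := by linear_combination 8 * h2
  have h18 : (18 : K) = 0 := by linear_combination 9 * h2
  have h20 : (20 : K) = 0 := by linear_combination 10 * h2
  have h22 : (22 : K) = 0 := by linear_combination 11 * h2
  have h24 : (24 : K) = 0 := by linear_combination 12 * h2
  have h26 : (26 : K) = 0 := by linear_combination 13 * h2
  have h28 : (28 : K) = 0 := by linear_combination 14 * h2
  have h30 : (30 : K) = 0 := by linear_combination 15 * h2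
  have h32 : (32 : K) = 0 := by linear_combination 16 * h2
  obtain ⟨c, rfl⟩ : ∃ c, t55 = c * t44 := ⟨t55 / t44, by field_simp⟩
  have e : R.X49 c * R.RNF (0) (0) (0) (0) (0) (0) (0) (0) (0) (0) (0) (0) (t44) (t48) (t50) (t58) (0) (t49) (0) (0) (t61) (t52) (0) (t60) (t62) (t54) (t63) (t64) (c * t44) (t65) (t67) (t66) (t68) (t69) (t70) (t71) * R.X49 c =
      R.RNF (0) (0) (0) (0) (0) (0) (0) (0) (0) (0) (0) (0) (t44) (t48) (t50) (t58) (0) (t49) (0) (0) (t61) (t52) (0) (t60) (t62) (t54) (t63) (t64) (0) (c * t58 + t65) (t67) (t66) (t68) (t69) (c * t44 * t58 + t70) (c * t44 * t61 + c * t67 + t71) := by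
    rw [R.ucj49]
    congr 1 <;> (first | rfl | ring1 | (rw [← sub_eq_zero]; ring_nf; simp only [h2, h4, h6, h8, h10, h12, h14, h16, h18, h20, h22, h24, h26, h28, h30, h32, mul_zero, zero_mul, add_zero, zero_add, neg_zero, sub_zero, sub_self]))
  exact UP_cj D (D.xmem49 c) (R.inv49 c) e (ih _ _ _ _ _ _ _ _ _ _ _ _ _ _ _ _ _ _ _ hn44)

theorem e6s12_6 (D : UData R)
    (ih : ∀ (t44 t48 t50 t58 t49 t61 t52 t60 t62 t54 t63 t64 t65 t66 t68 t69 t70 t71 : K), t44 ≠ 0 → UP D (R.RNF (0) (0) (0) (0) (0) (0) (0) (0) (0) (0) (0) (0) (t44) (t48) (t50) (t58) (0) (t49) (0) (0) (t61) (t52) (0) (t60) (t62) (t54) (t63) (t64) (0) (t65) (0) (t66) (t68) (t69) (t70) (t71))) :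
    ∀ (t44 t48 t50 t58 t49 t61 t52 t60 t62 t54 t63 t64 t65 t67 t66 t68 t69 t70 t71 : K), t44 ≠ 0 → UP D (R.RNF (0) (0) (0) (0) (0) (0) (0) (0) (0) (0) (0) (0) (t44) (t48) (t50) (t58) (0) (t49) (0) (0) (t61) (t52) (0) (t60) (t62) (t54) (t63) (t64) (0) (t65) (t67) (t66) (t68) (t69) (t70) (t71)) := by
  intro t44 t48 t50 t58 t49 t61 t52 t60 t62 t54 t63 t64 t65 t67 t66 t68 t69 t70 t71 hn44
  have h2 : (2 : K) = 0 := CharTwo.two_eq_zero
  have h4 : (4 : K) = 0 := by linear_combination 2 * h2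
  have h6 : (6 : K) = 0 := by linear_combination 3 * h2
  have h8 : (8 : K) = 0 := by linear_combination 4 * h2
  have h10 : (10 : K) = 0 := by linear_combination 5 * h2
  have h12 : (12 : K) = 0 := by linear_combination 6 * h2
  have h14 : (14 : K) = 0 := by linear_combination 7 * h2
  have h16 : (16 : K) = 0 := by linear_combination 8 * h2
  have h18 : (18 : K) = 0 := by linear_combination 9 * h2
  have h20 : (20 : K) = 0 := by linear_combination 10 * h2
  have h22 : (22 : K) = 0 := by linear_combination 11 * h2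
  have h24 : (24 : K) = 0 := by linear_combination 12 * h2
  have h26 : (26 : K) = 0 := by linear_combination 13 * h2
  have h28 : (28 : K) = 0 := by linear_combination 14 * h2
  have h30 : (30 : K) = 0 := by linear_combination 15 * h2
  have h32 : (32 : K) = 0 := by linear_combination 16 * h2
  obtain ⟨c, rfl⟩ : ∃ c, t67 = c * t44 := ⟨t67 / t44, by field_simp⟩
  have e : R.X61 c * R.RNF (0) (0) (0) (0) (0) (0) (0) (0) (0) (0) (0) (0) (t44) (t48) (t50) (t58) (0) (t49) (0) (0) (t61) (t52) (0) (t60) (t62) (t54) (t63) (t64) (0) (t65) (c * t44) (t66) (t68) (t69) (t70) (t71) * R.X61 c =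
      R.RNF (0) (0) (0) (0) (0) (0) (0) (0) (0) (0) (0) (0) (t44) (t48) (t50) (t58) (0) (t49) (0) (0) (t61) (t52) (0) (t60) (t62) (t54) (t63) (t64) (0) (t65) (0) (t66) (t68) (t69) (t70) (c * t44 * t49 + t71) := by
    rw [R.ucj61]
    congr 1 <;> (first | rfl | ring1 | (rw [← sub_eq_zero]; ring_nf; simp only [h2, h4, h6, h8, h10, h12, h14, h16, h18, h20, h22, h24, h26, h28, h30, h32, mul_zero, zero_mul, add_zero, zero_add, neg_zero, sub_zero, sub_self]))
  exact UP_cj D (D.xmem61 c) (R.inv61 c) e (ih _ _ _ _ _ _ _ _ _ _ _ _ _ _ _ _ _ _ hn44)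

theorem e6s12_7 (D : UData R)
    (ih : ∀ (t44 t48 t50 t58 t49 t61 t52 t60 t62 t54 t63 t64 t65 t66 t68 t70 t71 : K), t44 ≠ 0 → UP D (R.RNF (0) (0) (0) (0) (0) (0) (0) (0) (0) (0) (0) (0) (t44) (t48) (t50) (t58) (0) (t49) (0) (0) (t61) (t52) (0) (t60) (t62) (t54) (t63) (t64) (0) (t65) (0) (t66) (t68) (0) (t70) (t71))) :
    ∀ (t44 t48 t50 t58 t49 t61 t52 t60 t62 t54 t63 t64 t65 t66 t68 t69 t70 t71 : K), t44 ≠ 0 → UP D (R.RNF (0) (0) (0) (0) (0) (0) (0) (0) (0) (0) (0) (0) (t44) (t48) (t50) (t58) (0) (t49) (0) (0) (t61) (t52) (0) (t60) (t62) (t54) (t63) (t64) (0) (t65) (0) (t66) (t68) (t69) (t70) (t71)) := by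
  intro t44 t48 t50 t58 t49 t61 t52 t60 t62 t54 t63 t64 t65 t66 t68 t69 t70 t71 hn44
  have h2 : (2 : K) = 0 := CharTwo.two_eq_zero
  have h4 : (4 : K) = 0 := by linear_combination 2 * h2
  have h6 : (6 : K) = 0 := by linear_combination 3 * h2
  have h8 : (8 : K) = 0 := by linear_combination 4 * h2
  have h10 : (10 : K) = 0 := by linear_combination 5 * h2
  have h12 : (12 : K) = 0 := by linear_combination 6 * h2
  have h14 : (14 : K) = 0 := by linear_combination 7 * h2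
  have h16 : (16 : K) = 0 := by linear_combination 8 * h2
  have h18 : (18 : K) = 0 := by linear_combination 9 * h2
  have h20 : (20 : K) = 0 := by linear_combination 10 * h2
  have h22 : (22 : K) = 0 := by linear_combination 11 * h2
  have h24 : (24 : K) = 0 := by linear_combination 12 * h2
  have h26 : (26 : K) = 0 := by linear_combination 13 * h2
  have h28 : (28 : K) = 0 := by linear_combination 14 * h2
  have h30 : (30 : K) = 0 := by linear_combination 15 * h2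
  have h32 : (32 : K) = 0 := by linear_combination 16 * h2
  obtain ⟨c, rfl⟩ : ∃ c, t69 = c * t44 := ⟨t69 / t44, by field_simp⟩
  have e : R.X63 c * R.RNF (0) (0) (0) (0) (0) (0) (0) (0) (0) (0) (0) (0) (t44) (t48) (t50) (t58) (0) (t49) (0) (0) (t61) (t52) (0) (t60) (t62) (t54) (t63) (t64) (0) (t65) (0) (t66) (t68) (c * t44) (t70) (t71) * R.X63 c =
      R.RNF (0) (0) (0) (0) (0) (0) (0) (0) (0) (0) (0) (0) (t44) (t48) (t50) (t58) (0) (t49) (0) (0) (t61) (t52) (0) (t60) (t62) (t54) (t63) (t64) (0) (t65) (0) (t66) (t68) (0) (t70) (t71) := by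
    rw [R.ucj63]
    congr 1 <;> (first | rfl | ring1 | (rw [← sub_eq_zero]; ring_nf; simp only [h2, h4, h6, h8, h10, h12, h14, h16, h18, h20, h22, h24, h26, h28, h30, h32, mul_zero, zero_mul, add_zero, zero_add, neg_zero, sub_zero, sub_self]))
  exact UP_cj D (D.xmem63 c) (R.inv63 c) e (ih _ _ _ _ _ _ _ _ _ _ _ _ _ _ _ _ _ hn44)

theorem e6s12_8 (D : UData R)
    (ih : ∀ (t44 t48 t50 t58 t49 t61 t52 t60 t62 t54 t63 t64 t65 t66 t68 t71 : K), t44 ≠ 0 → UP D (R.RNF (0) (0) (0) (0) (0) (0) (0) (0) (0) (0) (0) (0) (t44) (t48) (t50) (t58) (0) (t49) (0) (0) (t61) (t52) (0) (t60) (t62) (t54) (t63) (t64) (0) (t65) (0) (t66) (t68) (0) (0) (t71))) :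
    ∀ (t44 t48 t50 t58 t49 t61 t52 t60 t62 t54 t63 t64 t65 t66 t68 t70 t71 : K), t44 ≠ 0 → UP D (R.RNF (0) (0) (0) (0) (0) (0) (0) (0) (0) (0) (0) (0) (t44) (t48) (t50) (t58) (0) (t49) (0) (0) (t61) (t52) (0) (t60) (t62) (t54) (t63) (t64) (0) (t65) (0) (t66) (t68) (0) (t70) (t71)) := by
  intro t44 t48 t50 t58 t49 t61 t52 t60 t62 t54 t63 t64 t65 t66 t68 t70 t71 hn44
  have h2 : (2 : K) = 0 := CharTwo.two_eq_zero
  have h4 : (4 : K) = 0 := by linear_combination 2 * h2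
  have h6 : (6 : K) = 0 := by linear_combination 3 * h2
  have h8 : (8 : K) = 0 := by linear_combination 4 * h2
  have h10 : (10 : K) = 0 := by linear_combination 5 * h2
  have h12 : (12 : K) = 0 := by linear_combination 6 * h2
  have h14 : (14 : K) = 0 := by linear_combination 7 * h2
  have h16 : (16 : K) = 0 := by linear_combination 8 * h2
  have h18 : (18 : K) = 0 := by linear_combination 9 * h2
  have h20 : (20 : K) = 0 := by linear_combination 10 * h2
  have h22 : (22 : K) = 0 := by linear_combination 11 * h2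
  have h24 : (24 : K) = 0 := by linear_combination 12 * h2
  have h26 : (26 : K) = 0 := by linear_combination 13 * h2
  have h28 : (28 : K) = 0 := by linear_combination 14 * h2
  have h30 : (30 : K) = 0 := by linear_combination 15 * h2
  have h32 : (32 : K) = 0 := by linear_combination 16 * h2
  obtain ⟨c, rfl⟩ : ∃ c, t70 = c * t44 := ⟨t70 / t44, by field_simp⟩
  have e : R.X65 c * R.RNF (0) (0) (0) (0) (0) (0) (0) (0) (0) (0) (0) (0) (t44) (t48) (t50) (t58) (0) (t49) (0) (0) (t61) (t52) (0) (t60) (t62) (t54) (t63) (t64) (0) (t65) (0) (t66) (t68) (0) (c * t44) (t71) * R.X65 c =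
      R.RNF (0) (0) (0) (0) (0) (0) (0) (0) (0) (0) (0) (0) (t44) (t48) (t50) (t58) (0) (t49) (0) (0) (t61) (t52) (0) (t60) (t62) (t54) (t63) (t64) (0) (t65) (0) (t66) (t68) (0) (0) (t71) := by
    rw [R.ucj65]
    congr 1 <;> (first | rfl | ring1 | (rw [← sub_eq_zero]; ring_nf; simp only [h2, h4, h6, h8, h10, h12, h14, h16, h18, h20, h22, h24, h26, h28, h30, h32, mul_zero, zero_mul, add_zero, zero_add, neg_zero, sub_zero, sub_self]))
  exact UP_cj D (D.xmem65 c) (R.inv65 c) e (ih _ _ _ _ _ _ _ _ _ _ _ _ _ _ _ _ hn44)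

theorem e6s12_9 (D : UData R)
    (ih : ∀ (t44 t48 t50 t58 t61 t52 t60 t62 t54 t63 t64 t65 t66 t68 t71 : K), t44 ≠ 0 → UP D (R.RNF (0) (0) (0) (0) (0) (0) (0) (0) (0) (0) (0) (0) (t44) (t48) (t50) (t58) (0) (0) (0) (0) (t61) (t52) (0) (t60) (t62) (t54) (t63) (t64) (0) (t65) (0) (t66) (t68) (0) (0) (t71))) :
    ∀ (t44 t48 t50 t58 t49 t61 t52 t60 t62 t54 t63 t64 t65 t66 t68 t71 : K), t44 ≠ 0 → UP D (R.RNF (0) (0) (0) (0) (0) (0) (0) (0) (0) (0) (0) (0) (t44) (t48) (t50) (t58) (0) (t49) (0) (0) (t61) (t52) (0) (t60) (t62) (t54) (t63) (t64) (0) (t65) (0) (t66) (t68) (0) (0) (t71)) := by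
  intro t44 t48 t50 t58 t49 t61 t52 t60 t62 t54 t63 t64 t65 t66 t68 t71 hn44 hu hne
  have hsq := hu
  rw [R.usq] at hsq
  obtain ⟨e36, e37, e39, e42, e46, e56, e38, e40, e43, e47, e57, e41, e44, e48, e50, e58, e45, e49, e51, e59, e61, e52, e53, e60, e62, e54, e63, e64, e55, e65, e67, e66, e68, e69, e70, e71⟩ := D.inj _ _ _ _ _ _ _ _ _ _ _ _ _ _ _ _ _ _ _ _ _ _ _ _ _ _ _ _ _ _ _ _ _ _ _ _ hsq
  have hz : t49 = 0 := by
    have h : t44 * t49 = 0 := by linear_combination e55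
    exact (mul_eq_zero.mp h).resolve_left hn44
  subst hz
  exact ih _ _ _ _ _ _ _ _ _ _ _ _ _ _ _ hn44 hu hne

theorem e6s12_10 (D : UData R)
    (ih : ∀ (t44 t48 t50 t58 t52 t60 t62 t54 t63 t64 t65 t66 t68 t71 : K), t44 ≠ 0 → UP D (R.RNF (0) (0) (0) (0) (0) (0) (0) (0) (0) (0) (0) (0) (t44) (t48) (t50) (t58) (0) (0) (0) (0) (0) (t52) (0) (t60) (t62) (t54) (t63) (t64) (0) (t65) (0) (t66) (t68) (0) (0) (t71))) :
    ∀ (t44 t48 t50 t58 t61 t52 t60 t62 t54 t63 t64 t65 t66 t68 t71 : K), t44 ≠ 0 → UP D (R.RNF (0) (0) (0) (0) (0) (0) (0) (0) (0) (0) (0) (0) (t44) (t48) (t50) (t58) (0) (0) (0) (0) (t61) (t52) (0) (t60) (t62) (t54) (t63) (t64) (0) (t65) (0) (t66) (t68) (0) (0) (t71)) := by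
  intro t44 t48 t50 t58 t61 t52 t60 t62 t54 t63 t64 t65 t66 t68 t71 hn44 hu hne
  have hsq := hu
  rw [R.usq] at hsq
  obtain ⟨e36, e37, e39, e42, e46, e56, e38, e40, e43, e47, e57, e41, e44, e48, e50, e58, e45, e49, e51, e59, e61, e52, e53, e60, e62, e54, e63, e64, e55, e65, e67, e66, e68, e69, e70, e71⟩ := D.inj _ _ _ _ _ _ _ _ _ _ _ _ _ _ _ _ _ _ _ _ _ _ _ _ _ _ _ _ _ _ _ _ _ _ _ _ hsq
  have hz : t61 = 0 := by
    have h : t44 * t61 = 0 := by linear_combination e67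
    exact (mul_eq_zero.mp h).resolve_left hn44
  subst hz
  exact ih _ _ _ _ _ _ _ _ _ _ _ _ _ _ hn44 hu hne

theorem e6s12_11 (D : UData R)
    (ih : ∀ (t44 t48 t50 t58 t52 t60 t62 t54 t64 t65 t66 t68 t71 : K), t44 ≠ 0 → UP D (R.RNF (0) (0) (0) (0) (0) (0) (0) (0) (0) (0) (0) (0) (t44) (t48) (t50) (t58) (0) (0) (0) (0) (0) (t52) (0) (t60) (t62) (t54) (0) (t64) (0) (t65) (0) (t66) (t68) (0) (0) (t71))) :
    ∀ (t44 t48 t50 t58 t52 t60 t62 t54 t63 t64 t65 t66 t68 t71 : K), t44 ≠ 0 → UP D (R.RNF (0) (0) (0) (0) (0) (0) (0) (0) (0) (0) (0) (0) (t44) (t48) (t50) (t58) (0) (0) (0) (0) (0) (t52) (0) (t60) (t62) (t54) (t63) (t64) (0) (t65) (0) (t66) (t68) (0) (0) (t71)) := by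
  intro t44 t48 t50 t58 t52 t60 t62 t54 t63 t64 t65 t66 t68 t71 hn44 hu hne
  have hsq := hu
  rw [R.usq] at hsq
  obtain ⟨e36, e37, e39, e42, e46, e56, e38, e40, e43, e47, e57, e41, e44, e48, e50, e58, e45, e49, e51, e59, e61, e52, e53, e60, e62, e54, e63, e64, e55, e65, e67, e66, e68, e69, e70, e71⟩ := D.inj _ _ _ _ _ _ _ _ _ _ _ _ _ _ _ _ _ _ _ _ _ _ _ _ _ _ _ _ _ _ _ _ _ _ _ _ hsq
  have hz : t63 = 0 := by
    have h : t44 * t63 = 0 := by linear_combination e69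
    exact (mul_eq_zero.mp h).resolve_left hn44
  subst hz
  exact ih _ _ _ _ _ _ _ _ _ _ _ _ _ hn44 hu hne

theorem e6s12_12 (D : UData R)
    (ih : ∀ (t44 t48 t50 t58 t52 t60 t62 t54 t64 t66 t68 t71 : K), t44 ≠ 0 → UP D (R.RNF (0) (0) (0) (0) (0) (0) (0) (0) (0) (0) (0) (0) (t44) (t48) (t50) (t58) (0) (0) (0) (0) (0) (t52) (0) (t60) (t62) (t54) (0) (t64) (0) (0) (0) (t66) (t68) (0) (0) (t71))) :
    ∀ (t44 t48 t50 t58 t52 t60 t62 t54 t64 t65 t66 t68 t71 : K), t44 ≠ 0 → UP D (R.RNF (0) (0) (0) (0) (0) (0) (0) (0) (0) (0) (0) (0) (t44) (t48) (t50) (t58) (0) (0) (0) (0) (0) (t52) (0) (t60) (t62) (t54) (0) (t64) (0) (t65) (0) (t66) (t68) (0) (0) (t71)) := by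
  intro t44 t48 t50 t58 t52 t60 t62 t54 t64 t65 t66 t68 t71 hn44 hu hne
  have hsq := hu
  rw [R.usq] at hsq
  obtain ⟨e36, e37, e39, e42, e46, e56, e38, e40, e43, e47, e57, e41, e44, e48, e50, e58, e45, e49, e51, e59, e61, e52, e53, e60, e62, e54, e63, e64, e55, e65, e67, e66, e68, e69, e70, e71⟩ := D.inj _ _ _ _ _ _ _ _ _ _ _ _ _ _ _ _ _ _ _ _ _ _ _ _ _ _ _ _ _ _ _ _ _ _ _ _ hsq
  have hz : t65 = 0 := by
    have h : t44 * t65 = 0 := by linear_combination e70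
    exact (mul_eq_zero.mp h).resolve_left hn44
  subst hz
  exact ih _ _ _ _ _ _ _ _ _ _ _ _ hn44 hu hne

theorem e6s12_13 (D : UData R)
    (ih : ∀ (t50 t58 t45 t49 t51 t59 t53 t63 t65 t67 t66 t71 : K), t45 ≠ 0 → UP D (R.RNF (0) (0) (0) (0) (0) (0) (0) (0) (0) (0) (0) (0) (0) (0) (t50) (t58) (t45) (t49) (t51) (t59) (0) (0) (t53) (0) (0) (0) (t63) (0) (0) (t65) (t67) (t66) (0) (0) (0) (t71))) :
    ∀ (t44 t48 t50 t58 t52 t60 t62 t54 t64 t66 t68 t71 : K), t44 ≠ 0 → UP D (R.RNF (0) (0) (0) (0) (0) (0) (0) (0) (0) (0) (0) (0) (t44) (t48) (t50) (t58) (0) (0) (0) (0) (0) (t52) (0) (t60) (t62) (t54) (0) (t64) (0) (0) (0) (t66) (t68) (0) (0) (t71)) := by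
  intro t44 t48 t50 t58 t52 t60 t62 t54 t64 t66 t68 t71 hn44
  have h2 : (2 : K) = 0 := CharTwo.two_eq_zero
  have h4 : (4 : K) = 0 := by linear_combination 2 * h2
  have h6 : (6 : K) = 0 := by linear_combination 3 * h2
  have h8 : (8 : K) = 0 := by linear_combination 4 * h2
  have h10 : (10 : K) = 0 := by linear_combination 5 * h2
  have h12 : (12 : K) = 0 := by linear_combination 6 * h2
  have h14 : (14 : K) = 0 := by linear_combination 7 * h2
  have h16 : (16 : K) = 0 := by linear_combination 8 * h2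
  have h18 : (18 : K) = 0 := by linear_combination 9 * h2
  have h20 : (20 : K) = 0 := by linear_combination 10 * h2
  have h22 : (22 : K) = 0 := by linear_combination 11 * h2
  have h24 : (24 : K) = 0 := by linear_combination 12 * h2
  have h26 : (26 : K) = 0 := by linear_combination 13 * h2
  have h28 : (28 : K) = 0 := by linear_combination 14 * h2
  have h30 : (30 : K) = 0 := by linear_combination 15 * h2
  have h32 : (32 : K) = 0 := by linear_combination 16 * h2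
  have e : D.n6 * R.RNF (0) (0) (0) (0) (0) (0) (0) (0) (0) (0) (0) (0) (t44) (t48) (t50) (t58) (0) (0) (0) (0) (0) (t52) (0) (t60) (t62) (t54) (0) (t64) (0) (0) (0) (t66) (t68) (0) (0) (t71) * D.n6⁻¹ =
      R.RNF (0) (0) (0) (0) (0) (0) (0) (0) (0) (0) (0) (0) (0) (0) (t50) (t58) (t44) (t48) (t52) (t60) (0) (0) (t54) (0) (0) (0) (t62) (0) (0) (t48 * t58 + t64) (t68) (t66) (0) (0) (0) (t48 * t52 * t58 + t54 * t62 + t71) := by
    rw [D.toWeylE6.conj_n6]
    congr 1 <;> (first | rfl | ring1 | (rw [← sub_eq_zero]; ring_nf; simp only [h2, h4, h6, h8, h10, h12, h14, h16, h18, h20, h22, h24, h26, h28, h30, h32, mul_zero, zero_mul, add_zero, zero_add, neg_zero, sub_zero, sub_self]))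
  exact UP_n D D.n6_mem e (ih _ _ _ _ _ _ _ _ _ _ _ _ hn44)

theorem upiv12 (D : UData R)
    (ih : ∀ (t48 t50 t58 t45 t49 t51 t59 t61 t52 t53 t60 t62 t54 t63 t64 t55 t65 t67 t66 t68 t69 t70 t71 : K), UP D (R.RNF (0) (0) (0) (0) (0) (0) (0) (0) (0) (0) (0) (0) (0) (t48) (t50) (t58) (t45) (t49) (t51) (t59) (t61) (t52) (t53) (t60) (t62) (t54) (t63) (t64) (t55) (t65) (t67) (t66) (t68) (t69) (t70) (t71))) :
    ∀ (t44 t48 t50 t58 t45 t49 t51 t59 t61 t52 t53 t60 t62 t54 t63 t64 t55 t65 t67 t66 t68 t69 t70 t71 : K), UP D (R.RNF (0) (0) (0) (0) (0) (0) (0) (0) (0) (0) (0) (0) (t44) (t48) (t50) (t58) (t45) (t49) (t51) (t59) (t61) (t52) (t53) (t60) (t62) (t54) (t63) (t64) (t55) (t65) (t67) (t66) (t68) (t69) (t70) (t71)) := by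
  intro t44 t48 t50 t58 t45 t49 t51 t59 t61 t52 t53 t60 t62 t54 t63 t64 t55 t65 t67 t66 t68 t69 t70 t71
  by_cases h0 : t44 = 0
  · subst h0; exact ih _ _ _ _ _ _ _ _ _ _ _ _ _ _ _ _ _ _ _ _ _ _ _
  · exact (e6s12_1 D (e6s12_2 D (e6s12_3 D (e6s12_4 D (e6s12_5 D (e6s12_6 D (e6s12_7 D (e6s12_8 D (e6s12_9 D (e6s12_10 D (e6s12_11 D (e6s12_12 D (e6s12_13 D (fun t50 t58 t45 t49 t51 t59 t53 t63 t65 t67 t66 t71 _ => ih 0 t50 t58 t45 t49 t51 t59 0 0 t53 0 0 0 t63 0 0 t65 t67 t66 0 0 0 t71)))))))))))))) t44 t48 t50 t58 t45 t49 t51 t59 t61 t52 t53 t60 t62 t54 t63 t64 t55 t65 t67 t66 t68 t69 t70 t71 h0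

end Cfsg.Agent.Helper4.E6Inv
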