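import Cfsg.Agent.Helper4.E6Inv.UFinT

/-! Generated: steps of the reduction of involutions in the unipotent group of `E₆`
(characteristic two). -/

set_option autoImplicit false
set_option maxHeartbeats 8000000
set_option maxRecDepth 100000
set_option linter.unusedSimpArgs false
set_option linter.unusedVariables false
set_option linter.unusedSectionVars false
set_option linter.unusedTactic false
set_option linter.unreachableTactic false

namespace Cfsg.Agent.Helper4.E6Inv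

variable {K Γ : Type*} [Field K] [Group Γ] {R : RelE6 K Γ} [CharP K 2]

theorem e6s13_1 (D : UData R)
    (ih : ∀ (t48 t50 t45 t49 t51 t59 t61 t52 t53 t60 t62 t54 t63 t64 t55 t65 t67 t66 t68 t69 t70 t71 : K), t48 ≠ 0 → UP D (R.RNF (0) (0) (0) (0) (0) (0) (0) (0) (0) (0) (0) (0) (0) (t48) (t50) (0) (t45) (t49) (t51) (t59) (t61) (t52) (t53) (t60) (t62) (t54) (t63) (t64) (t55) (t65) (t67) (t66) (t68) (t69) (t70) (t71))) :
    ∀ (t48 t50 t58 t45 t49 t51 t59 t61 t52 t53 t60 t62 t54 t63 t64 t55 t65 t67 t66 t68 t69 t70 t71 : K), t48 ≠ 0 → UP D (R.RNF (0) (0) (0) (0) (0) (0) (0) (0) (0) (0) (0) (0) (0) (t48) (t50) (t58) (t45) (t49) (t51) (t59) (t61) (t52) (t53) (t60) (t62) (t54) (t63) (t64) (t55) (t65) (t67) (t66) (t68) (t69) (t70) (t71)) := by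
  intro t48 t50 t58 t45 t49 t51 t59 t61 t52 t53 t60 t62 t54 t63 t64 t55 t65 t67 t66 t68 t69 t70 t71 hn48 hu hne
  have hsq := hu
  rw [R.usq] at hsq
  obtain ⟨e36, e37, e39, e42, e46, e56, e38, e40, e43, e47, e57, e41, e44, e48, e50, e58, e45, e49, e51, e59, e61, e52, e53, e60, e62, e54, e63, e64, e55, e65, e67, e66, e68, e69, e70, e71⟩ := D.inj _ _ _ _ _ _ _ _ _ _ _ _ _ _ _ _ _ _ _ _ _ _ _ _ _ _ _ _ _ _ _ _ _ _ _ _ hsq
  have hz : t58 = 0 := by
    have h : t48 * t58 = 0 := by linear_combination e64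
    exact (mul_eq_zero.mp h).resolve_left hn48
  subst hz
  exact ih _ _ _ _ _ _ _ _ _ _ _ _ _ _ _ _ _ _ _ _ _ _ hn48 hu hne

theorem e6s13_2 (D : UData R)
    (ih : ∀ (t48 t50 t49 t51 t59 t61 t52 t53 t60 t62 t54 t63 t64 t55 t65 t67 t66 t68 t69 t70 t71 : K), t48 ≠ 0 → UP D (R.RNF (0) (0) (0) (0) (0) (0) (0) (0) (0) (0) (0) (0) (0) (t48) (t50) (0) (0) (t49) (t51) (t59) (t61) (t52) (t53) (t60) (t62) (t54) (t63) (t64) (t55) (t65) (t67) (t66) (t68) (t69) (t70) (t71))) :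
    ∀ (t48 t50 t45 t49 t51 t59 t61 t52 t53 t60 t62 t54 t63 t64 t55 t65 t67 t66 t68 t69 t70 t71 : K), t48 ≠ 0 → UP D (R.RNF (0) (0) (0) (0) (0) (0) (0) (0) (0) (0) (0) (0) (0) (t48) (t50) (0) (t45) (t49) (t51) (t59) (t61) (t52) (t53) (t60) (t62) (t54) (t63) (t64) (t55) (t65) (t67) (t66) (t68) (t69) (t70) (t71)) := by
  intro t48 t50 t45 t49 t51 t59 t61 t52 t53 t60 t62 t54 t63 t64 t55 t65 t67 t66 t68 t69 t70 t71 hn48 hu hne
  have hsq := hu
  rw [R.usq] at hsq
  obtain ⟨e36, e37, e39, e42, e46, e56, e38, e40, e43, e47, e57, e41, e44, e48, e50, e58, e45, e49, e51, e59, e61, e52, e53, e60, e62, e54, e63, e64, e55, e65, e67, e66, e68, e69, e70, e71⟩ := D.inj _ _ _ _ _ _ _ _ _ _ _ _ _ _ _ _ _ _ _ _ _ _ _ _ _ _ _ _ _ _ _ _ _ _ _ _ hsq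
  have hz : t45 = 0 := by
    have h : t48 * t45 = 0 := by linear_combination e55
    exact (mul_eq_zero.mp h).resolve_left hn48
  subst hz
  exact ih _ _ _ _ _ _ _ _ _ _ _ _ _ _ _ _ _ _ _ _ _ hn48 hu hne

theorem e6s13_3 (D : UData R)
    (ih : ∀ (t48 t50 t51 t59 t61 t52 t53 t60 t62 t54 t63 t64 t55 t65 t67 t66 t68 t69 t70 t71 : K), t48 ≠ 0 → UP D (R.RNF (0) (0) (0) (0) (0) (0) (0) (0) (0) (0) (0) (0) (0) (t48) (t50) (0) (0) (0) (t51) (t59) (t61) (t52) (t53) (t60) (t62) (t54) (t63) (t64) (t55) (t65) (t67) (t66) (t68) (t69) (t70) (t71))) :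
    ∀ (t48 t50 t49 t51 t59 t61 t52 t53 t60 t62 t54 t63 t64 t55 t65 t67 t66 t68 t69 t70 t71 : K), t48 ≠ 0 → UP D (R.RNF (0) (0) (0) (0) (0) (0) (0) (0) (0) (0) (0) (0) (0) (t48) (t50) (0) (0) (t49) (t51) (t59) (t61) (t52) (t53) (t60) (t62) (t54) (t63) (t64) (t55) (t65) (t67) (t66) (t68) (t69) (t70) (t71)) := by
  intro t48 t50 t49 t51 t59 t61 t52 t53 t60 t62 t54 t63 t64 t55 t65 t67 t66 t68 t69 t70 t71 hn48
  have h2 : (2 : K) = 0 := CharTwo.two_eq_zero
  have h4 : (4 : K) = 0 := by linear_combination 2 * h2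
  have h6 : (6 : K) = 0 := by linear_combination 3 * h2
  have h8 : (8 : K) = 0 := by linear_combination 4 * h2
  have h10 : (10 : K) = 0 := by linear_combination 5 * h2
  have h12 : (12 : K) = 0 := by linear_combination 6 * h2
  have h14 : (14 : K) = 0 := by linear_combination 7 * h2
  have h16 : (16 : K) = 0 := by linear_combination 8 * h2
  have h18 : (18 : K) = 0 := by linear_combination 9 * h2
  have h20 : (20 : K) = 0 := by linear_combination 10 * h2
  have h22 : (22 : K) = 0 := by linear_combination 11 * h2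
  have h24 : (24 : K) = 0 := by linear_combination 12 * h2
  have h26 : (26 : K) = 0 := by linear_combination 13 * h2
  have h28 : (28 : K) = 0 := by linear_combination 14 * h2
  have h30 : (30 : K) = 0 := by linear_combination 15 * h2
  have h32 : (32 : K) = 0 := by linear_combination 16 * h2
  obtain ⟨c, rfl⟩ : ∃ c, t49 = c * t48 := ⟨t49 / t48, by field_simp⟩
  have e : R.X36 c * R.RNF (0) (0) (0) (0) (0) (0) (0) (0) (0) (0) (0) (0) (0) (t48) (t50) (0) (0) (c * t48) (t51) (t59) (t61) (t52) (t53) (t60) (t62) (t54) (t63) (t64) (t55) (t65) (t67) (t66) (t68) (t69) (t70) (t71) * R.X36 c =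
      R.RNF (0) (0) (0) (0) (0) (0) (0) (0) (0) (0) (0) (0) (0) (t48) (t50) (0) (0) (0) (t51) (t59) (t61) (c * t51 + t52) (t53) (c * t59 + t60) (t62) (c * t53 + t54) (c * t62 + t63) (t64) (t55) (c * t64 + t65) (t67) (t66) (c * t67 + t68) (c * t51 * t59 + t69) (c * t53 * t59 + t70) (c * t53 * t62 + t71) := by
    rw [R.ucj36]
    congr 1 <;> (first | rfl | ring1 | (rw [← sub_eq_zero]; ring_nf; simp only [h2, h4, h6, h8, h10, h12, h14, h16, h18, h20, h22, h24, h26, h28, h30, h32, mul_zero, zero_mul, add_zero, zero_add, neg_zero, sub_zero, sub_self]))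
  exact UP_cj D (D.xmem36 c) (R.inv36 c) e (ih _ _ _ _ _ _ _ _ _ _ _ _ _ _ _ _ _ _ _ _ hn48)

theorem e6s13_4 (D : UData R)
    (ih : ∀ (t48 t50 t59 t61 t52 t53 t60 t62 t54 t63 t64 t55 t65 t67 t66 t68 t69 t70 t71 : K), t48 ≠ 0 → UP D (R.RNF (0) (0) (0) (0) (0) (0) (0) (0) (0) (0) (0) (0) (0) (t48) (t50) (0) (0) (0) (0) (t59) (t61) (t52) (t53) (t60) (t62) (t54) (t63) (t64) (t55) (t65) (t67) (t66) (t68) (t69) (t70) (t71))) :
    ∀ (t48 t50 t51 t59 t61 t52 t53 t60 t62 t54 t63 t64 t55 t65 t67 t66 t68 t69 t70 t71 : K), t48 ≠ 0 → UP D (R.RNF (0) (0) (0) (0) (0) (0) (0) (0) (0) (0) (0) (0) (0) (t48) (t50) (0) (0) (0) (t51) (t59) (t61) (t52) (t53) (t60) (t62) (t54) (t63) (t64) (t55) (t65) (t67) (t66) (t68) (t69) (t70) (t71)) := by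
  intro t48 t50 t51 t59 t61 t52 t53 t60 t62 t54 t63 t64 t55 t65 t67 t66 t68 t69 t70 t71 hn48
  have h2 : (2 : K) = 0 := CharTwo.two_eq_zero
  have h4 : (4 : K) = 0 := by linear_combination 2 * h2
  have h6 : (6 : K) = 0 := by linear_combination 3 * h2
  have h8 : (8 : K) = 0 := by linear_combination 4 * h2
  have h10 : (10 : K) = 0 := by linear_combination 5 * h2
  have h12 : (12 : K) = 0 := by linear_combination 6 * h2
  have h14 : (14 : K) = 0 := by linear_combination 7 * h2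
  have h16 : (16 : K) = 0 := by linear_combination 8 * h2
  have h18 : (18 : K) = 0 := by linear_combination 9 * h2
  have h20 : (20 : K) = 0 := by linear_combination 10 * h2
  have h22 : (22 : K) = 0 := by linear_combination 11 * h2
  have h24 : (24 : K) = 0 := by linear_combination 12 * h2
  have h26 : (26 : K) = 0 := by linear_combination 13 * h2
  have h28 : (28 : K) = 0 := by linear_combination 14 * h2
  have h30 : (30 : K) = 0 := by linear_combination 15 * h2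
  have h32 : (32 : K) = 0 := by linear_combination 16 * h2
  obtain ⟨c, rfl⟩ : ∃ c, t51 = c * t48 := ⟨t51 / t48, by field_simp⟩
  have e : R.X42 c * R.RNF (0) (0) (0) (0) (0) (0) (0) (0) (0) (0) (0) (0) (0) (t48) (t50) (0) (0) (0) (c * t48) (t59) (t61) (t52) (t53) (t60) (t62) (t54) (t63) (t64) (t55) (t65) (t67) (t66) (t68) (t69) (t70) (t71) * R.X42 c =
      R.RNF (0) (0) (0) (0) (0) (0) (0) (0) (0) (0) (0) (0) (0) (t48) (t50) (0) (0) (0) (0) (t59) (t61) (t52) (t53) (t60) (t62) (t54) (t63) (t64) (t55) (t65) (c * t64 + t67) (t66) (c * t65 + t68) (c * t66 + t69) (t70) (t71) := by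
    rw [R.ucj42]
    congr 1 <;> (first | rfl | ring1 | (rw [← sub_eq_zero]; ring_nf; simp only [h2, h4, h6, h8, h10, h12, h14, h16, h18, h20, h22, h24, h26, h28, h30, h32, mul_zero, zero_mul, add_zero, zero_add, neg_zero, sub_zero, sub_self]))
  exact UP_cj D (D.xmem42 c) (R.inv42 c) e (ih _ _ _ _ _ _ _ _ _ _ _ _ _ _ _ _ _ _ _ hn48)

theorem e6s13_5 (D : UData R)
    (ih : ∀ (t48 t50 t59 t61 t52 t60 t62 t54 t63 t64 t55 t65 t67 t66 t68 t69 t70 t71 : K), t48 ≠ 0 → UP D (R.RNF (0) (0) (0) (0) (0) (0) (0) (0) (0) (0) (0) (0) (0) (t48) (t50) (0) (0) (0) (0) (t59) (t61) (t52) (0) (t60) (t62) (t54) (t63) (t64) (t55) (t65) (t67) (t66) (t68) (t69) (t70) (t71))) :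
    ∀ (t48 t50 t59 t61 t52 t53 t60 t62 t54 t63 t64 t55 t65 t67 t66 t68 t69 t70 t71 : K), t48 ≠ 0 → UP D (R.RNF (0) (0) (0) (0) (0) (0) (0) (0) (0) (0) (0) (0) (0) (t48) (t50) (0) (0) (0) (0) (t59) (t61) (t52) (t53) (t60) (t62) (t54) (t63) (t64) (t55) (t65) (t67) (t66) (t68) (t69) (t70) (t71)) := by
  intro t48 t50 t59 t61 t52 t53 t60 t62 t54 t63 t64 t55 t65 t67 t66 t68 t69 t70 t71 hn48
  have h2 : (2 : K) = 0 := CharTwo.two_eq_zero
  have h4 : (4 : K) = 0 := by linear_combination 2 * h2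
  have h6 : (6 : K) = 0 := by linear_combination 3 * h2
  have h8 : (8 : K) = 0 := by linear_combination 4 * h2
  have h10 : (10 : K) = 0 := by linear_combination 5 * h2
  have h12 : (12 : K) = 0 := by linear_combination 6 * h2
  have h14 : (14 : K) = 0 := by linear_combination 7 * h2
  have h16 : (16 : K) = 0 := by linear_combination 8 * h2
  have h18 : (18 : K) = 0 := by linear_combination 9 * h2
  have h20 : (20 : K) = 0 := by linear_combination 10 * h2
  have h22 : (22 : K) = 0 := by linear_combination 11 * h2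
  have h24 : (24 : K) = 0 := by linear_combination 12 * h2
  have h26 : (26 : K) = 0 := by linear_combination 13 * h2
  have h28 : (28 : K) = 0 := by linear_combination 14 * h2
  have h30 : (30 : K) = 0 := by linear_combination 15 * h2
  have h32 : (32 : K) = 0 := by linear_combination 16 * h2
  obtain ⟨c, rfl⟩ : ∃ c, t53 = c * t48 := ⟨t53 / t48, by field_simp⟩
  have e : R.X43 c * R.RNF (0) (0) (0) (0) (0) (0) (0) (0) (0) (0) (0) (0) (0) (t48) (t50) (0) (0) (0) (0) (t59) (t61) (t52) (c * t48) (t60) (t62) (t54) (t63) (t64) (t55) (t65) (t67) (t66) (t68) (t69) (t70) (t71) * R.X43 c =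
      R.RNF (0) (0) (0) (0) (0) (0) (0) (0) (0) (0) (0) (0) (0) (t48) (t50) (0) (0) (0) (0) (t59) (t61) (t52) (0) (t60) (t62) (t54) (t63) (t64) (t55) (t65) (c * t62 + t67) (t66) (c * t63 + t68) (t69) (c * t66 + t70) (t71) := by
    rw [R.ucj43]
    congr 1 <;> (first | rfl | ring1 | (rw [← sub_eq_zero]; ring_nf; simp only [h2, h4, h6, h8, h10, h12, h14, h16, h18, h20, h22, h24, h26, h28, h30, h32, mul_zero, zero_mul, add_zero, zero_add, neg_zero, sub_zero, sub_self]))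
  exact UP_cj D (D.xmem43 c) (R.inv43 c) e (ih _ _ _ _ _ _ _ _ _ _ _ _ _ _ _ _ _ _ hn48)

theorem e6s13_6 (D : UData R)
    (ih : ∀ (t48 t50 t59 t61 t52 t60 t54 t63 t64 t55 t65 t67 t66 t68 t69 t70 t71 : K), t48 ≠ 0 → UP D (R.RNF (0) (0) (0) (0) (0) (0) (0) (0) (0) (0) (0) (0) (0) (t48) (t50) (0) (0) (0) (0) (t59) (t61) (t52) (0) (t60) (0) (t54) (t63) (t64) (t55) (t65) (t67) (t66) (t68) (t69) (t70) (t71))) :
    ∀ (t48 t50 t59 t61 t52 t60 t62 t54 t63 t64 t55 t65 t67 t66 t68 t69 t70 t71 : K), t48 ≠ 0 → UP D (R.RNF (0) (0) (0) (0) (0) (0) (0) (0) (0) (0) (0) (0) (0) (t48) (t50) (0) (0) (0) (0) (t59) (t61) (t52) (0) (t60) (t62) (t54) (t63) (t64) (t55) (t65) (t67) (t66) (t68) (t69) (t70) (t71)) := by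
  intro t48 t50 t59 t61 t52 t60 t62 t54 t63 t64 t55 t65 t67 t66 t68 t69 t70 t71 hn48
  have h2 : (2 : K) = 0 := CharTwo.two_eq_zero
  have h4 : (4 : K) = 0 := by linear_combination 2 * h2
  have h6 : (6 : K) = 0 := by linear_combination 3 * h2
  have h8 : (8 : K) = 0 := by linear_combination 4 * h2
  have h10 : (10 : K) = 0 := by linear_combination 5 * h2
  have h12 : (12 : K) = 0 := by linear_combination 6 * h2
  have h14 : (14 : K) = 0 := by linear_combination 7 * h2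
  have h16 : (16 : K) = 0 := by linear_combination 8 * h2
  have h18 : (18 : K) = 0 := by linear_combination 9 * h2
  have h20 : (20 : K) = 0 := by linear_combination 10 * h2
  have h22 : (22 : K) = 0 := by linear_combination 11 * h2
  have h24 : (24 : K) = 0 := by linear_combination 12 * h2
  have h26 : (26 : K) = 0 := by linear_combination 13 * h2
  have h28 : (28 : K) = 0 := by linear_combination 14 * h2
  have h30 : (30 : K) = 0 := by linear_combination 15 * h2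
  have h32 : (32 : K) = 0 := by linear_combination 16 * h2
  obtain ⟨c, rfl⟩ : ∃ c, t62 = c * t48 := ⟨t62 / t48, by field_simp⟩
  have e : R.X57 c * R.RNF (0) (0) (0) (0) (0) (0) (0) (0) (0) (0) (0) (0) (0) (t48) (t50) (0) (0) (0) (0) (t59) (t61) (t52) (0) (t60) (c * t48) (t54) (t63) (t64) (t55) (t65) (t67) (t66) (t68) (t69) (t70) (t71) * R.X57 c =
      R.RNF (0) (0) (0) (0) (0) (0) (0) (0) (0) (0) (0) (0) (0) (t48) (t50) (0) (0) (0) (0) (t59) (t61) (t52) (0) (t60) (0) (t54) (t63) (t64) (t55) (t65) (t67) (t66) (c * t54 + t68) (c * t55 + t69) (t70) (t71) := by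
    rw [R.ucj57]
    congr 1 <;> (first | rfl | ring1 | (rw [← sub_eq_zero]; ring_nf; simp only [h2, h4, h6, h8, h10, h12, h14, h16, h18, h20, h22, h24, h26, h28, h30, h32, mul_zero, zero_mul, add_zero, zero_add, neg_zero, sub_zero, sub_self]))
  exact UP_cj D (D.xmem57 c) (R.inv57 c) e (ih _ _ _ _ _ _ _ _ _ _ _ _ _ _ _ _ _ hn48)

theorem e6s13_7 (D : UData R)
    (ih : ∀ (t48 t50 t59 t61 t52 t60 t54 t63 t55 t65 t67 t66 t68 t69 t70 t71 : K), t48 ≠ 0 → UP D (R.RNF (0) (0) (0) (0) (0) (0) (0) (0) (0) (0) (0) (0) (0) (t48) (t50) (0) (0) (0) (0) (t59) (t61) (t52) (0) (t60) (0) (t54) (t63) (0) (t55) (t65) (t67) (t66) (t68) (t69) (t70) (t71))) :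
    ∀ (t48 t50 t59 t61 t52 t60 t54 t63 t64 t55 t65 t67 t66 t68 t69 t70 t71 : K), t48 ≠ 0 → UP D (R.RNF (0) (0) (0) (0) (0) (0) (0) (0) (0) (0) (0) (0) (0) (t48) (t50) (0) (0) (0) (0) (t59) (t61) (t52) (0) (t60) (0) (t54) (t63) (t64) (t55) (t65) (t67) (t66) (t68) (t69) (t70) (t71)) := by
  intro t48 t50 t59 t61 t52 t60 t54 t63 t64 t55 t65 t67 t66 t68 t69 t70 t71 hn48
  have h2 : (2 : K) = 0 := CharTwo.two_eq_zero
  have h4 : (4 : K) = 0 := by linear_combination 2 * h2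
  have h6 : (6 : K) = 0 := by linear_combination 3 * h2
  have h8 : (8 : K) = 0 := by linear_combination 4 * h2
  have h10 : (10 : K) = 0 := by linear_combination 5 * h2
  have h12 : (12 : K) = 0 := by linear_combination 6 * h2
  have h14 : (14 : K) = 0 := by linear_combination 7 * h2
  have h16 : (16 : K) = 0 := by linear_combination 8 * h2
  have h18 : (18 : K) = 0 := by linear_combination 9 * h2
  have h20 : (20 : K) = 0 := by linear_combination 10 * h2
  have h22 : (22 : K) = 0 := by linear_combination 11 * h2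
  have h24 : (24 : K) = 0 := by linear_combination 12 * h2
  have h26 : (26 : K) = 0 := by linear_combination 13 * h2
  have h28 : (28 : K) = 0 := by linear_combination 14 * h2
  have h30 : (30 : K) = 0 := by linear_combination 15 * h2
  have h32 : (32 : K) = 0 := by linear_combination 16 * h2
  obtain ⟨c, rfl⟩ : ∃ c, t64 = c * t48 := ⟨t64 / t48, by field_simp⟩
  have e : R.X58 c * R.RNF (0) (0) (0) (0) (0) (0) (0) (0) (0) (0) (0) (0) (0) (t48) (t50) (0) (0) (0) (0) (t59) (t61) (t52) (0) (t60) (0) (t54) (t63) (c * t48) (t55) (t65) (t67) (t66) (t68) (t69) (t70) (t71) * R.X58 c =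
      R.RNF (0) (0) (0) (0) (0) (0) (0) (0) (0) (0) (0) (0) (0) (t48) (t50) (0) (0) (0) (0) (t59) (t61) (t52) (0) (t60) (0) (t54) (t63) (0) (t55) (t65) (t67) (t66) (c * t52 + t68) (t69) (c * t55 + t70) (c * t48 * t52 + t71) := by
    rw [R.ucj58]
    congr 1 <;> (first | rfl | ring1 | (rw [← sub_eq_zero]; ring_nf; simp only [h2, h4, h6, h8, h10, h12, h14, h16, h18, h20, h22, h24, h26, h28, h30, h32, mul_zero, zero_mul, add_zero, zero_add, neg_zero, sub_zero, sub_self]))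
  exact UP_cj D (D.xmem58 c) (R.inv58 c) e (ih _ _ _ _ _ _ _ _ _ _ _ _ _ _ _ _ hn48)

theorem e6s13_8 (D : UData R)
    (ih : ∀ (t48 t50 t59 t61 t52 t60 t54 t63 t65 t67 t66 t68 t69 t70 t71 : K), t48 ≠ 0 → UP D (R.RNF (0) (0) (0) (0) (0) (0) (0) (0) (0) (0) (0) (0) (0) (t48) (t50) (0) (0) (0) (0) (t59) (t61) (t52) (0) (t60) (0) (t54) (t63) (0) (0) (t65) (t67) (t66) (t68) (t69) (t70) (t71))) :
    ∀ (t48 t50 t59 t61 t52 t60 t54 t63 t55 t65 t67 t66 t68 t69 t70 t71 : K), t48 ≠ 0 → UP D (R.RNF (0) (0) (0) (0) (0) (0) (0) (0) (0) (0) (0) (0) (0) (t48) (t50) (0) (0) (0) (0) (t59) (t61) (t52) (0) (t60) (0) (t54) (t63) (0) (t55) (t65) (t67) (t66) (t68) (t69) (t70) (t71)) := by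
  intro t48 t50 t59 t61 t52 t60 t54 t63 t55 t65 t67 t66 t68 t69 t70 t71 hn48
  have h2 : (2 : K) = 0 := CharTwo.two_eq_zero
  have h4 : (4 : K) = 0 := by linear_combination 2 * h2
  have h6 : (6 : K) = 0 := by linear_combination 3 * h2
  have h8 : (8 : K) = 0 := by linear_combination 4 * h2
  have h10 : (10 : K) = 0 := by linear_combination 5 * h2
  have h12 : (12 : K) = 0 := by linear_combination 6 * h2
  have h14 : (14 : K) = 0 := by linear_combination 7 * h2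
  have h16 : (16 : K) = 0 := by linear_combination 8 * h2
  have h18 : (18 : K) = 0 := by linear_combination 9 * h2
  have h20 : (20 : K) = 0 := by linear_combination 10 * h2
  have h22 : (22 : K) = 0 := by linear_combination 11 * h2
  have h24 : (24 : K) = 0 := by linear_combination 12 * h2
  have h26 : (26 : K) = 0 := by linear_combination 13 * h2
  have h28 : (28 : K) = 0 := by linear_combination 14 * h2
  have h30 : (30 : K) = 0 := by linear_combination 15 * h2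
  have h32 : (32 : K) = 0 := by linear_combination 16 * h2
  obtain ⟨c, rfl⟩ : ∃ c, t55 = c * t48 := ⟨t55 / t48, by field_simp⟩
  have e : R.X45 c * R.RNF (0) (0) (0) (0) (0) (0) (0) (0) (0) (0) (0) (0) (0) (t48) (t50) (0) (0) (0) (0) (t59) (t61) (t52) (0) (t60) (0) (t54) (t63) (0) (c * t48) (t65) (t67) (t66) (t68) (t69) (t70) (t71) * R.X45 c =
      R.RNF (0) (0) (0) (0) (0) (0) (0) (0) (0) (0) (0) (0) (0) (t48) (t50) (0) (0) (0) (0) (t59) (t61) (t52) (0) (t60) (0) (t54) (t63) (0) (0) (t65) (t67) (t66) (c * t61 + t68) (t69) (t70) (c * t48 * t61 + t71) := by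
    rw [R.ucj45]
    congr 1 <;> (first | rfl | ring1 | (rw [← sub_eq_zero]; ring_nf; simp only [h2, h4, h6, h8, h10, h12, h14, h16, h18, h20, h22, h24, h26, h28, h30, h32, mul_zero, zero_mul, add_zero, zero_add, neg_zero, sub_zero, sub_self]))
  exact UP_cj D (D.xmem45 c) (R.inv45 c) e (ih _ _ _ _ _ _ _ _ _ _ _ _ _ _ _ hn48)

theorem e6s13_9 (D : UData R)
    (ih : ∀ (t48 t50 t59 t61 t52 t60 t54 t63 t65 t67 t68 t69 t70 t71 : K), t48 ≠ 0 → UP D (R.RNF (0) (0) (0) (0) (0) (0) (0) (0) (0) (0) (0) (0) (0) (t48) (t50) (0) (0) (0) (0) (t59) (t61) (t52) (0) (t60) (0) (t54) (t63) (0) (0) (t65) (t67) (0) (t68) (t69) (t70) (t71))) :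
    ∀ (t48 t50 t59 t61 t52 t60 t54 t63 t65 t67 t66 t68 t69 t70 t71 : K), t48 ≠ 0 → UP D (R.RNF (0) (0) (0) (0) (0) (0) (0) (0) (0) (0) (0) (0) (0) (t48) (t50) (0) (0) (0) (0) (t59) (t61) (t52) (0) (t60) (0) (t54) (t63) (0) (0) (t65) (t67) (t66) (t68) (t69) (t70) (t71)) := by
  intro t48 t50 t59 t61 t52 t60 t54 t63 t65 t67 t66 t68 t69 t70 t71 hn48
  have h2 : (2 : K) = 0 := CharTwo.two_eq_zero
  have h4 : (4 : K) = 0 := by linear_combination 2 * h2
  have h6 : (6 : K) = 0 := by linear_combination 3 * h2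
  have h8 : (8 : K) = 0 := by linear_combination 4 * h2
  have h10 : (10 : K) = 0 := by linear_combination 5 * h2
  have h12 : (12 : K) = 0 := by linear_combination 6 * h2
  have h14 : (14 : K) = 0 := by linear_combination 7 * h2
  have h16 : (16 : K) = 0 := by linear_combination 8 * h2
  have h18 : (18 : K) = 0 := by linear_combination 9 * h2
  have h20 : (20 : K) = 0 := by linear_combination 10 * h2
  have h22 : (22 : K) = 0 := by linear_combination 11 * h2
  have h24 : (24 : K) = 0 := by linear_combination 12 * h2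
  have h26 : (26 : K) = 0 := by linear_combination 13 * h2
  have h28 : (28 : K) = 0 := by linear_combination 14 * h2
  have h30 : (30 : K) = 0 := by linear_combination 15 * h2
  have h32 : (32 : K) = 0 := by linear_combination 16 * h2
  obtain ⟨c, rfl⟩ : ∃ c, t66 = c * t48 := ⟨t66 / t48, by field_simp⟩
  have e : R.X60 c * R.RNF (0) (0) (0) (0) (0) (0) (0) (0) (0) (0) (0) (0) (0) (t48) (t50) (0) (0) (0) (0) (t59) (t61) (t52) (0) (t60) (0) (t54) (t63) (0) (0) (t65) (t67) (c * t48) (t68) (t69) (t70) (t71) * R.X60 c =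
      R.RNF (0) (0) (0) (0) (0) (0) (0) (0) (0) (0) (0) (0) (0) (t48) (t50) (0) (0) (0) (0) (t59) (t61) (t52) (0) (t60) (0) (t54) (t63) (0) (0) (t65) (t67) (0) (c * t50 + t68) (t69) (t70) (c * t48 * t50 + t71) := by
    rw [R.ucj60]
    congr 1 <;> (first | rfl | ring1 | (rw [← sub_eq_zero]; ring_nf; simp only [h2, h4, h6, h8, h10, h12, h14, h16, h18, h20, h22, h24, h26, h28, h30, h32, mul_zero, zero_mul, add_zero, zero_add, neg_zero, sub_zero, sub_self]))
  exact UP_cj D (D.xmem60 c) (R.inv60 c) e (ih _ _ _ _ _ _ _ _ _ _ _ _ _ _ hn48)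

theorem e6s13_10 (D : UData R)
    (ih : ∀ (t48 t50 t59 t61 t52 t60 t54 t63 t65 t67 t68 t69 t70 : K), t48 ≠ 0 → UP D (R.RNF (0) (0) (0) (0) (0) (0) (0) (0) (0) (0) (0) (0) (0) (t48) (t50) (0) (0) (0) (0) (t59) (t61) (t52) (0) (t60) (0) (t54) (t63) (0) (0) (t65) (t67) (0) (t68) (t69) (t70) (0))) :
    ∀ (t48 t50 t59 t61 t52 t60 t54 t63 t65 t67 t68 t69 t70 t71 : K), t48 ≠ 0 → UP D (R.RNF (0) (0) (0) (0) (0) (0) (0) (0) (0) (0) (0) (0) (0) (t48) (t50) (0) (0) (0) (0) (t59) (t61) (t52) (0) (t60) (0) (t54) (t63) (0) (0) (t65) (t67) (0) (t68) (t69) (t70) (t71)) := by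
  intro t48 t50 t59 t61 t52 t60 t54 t63 t65 t67 t68 t69 t70 t71 hn48
  have h2 : (2 : K) = 0 := CharTwo.two_eq_zero
  have h4 : (4 : K) = 0 := by linear_combination 2 * h2
  have h6 : (6 : K) = 0 := by linear_combination 3 * h2
  have h8 : (8 : K) = 0 := by linear_combination 4 * h2
  have h10 : (10 : K) = 0 := by linear_combination 5 * h2
  have h12 : (12 : K) = 0 := by linear_combination 6 * h2
  have h14 : (14 : K) = 0 := by linear_combination 7 * h2
  have h16 : (16 : K) = 0 := by linear_combination 8 * h2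
  have h18 : (18 : K) = 0 := by linear_combination 9 * h2
  have h20 : (20 : K) = 0 := by linear_combination 10 * h2
  have h22 : (22 : K) = 0 := by linear_combination 11 * h2
  have h24 : (24 : K) = 0 := by linear_combination 12 * h2
  have h26 : (26 : K) = 0 := by linear_combination 13 * h2
  have h28 : (28 : K) = 0 := by linear_combination 14 * h2
  have h30 : (30 : K) = 0 := by linear_combination 15 * h2
  have h32 : (32 : K) = 0 := by linear_combination 16 * h2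
  obtain ⟨c, rfl⟩ : ∃ c, t71 = c * t48 := ⟨t71 / t48, by field_simp⟩
  have e : R.X68 c * R.RNF (0) (0) (0) (0) (0) (0) (0) (0) (0) (0) (0) (0) (0) (t48) (t50) (0) (0) (0) (0) (t59) (t61) (t52) (0) (t60) (0) (t54) (t63) (0) (0) (t65) (t67) (0) (t68) (t69) (t70) (c * t48) * R.X68 c =
      R.RNF (0) (0) (0) (0) (0) (0) (0) (0) (0) (0) (0) (0) (0) (t48) (t50) (0) (0) (0) (0) (t59) (t61) (t52) (0) (t60) (0) (t54) (t63) (0) (0) (t65) (t67) (0) (t68) (t69) (t70) (0) := by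
    rw [R.ucj68]
    congr 1 <;> (first | rfl | ring1 | (rw [← sub_eq_zero]; ring_nf; simp only [h2, h4, h6, h8, h10, h12, h14, h16, h18, h20, h22, h24, h26, h28, h30, h32, mul_zero, zero_mul, add_zero, zero_add, neg_zero, sub_zero, sub_self]))
  exact UP_cj D (D.xmem68 c) (R.inv68 c) e (ih _ _ _ _ _ _ _ _ _ _ _ _ _ hn48)

theorem e6s13_11 (D : UData R)
    (ih : ∀ (t48 t50 t59 t61 t52 t54 t63 t65 t67 t68 t69 t70 : K), t48 ≠ 0 → UP D (R.RNF (0) (0) (0) (0) (0) (0) (0) (0) (0) (0) (0) (0) (0) (t48) (t50) (0) (0) (0) (0) (t59) (t61) (t52) (0) (0) (0) (t54) (t63) (0) (0) (t65) (t67) (0) (t68) (t69) (t70) (0))) :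
    ∀ (t48 t50 t59 t61 t52 t60 t54 t63 t65 t67 t68 t69 t70 : K), t48 ≠ 0 → UP D (R.RNF (0) (0) (0) (0) (0) (0) (0) (0) (0) (0) (0) (0) (0) (t48) (t50) (0) (0) (0) (0) (t59) (t61) (t52) (0) (t60) (0) (t54) (t63) (0) (0) (t65) (t67) (0) (t68) (t69) (t70) (0)) := by
  intro t48 t50 t59 t61 t52 t60 t54 t63 t65 t67 t68 t69 t70 hn48 hu hne
  have hsq := hu
  rw [R.usq] at hsq
  obtain ⟨e36, e37, e39, e42, e46, e56, e38, e40, e43, e47, e57, e41, e44, e48, e50, e58, e45, e49, e51, e59, e61, e52, e53, e60, e62, e54, e63, e64, e55, e65, e67, e66, e68, e69, e70, e71⟩ := D.inj _ _ _ _ _ _ _ _ _ _ _ _ _ _ _ _ _ _ _ _ _ _ _ _ _ _ _ _ _ _ _ _ _ _ _ _ hsq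
  have hz : t60 = 0 := by
    have h : t48 * t60 = 0 := by linear_combination e66
    exact (mul_eq_zero.mp h).resolve_left hn48
  subst hz
  exact ih _ _ _ _ _ _ _ _ _ _ _ _ hn48 hu hne

theorem e6s13_12 (D : UData R)
    (ih : ∀ (t48 t50 t59 t61 t52 t54 t63 t65 t67 t69 t70 : K), t48 ≠ 0 → UP D (R.RNF (0) (0) (0) (0) (0) (0) (0) (0) (0) (0) (0) (0) (0) (t48) (t50) (0) (0) (0) (0) (t59) (t61) (t52) (0) (0) (0) (t54) (t63) (0) (0) (t65) (t67) (0) (0) (t69) (t70) (0))) :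
    ∀ (t48 t50 t59 t61 t52 t54 t63 t65 t67 t68 t69 t70 : K), t48 ≠ 0 → UP D (R.RNF (0) (0) (0) (0) (0) (0) (0) (0) (0) (0) (0) (0) (0) (t48) (t50) (0) (0) (0) (0) (t59) (t61) (t52) (0) (0) (0) (t54) (t63) (0) (0) (t65) (t67) (0) (t68) (t69) (t70) (0)) := by
  intro t48 t50 t59 t61 t52 t54 t63 t65 t67 t68 t69 t70 hn48 hu hne
  have hsq := hu
  rw [R.usq] at hsq
  obtain ⟨e36, e37, e39, e42, e46, e56, e38, e40, e43, e47, e57, e41, e44, e48, e50, e58, e45, e49, e51, e59, e61, e52, e53, e60, e62, e54, e63, e64, e55, e65, e67, e66, e68, e69, e70, e71⟩ := D.inj _ _ _ _ _ _ _ _ _ _ _ _ _ _ _ _ _ _ _ _ _ _ _ _ _ _ _ _ _ _ _ _ _ _ _ _ hsq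
  have hz : t68 = 0 := by
    have h : t48 * t68 = 0 := by linear_combination e71
    exact (mul_eq_zero.mp h).resolve_left hn48
  subst hz
  exact ih _ _ _ _ _ _ _ _ _ _ _ hn48 hu hne

theorem e6s13_13 (D : UData R)
    (ih : ∀ (t50 t49 t51 t61 t53 t60 t62 t64 t68 t69 t70 : K), t49 ≠ 0 → UP D (R.RNF (0) (0) (0) (0) (0) (0) (0) (0) (0) (0) (0) (0) (0) (0) (t50) (0) (0) (t49) (t51) (0) (t61) (0) (t53) (t60) (t62) (0) (0) (t64) (0) (0) (0) (0) (t68) (t69) (t70) (0))) :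
    ∀ (t48 t50 t59 t61 t52 t54 t63 t65 t67 t69 t70 : K), t48 ≠ 0 → UP D (R.RNF (0) (0) (0) (0) (0) (0) (0) (0) (0) (0) (0) (0) (0) (t48) (t50) (0) (0) (0) (0) (t59) (t61) (t52) (0) (0) (0) (t54) (t63) (0) (0) (t65) (t67) (0) (0) (t69) (t70) (0)) := by
  intro t48 t50 t59 t61 t52 t54 t63 t65 t67 t69 t70 hn48
  have h2 : (2 : K) = 0 := CharTwo.two_eq_zero
  have h4 : (4 : K) = 0 := by linear_combination 2 * h2
  have h6 : (6 : K) = 0 := by linear_combination 3 * h2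
  have h8 : (8 : K) = 0 := by linear_combination 4 * h2
  have h10 : (10 : K) = 0 := by linear_combination 5 * h2
  have h12 : (12 : K) = 0 := by linear_combination 6 * h2
  have h14 : (14 : K) = 0 := by linear_combination 7 * h2
  have h16 : (16 : K) = 0 := by linear_combination 8 * h2
  have h18 : (18 : K) = 0 := by linear_combination 9 * h2
  have h20 : (20 : K) = 0 := by linear_combination 10 * h2
  have h22 : (22 : K) = 0 := by linear_combination 11 * h2
  have h24 : (24 : K) = 0 := by linear_combination 12 * h2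
  have h26 : (26 : K) = 0 := by linear_combination 13 * h2
  have h28 : (28 : K) = 0 := by linear_combination 14 * h2
  have h30 : (30 : K) = 0 := by linear_combination 15 * h2
  have h32 : (32 : K) = 0 := by linear_combination 16 * h2
  have e : D.n6 * R.RNF (0) (0) (0) (0) (0) (0) (0) (0) (0) (0) (0) (0) (0) (t48) (t50) (0) (0) (0) (0) (t59) (t61) (t52) (0) (0) (0) (t54) (t63) (0) (0) (t65) (t67) (0) (0) (t69) (t70) (0) * D.n6⁻¹ =
      R.RNF (0) (0) (0) (0) (0) (0) (0) (0) (0) (0) (0) (0) (0) (0) (t50) (0) (0) (t48) (t52) (0) (t61) (0) (t54) (t59) (t63) (0) (0) (t65) (0) (0) (0) (0) (t67) (t52 * t59 + t69) (t54 * t59 + t70) (0) := by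
    rw [D.toWeylE6.conj_n6]
    congr 1 <;> (first | rfl | ring1 | (rw [← sub_eq_zero]; ring_nf; simp only [h2, h4, h6, h8, h10, h12, h14, h16, h18, h20, h22, h24, h26, h28, h30, h32, mul_zero, zero_mul, add_zero, zero_add, neg_zero, sub_zero, sub_self]))
  exact UP_n D D.n6_mem e (ih _ _ _ _ _ _ _ _ _ _ _ hn48)

theorem upiv13 (D : UData R)
    (ih : ∀ (t50 t58 t45 t49 t51 t59 t61 t52 t53 t60 t62 t54 t63 t64 t55 t65 t67 t66 t68 t69 t70 t71 : K), UP D (R.RNF (0) (0) (0) (0) (0) (0) (0) (0) (0) (0) (0) (0) (0) (0) (t50) (t58) (t45) (t49) (t51) (t59) (t61) (t52) (t53) (t60) (t62) (t54) (t63) (t64) (t55) (t65) (t67) (t66) (t68) (t69) (t70) (t71))) :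
    ∀ (t48 t50 t58 t45 t49 t51 t59 t61 t52 t53 t60 t62 t54 t63 t64 t55 t65 t67 t66 t68 t69 t70 t71 : K), UP D (R.RNF (0) (0) (0) (0) (0) (0) (0) (0) (0) (0) (0) (0) (0) (t48) (t50) (t58) (t45) (t49) (t51) (t59) (t61) (t52) (t53) (t60) (t62) (t54) (t63) (t64) (t55) (t65) (t67) (t66) (t68) (t69) (t70) (t71)) := by
  intro t48 t50 t58 t45 t49 t51 t59 t61 t52 t53 t60 t62 t54 t63 t64 t55 t65 t67 t66 t68 t69 t70 t71
  by_cases h0 : t48 = 0
  · subst h0; exact ih _ _ _ _ _ _ _ _ _ _ _ _ _ _ _ _ _ _ _ _ _ _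
  · exact (e6s13_1 D (e6s13_2 D (e6s13_3 D (e6s13_4 D (e6s13_5 D (e6s13_6 D (e6s13_7 D (e6s13_8 D (e6s13_9 D (e6s13_10 D (e6s13_11 D (e6s13_12 D (e6s13_13 D (fun t50 t49 t51 t61 t53 t60 t62 t64 t68 t69 t70 _ => ih t50 0 0 t49 t51 0 t61 0 t53 t60 t62 0 0 t64 0 0 0 0 t68 t69 t70 0)))))))))))))) t48 t50 t58 t45 t49 t51 t59 t61 t52 t53 t60 t62 t54 t63 t64 t55 t65 t67 t66 t68 t69 t70 t71 h0

end Cfsg.Agent.Helper4.E6Inv
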