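import Cfsg.Agent.Helper4.E6Inv.UFinT

/-! Generated: steps of the reduction of involutions in the unipotent group of `E₆`
(characteristic two). -/

set_option autoImplicit false
set_option maxHeartbeats 8000000
set_option maxRecDepth 100000
set_option linter.unusedSimpArgs false
set_option linter.unusedVariables false
set_option linter.unusedSectionVars false
set_option linter.unusedTactic false
set_option linter.unreachableTactic false

namespace Cfsg.Agent.Helper4.E6Inv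

variable {K Γ : Type*} [Field K] [Group Γ] {R : RelE6 K Γ} [CharP K 2]

theorem e6s14_1 (D : UData R)
    (ih : ∀ (t50 t58 t45 t49 t59 t61 t52 t53 t60 t62 t54 t63 t64 t55 t65 t67 t66 t68 t69 t70 t71 : K), t50 ≠ 0 → UP D (R.RNF (0) (0) (0) (0) (0) (0) (0) (0) (0) (0) (0) (0) (0) (0) (t50) (t58) (t45) (t49) (0) (t59) (t61) (t52) (t53) (t60) (t62) (t54) (t63) (t64) (t55) (t65) (t67) (t66) (t68) (t69) (t70) (t71))) :
    ∀ (t50 t58 t45 t49 t51 t59 t61 t52 t53 t60 t62 t54 t63 t64 t55 t65 t67 t66 t68 t69 t70 t71 : K), t50 ≠ 0 → UP D (R.RNF (0) (0) (0) (0) (0) (0) (0) (0) (0) (0) (0) (0) (0) (0) (t50) (t58) (t45) (t49) (t51) (t59) (t61) (t52) (t53) (t60) (t62) (t54) (t63) (t64) (t55) (t65) (t67) (t66) (t68) (t69) (t70) (t71)) := by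
  intro t50 t58 t45 t49 t51 t59 t61 t52 t53 t60 t62 t54 t63 t64 t55 t65 t67 t66 t68 t69 t70 t71 hn50
  have h2 : (2 : K) = 0 := CharTwo.two_eq_zero
  have h4 : (4 : K) = 0 := by linear_combination 2 * h2
  have h6 : (6 : K) = 0 := by linear_combination 3 * h2
  have h8 : (8 : K) = 0 := by linear_combination 4 * h2
  have h10 : (10 : K) = 0 := by linear_combination 5 * h2
  have h12 : (12 : K) = 0 := by linear_combination 6 * h2
  have h14 : (14 : K) = 0 := by linear_combination 7 * h2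
  have h16 : (16 : K) = 0 := by linear_combination 8 * h2
  have h18 : (18 : K) = 0 := by linear_combination 9 * h2
  have h20 : (20 : K) = 0 := by linear_combination 10 * h2
  have h22 : (22 : K) = 0 := by linear_combination 11 * h2
  have h24 : (24 : K) = 0 := by linear_combination 12 * h2
  have h26 : (26 : K) = 0 := by linear_combination 13 * h2
  have h28 : (28 : K) = 0 := by linear_combination 14 * h2
  have h30 : (30 : K) = 0 := by linear_combination 15 * h2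
  have h32 : (32 : K) = 0 := by linear_combination 16 * h2
  obtain ⟨c, rfl⟩ : ∃ c, t51 = c * t50 := ⟨t51 / t50, by field_simp⟩
  have e : R.X37 c * R.RNF (0) (0) (0) (0) (0) (0) (0) (0) (0) (0) (0) (0) (0) (0) (t50) (t58) (t45) (t49) (c * t50) (t59) (t61) (t52) (t53) (t60) (t62) (t54) (t63) (t64) (t55) (t65) (t67) (t66) (t68) (t69) (t70) (t71) * R.X37 c =
      R.RNF (0) (0) (0) (0) (0) (0) (0) (0) (0) (0) (0) (0) (0) (0) (t50) (t58) (t45) (t49) (0) (c * t58 + t59) (t61) (t52) (t53) (t60) (c * t61 + t62) (t54) (t63) (t64) (c * t54 + t55) (t65) (c * t50 * t58 + t67) (c * t49 * t58 + c * t65 + t66) (t68) (c * t68 + t69) (t70) (c * t49 * t50 * t58 + t71) := by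
    rw [R.ucj37]
    congr 1 <;> (first | rfl | ring1 | (rw [← sub_eq_zero]; ring_nf; simp only [h2, h4, h6, h8, h10, h12, h14, h16, h18, h20, h22, h24, h26, h28, h30, h32, mul_zero, zero_mul, add_zero, zero_add, neg_zero, sub_zero, sub_self]))
  exact UP_cj D (D.xmem37 c) (R.inv37 c) e (ih _ _ _ _ _ _ _ _ _ _ _ _ _ _ _ _ _ _ _ _ _ hn50)

theorem e6s14_2 (D : UData R)
    (ih : ∀ (t50 t58 t45 t49 t59 t52 t53 t60 t62 t54 t63 t64 t55 t65 t67 t66 t68 t69 t70 t71 : K), t50 ≠ 0 → UP D (R.RNF (0) (0) (0) (0) (0) (0) (0) (0) (0) (0) (0) (0) (0) (0) (t50) (t58) (t45) (t49) (0) (t59) (0) (t52) (t53) (t60) (t62) (t54) (t63) (t64) (t55) (t65) (t67) (t66) (t68) (t69) (t70) (t71))) :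
    ∀ (t50 t58 t45 t49 t59 t61 t52 t53 t60 t62 t54 t63 t64 t55 t65 t67 t66 t68 t69 t70 t71 : K), t50 ≠ 0 → UP D (R.RNF (0) (0) (0) (0) (0) (0) (0) (0) (0) (0) (0) (0) (0) (0) (t50) (t58) (t45) (t49) (0) (t59) (t61) (t52) (t53) (t60) (t62) (t54) (t63) (t64) (t55) (t65) (t67) (t66) (t68) (t69) (t70) (t71)) := by
  intro t50 t58 t45 t49 t59 t61 t52 t53 t60 t62 t54 t63 t64 t55 t65 t67 t66 t68 t69 t70 t71 hn50
  have h2 : (2 : K) = 0 := CharTwo.two_eq_zero
  have h4 : (4 : K) = 0 := by linear_combination 2 * h2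
  have h6 : (6 : K) = 0 := by linear_combination 3 * h2
  have h8 : (8 : K) = 0 := by linear_combination 4 * h2
  have h10 : (10 : K) = 0 := by linear_combination 5 * h2
  have h12 : (12 : K) = 0 := by linear_combination 6 * h2
  have h14 : (14 : K) = 0 := by linear_combination 7 * h2
  have h16 : (16 : K) = 0 := by linear_combination 8 * h2
  have h18 : (18 : K) = 0 := by linear_combination 9 * h2
  have h20 : (20 : K) = 0 := by linear_combination 10 * h2
  have h22 : (22 : K) = 0 := by linear_combination 11 * h2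
  have h24 : (24 : K) = 0 := by linear_combination 12 * h2
  have h26 : (26 : K) = 0 := by linear_combination 13 * h2
  have h28 : (28 : K) = 0 := by linear_combination 14 * h2
  have h30 : (30 : K) = 0 := by linear_combination 15 * h2
  have h32 : (32 : K) = 0 := by linear_combination 16 * h2
  obtain ⟨c, rfl⟩ : ∃ c, t61 = c * t50 := ⟨t61 / t50, by field_simp⟩
  have e : R.X56 c * R.RNF (0) (0) (0) (0) (0) (0) (0) (0) (0) (0) (0) (0) (0) (0) (t50) (t58) (t45) (t49) (0) (t59) (c * t50) (t52) (t53) (t60) (t62) (t54) (t63) (t64) (t55) (t65) (t67) (t66) (t68) (t69) (t70) (t71) * R.X56 c =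
      R.RNF (0) (0) (0) (0) (0) (0) (0) (0) (0) (0) (0) (0) (0) (0) (t50) (t58) (t45) (t49) (0) (t59) (0) (t52) (t53) (c * t45 + t60) (t62) (t54) (c * t52 + t63) (c * t53 + t64) (t55) (c * t54 + t65) (t67) (c * t55 + t66) (c * t45 * t50 + t68) (t69) (c * t45 * t53 + t70) (c * t52 * t53 + t71) := by
    rw [R.ucj56]
    congr 1 <;> (first | rfl | ring1 | (rw [← sub_eq_zero]; ring_nf; simp only [h2, h4, h6, h8, h10, h12, h14, h16, h18, h20, h22, h24, h26, h28, h30, h32, mul_zero, zero_mul, add_zero, zero_add, neg_zero, sub_zero, sub_self]))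
  exact UP_cj D (D.xmem56 c) (R.inv56 c) e (ih _ _ _ _ _ _ _ _ _ _ _ _ _ _ _ _ _ _ _ _ hn50)

theorem e6s14_3 (D : UData R)
    (ih : ∀ (t50 t58 t45 t49 t59 t53 t60 t62 t54 t63 t64 t55 t65 t67 t66 t68 t69 t70 t71 : K), t50 ≠ 0 → UP D (R.RNF (0) (0) (0) (0) (0) (0) (0) (0) (0) (0) (0) (0) (0) (0) (t50) (t58) (t45) (t49) (0) (t59) (0) (0) (t53) (t60) (t62) (t54) (t63) (t64) (t55) (t65) (t67) (t66) (t68) (t69) (t70) (t71))) :
    ∀ (t50 t58 t45 t49 t59 t52 t53 t60 t62 t54 t63 t64 t55 t65 t67 t66 t68 t69 t70 t71 : K), t50 ≠ 0 → UP D (R.RNF (0) (0) (0) (0) (0) (0) (0) (0) (0) (0) (0) (0) (0) (0) (t50) (t58) (t45) (t49) (0) (t59) (0) (t52) (t53) (t60) (t62) (t54) (t63) (t64) (t55) (t65) (t67) (t66) (t68) (t69) (t70) (t71)) := by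
  intro t50 t58 t45 t49 t59 t52 t53 t60 t62 t54 t63 t64 t55 t65 t67 t66 t68 t69 t70 t71 hn50
  have h2 : (2 : K) = 0 := CharTwo.two_eq_zero
  have h4 : (4 : K) = 0 := by linear_combination 2 * h2
  have h6 : (6 : K) = 0 := by linear_combination 3 * h2
  have h8 : (8 : K) = 0 := by linear_combination 4 * h2
  have h10 : (10 : K) = 0 := by linear_combination 5 * h2
  have h12 : (12 : K) = 0 := by linear_combination 6 * h2
  have h14 : (14 : K) = 0 := by linear_combination 7 * h2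
  have h16 : (16 : K) = 0 := by linear_combination 8 * h2
  have h18 : (18 : K) = 0 := by linear_combination 9 * h2
  have h20 : (20 : K) = 0 := by linear_combination 10 * h2
  have h22 : (22 : K) = 0 := by linear_combination 11 * h2
  have h24 : (24 : K) = 0 := by linear_combination 12 * h2
  have h26 : (26 : K) = 0 := by linear_combination 13 * h2
  have h28 : (28 : K) = 0 := by linear_combination 14 * h2
  have h30 : (30 : K) = 0 := by linear_combination 15 * h2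
  have h32 : (32 : K) = 0 := by linear_combination 16 * h2
  obtain ⟨c, rfl⟩ : ∃ c, t52 = c * t50 := ⟨t52 / t50, by field_simp⟩
  have e : R.X38 c * R.RNF (0) (0) (0) (0) (0) (0) (0) (0) (0) (0) (0) (0) (0) (0) (t50) (t58) (t45) (t49) (0) (t59) (0) (c * t50) (t53) (t60) (t62) (t54) (t63) (t64) (t55) (t65) (t67) (t66) (t68) (t69) (t70) (t71) * R.X38 c =
      R.RNF (0) (0) (0) (0) (0) (0) (0) (0) (0) (0) (0) (0) (0) (0) (t50) (t58) (t45) (t49) (0) (t59) (0) (0) (t53) (c * t58 + t60) (t62) (t54) (t63) (t64) (c * t53 + t55) (t65) (t67) (c * t64 + t66) (c * t50 * t58 + t68) (c * t50 * t59 + c * t67 + t69) (c * t53 * t58 + t70) (t71) := by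
    rw [R.ucj38]
    congr 1 <;> (first | rfl | ring1 | (rw [← sub_eq_zero]; ring_nf; simp only [h2, h4, h6, h8, h10, h12, h14, h16, h18, h20, h22, h24, h26, h28, h30, h32, mul_zero, zero_mul, add_zero, zero_add, neg_zero, sub_zero, sub_self]))
  exact UP_cj D (D.xmem38 c) (R.inv38 c) e (ih _ _ _ _ _ _ _ _ _ _ _ _ _ _ _ _ _ _ _ hn50)

theorem e6s14_4 (D : UData R)
    (ih : ∀ (t50 t58 t45 t49 t59 t60 t62 t54 t63 t64 t55 t65 t67 t66 t68 t69 t70 t71 : K), t50 ≠ 0 → UP D (R.RNF (0) (0) (0) (0) (0) (0) (0) (0) (0) (0) (0) (0) (0) (0) (t50) (t58) (t45) (t49) (0) (t59) (0) (0) (0) (t60) (t62) (t54) (t63) (t64) (t55) (t65) (t67) (t66) (t68) (t69) (t70) (t71))) :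
    ∀ (t50 t58 t45 t49 t59 t53 t60 t62 t54 t63 t64 t55 t65 t67 t66 t68 t69 t70 t71 : K), t50 ≠ 0 → UP D (R.RNF (0) (0) (0) (0) (0) (0) (0) (0) (0) (0) (0) (0) (0) (0) (t50) (t58) (t45) (t49) (0) (t59) (0) (0) (t53) (t60) (t62) (t54) (t63) (t64) (t55) (t65) (t67) (t66) (t68) (t69) (t70) (t71)) := by
  intro t50 t58 t45 t49 t59 t53 t60 t62 t54 t63 t64 t55 t65 t67 t66 t68 t69 t70 t71 hn50
  have h2 : (2 : K) = 0 := CharTwo.two_eq_zero
  have h4 : (4 : K) = 0 := by linear_combination 2 * h2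
  have h6 : (6 : K) = 0 := by linear_combination 3 * h2
  have h8 : (8 : K) = 0 := by linear_combination 4 * h2
  have h10 : (10 : K) = 0 := by linear_combination 5 * h2
  have h12 : (12 : K) = 0 := by linear_combination 6 * h2
  have h14 : (14 : K) = 0 := by linear_combination 7 * h2
  have h16 : (16 : K) = 0 := by linear_combination 8 * h2
  have h18 : (18 : K) = 0 := by linear_combination 9 * h2
  have h20 : (20 : K) = 0 := by linear_combination 10 * h2
  have h22 : (22 : K) = 0 := by linear_combination 11 * h2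
  have h24 : (24 : K) = 0 := by linear_combination 12 * h2
  have h26 : (26 : K) = 0 := by linear_combination 13 * h2
  have h28 : (28 : K) = 0 := by linear_combination 14 * h2
  have h30 : (30 : K) = 0 := by linear_combination 15 * h2
  have h32 : (32 : K) = 0 := by linear_combination 16 * h2
  obtain ⟨c, rfl⟩ : ∃ c, t53 = c * t50 := ⟨t53 / t50, by field_simp⟩
  have e : R.X40 c * R.RNF (0) (0) (0) (0) (0) (0) (0) (0) (0) (0) (0) (0) (0) (0) (t50) (t58) (t45) (t49) (0) (t59) (0) (0) (c * t50) (t60) (t62) (t54) (t63) (t64) (t55) (t65) (t67) (t66) (t68) (t69) (t70) (t71) * R.X40 c =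
      R.RNF (0) (0) (0) (0) (0) (0) (0) (0) (0) (0) (0) (0) (0) (0) (t50) (t58) (t45) (t49) (0) (t59) (0) (0) (0) (t60) (t62) (t54) (t63) (t64) (t55) (t65) (t67) (c * t63 + t66) (t68) (t69) (c * t68 + t70) (t71) := by
    rw [R.ucj40]
    congr 1 <;> (first | rfl | ring1 | (rw [← sub_eq_zero]; ring_nf; simp only [h2, h4, h6, h8, h10, h12, h14, h16, h18, h20, h22, h24, h26, h28, h30, h32, mul_zero, zero_mul, add_zero, zero_add, neg_zero, sub_zero, sub_self]))
  exact UP_cj D (D.xmem40 c) (R.inv40 c) e (ih _ _ _ _ _ _ _ _ _ _ _ _ _ _ _ _ _ _ hn50)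

theorem e6s14_5 (D : UData R)
    (ih : ∀ (t50 t58 t45 t49 t59 t60 t62 t63 t64 t55 t65 t67 t66 t68 t69 t70 t71 : K), t50 ≠ 0 → UP D (R.RNF (0) (0) (0) (0) (0) (0) (0) (0) (0) (0) (0) (0) (0) (0) (t50) (t58) (t45) (t49) (0) (t59) (0) (0) (0) (t60) (t62) (0) (t63) (t64) (t55) (t65) (t67) (t66) (t68) (t69) (t70) (t71))) :
    ∀ (t50 t58 t45 t49 t59 t60 t62 t54 t63 t64 t55 t65 t67 t66 t68 t69 t70 t71 : K), t50 ≠ 0 → UP D (R.RNF (0) (0) (0) (0) (0) (0) (0) (0) (0) (0) (0) (0) (0) (0) (t50) (t58) (t45) (t49) (0) (t59) (0) (0) (0) (t60) (t62) (t54) (t63) (t64) (t55) (t65) (t67) (t66) (t68) (t69) (t70) (t71)) := by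
  intro t50 t58 t45 t49 t59 t60 t62 t54 t63 t64 t55 t65 t67 t66 t68 t69 t70 t71 hn50
  have h2 : (2 : K) = 0 := CharTwo.two_eq_zero
  have h4 : (4 : K) = 0 := by linear_combination 2 * h2
  have h6 : (6 : K) = 0 := by linear_combination 3 * h2
  have h8 : (8 : K) = 0 := by linear_combination 4 * h2
  have h10 : (10 : K) = 0 := by linear_combination 5 * h2
  have h12 : (12 : K) = 0 := by linear_combination 6 * h2
  have h14 : (14 : K) = 0 := by linear_combination 7 * h2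
  have h16 : (16 : K) = 0 := by linear_combination 8 * h2
  have h18 : (18 : K) = 0 := by linear_combination 9 * h2
  have h20 : (20 : K) = 0 := by linear_combination 10 * h2
  have h22 : (22 : K) = 0 := by linear_combination 11 * h2
  have h24 : (24 : K) = 0 := by linear_combination 12 * h2
  have h26 : (26 : K) = 0 := by linear_combination 13 * h2
  have h28 : (28 : K) = 0 := by linear_combination 14 * h2
  have h30 : (30 : K) = 0 := by linear_combination 15 * h2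
  have h32 : (32 : K) = 0 := by linear_combination 16 * h2
  obtain ⟨c, rfl⟩ : ∃ c, t54 = c * t50 := ⟨t54 / t50, by field_simp⟩
  have e : R.X41 c * R.RNF (0) (0) (0) (0) (0) (0) (0) (0) (0) (0) (0) (0) (0) (0) (t50) (t58) (t45) (t49) (0) (t59) (0) (0) (0) (t60) (t62) (c * t50) (t63) (t64) (t55) (t65) (t67) (t66) (t68) (t69) (t70) (t71) * R.X41 c =
      R.RNF (0) (0) (0) (0) (0) (0) (0) (0) (0) (0) (0) (0) (0) (0) (t50) (t58) (t45) (t49) (0) (t59) (0) (0) (0) (t60) (t62) (0) (t63) (t64) (t55) (t65) (t67) (c * t62 + t66) (t68) (t69) (c * t50 * t59 + c * t67 + t70) (c * t50 * t62 + t71) := by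
    rw [R.ucj41]
    congr 1 <;> (first | rfl | ring1 | (rw [← sub_eq_zero]; ring_nf; simp only [h2, h4, h6, h8, h10, h12, h14, h16, h18, h20, h22, h24, h26, h28, h30, h32, mul_zero, zero_mul, add_zero, zero_add, neg_zero, sub_zero, sub_self]))
  exact UP_cj D (D.xmem41 c) (R.inv41 c) e (ih _ _ _ _ _ _ _ _ _ _ _ _ _ _ _ _ _ hn50)

theorem e6s14_6 (D : UData R)
    (ih : ∀ (t50 t58 t45 t49 t59 t60 t62 t63 t64 t55 t65 t66 t68 t69 t70 t71 : K), t50 ≠ 0 → UP D (R.RNF (0) (0) (0) (0) (0) (0) (0) (0) (0) (0) (0) (0) (0) (0) (t50) (t58) (t45) (t49) (0) (t59) (0) (0) (0) (t60) (t62) (0) (t63) (t64) (t55) (t65) (0) (t66) (t68) (t69) (t70) (t71))) :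
    ∀ (t50 t58 t45 t49 t59 t60 t62 t63 t64 t55 t65 t67 t66 t68 t69 t70 t71 : K), t50 ≠ 0 → UP D (R.RNF (0) (0) (0) (0) (0) (0) (0) (0) (0) (0) (0) (0) (0) (0) (t50) (t58) (t45) (t49) (0) (t59) (0) (0) (0) (t60) (t62) (0) (t63) (t64) (t55) (t65) (t67) (t66) (t68) (t69) (t70) (t71)) := by
  intro t50 t58 t45 t49 t59 t60 t62 t63 t64 t55 t65 t67 t66 t68 t69 t70 t71 hn50
  have h2 : (2 : K) = 0 := CharTwo.two_eq_zero
  have h4 : (4 : K) = 0 := by linear_combination 2 * h2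
  have h6 : (6 : K) = 0 := by linear_combination 3 * h2
  have h8 : (8 : K) = 0 := by linear_combination 4 * h2
  have h10 : (10 : K) = 0 := by linear_combination 5 * h2
  have h12 : (12 : K) = 0 := by linear_combination 6 * h2
  have h14 : (14 : K) = 0 := by linear_combination 7 * h2
  have h16 : (16 : K) = 0 := by linear_combination 8 * h2
  have h18 : (18 : K) = 0 := by linear_combination 9 * h2
  have h20 : (20 : K) = 0 := by linear_combination 10 * h2
  have h22 : (22 : K) = 0 := by linear_combination 11 * h2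
  have h24 : (24 : K) = 0 := by linear_combination 12 * h2
  have h26 : (26 : K) = 0 := by linear_combination 13 * h2
  have h28 : (28 : K) = 0 := by linear_combination 14 * h2
  have h30 : (30 : K) = 0 := by linear_combination 15 * h2
  have h32 : (32 : K) = 0 := by linear_combination 16 * h2
  obtain ⟨c, rfl⟩ : ∃ c, t67 = c * t50 := ⟨t67 / t50, by field_simp⟩
  have e : R.X59 c * R.RNF (0) (0) (0) (0) (0) (0) (0) (0) (0) (0) (0) (0) (0) (0) (t50) (t58) (t45) (t49) (0) (t59) (0) (0) (0) (t60) (t62) (0) (t63) (t64) (t55) (t65) (c * t50) (t66) (t68) (t69) (t70) (t71) * R.X59 c =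
      R.RNF (0) (0) (0) (0) (0) (0) (0) (0) (0) (0) (0) (0) (0) (0) (t50) (t58) (t45) (t49) (0) (t59) (0) (0) (0) (t60) (t62) (0) (t63) (t64) (t55) (t65) (0) (c * t49 + t66) (t68) (t69) (t70) (c * t49 * t50 + t71) := by
    rw [R.ucj59]
    congr 1 <;> (first | rfl | ring1 | (rw [← sub_eq_zero]; ring_nf; simp only [h2, h4, h6, h8, h10, h12, h14, h16, h18, h20, h22, h24, h26, h28, h30, h32, mul_zero, zero_mul, add_zero, zero_add, neg_zero, sub_zero, sub_self]))
  exact UP_cj D (D.xmem59 c) (R.inv59 c) e (ih _ _ _ _ _ _ _ _ _ _ _ _ _ _ _ _ hn50)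

theorem e6s14_7 (D : UData R)
    (ih : ∀ (t50 t58 t45 t49 t59 t60 t62 t63 t64 t55 t65 t66 t69 t70 t71 : K), t50 ≠ 0 → UP D (R.RNF (0) (0) (0) (0) (0) (0) (0) (0) (0) (0) (0) (0) (0) (0) (t50) (t58) (t45) (t49) (0) (t59) (0) (0) (0) (t60) (t62) (0) (t63) (t64) (t55) (t65) (0) (t66) (0) (t69) (t70) (t71))) :
    ∀ (t50 t58 t45 t49 t59 t60 t62 t63 t64 t55 t65 t66 t68 t69 t70 t71 : K), t50 ≠ 0 → UP D (R.RNF (0) (0) (0) (0) (0) (0) (0) (0) (0) (0) (0) (0) (0) (0) (t50) (t58) (t45) (t49) (0) (t59) (0) (0) (0) (t60) (t62) (0) (t63) (t64) (t55) (t65) (0) (t66) (t68) (t69) (t70) (t71)) := by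
  intro t50 t58 t45 t49 t59 t60 t62 t63 t64 t55 t65 t66 t68 t69 t70 t71 hn50
  have h2 : (2 : K) = 0 := CharTwo.two_eq_zero
  have h4 : (4 : K) = 0 := by linear_combination 2 * h2
  have h6 : (6 : K) = 0 := by linear_combination 3 * h2
  have h8 : (8 : K) = 0 := by linear_combination 4 * h2
  have h10 : (10 : K) = 0 := by linear_combination 5 * h2
  have h12 : (12 : K) = 0 := by linear_combination 6 * h2
  have h14 : (14 : K) = 0 := by linear_combination 7 * h2
  have h16 : (16 : K) = 0 := by linear_combination 8 * h2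
  have h18 : (18 : K) = 0 := by linear_combination 9 * h2
  have h20 : (20 : K) = 0 := by linear_combination 10 * h2
  have h22 : (22 : K) = 0 := by linear_combination 11 * h2
  have h24 : (24 : K) = 0 := by linear_combination 12 * h2
  have h26 : (26 : K) = 0 := by linear_combination 13 * h2
  have h28 : (28 : K) = 0 := by linear_combination 14 * h2
  have h30 : (30 : K) = 0 := by linear_combination 15 * h2
  have h32 : (32 : K) = 0 := by linear_combination 16 * h2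
  obtain ⟨c, rfl⟩ : ∃ c, t68 = c * t50 := ⟨t68 / t50, by field_simp⟩
  have e : R.X60 c * R.RNF (0) (0) (0) (0) (0) (0) (0) (0) (0) (0) (0) (0) (0) (0) (t50) (t58) (t45) (t49) (0) (t59) (0) (0) (0) (t60) (t62) (0) (t63) (t64) (t55) (t65) (0) (t66) (c * t50) (t69) (t70) (t71) * R.X60 c =
      R.RNF (0) (0) (0) (0) (0) (0) (0) (0) (0) (0) (0) (0) (0) (0) (t50) (t58) (t45) (t49) (0) (t59) (0) (0) (0) (t60) (t62) (0) (t63) (t64) (t55) (t65) (0) (t66) (0) (t69) (t70) (t71) := by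
    rw [R.ucj60]
    congr 1 <;> (first | rfl | ring1 | (rw [← sub_eq_zero]; ring_nf; simp only [h2, h4, h6, h8, h10, h12, h14, h16, h18, h20, h22, h24, h26, h28, h30, h32, mul_zero, zero_mul, add_zero, zero_add, neg_zero, sub_zero, sub_self]))
  exact UP_cj D (D.xmem60 c) (R.inv60 c) e (ih _ _ _ _ _ _ _ _ _ _ _ _ _ _ _ hn50)

theorem e6s14_8 (D : UData R)
    (ih : ∀ (t50 t58 t45 t49 t59 t60 t62 t63 t64 t55 t65 t66 t69 t70 : K), t50 ≠ 0 → UP D (R.RNF (0) (0) (0) (0) (0) (0) (0) (0) (0) (0) (0) (0) (0) (0) (t50) (t58) (t45) (t49) (0) (t59) (0) (0) (0) (t60) (t62) (0) (t63) (t64) (t55) (t65) (0) (t66) (0) (t69) (t70) (0))) :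
    ∀ (t50 t58 t45 t49 t59 t60 t62 t63 t64 t55 t65 t66 t69 t70 t71 : K), t50 ≠ 0 → UP D (R.RNF (0) (0) (0) (0) (0) (0) (0) (0) (0) (0) (0) (0) (0) (0) (t50) (t58) (t45) (t49) (0) (t59) (0) (0) (0) (t60) (t62) (0) (t63) (t64) (t55) (t65) (0) (t66) (0) (t69) (t70) (t71)) := by
  intro t50 t58 t45 t49 t59 t60 t62 t63 t64 t55 t65 t66 t69 t70 t71 hn50
  have h2 : (2 : K) = 0 := CharTwo.two_eq_zero
  have h4 : (4 : K) = 0 := by linear_combination 2 * h2
  have h6 : (6 : K) = 0 := by linear_combination 3 * h2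
  have h8 : (8 : K) = 0 := by linear_combination 4 * h2
  have h10 : (10 : K) = 0 := by linear_combination 5 * h2
  have h12 : (12 : K) = 0 := by linear_combination 6 * h2
  have h14 : (14 : K) = 0 := by linear_combination 7 * h2
  have h16 : (16 : K) = 0 := by linear_combination 8 * h2
  have h18 : (18 : K) = 0 := by linear_combination 9 * h2
  have h20 : (20 : K) = 0 := by linear_combination 10 * h2
  have h22 : (22 : K) = 0 := by linear_combination 11 * h2
  have h24 : (24 : K) = 0 := by linear_combination 12 * h2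
  have h26 : (26 : K) = 0 := by linear_combination 13 * h2
  have h28 : (28 : K) = 0 := by linear_combination 14 * h2
  have h30 : (30 : K) = 0 := by linear_combination 15 * h2
  have h32 : (32 : K) = 0 := by linear_combination 16 * h2
  obtain ⟨c, rfl⟩ : ∃ c, t71 = c * t50 := ⟨t71 / t50, by field_simp⟩
  have e : R.X66 c * R.RNF (0) (0) (0) (0) (0) (0) (0) (0) (0) (0) (0) (0) (0) (0) (t50) (t58) (t45) (t49) (0) (t59) (0) (0) (0) (t60) (t62) (0) (t63) (t64) (t55) (t65) (0) (t66) (0) (t69) (t70) (c * t50) * R.X66 c =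
      R.RNF (0) (0) (0) (0) (0) (0) (0) (0) (0) (0) (0) (0) (0) (0) (t50) (t58) (t45) (t49) (0) (t59) (0) (0) (0) (t60) (t62) (0) (t63) (t64) (t55) (t65) (0) (t66) (0) (t69) (t70) (0) := by
    rw [R.ucj66]
    congr 1 <;> (first | rfl | ring1 | (rw [← sub_eq_zero]; ring_nf; simp only [h2, h4, h6, h8, h10, h12, h14, h16, h18, h20, h22, h24, h26, h28, h30, h32, mul_zero, zero_mul, add_zero, zero_add, neg_zero, sub_zero, sub_self]))
  exact UP_cj D (D.xmem66 c) (R.inv66 c) e (ih _ _ _ _ _ _ _ _ _ _ _ _ _ _ hn50)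

theorem e6s14_9 (D : UData R)
    (ih : ∀ (t50 t58 t45 t49 t60 t62 t63 t64 t55 t65 t66 t69 t70 : K), t50 ≠ 0 → UP D (R.RNF (0) (0) (0) (0) (0) (0) (0) (0) (0) (0) (0) (0) (0) (0) (t50) (t58) (t45) (t49) (0) (0) (0) (0) (0) (t60) (t62) (0) (t63) (t64) (t55) (t65) (0) (t66) (0) (t69) (t70) (0))) :
    ∀ (t50 t58 t45 t49 t59 t60 t62 t63 t64 t55 t65 t66 t69 t70 : K), t50 ≠ 0 → UP D (R.RNF (0) (0) (0) (0) (0) (0) (0) (0) (0) (0) (0) (0) (0) (0) (t50) (t58) (t45) (t49) (0) (t59) (0) (0) (0) (t60) (t62) (0) (t63) (t64) (t55) (t65) (0) (t66) (0) (t69) (t70) (0)) := by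
  intro t50 t58 t45 t49 t59 t60 t62 t63 t64 t55 t65 t66 t69 t70 hn50 hu hne
  have hsq := hu
  rw [R.usq] at hsq
  obtain ⟨e36, e37, e39, e42, e46, e56, e38, e40, e43, e47, e57, e41, e44, e48, e50, e58, e45, e49, e51, e59, e61, e52, e53, e60, e62, e54, e63, e64, e55, e65, e67, e66, e68, e69, e70, e71⟩ := D.inj _ _ _ _ _ _ _ _ _ _ _ _ _ _ _ _ _ _ _ _ _ _ _ _ _ _ _ _ _ _ _ _ _ _ _ _ hsq
  have hz : t59 = 0 := by
    have h : t50 * t59 = 0 := by linear_combination e67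
    exact (mul_eq_zero.mp h).resolve_left hn50
  subst hz
  exact ih _ _ _ _ _ _ _ _ _ _ _ _ _ hn50 hu hne

theorem e6s14_10 (D : UData R)
    (ih : ∀ (t50 t58 t45 t49 t62 t63 t64 t55 t65 t66 t69 t70 : K), t50 ≠ 0 → UP D (R.RNF (0) (0) (0) (0) (0) (0) (0) (0) (0) (0) (0) (0) (0) (0) (t50) (t58) (t45) (t49) (0) (0) (0) (0) (0) (0) (t62) (0) (t63) (t64) (t55) (t65) (0) (t66) (0) (t69) (t70) (0))) :
    ∀ (t50 t58 t45 t49 t60 t62 t63 t64 t55 t65 t66 t69 t70 : K), t50 ≠ 0 → UP D (R.RNF (0) (0) (0) (0) (0) (0) (0) (0) (0) (0) (0) (0) (0) (0) (t50) (t58) (t45) (t49) (0) (0) (0) (0) (0) (t60) (t62) (0) (t63) (t64) (t55) (t65) (0) (t66) (0) (t69) (t70) (0)) := by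
  intro t50 t58 t45 t49 t60 t62 t63 t64 t55 t65 t66 t69 t70 hn50 hu hne
  have hsq := hu
  rw [R.usq] at hsq
  obtain ⟨e36, e37, e39, e42, e46, e56, e38, e40, e43, e47, e57, e41, e44, e48, e50, e58, e45, e49, e51, e59, e61, e52, e53, e60, e62, e54, e63, e64, e55, e65, e67, e66, e68, e69, e70, e71⟩ := D.inj _ _ _ _ _ _ _ _ _ _ _ _ _ _ _ _ _ _ _ _ _ _ _ _ _ _ _ _ _ _ _ _ _ _ _ _ hsq
  have hz : t60 = 0 := by
    have h : t50 * t60 = 0 := by linear_combination e68
    exact (mul_eq_zero.mp h).resolve_left hn50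
  subst hz
  exact ih _ _ _ _ _ _ _ _ _ _ _ _ hn50 hu hne

theorem e6s14_11 (D : UData R)
    (ih : ∀ (t50 t58 t45 t49 t62 t63 t64 t55 t65 t69 t70 : K), t50 ≠ 0 → UP D (R.RNF (0) (0) (0) (0) (0) (0) (0) (0) (0) (0) (0) (0) (0) (0) (t50) (t58) (t45) (t49) (0) (0) (0) (0) (0) (0) (t62) (0) (t63) (t64) (t55) (t65) (0) (0) (0) (t69) (t70) (0))) :
    ∀ (t50 t58 t45 t49 t62 t63 t64 t55 t65 t66 t69 t70 : K), t50 ≠ 0 → UP D (R.RNF (0) (0) (0) (0) (0) (0) (0) (0) (0) (0) (0) (0) (0) (0) (t50) (t58) (t45) (t49) (0) (0) (0) (0) (0) (0) (t62) (0) (t63) (t64) (t55) (t65) (0) (t66) (0) (t69) (t70) (0)) := by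
  intro t50 t58 t45 t49 t62 t63 t64 t55 t65 t66 t69 t70 hn50 hu hne
  have hsq := hu
  rw [R.usq] at hsq
  obtain ⟨e36, e37, e39, e42, e46, e56, e38, e40, e43, e47, e57, e41, e44, e48, e50, e58, e45, e49, e51, e59, e61, e52, e53, e60, e62, e54, e63, e64, e55, e65, e67, e66, e68, e69, e70, e71⟩ := D.inj _ _ _ _ _ _ _ _ _ _ _ _ _ _ _ _ _ _ _ _ _ _ _ _ _ _ _ _ _ _ _ _ _ _ _ _ hsq
  have hz : t66 = 0 := by
    have h : t50 * t66 = 0 := by linear_combination e71
    exact (mul_eq_zero.mp h).resolve_left hn50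
  subst hz
  exact ih _ _ _ _ _ _ _ _ _ _ _ hn50 hu hne

theorem e6s14_12 (D : UData R)
    (ih : ∀ (t45 t49 t51 t59 t61 t54 t63 t64 t66 t68 t70 : K), t51 ≠ 0 → UP D (R.RNF (0) (0) (0) (0) (0) (0) (0) (0) (0) (0) (0) (0) (0) (0) (0) (0) (t45) (t49) (t51) (t59) (t61) (0) (0) (0) (0) (t54) (t63) (t64) (0) (0) (0) (t66) (t68) (0) (t70) (0))) :
    ∀ (t50 t58 t45 t49 t62 t63 t64 t55 t65 t69 t70 : K), t50 ≠ 0 → UP D (R.RNF (0) (0) (0) (0) (0) (0) (0) (0) (0) (0) (0) (0) (0) (0) (t50) (t58) (t45) (t49) (0) (0) (0) (0) (0) (0) (t62) (0) (t63) (t64) (t55) (t65) (0) (0) (0) (t69) (t70) (0)) := by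
  intro t50 t58 t45 t49 t62 t63 t64 t55 t65 t69 t70 hn50
  have h2 : (2 : K) = 0 := CharTwo.two_eq_zero
  have h4 : (4 : K) = 0 := by linear_combination 2 * h2
  have h6 : (6 : K) = 0 := by linear_combination 3 * h2
  have h8 : (8 : K) = 0 := by linear_combination 4 * h2
  have h10 : (10 : K) = 0 := by linear_combination 5 * h2
  have h12 : (12 : K) = 0 := by linear_combination 6 * h2
  have h14 : (14 : K) = 0 := by linear_combination 7 * h2
  have h16 : (16 : K) = 0 := by linear_combination 8 * h2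
  have h18 : (18 : K) = 0 := by linear_combination 9 * h2
  have h20 : (20 : K) = 0 := by linear_combination 10 * h2
  have h22 : (22 : K) = 0 := by linear_combination 11 * h2
  have h24 : (24 : K) = 0 := by linear_combination 12 * h2
  have h26 : (26 : K) = 0 := by linear_combination 13 * h2
  have h28 : (28 : K) = 0 := by linear_combination 14 * h2
  have h30 : (30 : K) = 0 := by linear_combination 15 * h2
  have h32 : (32 : K) = 0 := by linear_combination 16 * h2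
  have e : D.n5 * R.RNF (0) (0) (0) (0) (0) (0) (0) (0) (0) (0) (0) (0) (0) (0) (t50) (t58) (t45) (t49) (0) (0) (0) (0) (0) (0) (t62) (0) (t63) (t64) (t55) (t65) (0) (0) (0) (t69) (t70) (0) * D.n5⁻¹ =
      R.RNF (0) (0) (0) (0) (0) (0) (0) (0) (0) (0) (0) (0) (0) (0) (0) (0) (t45) (t49) (t50) (t58) (t62) (0) (0) (0) (0) (t55) (t63) (t64) (0) (0) (0) (t49 * t58 + t65) (t69) (0) (t70) (0) := by
    rw [D.toWeylE6.conj_n5]
    congr 1 <;> (first | rfl | ring1 | (rw [← sub_eq_zero]; ring_nf; simp only [h2, h4, h6, h8, h10, h12, h14, h16, h18, h20, h22, h24, h26, h28, h30, h32, mul_zero, zero_mul, add_zero, zero_add, neg_zero, sub_zero, sub_self]))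
  exact UP_n D D.n5_mem e (ih _ _ _ _ _ _ _ _ _ _ _ hn50)

theorem upiv14 (D : UData R)
    (ih : ∀ (t58 t45 t49 t51 t59 t61 t52 t53 t60 t62 t54 t63 t64 t55 t65 t67 t66 t68 t69 t70 t71 : K), UP D (R.RNF (0) (0) (0) (0) (0) (0) (0) (0) (0) (0) (0) (0) (0) (0) (0) (t58) (t45) (t49) (t51) (t59) (t61) (t52) (t53) (t60) (t62) (t54) (t63) (t64) (t55) (t65) (t67) (t66) (t68) (t69) (t70) (t71))) :
    ∀ (t50 t58 t45 t49 t51 t59 t61 t52 t53 t60 t62 t54 t63 t64 t55 t65 t67 t66 t68 t69 t70 t71 : K), UP D (R.RNF (0) (0) (0) (0) (0) (0) (0) (0) (0) (0) (0) (0) (0) (0) (t50) (t58) (t45) (t49) (t51) (t59) (t61) (t52) (t53) (t60) (t62) (t54) (t63) (t64) (t55) (t65) (t67) (t66) (t68) (t69) (t70) (t71)) := by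
  intro t50 t58 t45 t49 t51 t59 t61 t52 t53 t60 t62 t54 t63 t64 t55 t65 t67 t66 t68 t69 t70 t71
  by_cases h0 : t50 = 0
  · subst h0; exact ih _ _ _ _ _ _ _ _ _ _ _ _ _ _ _ _ _ _ _ _ _
  · exact (e6s14_1 D (e6s14_2 D (e6s14_3 D (e6s14_4 D (e6s14_5 D (e6s14_6 D (e6s14_7 D (e6s14_8 D (e6s14_9 D (e6s14_10 D (e6s14_11 D (e6s14_12 D (fun t45 t49 t51 t59 t61 t54 t63 t64 t66 t68 t70 _ => ih 0 t45 t49 t51 t59 t61 0 0 0 0 t54 t63 t64 0 0 0 t66 t68 0 t70 0))))))))))))) t50 t58 t45 t49 t51 t59 t61 t52 t53 t60 t62 t54 t63 t64 t55 t65 t67 t66 t68 t69 t70 t71 h0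

end Cfsg.Agent.Helper4.E6Inv
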