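import Cfsg.Agent.Helper4.E6Inv.UFinT

/-! Generated: steps of the reduction of involutions in the unipotent group of `E₆`
(characteristic two). -/

set_option autoImplicit false
set_option maxHeartbeats 8000000
set_option maxRecDepth 100000
set_option linter.unusedSimpArgs false
set_option linter.unusedVariables false
set_option linter.unusedSectionVars false
set_option linter.unusedTactic false
set_option linter.unreachableTactic false

namespace Cfsg.Agent.Helper4.E6Inv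

variable {K Γ : Type*} [Field K] [Group Γ] {R : RelE6 K Γ} [CharP K 2]

theorem e6s15_1 (D : UData R)
    (ih : ∀ (t58 t45 t51 t59 t61 t52 t53 t60 t62 t54 t63 t64 t55 t65 t67 t66 t68 t69 t70 t71 : K), t58 ≠ 0 → UP D (R.RNF (0) (0) (0) (0) (0) (0) (0) (0) (0) (0) (0) (0) (0) (0) (0) (t58) (t45) (0) (t51) (t59) (t61) (t52) (t53) (t60) (t62) (t54) (t63) (t64) (t55) (t65) (t67) (t66) (t68) (t69) (t70) (t71))) :
    ∀ (t58 t45 t49 t51 t59 t61 t52 t53 t60 t62 t54 t63 t64 t55 t65 t67 t66 t68 t69 t70 t71 : K), t58 ≠ 0 → UP D (R.RNF (0) (0) (0) (0) (0) (0) (0) (0) (0) (0) (0) (0) (0) (0) (0) (t58) (t45) (t49) (t51) (t59) (t61) (t52) (t53) (t60) (t62) (t54) (t63) (t64) (t55) (t65) (t67) (t66) (t68) (t69) (t70) (t71)) := by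
  intro t58 t45 t49 t51 t59 t61 t52 t53 t60 t62 t54 t63 t64 t55 t65 t67 t66 t68 t69 t70 t71 hn58 hu hne
  have hsq := hu
  rw [R.usq] at hsq
  obtain ⟨e36, e37, e39, e42, e46, e56, e38, e40, e43, e47, e57, e41, e44, e48, e50, e58, e45, e49, e51, e59, e61, e52, e53, e60, e62, e54, e63, e64, e55, e65, e67, e66, e68, e69, e70, e71⟩ := D.inj _ _ _ _ _ _ _ _ _ _ _ _ _ _ _ _ _ _ _ _ _ _ _ _ _ _ _ _ _ _ _ _ _ _ _ _ hsq
  have hz : t49 = 0 := by
    have h : t58 * t49 = 0 := by linear_combination e65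
    exact (mul_eq_zero.mp h).resolve_left hn58
  subst hz
  exact ih _ _ _ _ _ _ _ _ _ _ _ _ _ _ _ _ _ _ _ _ hn58 hu hne

theorem e6s15_2 (D : UData R)
    (ih : ∀ (t58 t45 t59 t61 t52 t53 t60 t62 t54 t63 t64 t55 t65 t67 t66 t68 t69 t70 t71 : K), t58 ≠ 0 → UP D (R.RNF (0) (0) (0) (0) (0) (0) (0) (0) (0) (0) (0) (0) (0) (0) (0) (t58) (t45) (0) (0) (t59) (t61) (t52) (t53) (t60) (t62) (t54) (t63) (t64) (t55) (t65) (t67) (t66) (t68) (t69) (t70) (t71))) :
    ∀ (t58 t45 t51 t59 t61 t52 t53 t60 t62 t54 t63 t64 t55 t65 t67 t66 t68 t69 t70 t71 : K), t58 ≠ 0 → UP D (R.RNF (0) (0) (0) (0) (0) (0) (0) (0) (0) (0) (0) (0) (0) (0) (0) (t58) (t45) (0) (t51) (t59) (t61) (t52) (t53) (t60) (t62) (t54) (t63) (t64) (t55) (t65) (t67) (t66) (t68) (t69) (t70) (t71)) := by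
  intro t58 t45 t51 t59 t61 t52 t53 t60 t62 t54 t63 t64 t55 t65 t67 t66 t68 t69 t70 t71 hn58 hu hne
  have hsq := hu
  rw [R.usq] at hsq
  obtain ⟨e36, e37, e39, e42, e46, e56, e38, e40, e43, e47, e57, e41, e44, e48, e50, e58, e45, e49, e51, e59, e61, e52, e53, e60, e62, e54, e63, e64, e55, e65, e67, e66, e68, e69, e70, e71⟩ := D.inj _ _ _ _ _ _ _ _ _ _ _ _ _ _ _ _ _ _ _ _ _ _ _ _ _ _ _ _ _ _ _ _ _ _ _ _ hsq
  have hz : t51 = 0 := by
    have h : t58 * t51 = 0 := by linear_combination e67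
    exact (mul_eq_zero.mp h).resolve_left hn58
  subst hz
  exact ih _ _ _ _ _ _ _ _ _ _ _ _ _ _ _ _ _ _ _ hn58 hu hne

theorem e6s15_3 (D : UData R)
    (ih : ∀ (t58 t45 t61 t52 t53 t60 t62 t54 t63 t64 t55 t65 t67 t66 t68 t69 t70 t71 : K), t58 ≠ 0 → UP D (R.RNF (0) (0) (0) (0) (0) (0) (0) (0) (0) (0) (0) (0) (0) (0) (0) (t58) (t45) (0) (0) (0) (t61) (t52) (t53) (t60) (t62) (t54) (t63) (t64) (t55) (t65) (t67) (t66) (t68) (t69) (t70) (t71))) :
    ∀ (t58 t45 t59 t61 t52 t53 t60 t62 t54 t63 t64 t55 t65 t67 t66 t68 t69 t70 t71 : K), t58 ≠ 0 → UP D (R.RNF (0) (0) (0) (0) (0) (0) (0) (0) (0) (0) (0) (0) (0) (0) (0) (t58) (t45) (0) (0) (t59) (t61) (t52) (t53) (t60) (t62) (t54) (t63) (t64) (t55) (t65) (t67) (t66) (t68) (t69) (t70) (t71)) := by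
  intro t58 t45 t59 t61 t52 t53 t60 t62 t54 t63 t64 t55 t65 t67 t66 t68 t69 t70 t71 hn58
  have h2 : (2 : K) = 0 := CharTwo.two_eq_zero
  have h4 : (4 : K) = 0 := by linear_combination 2 * h2
  have h6 : (6 : K) = 0 := by linear_combination 3 * h2
  have h8 : (8 : K) = 0 := by linear_combination 4 * h2
  have h10 : (10 : K) = 0 := by linear_combination 5 * h2
  have h12 : (12 : K) = 0 := by linear_combination 6 * h2
  have h14 : (14 : K) = 0 := by linear_combination 7 * h2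
  have h16 : (16 : K) = 0 := by linear_combination 8 * h2
  have h18 : (18 : K) = 0 := by linear_combination 9 * h2
  have h20 : (20 : K) = 0 := by linear_combination 10 * h2
  have h22 : (22 : K) = 0 := by linear_combination 11 * h2
  have h24 : (24 : K) = 0 := by linear_combination 12 * h2
  have h26 : (26 : K) = 0 := by linear_combination 13 * h2
  have h28 : (28 : K) = 0 := by linear_combination 14 * h2
  have h30 : (30 : K) = 0 := by linear_combination 15 * h2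
  have h32 : (32 : K) = 0 := by linear_combination 16 * h2
  obtain ⟨c, rfl⟩ : ∃ c, t59 = c * t58 := ⟨t59 / t58, by field_simp⟩
  have e : R.X37 c * R.RNF (0) (0) (0) (0) (0) (0) (0) (0) (0) (0) (0) (0) (0) (0) (0) (t58) (t45) (0) (0) (c * t58) (t61) (t52) (t53) (t60) (t62) (t54) (t63) (t64) (t55) (t65) (t67) (t66) (t68) (t69) (t70) (t71) * R.X37 c =
      R.RNF (0) (0) (0) (0) (0) (0) (0) (0) (0) (0) (0) (0) (0) (0) (0) (t58) (t45) (0) (0) (0) (t61) (t52) (t53) (t60) (c * t61 + t62) (t54) (t63) (t64) (c * t54 + t55) (t65) (t67) (c * t65 + t66) (t68) (c * t68 + t69) (t70) (t71) := by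
    rw [R.ucj37]
    congr 1 <;> (first | rfl | ring1 | (rw [← sub_eq_zero]; ring_nf; simp only [h2, h4, h6, h8, h10, h12, h14, h16, h18, h20, h22, h24, h26, h28, h30, h32, mul_zero, zero_mul, add_zero, zero_add, neg_zero, sub_zero, sub_self]))
  exact UP_cj D (D.xmem37 c) (R.inv37 c) e (ih _ _ _ _ _ _ _ _ _ _ _ _ _ _ _ _ _ _ hn58)

theorem e6s15_4 (D : UData R)
    (ih : ∀ (t58 t45 t52 t53 t60 t62 t54 t63 t64 t55 t65 t67 t66 t68 t69 t70 t71 : K), t58 ≠ 0 → UP D (R.RNF (0) (0) (0) (0) (0) (0) (0) (0) (0) (0) (0) (0) (0) (0) (0) (t58) (t45) (0) (0) (0) (0) (t52) (t53) (t60) (t62) (t54) (t63) (t64) (t55) (t65) (t67) (t66) (t68) (t69) (t70) (t71))) :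
    ∀ (t58 t45 t61 t52 t53 t60 t62 t54 t63 t64 t55 t65 t67 t66 t68 t69 t70 t71 : K), t58 ≠ 0 → UP D (R.RNF (0) (0) (0) (0) (0) (0) (0) (0) (0) (0) (0) (0) (0) (0) (0) (t58) (t45) (0) (0) (0) (t61) (t52) (t53) (t60) (t62) (t54) (t63) (t64) (t55) (t65) (t67) (t66) (t68) (t69) (t70) (t71)) := by
  intro t58 t45 t61 t52 t53 t60 t62 t54 t63 t64 t55 t65 t67 t66 t68 t69 t70 t71 hn58
  have h2 : (2 : K) = 0 := CharTwo.two_eq_zero
  have h4 : (4 : K) = 0 := by linear_combination 2 * h2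
  have h6 : (6 : K) = 0 := by linear_combination 3 * h2
  have h8 : (8 : K) = 0 := by linear_combination 4 * h2
  have h10 : (10 : K) = 0 := by linear_combination 5 * h2
  have h12 : (12 : K) = 0 := by linear_combination 6 * h2
  have h14 : (14 : K) = 0 := by linear_combination 7 * h2
  have h16 : (16 : K) = 0 := by linear_combination 8 * h2
  have h18 : (18 : K) = 0 := by linear_combination 9 * h2
  have h20 : (20 : K) = 0 := by linear_combination 10 * h2
  have h22 : (22 : K) = 0 := by linear_combination 11 * h2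
  have h24 : (24 : K) = 0 := by linear_combination 12 * h2
  have h26 : (26 : K) = 0 := by linear_combination 13 * h2
  have h28 : (28 : K) = 0 := by linear_combination 14 * h2
  have h30 : (30 : K) = 0 := by linear_combination 15 * h2
  have h32 : (32 : K) = 0 := by linear_combination 16 * h2
  obtain ⟨c, rfl⟩ : ∃ c, t61 = c * t58 := ⟨t61 / t58, by field_simp⟩
  have e : R.X46 c * R.RNF (0) (0) (0) (0) (0) (0) (0) (0) (0) (0) (0) (0) (0) (0) (0) (t58) (t45) (0) (0) (0) (c * t58) (t52) (t53) (t60) (t62) (t54) (t63) (t64) (t55) (t65) (t67) (t66) (t68) (t69) (t70) (t71) * R.X46 c =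
      R.RNF (0) (0) (0) (0) (0) (0) (0) (0) (0) (0) (0) (0) (0) (0) (0) (t58) (t45) (0) (0) (0) (0) (c * t45 + t52) (t53) (t60) (t62) (t54) (c * t60 + t63) (t64) (t55) (t65) (t67) (t66) (c * t45 * t58 + t68) (t69) (t70) (c * t70 + t71) := by
    rw [R.ucj46]
    congr 1 <;> (first | rfl | ring1 | (rw [← sub_eq_zero]; ring_nf; simp only [h2, h4, h6, h8, h10, h12, h14, h16, h18, h20, h22, h24, h26, h28, h30, h32, mul_zero, zero_mul, add_zero, zero_add, neg_zero, sub_zero, sub_self]))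
  exact UP_cj D (D.xmem46 c) (R.inv46 c) e (ih _ _ _ _ _ _ _ _ _ _ _ _ _ _ _ _ _ hn58)

theorem e6s15_5 (D : UData R)
    (ih : ∀ (t58 t45 t52 t53 t62 t54 t63 t64 t55 t65 t67 t66 t68 t69 t70 t71 : K), t58 ≠ 0 → UP D (R.RNF (0) (0) (0) (0) (0) (0) (0) (0) (0) (0) (0) (0) (0) (0) (0) (t58) (t45) (0) (0) (0) (0) (t52) (t53) (0) (t62) (t54) (t63) (t64) (t55) (t65) (t67) (t66) (t68) (t69) (t70) (t71))) :
    ∀ (t58 t45 t52 t53 t60 t62 t54 t63 t64 t55 t65 t67 t66 t68 t69 t70 t71 : K), t58 ≠ 0 → UP D (R.RNF (0) (0) (0) (0) (0) (0) (0) (0) (0) (0) (0) (0) (0) (0) (0) (t58) (t45) (0) (0) (0) (0) (t52) (t53) (t60) (t62) (t54) (t63) (t64) (t55) (t65) (t67) (t66) (t68) (t69) (t70) (t71)) := by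
  intro t58 t45 t52 t53 t60 t62 t54 t63 t64 t55 t65 t67 t66 t68 t69 t70 t71 hn58
  have h2 : (2 : K) = 0 := CharTwo.two_eq_zero
  have h4 : (4 : K) = 0 := by linear_combination 2 * h2
  have h6 : (6 : K) = 0 := by linear_combination 3 * h2
  have h8 : (8 : K) = 0 := by linear_combination 4 * h2
  have h10 : (10 : K) = 0 := by linear_combination 5 * h2
  have h12 : (12 : K) = 0 := by linear_combination 6 * h2
  have h14 : (14 : K) = 0 := by linear_combination 7 * h2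
  have h16 : (16 : K) = 0 := by linear_combination 8 * h2
  have h18 : (18 : K) = 0 := by linear_combination 9 * h2
  have h20 : (20 : K) = 0 := by linear_combination 10 * h2
  have h22 : (22 : K) = 0 := by linear_combination 11 * h2
  have h24 : (24 : K) = 0 := by linear_combination 12 * h2
  have h26 : (26 : K) = 0 := by linear_combination 13 * h2
  have h28 : (28 : K) = 0 := by linear_combination 14 * h2
  have h30 : (30 : K) = 0 := by linear_combination 15 * h2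
  have h32 : (32 : K) = 0 := by linear_combination 16 * h2
  obtain ⟨c, rfl⟩ : ∃ c, t60 = c * t58 := ⟨t60 / t58, by field_simp⟩
  have e : R.X38 c * R.RNF (0) (0) (0) (0) (0) (0) (0) (0) (0) (0) (0) (0) (0) (0) (0) (t58) (t45) (0) (0) (0) (0) (t52) (t53) (c * t58) (t62) (t54) (t63) (t64) (t55) (t65) (t67) (t66) (t68) (t69) (t70) (t71) * R.X38 c =
      R.RNF (0) (0) (0) (0) (0) (0) (0) (0) (0) (0) (0) (0) (0) (0) (0) (t58) (t45) (0) (0) (0) (0) (t52) (t53) (0) (t62) (t54) (t63) (t64) (c * t53 + t55) (t65) (t67) (c * t64 + t66) (t68) (c * t67 + t69) (c * t53 * t58 + t70) (t71) := by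
    rw [R.ucj38]
    congr 1 <;> (first | rfl | ring1 | (rw [← sub_eq_zero]; ring_nf; simp only [h2, h4, h6, h8, h10, h12, h14, h16, h18, h20, h22, h24, h26, h28, h30, h32, mul_zero, zero_mul, add_zero, zero_add, neg_zero, sub_zero, sub_self]))
  exact UP_cj D (D.xmem38 c) (R.inv38 c) e (ih _ _ _ _ _ _ _ _ _ _ _ _ _ _ _ _ hn58)

theorem e6s15_6 (D : UData R)
    (ih : ∀ (t58 t45 t52 t53 t62 t54 t63 t55 t65 t67 t66 t68 t69 t70 t71 : K), t58 ≠ 0 → UP D (R.RNF (0) (0) (0) (0) (0) (0) (0) (0) (0) (0) (0) (0) (0) (0) (0) (t58) (t45) (0) (0) (0) (0) (t52) (t53) (0) (t62) (t54) (t63) (0) (t55) (t65) (t67) (t66) (t68) (t69) (t70) (t71))) :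
    ∀ (t58 t45 t52 t53 t62 t54 t63 t64 t55 t65 t67 t66 t68 t69 t70 t71 : K), t58 ≠ 0 → UP D (R.RNF (0) (0) (0) (0) (0) (0) (0) (0) (0) (0) (0) (0) (0) (0) (0) (t58) (t45) (0) (0) (0) (0) (t52) (t53) (0) (t62) (t54) (t63) (t64) (t55) (t65) (t67) (t66) (t68) (t69) (t70) (t71)) := by
  intro t58 t45 t52 t53 t62 t54 t63 t64 t55 t65 t67 t66 t68 t69 t70 t71 hn58
  have h2 : (2 : K) = 0 := CharTwo.two_eq_zero
  have h4 : (4 : K) = 0 := by linear_combination 2 * h2
  have h6 : (6 : K) = 0 := by linear_combination 3 * h2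
  have h8 : (8 : K) = 0 := by linear_combination 4 * h2
  have h10 : (10 : K) = 0 := by linear_combination 5 * h2
  have h12 : (12 : K) = 0 := by linear_combination 6 * h2
  have h14 : (14 : K) = 0 := by linear_combination 7 * h2
  have h16 : (16 : K) = 0 := by linear_combination 8 * h2
  have h18 : (18 : K) = 0 := by linear_combination 9 * h2
  have h20 : (20 : K) = 0 := by linear_combination 10 * h2
  have h22 : (22 : K) = 0 := by linear_combination 11 * h2
  have h24 : (24 : K) = 0 := by linear_combination 12 * h2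
  have h26 : (26 : K) = 0 := by linear_combination 13 * h2
  have h28 : (28 : K) = 0 := by linear_combination 14 * h2
  have h30 : (30 : K) = 0 := by linear_combination 15 * h2
  have h32 : (32 : K) = 0 := by linear_combination 16 * h2
  obtain ⟨c, rfl⟩ : ∃ c, t64 = c * t58 := ⟨t64 / t58, by field_simp⟩
  have e : R.X48 c * R.RNF (0) (0) (0) (0) (0) (0) (0) (0) (0) (0) (0) (0) (0) (0) (0) (t58) (t45) (0) (0) (0) (0) (t52) (t53) (0) (t62) (t54) (t63) (c * t58) (t55) (t65) (t67) (t66) (t68) (t69) (t70) (t71) * R.X48 c =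
      R.RNF (0) (0) (0) (0) (0) (0) (0) (0) (0) (0) (0) (0) (0) (0) (0) (t58) (t45) (0) (0) (0) (0) (t52) (t53) (0) (t62) (t54) (t63) (0) (c * t45 + t55) (t65) (t67) (t66) (t68) (t69) (c * t45 * t58 + t70) (c * t52 * t58 + c * t68 + t71) := by
    rw [R.ucj48]
    congr 1 <;> (first | rfl | ring1 | (rw [← sub_eq_zero]; ring_nf; simp only [h2, h4, h6, h8, h10, h12, h14, h16, h18, h20, h22, h24, h26, h28, h30, h32, mul_zero, zero_mul, add_zero, zero_add, neg_zero, sub_zero, sub_self]))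
  exact UP_cj D (D.xmem48 c) (R.inv48 c) e (ih _ _ _ _ _ _ _ _ _ _ _ _ _ _ _ hn58)

theorem e6s15_7 (D : UData R)
    (ih : ∀ (t58 t45 t52 t53 t62 t54 t63 t55 t67 t66 t68 t69 t70 t71 : K), t58 ≠ 0 → UP D (R.RNF (0) (0) (0) (0) (0) (0) (0) (0) (0) (0) (0) (0) (0) (0) (0) (t58) (t45) (0) (0) (0) (0) (t52) (t53) (0) (t62) (t54) (t63) (0) (t55) (0) (t67) (t66) (t68) (t69) (t70) (t71))) :
    ∀ (t58 t45 t52 t53 t62 t54 t63 t55 t65 t67 t66 t68 t69 t70 t71 : K), t58 ≠ 0 → UP D (R.RNF (0) (0) (0) (0) (0) (0) (0) (0) (0) (0) (0) (0) (0) (0) (0) (t58) (t45) (0) (0) (0) (0) (t52) (t53) (0) (t62) (t54) (t63) (0) (t55) (t65) (t67) (t66) (t68) (t69) (t70) (t71)) := by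
  intro t58 t45 t52 t53 t62 t54 t63 t55 t65 t67 t66 t68 t69 t70 t71 hn58
  have h2 : (2 : K) = 0 := CharTwo.two_eq_zero
  have h4 : (4 : K) = 0 := by linear_combination 2 * h2
  have h6 : (6 : K) = 0 := by linear_combination 3 * h2
  have h8 : (8 : K) = 0 := by linear_combination 4 * h2
  have h10 : (10 : K) = 0 := by linear_combination 5 * h2
  have h12 : (12 : K) = 0 := by linear_combination 6 * h2
  have h14 : (14 : K) = 0 := by linear_combination 7 * h2
  have h16 : (16 : K) = 0 := by linear_combination 8 * h2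
  have h18 : (18 : K) = 0 := by linear_combination 9 * h2
  have h20 : (20 : K) = 0 := by linear_combination 10 * h2
  have h22 : (22 : K) = 0 := by linear_combination 11 * h2
  have h24 : (24 : K) = 0 := by linear_combination 12 * h2
  have h26 : (26 : K) = 0 := by linear_combination 13 * h2
  have h28 : (28 : K) = 0 := by linear_combination 14 * h2
  have h30 : (30 : K) = 0 := by linear_combination 15 * h2
  have h32 : (32 : K) = 0 := by linear_combination 16 * h2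
  obtain ⟨c, rfl⟩ : ∃ c, t65 = c * t58 := ⟨t65 / t58, by field_simp⟩
  have e : R.X49 c * R.RNF (0) (0) (0) (0) (0) (0) (0) (0) (0) (0) (0) (0) (0) (0) (0) (t58) (t45) (0) (0) (0) (0) (t52) (t53) (0) (t62) (t54) (t63) (0) (t55) (c * t58) (t67) (t66) (t68) (t69) (t70) (t71) * R.X49 c =
      R.RNF (0) (0) (0) (0) (0) (0) (0) (0) (0) (0) (0) (0) (0) (0) (0) (t58) (t45) (0) (0) (0) (0) (t52) (t53) (0) (t62) (t54) (t63) (0) (t55) (0) (t67) (t66) (t68) (t69) (t70) (c * t67 + t71) := by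
    rw [R.ucj49]
    congr 1 <;> (first | rfl | ring1 | (rw [← sub_eq_zero]; ring_nf; simp only [h2, h4, h6, h8, h10, h12, h14, h16, h18, h20, h22, h24, h26, h28, h30, h32, mul_zero, zero_mul, add_zero, zero_add, neg_zero, sub_zero, sub_self]))
  exact UP_cj D (D.xmem49 c) (R.inv49 c) e (ih _ _ _ _ _ _ _ _ _ _ _ _ _ _ hn58)

theorem e6s15_8 (D : UData R)
    (ih : ∀ (t58 t45 t52 t53 t62 t54 t63 t55 t66 t68 t69 t70 t71 : K), t58 ≠ 0 → UP D (R.RNF (0) (0) (0) (0) (0) (0) (0) (0) (0) (0) (0) (0) (0) (0) (0) (t58) (t45) (0) (0) (0) (0) (t52) (t53) (0) (t62) (t54) (t63) (0) (t55) (0) (0) (t66) (t68) (t69) (t70) (t71))) :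
    ∀ (t58 t45 t52 t53 t62 t54 t63 t55 t67 t66 t68 t69 t70 t71 : K), t58 ≠ 0 → UP D (R.RNF (0) (0) (0) (0) (0) (0) (0) (0) (0) (0) (0) (0) (0) (0) (0) (t58) (t45) (0) (0) (0) (0) (t52) (t53) (0) (t62) (t54) (t63) (0) (t55) (0) (t67) (t66) (t68) (t69) (t70) (t71)) := by
  intro t58 t45 t52 t53 t62 t54 t63 t55 t67 t66 t68 t69 t70 t71 hn58
  have h2 : (2 : K) = 0 := CharTwo.two_eq_zero
  have h4 : (4 : K) = 0 := by linear_combination 2 * h2
  have h6 : (6 : K) = 0 := by linear_combination 3 * h2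
  have h8 : (8 : K) = 0 := by linear_combination 4 * h2
  have h10 : (10 : K) = 0 := by linear_combination 5 * h2
  have h12 : (12 : K) = 0 := by linear_combination 6 * h2
  have h14 : (14 : K) = 0 := by linear_combination 7 * h2
  have h16 : (16 : K) = 0 := by linear_combination 8 * h2
  have h18 : (18 : K) = 0 := by linear_combination 9 * h2
  have h20 : (20 : K) = 0 := by linear_combination 10 * h2
  have h22 : (22 : K) = 0 := by linear_combination 11 * h2
  have h24 : (24 : K) = 0 := by linear_combination 12 * h2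
  have h26 : (26 : K) = 0 := by linear_combination 13 * h2
  have h28 : (28 : K) = 0 := by linear_combination 14 * h2
  have h30 : (30 : K) = 0 := by linear_combination 15 * h2
  have h32 : (32 : K) = 0 := by linear_combination 16 * h2
  obtain ⟨c, rfl⟩ : ∃ c, t67 = c * t58 := ⟨t67 / t58, by field_simp⟩
  have e : R.X51 c * R.RNF (0) (0) (0) (0) (0) (0) (0) (0) (0) (0) (0) (0) (0) (0) (0) (t58) (t45) (0) (0) (0) (0) (t52) (t53) (0) (t62) (t54) (t63) (0) (t55) (0) (c * t58) (t66) (t68) (t69) (t70) (t71) * R.X51 c =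
      R.RNF (0) (0) (0) (0) (0) (0) (0) (0) (0) (0) (0) (0) (0) (0) (0) (t58) (t45) (0) (0) (0) (0) (t52) (t53) (0) (t62) (t54) (t63) (0) (t55) (0) (0) (t66) (t68) (t69) (t70) (t71) := by
    rw [R.ucj51]
    congr 1 <;> (first | rfl | ring1 | (rw [← sub_eq_zero]; ring_nf; simp only [h2, h4, h6, h8, h10, h12, h14, h16, h18, h20, h22, h24, h26, h28, h30, h32, mul_zero, zero_mul, add_zero, zero_add, neg_zero, sub_zero, sub_self]))
  exact UP_cj D (D.xmem51 c) (R.inv51 c) e (ih _ _ _ _ _ _ _ _ _ _ _ _ _ hn58)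

theorem e6s15_9 (D : UData R)
    (ih : ∀ (t58 t45 t52 t53 t62 t54 t63 t55 t66 t69 t70 t71 : K), t58 ≠ 0 → UP D (R.RNF (0) (0) (0) (0) (0) (0) (0) (0) (0) (0) (0) (0) (0) (0) (0) (t58) (t45) (0) (0) (0) (0) (t52) (t53) (0) (t62) (t54) (t63) (0) (t55) (0) (0) (t66) (0) (t69) (t70) (t71))) :
    ∀ (t58 t45 t52 t53 t62 t54 t63 t55 t66 t68 t69 t70 t71 : K), t58 ≠ 0 → UP D (R.RNF (0) (0) (0) (0) (0) (0) (0) (0) (0) (0) (0) (0) (0) (0) (0) (t58) (t45) (0) (0) (0) (0) (t52) (t53) (0) (t62) (t54) (t63) (0) (t55) (0) (0) (t66) (t68) (t69) (t70) (t71)) := by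
  intro t58 t45 t52 t53 t62 t54 t63 t55 t66 t68 t69 t70 t71 hn58
  have h2 : (2 : K) = 0 := CharTwo.two_eq_zero
  have h4 : (4 : K) = 0 := by linear_combination 2 * h2
  have h6 : (6 : K) = 0 := by linear_combination 3 * h2
  have h8 : (8 : K) = 0 := by linear_combination 4 * h2
  have h10 : (10 : K) = 0 := by linear_combination 5 * h2
  have h12 : (12 : K) = 0 := by linear_combination 6 * h2
  have h14 : (14 : K) = 0 := by linear_combination 7 * h2
  have h16 : (16 : K) = 0 := by linear_combination 8 * h2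
  have h18 : (18 : K) = 0 := by linear_combination 9 * h2
  have h20 : (20 : K) = 0 := by linear_combination 10 * h2
  have h22 : (22 : K) = 0 := by linear_combination 11 * h2
  have h24 : (24 : K) = 0 := by linear_combination 12 * h2
  have h26 : (26 : K) = 0 := by linear_combination 13 * h2
  have h28 : (28 : K) = 0 := by linear_combination 14 * h2
  have h30 : (30 : K) = 0 := by linear_combination 15 * h2
  have h32 : (32 : K) = 0 := by linear_combination 16 * h2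
  obtain ⟨c, rfl⟩ : ∃ c, t68 = c * t58 := ⟨t68 / t58, by field_simp⟩
  have e : R.X52 c * R.RNF (0) (0) (0) (0) (0) (0) (0) (0) (0) (0) (0) (0) (0) (0) (0) (t58) (t45) (0) (0) (0) (0) (t52) (t53) (0) (t62) (t54) (t63) (0) (t55) (0) (0) (t66) (c * t58) (t69) (t70) (t71) * R.X52 c =
      R.RNF (0) (0) (0) (0) (0) (0) (0) (0) (0) (0) (0) (0) (0) (0) (0) (t58) (t45) (0) (0) (0) (0) (t52) (t53) (0) (t62) (t54) (t63) (0) (t55) (0) (0) (t66) (0) (t69) (t70) (t71) := by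
    rw [R.ucj52]
    congr 1 <;> (first | rfl | ring1 | (rw [← sub_eq_zero]; ring_nf; simp only [h2, h4, h6, h8, h10, h12, h14, h16, h18, h20, h22, h24, h26, h28, h30, h32, mul_zero, zero_mul, add_zero, zero_add, neg_zero, sub_zero, sub_self]))
  exact UP_cj D (D.xmem52 c) (R.inv52 c) e (ih _ _ _ _ _ _ _ _ _ _ _ _ hn58)

theorem e6s15_10 (D : UData R)
    (ih : ∀ (t58 t45 t52 t53 t62 t54 t63 t55 t66 t69 t71 : K), t58 ≠ 0 → UP D (R.RNF (0) (0) (0) (0) (0) (0) (0) (0) (0) (0) (0) (0) (0) (0) (0) (t58) (t45) (0) (0) (0) (0) (t52) (t53) (0) (t62) (t54) (t63) (0) (t55) (0) (0) (t66) (0) (t69) (0) (t71))) :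
    ∀ (t58 t45 t52 t53 t62 t54 t63 t55 t66 t69 t70 t71 : K), t58 ≠ 0 → UP D (R.RNF (0) (0) (0) (0) (0) (0) (0) (0) (0) (0) (0) (0) (0) (0) (0) (t58) (t45) (0) (0) (0) (0) (t52) (t53) (0) (t62) (t54) (t63) (0) (t55) (0) (0) (t66) (0) (t69) (t70) (t71)) := by
  intro t58 t45 t52 t53 t62 t54 t63 t55 t66 t69 t70 t71 hn58
  have h2 : (2 : K) = 0 := CharTwo.two_eq_zero
  have h4 : (4 : K) = 0 := by linear_combination 2 * h2
  have h6 : (6 : K) = 0 := by linear_combination 3 * h2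
  have h8 : (8 : K) = 0 := by linear_combination 4 * h2
  have h10 : (10 : K) = 0 := by linear_combination 5 * h2
  have h12 : (12 : K) = 0 := by linear_combination 6 * h2
  have h14 : (14 : K) = 0 := by linear_combination 7 * h2
  have h16 : (16 : K) = 0 := by linear_combination 8 * h2
  have h18 : (18 : K) = 0 := by linear_combination 9 * h2
  have h20 : (20 : K) = 0 := by linear_combination 10 * h2
  have h22 : (22 : K) = 0 := by linear_combination 11 * h2
  have h24 : (24 : K) = 0 := by linear_combination 12 * h2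
  have h26 : (26 : K) = 0 := by linear_combination 13 * h2
  have h28 : (28 : K) = 0 := by linear_combination 14 * h2
  have h30 : (30 : K) = 0 := by linear_combination 15 * h2
  have h32 : (32 : K) = 0 := by linear_combination 16 * h2
  obtain ⟨c, rfl⟩ : ∃ c, t70 = c * t58 := ⟨t70 / t58, by field_simp⟩
  have e : R.X55 c * R.RNF (0) (0) (0) (0) (0) (0) (0) (0) (0) (0) (0) (0) (0) (0) (0) (t58) (t45) (0) (0) (0) (0) (t52) (t53) (0) (t62) (t54) (t63) (0) (t55) (0) (0) (t66) (0) (t69) (c * t58) (t71) * R.X55 c =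
      R.RNF (0) (0) (0) (0) (0) (0) (0) (0) (0) (0) (0) (0) (0) (0) (0) (t58) (t45) (0) (0) (0) (0) (t52) (t53) (0) (t62) (t54) (t63) (0) (t55) (0) (0) (t66) (0) (t69) (0) (t71) := by
    rw [R.ucj55]
    congr 1 <;> (first | rfl | ring1 | (rw [← sub_eq_zero]; ring_nf; simp only [h2, h4, h6, h8, h10, h12, h14, h16, h18, h20, h22, h24, h26, h28, h30, h32, mul_zero, zero_mul, add_zero, zero_add, neg_zero, sub_zero, sub_self]))
  exact UP_cj D (D.xmem55 c) (R.inv55 c) e (ih _ _ _ _ _ _ _ _ _ _ _ hn58)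

theorem e6s15_11 (D : UData R)
    (ih : ∀ (t58 t45 t53 t62 t54 t63 t55 t66 t69 t71 : K), t58 ≠ 0 → UP D (R.RNF (0) (0) (0) (0) (0) (0) (0) (0) (0) (0) (0) (0) (0) (0) (0) (t58) (t45) (0) (0) (0) (0) (0) (t53) (0) (t62) (t54) (t63) (0) (t55) (0) (0) (t66) (0) (t69) (0) (t71))) :
    ∀ (t58 t45 t52 t53 t62 t54 t63 t55 t66 t69 t71 : K), t58 ≠ 0 → UP D (R.RNF (0) (0) (0) (0) (0) (0) (0) (0) (0) (0) (0) (0) (0) (0) (0) (t58) (t45) (0) (0) (0) (0) (t52) (t53) (0) (t62) (t54) (t63) (0) (t55) (0) (0) (t66) (0) (t69) (0) (t71)) := by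
  intro t58 t45 t52 t53 t62 t54 t63 t55 t66 t69 t71 hn58 hu hne
  have hsq := hu
  rw [R.usq] at hsq
  obtain ⟨e36, e37, e39, e42, e46, e56, e38, e40, e43, e47, e57, e41, e44, e48, e50, e58, e45, e49, e51, e59, e61, e52, e53, e60, e62, e54, e63, e64, e55, e65, e67, e66, e68, e69, e70, e71⟩ := D.inj _ _ _ _ _ _ _ _ _ _ _ _ _ _ _ _ _ _ _ _ _ _ _ _ _ _ _ _ _ _ _ _ _ _ _ _ hsq
  have hz : t52 = 0 := by
    have h : t58 * t52 = 0 := by linear_combination e68
    exact (mul_eq_zero.mp h).resolve_left hn58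
  subst hz
  exact ih _ _ _ _ _ _ _ _ _ _ hn58 hu hne

theorem e6s15_12 (D : UData R)
    (ih : ∀ (t58 t45 t53 t62 t54 t63 t66 t69 t71 : K), t58 ≠ 0 → UP D (R.RNF (0) (0) (0) (0) (0) (0) (0) (0) (0) (0) (0) (0) (0) (0) (0) (t58) (t45) (0) (0) (0) (0) (0) (t53) (0) (t62) (t54) (t63) (0) (0) (0) (0) (t66) (0) (t69) (0) (t71))) :
    ∀ (t58 t45 t53 t62 t54 t63 t55 t66 t69 t71 : K), t58 ≠ 0 → UP D (R.RNF (0) (0) (0) (0) (0) (0) (0) (0) (0) (0) (0) (0) (0) (0) (0) (t58) (t45) (0) (0) (0) (0) (0) (t53) (0) (t62) (t54) (t63) (0) (t55) (0) (0) (t66) (0) (t69) (0) (t71)) := by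
  intro t58 t45 t53 t62 t54 t63 t55 t66 t69 t71 hn58 hu hne
  have hsq := hu
  rw [R.usq] at hsq
  obtain ⟨e36, e37, e39, e42, e46, e56, e38, e40, e43, e47, e57, e41, e44, e48, e50, e58, e45, e49, e51, e59, e61, e52, e53, e60, e62, e54, e63, e64, e55, e65, e67, e66, e68, e69, e70, e71⟩ := D.inj _ _ _ _ _ _ _ _ _ _ _ _ _ _ _ _ _ _ _ _ _ _ _ _ _ _ _ _ _ _ _ _ _ _ _ _ hsq
  have hz : t55 = 0 := by
    have h : t58 * t55 = 0 := by linear_combination e70
    exact (mul_eq_zero.mp h).resolve_left hn58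
  subst hz
  exact ih _ _ _ _ _ _ _ _ _ hn58 hu hne

theorem e6s15_13 (D : UData R)
    (ih : ∀ (t59 t61 t52 t53 t60 t54 t66 t69 t70 : K), t61 ≠ 0 → UP D (R.RNF (0) (0) (0) (0) (0) (0) (0) (0) (0) (0) (0) (0) (0) (0) (0) (0) (0) (0) (0) (t59) (t61) (t52) (t53) (t60) (0) (t54) (0) (0) (0) (0) (0) (t66) (0) (t69) (t70) (0))) :
    ∀ (t58 t45 t53 t62 t54 t63 t66 t69 t71 : K), t58 ≠ 0 → UP D (R.RNF (0) (0) (0) (0) (0) (0) (0) (0) (0) (0) (0) (0) (0) (0) (0) (t58) (t45) (0) (0) (0) (0) (0) (t53) (0) (t62) (t54) (t63) (0) (0) (0) (0) (t66) (0) (t69) (0) (t71)) := by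
  intro t58 t45 t53 t62 t54 t63 t66 t69 t71 hn58
  have h2 : (2 : K) = 0 := CharTwo.two_eq_zero
  have h4 : (4 : K) = 0 := by linear_combination 2 * h2
  have h6 : (6 : K) = 0 := by linear_combination 3 * h2
  have h8 : (8 : K) = 0 := by linear_combination 4 * h2
  have h10 : (10 : K) = 0 := by linear_combination 5 * h2
  have h12 : (12 : K) = 0 := by linear_combination 6 * h2
  have h14 : (14 : K) = 0 := by linear_combination 7 * h2
  have h16 : (16 : K) = 0 := by linear_combination 8 * h2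
  have h18 : (18 : K) = 0 := by linear_combination 9 * h2
  have h20 : (20 : K) = 0 := by linear_combination 10 * h2
  have h22 : (22 : K) = 0 := by linear_combination 11 * h2
  have h24 : (24 : K) = 0 := by linear_combination 12 * h2
  have h26 : (26 : K) = 0 := by linear_combination 13 * h2
  have h28 : (28 : K) = 0 := by linear_combination 14 * h2
  have h30 : (30 : K) = 0 := by linear_combination 15 * h2
  have h32 : (32 : K) = 0 := by linear_combination 16 * h2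
  have e : D.n2 * R.RNF (0) (0) (0) (0) (0) (0) (0) (0) (0) (0) (0) (0) (0) (0) (0) (t58) (t45) (0) (0) (0) (0) (0) (t53) (0) (t62) (t54) (t63) (0) (0) (0) (0) (t66) (0) (t69) (0) (t71) * D.n2⁻¹ =
      R.RNF (0) (0) (0) (0) (0) (0) (0) (0) (0) (0) (0) (0) (0) (0) (0) (0) (0) (0) (0) (t62) (t58) (t45) (t53) (t63) (0) (t54) (0) (0) (0) (0) (0) (t66) (0) (t45 * t62 + t69) (t71) (0) := by
    rw [D.toWeylE6.conj_n2]
    congr 1 <;> (first | rfl | ring1 | (rw [← sub_eq_zero]; ring_nf; simp only [h2, h4, h6, h8, h10, h12, h14, h16, h18, h20, h22, h24, h26, h28, h30, h32, mul_zero, zero_mul, add_zero, zero_add, neg_zero, sub_zero, sub_self]))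
  exact UP_n D D.n2_mem e (ih _ _ _ _ _ _ _ _ _ hn58)

theorem upiv15 (D : UData R)
    (ih : ∀ (t45 t49 t51 t59 t61 t52 t53 t60 t62 t54 t63 t64 t55 t65 t67 t66 t68 t69 t70 t71 : K), UP D (R.RNF (0) (0) (0) (0) (0) (0) (0) (0) (0) (0) (0) (0) (0) (0) (0) (0) (t45) (t49) (t51) (t59) (t61) (t52) (t53) (t60) (t62) (t54) (t63) (t64) (t55) (t65) (t67) (t66) (t68) (t69) (t70) (t71))) :
    ∀ (t58 t45 t49 t51 t59 t61 t52 t53 t60 t62 t54 t63 t64 t55 t65 t67 t66 t68 t69 t70 t71 : K), UP D (R.RNF (0) (0) (0) (0) (0) (0) (0) (0) (0) (0) (0) (0) (0) (0) (0) (t58) (t45) (t49) (t51) (t59) (t61) (t52) (t53) (t60) (t62) (t54) (t63) (t64) (t55) (t65) (t67) (t66) (t68) (t69) (t70) (t71)) := by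
  intro t58 t45 t49 t51 t59 t61 t52 t53 t60 t62 t54 t63 t64 t55 t65 t67 t66 t68 t69 t70 t71
  by_cases h0 : t58 = 0
  · subst h0; exact ih _ _ _ _ _ _ _ _ _ _ _ _ _ _ _ _ _ _ _ _
  · exact (e6s15_1 D (e6s15_2 D (e6s15_3 D (e6s15_4 D (e6s15_5 D (e6s15_6 D (e6s15_7 D (e6s15_8 D (e6s15_9 D (e6s15_10 D (e6s15_11 D (e6s15_12 D (e6s15_13 D (fun t59 t61 t52 t53 t60 t54 t66 t69 t70 _ => ih 0 0 0 t59 t61 t52 t53 t60 0 t54 0 0 0 0 0 t66 0 t69 t70 0)))))))))))))) t58 t45 t49 t51 t59 t61 t52 t53 t60 t62 t54 t63 t64 t55 t65 t67 t66 t68 t69 t70 t71 h0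

end Cfsg.Agent.Helper4.E6Inv
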