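import Cfsg.Agent.Helper4.E6Inv.UFinT

/-! Generated: steps of the reduction of involutions in the unipotent group of `E₆`
(characteristic two). -/

set_option autoImplicit false
set_option maxHeartbeats 8000000
set_option maxRecDepth 100000
set_option linter.unusedSimpArgs false
set_option linter.unusedVariables false
set_option linter.unusedSectionVars false
set_option linter.unusedTactic false
set_option linter.unreachableTactic false

namespace Cfsg.Agent.Helper4.E6Inv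

variable {K Γ : Type*} [Field K] [Group Γ] {R : RelE6 K Γ} [CharP K 2]

theorem e6s16_1 (D : UData R)
    (ih : ∀ (t45 t49 t51 t59 t52 t53 t60 t62 t54 t63 t64 t55 t65 t67 t66 t68 t69 t70 t71 : K), t45 ≠ 0 → UP D (R.RNF (0) (0) (0) (0) (0) (0) (0) (0) (0) (0) (0) (0) (0) (0) (0) (0) (t45) (t49) (t51) (t59) (0) (t52) (t53) (t60) (t62) (t54) (t63) (t64) (t55) (t65) (t67) (t66) (t68) (t69) (t70) (t71))) :
    ∀ (t45 t49 t51 t59 t61 t52 t53 t60 t62 t54 t63 t64 t55 t65 t67 t66 t68 t69 t70 t71 : K), t45 ≠ 0 → UP D (R.RNF (0) (0) (0) (0) (0) (0) (0) (0) (0) (0) (0) (0) (0) (0) (0) (0) (t45) (t49) (t51) (t59) (t61) (t52) (t53) (t60) (t62) (t54) (t63) (t64) (t55) (t65) (t67) (t66) (t68) (t69) (t70) (t71)) := by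
  intro t45 t49 t51 t59 t61 t52 t53 t60 t62 t54 t63 t64 t55 t65 t67 t66 t68 t69 t70 t71 hn45 hu hne
  have hsq := hu
  rw [R.usq] at hsq
  obtain ⟨e36, e37, e39, e42, e46, e56, e38, e40, e43, e47, e57, e41, e44, e48, e50, e58, e45, e49, e51, e59, e61, e52, e53, e60, e62, e54, e63, e64, e55, e65, e67, e66, e68, e69, e70, e71⟩ := D.inj _ _ _ _ _ _ _ _ _ _ _ _ _ _ _ _ _ _ _ _ _ _ _ _ _ _ _ _ _ _ _ _ _ _ _ _ hsq
  have hz : t61 = 0 := by
    have h : t45 * t61 = 0 := by linear_combination e68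
    exact (mul_eq_zero.mp h).resolve_left hn45
  subst hz
  exact ih _ _ _ _ _ _ _ _ _ _ _ _ _ _ _ _ _ _ _ hn45 hu hne

theorem e6s16_2 (D : UData R)
    (ih : ∀ (t45 t49 t51 t59 t53 t60 t62 t54 t63 t64 t55 t65 t67 t66 t68 t69 t70 t71 : K), t45 ≠ 0 → UP D (R.RNF (0) (0) (0) (0) (0) (0) (0) (0) (0) (0) (0) (0) (0) (0) (0) (0) (t45) (t49) (t51) (t59) (0) (0) (t53) (t60) (t62) (t54) (t63) (t64) (t55) (t65) (t67) (t66) (t68) (t69) (t70) (t71))) :
    ∀ (t45 t49 t51 t59 t52 t53 t60 t62 t54 t63 t64 t55 t65 t67 t66 t68 t69 t70 t71 : K), t45 ≠ 0 → UP D (R.RNF (0) (0) (0) (0) (0) (0) (0) (0) (0) (0) (0) (0) (0) (0) (0) (0) (t45) (t49) (t51) (t59) (0) (t52) (t53) (t60) (t62) (t54) (t63) (t64) (t55) (t65) (t67) (t66) (t68) (t69) (t70) (t71)) := by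
  intro t45 t49 t51 t59 t52 t53 t60 t62 t54 t63 t64 t55 t65 t67 t66 t68 t69 t70 t71 hn45
  have h2 : (2 : K) = 0 := CharTwo.two_eq_zero
  have h4 : (4 : K) = 0 := by linear_combination 2 * h2
  have h6 : (6 : K) = 0 := by linear_combination 3 * h2
  have h8 : (8 : K) = 0 := by linear_combination 4 * h2
  have h10 : (10 : K) = 0 := by linear_combination 5 * h2
  have h12 : (12 : K) = 0 := by linear_combination 6 * h2
  have h14 : (14 : K) = 0 := by linear_combination 7 * h2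
  have h16 : (16 : K) = 0 := by linear_combination 8 * h2
  have h18 : (18 : K) = 0 := by linear_combination 9 * h2
  have h20 : (20 : K) = 0 := by linear_combination 10 * h2
  have h22 : (22 : K) = 0 := by linear_combination 11 * h2
  have h24 : (24 : K) = 0 := by linear_combination 12 * h2
  have h26 : (26 : K) = 0 := by linear_combination 13 * h2
  have h28 : (28 : K) = 0 := by linear_combination 14 * h2
  have h30 : (30 : K) = 0 := by linear_combination 15 * h2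
  have h32 : (32 : K) = 0 := by linear_combination 16 * h2
  obtain ⟨c, rfl⟩ : ∃ c, t52 = c * t45 := ⟨t52 / t45, by field_simp⟩
  have e : R.X46 c * R.RNF (0) (0) (0) (0) (0) (0) (0) (0) (0) (0) (0) (0) (0) (0) (0) (0) (t45) (t49) (t51) (t59) (0) (c * t45) (t53) (t60) (t62) (t54) (t63) (t64) (t55) (t65) (t67) (t66) (t68) (t69) (t70) (t71) * R.X46 c =
      R.RNF (0) (0) (0) (0) (0) (0) (0) (0) (0) (0) (0) (0) (0) (0) (0) (0) (t45) (t49) (t51) (t59) (0) (0) (t53) (t60) (c * t59 + t62) (t54) (c * t60 + t63) (t64) (t55) (t65) (t67) (t66) (t68) (c * t45 * t59 + t69) (t70) (c * t70 + t71) := by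
    rw [R.ucj46]
    congr 1 <;> (first | rfl | ring1 | (rw [← sub_eq_zero]; ring_nf; simp only [h2, h4, h6, h8, h10, h12, h14, h16, h18, h20, h22, h24, h26, h28, h30, h32, mul_zero, zero_mul, add_zero, zero_add, neg_zero, sub_zero, sub_self]))
  exact UP_cj D (D.xmem46 c) (R.inv46 c) e (ih _ _ _ _ _ _ _ _ _ _ _ _ _ _ _ _ _ _ hn45)

theorem e6s16_3 (D : UData R)
    (ih : ∀ (t45 t49 t51 t59 t53 t62 t54 t63 t64 t55 t65 t67 t66 t68 t69 t70 t71 : K), t45 ≠ 0 → UP D (R.RNF (0) (0) (0) (0) (0) (0) (0) (0) (0) (0) (0) (0) (0) (0) (0) (0) (t45) (t49) (t51) (t59) (0) (0) (t53) (0) (t62) (t54) (t63) (t64) (t55) (t65) (t67) (t66) (t68) (t69) (t70) (t71))) :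
    ∀ (t45 t49 t51 t59 t53 t60 t62 t54 t63 t64 t55 t65 t67 t66 t68 t69 t70 t71 : K), t45 ≠ 0 → UP D (R.RNF (0) (0) (0) (0) (0) (0) (0) (0) (0) (0) (0) (0) (0) (0) (0) (0) (t45) (t49) (t51) (t59) (0) (0) (t53) (t60) (t62) (t54) (t63) (t64) (t55) (t65) (t67) (t66) (t68) (t69) (t70) (t71)) := by
  intro t45 t49 t51 t59 t53 t60 t62 t54 t63 t64 t55 t65 t67 t66 t68 t69 t70 t71 hn45
  have h2 : (2 : K) = 0 := CharTwo.two_eq_zero
  have h4 : (4 : K) = 0 := by linear_combination 2 * h2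
  have h6 : (6 : K) = 0 := by linear_combination 3 * h2
  have h8 : (8 : K) = 0 := by linear_combination 4 * h2
  have h10 : (10 : K) = 0 := by linear_combination 5 * h2
  have h12 : (12 : K) = 0 := by linear_combination 6 * h2
  have h14 : (14 : K) = 0 := by linear_combination 7 * h2
  have h16 : (16 : K) = 0 := by linear_combination 8 * h2
  have h18 : (18 : K) = 0 := by linear_combination 9 * h2
  have h20 : (20 : K) = 0 := by linear_combination 10 * h2
  have h22 : (22 : K) = 0 := by linear_combination 11 * h2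
  have h24 : (24 : K) = 0 := by linear_combination 12 * h2
  have h26 : (26 : K) = 0 := by linear_combination 13 * h2
  have h28 : (28 : K) = 0 := by linear_combination 14 * h2
  have h30 : (30 : K) = 0 := by linear_combination 15 * h2
  have h32 : (32 : K) = 0 := by linear_combination 16 * h2
  obtain ⟨c, rfl⟩ : ∃ c, t60 = c * t45 := ⟨t60 / t45, by field_simp⟩
  have e : R.X56 c * R.RNF (0) (0) (0) (0) (0) (0) (0) (0) (0) (0) (0) (0) (0) (0) (0) (0) (t45) (t49) (t51) (t59) (0) (0) (t53) (c * t45) (t62) (t54) (t63) (t64) (t55) (t65) (t67) (t66) (t68) (t69) (t70) (t71) * R.X56 c =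
      R.RNF (0) (0) (0) (0) (0) (0) (0) (0) (0) (0) (0) (0) (0) (0) (0) (0) (t45) (t49) (t51) (t59) (0) (0) (t53) (0) (c * t51 + t62) (t54) (t63) (c * t53 + t64) (t55) (c * t54 + t65) (t67) (c * t55 + t66) (t68) (c * t45 * t51 + t69) (c * t45 * t53 + t70) (t71) := by
    rw [R.ucj56]
    congr 1 <;> (first | rfl | ring1 | (rw [← sub_eq_zero]; ring_nf; simp only [h2, h4, h6, h8, h10, h12, h14, h16, h18, h20, h22, h24, h26, h28, h30, h32, mul_zero, zero_mul, add_zero, zero_add, neg_zero, sub_zero, sub_self]))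
  exact UP_cj D (D.xmem56 c) (R.inv56 c) e (ih _ _ _ _ _ _ _ _ _ _ _ _ _ _ _ _ _ hn45)

theorem e6s16_4 (D : UData R)
    (ih : ∀ (t45 t49 t51 t59 t53 t62 t63 t64 t55 t65 t67 t66 t68 t69 t70 t71 : K), t45 ≠ 0 → UP D (R.RNF (0) (0) (0) (0) (0) (0) (0) (0) (0) (0) (0) (0) (0) (0) (0) (0) (t45) (t49) (t51) (t59) (0) (0) (t53) (0) (t62) (0) (t63) (t64) (t55) (t65) (t67) (t66) (t68) (t69) (t70) (t71))) :
    ∀ (t45 t49 t51 t59 t53 t62 t54 t63 t64 t55 t65 t67 t66 t68 t69 t70 t71 : K), t45 ≠ 0 → UP D (R.RNF (0) (0) (0) (0) (0) (0) (0) (0) (0) (0) (0) (0) (0) (0) (0) (0) (t45) (t49) (t51) (t59) (0) (0) (t53) (0) (t62) (t54) (t63) (t64) (t55) (t65) (t67) (t66) (t68) (t69) (t70) (t71)) := by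
  intro t45 t49 t51 t59 t53 t62 t54 t63 t64 t55 t65 t67 t66 t68 t69 t70 t71 hn45
  have h2 : (2 : K) = 0 := CharTwo.two_eq_zero
  have h4 : (4 : K) = 0 := by linear_combination 2 * h2
  have h6 : (6 : K) = 0 := by linear_combination 3 * h2
  have h8 : (8 : K) = 0 := by linear_combination 4 * h2
  have h10 : (10 : K) = 0 := by linear_combination 5 * h2
  have h12 : (12 : K) = 0 := by linear_combination 6 * h2
  have h14 : (14 : K) = 0 := by linear_combination 7 * h2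
  have h16 : (16 : K) = 0 := by linear_combination 8 * h2
  have h18 : (18 : K) = 0 := by linear_combination 9 * h2
  have h20 : (20 : K) = 0 := by linear_combination 10 * h2
  have h22 : (22 : K) = 0 := by linear_combination 11 * h2
  have h24 : (24 : K) = 0 := by linear_combination 12 * h2
  have h26 : (26 : K) = 0 := by linear_combination 13 * h2
  have h28 : (28 : K) = 0 := by linear_combination 14 * h2
  have h30 : (30 : K) = 0 := by linear_combination 15 * h2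
  have h32 : (32 : K) = 0 := by linear_combination 16 * h2
  obtain ⟨c, rfl⟩ : ∃ c, t54 = c * t45 := ⟨t54 / t45, by field_simp⟩
  have e : R.X47 c * R.RNF (0) (0) (0) (0) (0) (0) (0) (0) (0) (0) (0) (0) (0) (0) (0) (0) (t45) (t49) (t51) (t59) (0) (0) (t53) (0) (t62) (c * t45) (t63) (t64) (t55) (t65) (t67) (t66) (t68) (t69) (t70) (t71) * R.X47 c =
      R.RNF (0) (0) (0) (0) (0) (0) (0) (0) (0) (0) (0) (0) (0) (0) (0) (0) (t45) (t49) (t51) (t59) (0) (0) (t53) (0) (t62) (0) (t63) (c * t59 + t64) (t55) (t65) (t67) (t66) (t68) (t69) (c * t45 * t59 + t70) (c * t45 * t62 + c * t69 + t71) := by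
    rw [R.ucj47]
    congr 1 <;> (first | rfl | ring1 | (rw [← sub_eq_zero]; ring_nf; simp only [h2, h4, h6, h8, h10, h12, h14, h16, h18, h20, h22, h24, h26, h28, h30, h32, mul_zero, zero_mul, add_zero, zero_add, neg_zero, sub_zero, sub_self]))
  exact UP_cj D (D.xmem47 c) (R.inv47 c) e (ih _ _ _ _ _ _ _ _ _ _ _ _ _ _ _ _ hn45)

theorem e6s16_5 (D : UData R)
    (ih : ∀ (t45 t49 t51 t59 t53 t62 t63 t64 t65 t67 t66 t68 t69 t70 t71 : K), t45 ≠ 0 → UP D (R.RNF (0) (0) (0) (0) (0) (0) (0) (0) (0) (0) (0) (0) (0) (0) (0) (0) (t45) (t49) (t51) (t59) (0) (0) (t53) (0) (t62) (0) (t63) (t64) (0) (t65) (t67) (t66) (t68) (t69) (t70) (t71))) :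
    ∀ (t45 t49 t51 t59 t53 t62 t63 t64 t55 t65 t67 t66 t68 t69 t70 t71 : K), t45 ≠ 0 → UP D (R.RNF (0) (0) (0) (0) (0) (0) (0) (0) (0) (0) (0) (0) (0) (0) (0) (0) (t45) (t49) (t51) (t59) (0) (0) (t53) (0) (t62) (0) (t63) (t64) (t55) (t65) (t67) (t66) (t68) (t69) (t70) (t71)) := by
  intro t45 t49 t51 t59 t53 t62 t63 t64 t55 t65 t67 t66 t68 t69 t70 t71 hn45
  have h2 : (2 : K) = 0 := CharTwo.two_eq_zero
  have h4 : (4 : K) = 0 := by linear_combination 2 * h2
  have h6 : (6 : K) = 0 := by linear_combination 3 * h2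
  have h8 : (8 : K) = 0 := by linear_combination 4 * h2
  have h10 : (10 : K) = 0 := by linear_combination 5 * h2
  have h12 : (12 : K) = 0 := by linear_combination 6 * h2
  have h14 : (14 : K) = 0 := by linear_combination 7 * h2
  have h16 : (16 : K) = 0 := by linear_combination 8 * h2
  have h18 : (18 : K) = 0 := by linear_combination 9 * h2
  have h20 : (20 : K) = 0 := by linear_combination 10 * h2
  have h22 : (22 : K) = 0 := by linear_combination 11 * h2
  have h24 : (24 : K) = 0 := by linear_combination 12 * h2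
  have h26 : (26 : K) = 0 := by linear_combination 13 * h2
  have h28 : (28 : K) = 0 := by linear_combination 14 * h2
  have h30 : (30 : K) = 0 := by linear_combination 15 * h2
  have h32 : (32 : K) = 0 := by linear_combination 16 * h2
  obtain ⟨c, rfl⟩ : ∃ c, t55 = c * t45 := ⟨t55 / t45, by field_simp⟩
  have e : R.X48 c * R.RNF (0) (0) (0) (0) (0) (0) (0) (0) (0) (0) (0) (0) (0) (0) (0) (0) (t45) (t49) (t51) (t59) (0) (0) (t53) (0) (t62) (0) (t63) (t64) (c * t45) (t65) (t67) (t66) (t68) (t69) (t70) (t71) * R.X48 c =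
      R.RNF (0) (0) (0) (0) (0) (0) (0) (0) (0) (0) (0) (0) (0) (0) (0) (0) (t45) (t49) (t51) (t59) (0) (0) (t53) (0) (t62) (0) (t63) (t64) (0) (t65) (t67) (t66) (t68) (t69) (t70) (c * t68 + t71) := by
    rw [R.ucj48]
    congr 1 <;> (first | rfl | ring1 | (rw [← sub_eq_zero]; ring_nf; simp only [h2, h4, h6, h8, h10, h12, h14, h16, h18, h20, h22, h24, h26, h28, h30, h32, mul_zero, zero_mul, add_zero, zero_add, neg_zero, sub_zero, sub_self]))
  exact UP_cj D (D.xmem48 c) (R.inv48 c) e (ih _ _ _ _ _ _ _ _ _ _ _ _ _ _ _ hn45)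

theorem e6s16_6 (D : UData R)
    (ih : ∀ (t45 t49 t51 t59 t53 t62 t63 t64 t65 t67 t66 t69 t70 t71 : K), t45 ≠ 0 → UP D (R.RNF (0) (0) (0) (0) (0) (0) (0) (0) (0) (0) (0) (0) (0) (0) (0) (0) (t45) (t49) (t51) (t59) (0) (0) (t53) (0) (t62) (0) (t63) (t64) (0) (t65) (t67) (t66) (0) (t69) (t70) (t71))) :
    ∀ (t45 t49 t51 t59 t53 t62 t63 t64 t65 t67 t66 t68 t69 t70 t71 : K), t45 ≠ 0 → UP D (R.RNF (0) (0) (0) (0) (0) (0) (0) (0) (0) (0) (0) (0) (0) (0) (0) (0) (t45) (t49) (t51) (t59) (0) (0) (t53) (0) (t62) (0) (t63) (t64) (0) (t65) (t67) (t66) (t68) (t69) (t70) (t71)) := by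
  intro t45 t49 t51 t59 t53 t62 t63 t64 t65 t67 t66 t68 t69 t70 t71 hn45
  have h2 : (2 : K) = 0 := CharTwo.two_eq_zero
  have h4 : (4 : K) = 0 := by linear_combination 2 * h2
  have h6 : (6 : K) = 0 := by linear_combination 3 * h2
  have h8 : (8 : K) = 0 := by linear_combination 4 * h2
  have h10 : (10 : K) = 0 := by linear_combination 5 * h2
  have h12 : (12 : K) = 0 := by linear_combination 6 * h2
  have h14 : (14 : K) = 0 := by linear_combination 7 * h2
  have h16 : (16 : K) = 0 := by linear_combination 8 * h2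
  have h18 : (18 : K) = 0 := by linear_combination 9 * h2
  have h20 : (20 : K) = 0 := by linear_combination 10 * h2
  have h22 : (22 : K) = 0 := by linear_combination 11 * h2
  have h24 : (24 : K) = 0 := by linear_combination 12 * h2
  have h26 : (26 : K) = 0 := by linear_combination 13 * h2
  have h28 : (28 : K) = 0 := by linear_combination 14 * h2
  have h30 : (30 : K) = 0 := by linear_combination 15 * h2
  have h32 : (32 : K) = 0 := by linear_combination 16 * h2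
  obtain ⟨c, rfl⟩ : ∃ c, t68 = c * t45 := ⟨t68 / t45, by field_simp⟩
  have e : R.X61 c * R.RNF (0) (0) (0) (0) (0) (0) (0) (0) (0) (0) (0) (0) (0) (0) (0) (0) (t45) (t49) (t51) (t59) (0) (0) (t53) (0) (t62) (0) (t63) (t64) (0) (t65) (t67) (t66) (c * t45) (t69) (t70) (t71) * R.X61 c =
      R.RNF (0) (0) (0) (0) (0) (0) (0) (0) (0) (0) (0) (0) (0) (0) (0) (0) (t45) (t49) (t51) (t59) (0) (0) (t53) (0) (t62) (0) (t63) (t64) (0) (t65) (t67) (t66) (0) (t69) (t70) (t71) := by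
    rw [R.ucj61]
    congr 1 <;> (first | rfl | ring1 | (rw [← sub_eq_zero]; ring_nf; simp only [h2, h4, h6, h8, h10, h12, h14, h16, h18, h20, h22, h24, h26, h28, h30, h32, mul_zero, zero_mul, add_zero, zero_add, neg_zero, sub_zero, sub_self]))
  exact UP_cj D (D.xmem61 c) (R.inv61 c) e (ih _ _ _ _ _ _ _ _ _ _ _ _ _ _ hn45)

theorem e6s16_7 (D : UData R)
    (ih : ∀ (t45 t49 t51 t59 t53 t62 t63 t64 t65 t67 t66 t70 t71 : K), t45 ≠ 0 → UP D (R.RNF (0) (0) (0) (0) (0) (0) (0) (0) (0) (0) (0) (0) (0) (0) (0) (0) (t45) (t49) (t51) (t59) (0) (0) (t53) (0) (t62) (0) (t63) (t64) (0) (t65) (t67) (t66) (0) (0) (t70) (t71))) :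
    ∀ (t45 t49 t51 t59 t53 t62 t63 t64 t65 t67 t66 t69 t70 t71 : K), t45 ≠ 0 → UP D (R.RNF (0) (0) (0) (0) (0) (0) (0) (0) (0) (0) (0) (0) (0) (0) (0) (0) (t45) (t49) (t51) (t59) (0) (0) (t53) (0) (t62) (0) (t63) (t64) (0) (t65) (t67) (t66) (0) (t69) (t70) (t71)) := by
  intro t45 t49 t51 t59 t53 t62 t63 t64 t65 t67 t66 t69 t70 t71 hn45
  have h2 : (2 : K) = 0 := CharTwo.two_eq_zero
  have h4 : (4 : K) = 0 := by linear_combination 2 * h2
  have h6 : (6 : K) = 0 := by linear_combination 3 * h2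
  have h8 : (8 : K) = 0 := by linear_combination 4 * h2
  have h10 : (10 : K) = 0 := by linear_combination 5 * h2
  have h12 : (12 : K) = 0 := by linear_combination 6 * h2
  have h14 : (14 : K) = 0 := by linear_combination 7 * h2
  have h16 : (16 : K) = 0 := by linear_combination 8 * h2
  have h18 : (18 : K) = 0 := by linear_combination 9 * h2
  have h20 : (20 : K) = 0 := by linear_combination 10 * h2
  have h22 : (22 : K) = 0 := by linear_combination 11 * h2
  have h24 : (24 : K) = 0 := by linear_combination 12 * h2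
  have h26 : (26 : K) = 0 := by linear_combination 13 * h2
  have h28 : (28 : K) = 0 := by linear_combination 14 * h2
  have h30 : (30 : K) = 0 := by linear_combination 15 * h2
  have h32 : (32 : K) = 0 := by linear_combination 16 * h2
  obtain ⟨c, rfl⟩ : ∃ c, t69 = c * t45 := ⟨t69 / t45, by field_simp⟩
  have e : R.X62 c * R.RNF (0) (0) (0) (0) (0) (0) (0) (0) (0) (0) (0) (0) (0) (0) (0) (0) (t45) (t49) (t51) (t59) (0) (0) (t53) (0) (t62) (0) (t63) (t64) (0) (t65) (t67) (t66) (0) (c * t45) (t70) (t71) * R.X62 c =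
      R.RNF (0) (0) (0) (0) (0) (0) (0) (0) (0) (0) (0) (0) (0) (0) (0) (0) (t45) (t49) (t51) (t59) (0) (0) (t53) (0) (t62) (0) (t63) (t64) (0) (t65) (t67) (t66) (0) (0) (t70) (t71) := by
    rw [R.ucj62]
    congr 1 <;> (first | rfl | ring1 | (rw [← sub_eq_zero]; ring_nf; simp only [h2, h4, h6, h8, h10, h12, h14, h16, h18, h20, h22, h24, h26, h28, h30, h32, mul_zero, zero_mul, add_zero, zero_add, neg_zero, sub_zero, sub_self]))
  exact UP_cj D (D.xmem62 c) (R.inv62 c) e (ih _ _ _ _ _ _ _ _ _ _ _ _ _ hn45)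

theorem e6s16_8 (D : UData R)
    (ih : ∀ (t45 t49 t51 t59 t53 t62 t63 t64 t65 t67 t66 t71 : K), t45 ≠ 0 → UP D (R.RNF (0) (0) (0) (0) (0) (0) (0) (0) (0) (0) (0) (0) (0) (0) (0) (0) (t45) (t49) (t51) (t59) (0) (0) (t53) (0) (t62) (0) (t63) (t64) (0) (t65) (t67) (t66) (0) (0) (0) (t71))) :
    ∀ (t45 t49 t51 t59 t53 t62 t63 t64 t65 t67 t66 t70 t71 : K), t45 ≠ 0 → UP D (R.RNF (0) (0) (0) (0) (0) (0) (0) (0) (0) (0) (0) (0) (0) (0) (0) (0) (t45) (t49) (t51) (t59) (0) (0) (t53) (0) (t62) (0) (t63) (t64) (0) (t65) (t67) (t66) (0) (0) (t70) (t71)) := by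
  intro t45 t49 t51 t59 t53 t62 t63 t64 t65 t67 t66 t70 t71 hn45
  have h2 : (2 : K) = 0 := CharTwo.two_eq_zero
  have h4 : (4 : K) = 0 := by linear_combination 2 * h2
  have h6 : (6 : K) = 0 := by linear_combination 3 * h2
  have h8 : (8 : K) = 0 := by linear_combination 4 * h2
  have h10 : (10 : K) = 0 := by linear_combination 5 * h2
  have h12 : (12 : K) = 0 := by linear_combination 6 * h2
  have h14 : (14 : K) = 0 := by linear_combination 7 * h2
  have h16 : (16 : K) = 0 := by linear_combination 8 * h2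
  have h18 : (18 : K) = 0 := by linear_combination 9 * h2
  have h20 : (20 : K) = 0 := by linear_combination 10 * h2
  have h22 : (22 : K) = 0 := by linear_combination 11 * h2
  have h24 : (24 : K) = 0 := by linear_combination 12 * h2
  have h26 : (26 : K) = 0 := by linear_combination 13 * h2
  have h28 : (28 : K) = 0 := by linear_combination 14 * h2
  have h30 : (30 : K) = 0 := by linear_combination 15 * h2
  have h32 : (32 : K) = 0 := by linear_combination 16 * h2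
  obtain ⟨c, rfl⟩ : ∃ c, t70 = c * t45 := ⟨t70 / t45, by field_simp⟩
  have e : R.X64 c * R.RNF (0) (0) (0) (0) (0) (0) (0) (0) (0) (0) (0) (0) (0) (0) (0) (0) (t45) (t49) (t51) (t59) (0) (0) (t53) (0) (t62) (0) (t63) (t64) (0) (t65) (t67) (t66) (0) (0) (c * t45) (t71) * R.X64 c =
      R.RNF (0) (0) (0) (0) (0) (0) (0) (0) (0) (0) (0) (0) (0) (0) (0) (0) (t45) (t49) (t51) (t59) (0) (0) (t53) (0) (t62) (0) (t63) (t64) (0) (t65) (t67) (t66) (0) (0) (0) (t71) := by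
    rw [R.ucj64]
    congr 1 <;> (first | rfl | ring1 | (rw [← sub_eq_zero]; ring_nf; simp only [h2, h4, h6, h8, h10, h12, h14, h16, h18, h20, h22, h24, h26, h28, h30, h32, mul_zero, zero_mul, add_zero, zero_add, neg_zero, sub_zero, sub_self]))
  exact UP_cj D (D.xmem64 c) (R.inv64 c) e (ih _ _ _ _ _ _ _ _ _ _ _ _ hn45)

theorem e6s16_9 (D : UData R)
    (ih : ∀ (t45 t49 t51 t59 t53 t63 t64 t65 t67 t66 t71 : K), t45 ≠ 0 → UP D (R.RNF (0) (0) (0) (0) (0) (0) (0) (0) (0) (0) (0) (0) (0) (0) (0) (0) (t45) (t49) (t51) (t59) (0) (0) (t53) (0) (0) (0) (t63) (t64) (0) (t65) (t67) (t66) (0) (0) (0) (t71))) :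
    ∀ (t45 t49 t51 t59 t53 t62 t63 t64 t65 t67 t66 t71 : K), t45 ≠ 0 → UP D (R.RNF (0) (0) (0) (0) (0) (0) (0) (0) (0) (0) (0) (0) (0) (0) (0) (0) (t45) (t49) (t51) (t59) (0) (0) (t53) (0) (t62) (0) (t63) (t64) (0) (t65) (t67) (t66) (0) (0) (0) (t71)) := by
  intro t45 t49 t51 t59 t53 t62 t63 t64 t65 t67 t66 t71 hn45 hu hne
  have hsq := hu
  rw [R.usq] at hsq
  obtain ⟨e36, e37, e39, e42, e46, e56, e38, e40, e43, e47, e57, e41, e44, e48, e50, e58, e45, e49, e51, e59, e61, e52, e53, e60, e62, e54, e63, e64, e55, e65, e67, e66, e68, e69, e70, e71⟩ := D.inj _ _ _ _ _ _ _ _ _ _ _ _ _ _ _ _ _ _ _ _ _ _ _ _ _ _ _ _ _ _ _ _ _ _ _ _ hsq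
  have hz : t62 = 0 := by
    have h : t45 * t62 = 0 := by linear_combination e69
    exact (mul_eq_zero.mp h).resolve_left hn45
  subst hz
  exact ih _ _ _ _ _ _ _ _ _ _ _ hn45 hu hne

theorem e6s16_10 (D : UData R)
    (ih : ∀ (t45 t49 t51 t59 t53 t63 t65 t67 t66 t71 : K), t45 ≠ 0 → UP D (R.RNF (0) (0) (0) (0) (0) (0) (0) (0) (0) (0) (0) (0) (0) (0) (0) (0) (t45) (t49) (t51) (t59) (0) (0) (t53) (0) (0) (0) (t63) (0) (0) (t65) (t67) (t66) (0) (0) (0) (t71))) :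
    ∀ (t45 t49 t51 t59 t53 t63 t64 t65 t67 t66 t71 : K), t45 ≠ 0 → UP D (R.RNF (0) (0) (0) (0) (0) (0) (0) (0) (0) (0) (0) (0) (0) (0) (0) (0) (t45) (t49) (t51) (t59) (0) (0) (t53) (0) (0) (0) (t63) (t64) (0) (t65) (t67) (t66) (0) (0) (0) (t71)) := by
  intro t45 t49 t51 t59 t53 t63 t64 t65 t67 t66 t71 hn45 hu hne
  have hsq := hu
  rw [R.usq] at hsq
  obtain ⟨e36, e37, e39, e42, e46, e56, e38, e40, e43, e47, e57, e41, e44, e48, e50, e58, e45, e49, e51, e59, e61, e52, e53, e60, e62, e54, e63, e64, e55, e65, e67, e66, e68, e69, e70, e71⟩ := D.inj _ _ _ _ _ _ _ _ _ _ _ _ _ _ _ _ _ _ _ _ _ _ _ _ _ _ _ _ _ _ _ _ _ _ _ _ hsq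
  have hz : t64 = 0 := by
    have h : t45 * t64 = 0 := by linear_combination e70
    exact (mul_eq_zero.mp h).resolve_left hn45
  subst hz
  exact ih _ _ _ _ _ _ _ _ _ _ hn45 hu hne

theorem e6s16_11 (D : UData R)
    (ihz : ∀ (t45 t51 t59 t53 t63 t65 t67 t66 t71 : K), t45 ≠ 0 → UP D (R.RNF (0) (0) (0) (0) (0) (0) (0) (0) (0) (0) (0) (0) (0) (0) (0) (0) (t45) (0) (t51) (t59) (0) (0) (t53) (0) (0) (0) (t63) (0) (0) (t65) (t67) (t66) (0) (0) (0) (t71)))
    (ihn : ∀ (t45 t49 t51 t59 t53 t63 t65 t67 t66 t71 : K), t45 ≠ 0 → t49 ≠ 0 → UP D (R.RNF (0) (0) (0) (0) (0) (0) (0) (0) (0) (0) (0) (0) (0) (0) (0) (0) (t45) (t49) (t51) (t59) (0) (0) (t53) (0) (0) (0) (t63) (0) (0) (t65) (t67) (t66) (0) (0) (0) (t71))) :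
    ∀ (t45 t49 t51 t59 t53 t63 t65 t67 t66 t71 : K), t45 ≠ 0 → UP D (R.RNF (0) (0) (0) (0) (0) (0) (0) (0) (0) (0) (0) (0) (0) (0) (0) (0) (t45) (t49) (t51) (t59) (0) (0) (t53) (0) (0) (0) (t63) (0) (0) (t65) (t67) (t66) (0) (0) (0) (t71)) := by
  intro t45 t49 t51 t59 t53 t63 t65 t67 t66 t71 hn45
  by_cases hn49 : t49 = 0
  · subst hn49; exact ihz _ _ _ _ _ _ _ _ _ hn45
  · exact ihn _ _ _ _ _ _ _ _ _ _ hn45 hn49

theorem e6s16_12 (D : UData R)
    (ihz : ∀ (t45 t59 t53 t63 t65 t67 t66 t71 : K), t45 ≠ 0 → UP D (R.RNF (0) (0) (0) (0) (0) (0) (0) (0) (0) (0) (0) (0) (0) (0) (0) (0) (t45) (0) (0) (t59) (0) (0) (t53) (0) (0) (0) (t63) (0) (0) (t65) (t67) (t66) (0) (0) (0) (t71)))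
    (ihn : ∀ (t45 t51 t59 t53 t63 t65 t67 t66 t71 : K), t45 ≠ 0 → t51 ≠ 0 → UP D (R.RNF (0) (0) (0) (0) (0) (0) (0) (0) (0) (0) (0) (0) (0) (0) (0) (0) (t45) (0) (t51) (t59) (0) (0) (t53) (0) (0) (0) (t63) (0) (0) (t65) (t67) (t66) (0) (0) (0) (t71))) :
    ∀ (t45 t51 t59 t53 t63 t65 t67 t66 t71 : K), t45 ≠ 0 → UP D (R.RNF (0) (0) (0) (0) (0) (0) (0) (0) (0) (0) (0) (0) (0) (0) (0) (0) (t45) (0) (t51) (t59) (0) (0) (t53) (0) (0) (0) (t63) (0) (0) (t65) (t67) (t66) (0) (0) (0) (t71)) := by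
  intro t45 t51 t59 t53 t63 t65 t67 t66 t71 hn45
  by_cases hn51 : t51 = 0
  · subst hn51; exact ihz _ _ _ _ _ _ _ _ hn45
  · exact ihn _ _ _ _ _ _ _ _ _ hn45 hn51

theorem e6s16_13 (D : UData R)
    (ih : ∀ (t52 t53 t60 t62 t65 t67 t66 t70 : K), t52 ≠ 0 → UP D (R.RNF (0) (0) (0) (0) (0) (0) (0) (0) (0) (0) (0) (0) (0) (0) (0) (0) (0) (0) (0) (0) (0) (t52) (t53) (t60) (t62) (0) (0) (0) (0) (t65) (t67) (t66) (0) (0) (t70) (0))) :
    ∀ (t45 t59 t53 t63 t65 t67 t66 t71 : K), t45 ≠ 0 → UP D (R.RNF (0) (0) (0) (0) (0) (0) (0) (0) (0) (0) (0) (0) (0) (0) (0) (0) (t45) (0) (0) (t59) (0) (0) (t53) (0) (0) (0) (t63) (0) (0) (t65) (t67) (t66) (0) (0) (0) (t71)) := by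
  intro t45 t59 t53 t63 t65 t67 t66 t71 hn45
  have h2 : (2 : K) = 0 := CharTwo.two_eq_zero
  have h4 : (4 : K) = 0 := by linear_combination 2 * h2
  have h6 : (6 : K) = 0 := by linear_combination 3 * h2
  have h8 : (8 : K) = 0 := by linear_combination 4 * h2
  have h10 : (10 : K) = 0 := by linear_combination 5 * h2
  have h12 : (12 : K) = 0 := by linear_combination 6 * h2
  have h14 : (14 : K) = 0 := by linear_combination 7 * h2
  have h16 : (16 : K) = 0 := by linear_combination 8 * h2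
  have h18 : (18 : K) = 0 := by linear_combination 9 * h2
  have h20 : (20 : K) = 0 := by linear_combination 10 * h2
  have h22 : (22 : K) = 0 := by linear_combination 11 * h2
  have h24 : (24 : K) = 0 := by linear_combination 12 * h2
  have h26 : (26 : K) = 0 := by linear_combination 13 * h2
  have h28 : (28 : K) = 0 := by linear_combination 14 * h2
  have h30 : (30 : K) = 0 := by linear_combination 15 * h2
  have h32 : (32 : K) = 0 := by linear_combination 16 * h2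
  have e : D.n2 * R.RNF (0) (0) (0) (0) (0) (0) (0) (0) (0) (0) (0) (0) (0) (0) (0) (0) (t45) (0) (0) (t59) (0) (0) (t53) (0) (0) (0) (t63) (0) (0) (t65) (t67) (t66) (0) (0) (0) (t71) * D.n2⁻¹ =
      R.RNF (0) (0) (0) (0) (0) (0) (0) (0) (0) (0) (0) (0) (0) (0) (0) (0) (0) (0) (0) (0) (0) (t45) (t53) (t63) (t59) (0) (0) (0) (0) (t65) (t67) (t66) (0) (0) (t71) (0) := by
    rw [D.toWeylE6.conj_n2]
    congr 1 <;> (first | rfl | ring1 | (rw [← sub_eq_zero]; ring_nf; simp only [h2, h4, h6, h8, h10, h12, h14, h16, h18, h20, h22, h24, h26, h28, h30, h32, mul_zero, zero_mul, add_zero, zero_add, neg_zero, sub_zero, sub_self]))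
  exact UP_n D D.n2_mem e (ih _ _ _ _ _ _ _ _ hn45)

theorem e6s16_14 (D : UData R)
    (ih : ∀ (t45 t51 t59 t63 t65 t67 t66 t71 : K), t45 ≠ 0 → t51 ≠ 0 → UP D (R.RNF (0) (0) (0) (0) (0) (0) (0) (0) (0) (0) (0) (0) (0) (0) (0) (0) (t45) (0) (t51) (t59) (0) (0) (0) (0) (0) (0) (t63) (0) (0) (t65) (t67) (t66) (0) (0) (0) (t71))) :
    ∀ (t45 t51 t59 t53 t63 t65 t67 t66 t71 : K), t45 ≠ 0 → t51 ≠ 0 → UP D (R.RNF (0) (0) (0) (0) (0) (0) (0) (0) (0) (0) (0) (0) (0) (0) (0) (0) (t45) (0) (t51) (t59) (0) (0) (t53) (0) (0) (0) (t63) (0) (0) (t65) (t67) (t66) (0) (0) (0) (t71)) := by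
  intro t45 t51 t59 t53 t63 t65 t67 t66 t71 hn45 hn51
  have h2 : (2 : K) = 0 := CharTwo.two_eq_zero
  have h4 : (4 : K) = 0 := by linear_combination 2 * h2
  have h6 : (6 : K) = 0 := by linear_combination 3 * h2
  have h8 : (8 : K) = 0 := by linear_combination 4 * h2
  have h10 : (10 : K) = 0 := by linear_combination 5 * h2
  have h12 : (12 : K) = 0 := by linear_combination 6 * h2
  have h14 : (14 : K) = 0 := by linear_combination 7 * h2
  have h16 : (16 : K) = 0 := by linear_combination 8 * h2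
  have h18 : (18 : K) = 0 := by linear_combination 9 * h2
  have h20 : (20 : K) = 0 := by linear_combination 10 * h2
  have h22 : (22 : K) = 0 := by linear_combination 11 * h2
  have h24 : (24 : K) = 0 := by linear_combination 12 * h2
  have h26 : (26 : K) = 0 := by linear_combination 13 * h2
  have h28 : (28 : K) = 0 := by linear_combination 14 * h2
  have h30 : (30 : K) = 0 := by linear_combination 15 * h2
  have h32 : (32 : K) = 0 := by linear_combination 16 * h2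
  obtain ⟨c, rfl⟩ : ∃ c, t53 = c * t51 := ⟨t53 / t51, by field_simp⟩
  have e : R.X39 c * R.RNF (0) (0) (0) (0) (0) (0) (0) (0) (0) (0) (0) (0) (0) (0) (0) (0) (t45) (0) (t51) (t59) (0) (0) (c * t51) (0) (0) (0) (t63) (0) (0) (t65) (t67) (t66) (0) (0) (0) (t71) * R.X39 c =
      R.RNF (0) (0) (0) (0) (0) (0) (0) (0) (0) (0) (0) (0) (0) (0) (0) (0) (t45) (0) (t51) (t59) (0) (0) (0) (0) (0) (0) (t63) (0) (0) (c * t63 + t65) (t67) (t66) (0) (0) (0) (t71) := by
    rw [R.ucj39]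
    congr 1 <;> (first | rfl | ring1 | (rw [← sub_eq_zero]; ring_nf; simp only [h2, h4, h6, h8, h10, h12, h14, h16, h18, h20, h22, h24, h26, h28, h30, h32, mul_zero, zero_mul, add_zero, zero_add, neg_zero, sub_zero, sub_self]))
  exact UP_cj D (D.xmem39 c) (R.inv39 c) e (ih _ _ _ _ _ _ _ _ hn45 hn51)

theorem e6s16_15 (D : UData R)
    (ih : ∀ (t45 t51 t59 t63 t65 t66 t71 : K), t45 ≠ 0 → t51 ≠ 0 → UP D (R.RNF (0) (0) (0) (0) (0) (0) (0) (0) (0) (0) (0) (0) (0) (0) (0) (0) (t45) (0) (t51) (t59) (0) (0) (0) (0) (0) (0) (t63) (0) (0) (t65) (0) (t66) (0) (0) (0) (t71))) :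
    ∀ (t45 t51 t59 t63 t65 t67 t66 t71 : K), t45 ≠ 0 → t51 ≠ 0 → UP D (R.RNF (0) (0) (0) (0) (0) (0) (0) (0) (0) (0) (0) (0) (0) (0) (0) (0) (t45) (0) (t51) (t59) (0) (0) (0) (0) (0) (0) (t63) (0) (0) (t65) (t67) (t66) (0) (0) (0) (t71)) := by
  intro t45 t51 t59 t63 t65 t67 t66 t71 hn45 hn51
  have h2 : (2 : K) = 0 := CharTwo.two_eq_zero
  have h4 : (4 : K) = 0 := by linear_combination 2 * h2
  have h6 : (6 : K) = 0 := by linear_combination 3 * h2
  have h8 : (8 : K) = 0 := by linear_combination 4 * h2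
  have h10 : (10 : K) = 0 := by linear_combination 5 * h2
  have h12 : (12 : K) = 0 := by linear_combination 6 * h2
  have h14 : (14 : K) = 0 := by linear_combination 7 * h2
  have h16 : (16 : K) = 0 := by linear_combination 8 * h2
  have h18 : (18 : K) = 0 := by linear_combination 9 * h2
  have h20 : (20 : K) = 0 := by linear_combination 10 * h2
  have h22 : (22 : K) = 0 := by linear_combination 11 * h2
  have h24 : (24 : K) = 0 := by linear_combination 12 * h2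
  have h26 : (26 : K) = 0 := by linear_combination 13 * h2
  have h28 : (28 : K) = 0 := by linear_combination 14 * h2
  have h30 : (30 : K) = 0 := by linear_combination 15 * h2
  have h32 : (32 : K) = 0 := by linear_combination 16 * h2
  obtain ⟨c, rfl⟩ : ∃ c, t67 = c * t51 := ⟨t67 / t51, by field_simp⟩
  have e : R.X58 c * R.RNF (0) (0) (0) (0) (0) (0) (0) (0) (0) (0) (0) (0) (0) (0) (0) (0) (t45) (0) (t51) (t59) (0) (0) (0) (0) (0) (0) (t63) (0) (0) (t65) (c * t51) (t66) (0) (0) (0) (t71) * R.X58 c =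
      R.RNF (0) (0) (0) (0) (0) (0) (0) (0) (0) (0) (0) (0) (0) (0) (0) (0) (t45) (0) (t51) (t59) (0) (0) (0) (0) (0) (0) (t63) (0) (0) (t65) (0) (t66) (0) (0) (0) (t71) := by
    rw [R.ucj58]
    congr 1 <;> (first | rfl | ring1 | (rw [← sub_eq_zero]; ring_nf; simp only [h2, h4, h6, h8, h10, h12, h14, h16, h18, h20, h22, h24, h26, h28, h30, h32, mul_zero, zero_mul, add_zero, zero_add, neg_zero, sub_zero, sub_self]))
  exact UP_cj D (D.xmem58 c) (R.inv58 c) e (ih _ _ _ _ _ _ _ hn45 hn51)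

theorem e6s16_16 (D : UData R)
    (ih : ∀ (t45 t51 t59 t63 t65 t66 : K), t45 ≠ 0 → t51 ≠ 0 → UP D (R.RNF (0) (0) (0) (0) (0) (0) (0) (0) (0) (0) (0) (0) (0) (0) (0) (0) (t45) (0) (t51) (t59) (0) (0) (0) (0) (0) (0) (t63) (0) (0) (t65) (0) (t66) (0) (0) (0) (0))) :
    ∀ (t45 t51 t59 t63 t65 t66 t71 : K), t45 ≠ 0 → t51 ≠ 0 → UP D (R.RNF (0) (0) (0) (0) (0) (0) (0) (0) (0) (0) (0) (0) (0) (0) (0) (0) (t45) (0) (t51) (t59) (0) (0) (0) (0) (0) (0) (t63) (0) (0) (t65) (0) (t66) (0) (0) (0) (t71)) := by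
  intro t45 t51 t59 t63 t65 t66 t71 hn45 hn51
  have h2 : (2 : K) = 0 := CharTwo.two_eq_zero
  have h4 : (4 : K) = 0 := by linear_combination 2 * h2
  have h6 : (6 : K) = 0 := by linear_combination 3 * h2
  have h8 : (8 : K) = 0 := by linear_combination 4 * h2
  have h10 : (10 : K) = 0 := by linear_combination 5 * h2
  have h12 : (12 : K) = 0 := by linear_combination 6 * h2
  have h14 : (14 : K) = 0 := by linear_combination 7 * h2
  have h16 : (16 : K) = 0 := by linear_combination 8 * h2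
  have h18 : (18 : K) = 0 := by linear_combination 9 * h2
  have h20 : (20 : K) = 0 := by linear_combination 10 * h2
  have h22 : (22 : K) = 0 := by linear_combination 11 * h2
  have h24 : (24 : K) = 0 := by linear_combination 12 * h2
  have h26 : (26 : K) = 0 := by linear_combination 13 * h2
  have h28 : (28 : K) = 0 := by linear_combination 14 * h2
  have h30 : (30 : K) = 0 := by linear_combination 15 * h2
  have h32 : (32 : K) = 0 := by linear_combination 16 * h2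
  obtain ⟨c, rfl⟩ : ∃ c, t71 = c * t51 := ⟨t71 / t51, by field_simp⟩
  have e : R.X65 c * R.RNF (0) (0) (0) (0) (0) (0) (0) (0) (0) (0) (0) (0) (0) (0) (0) (0) (t45) (0) (t51) (t59) (0) (0) (0) (0) (0) (0) (t63) (0) (0) (t65) (0) (t66) (0) (0) (0) (c * t51) * R.X65 c =
      R.RNF (0) (0) (0) (0) (0) (0) (0) (0) (0) (0) (0) (0) (0) (0) (0) (0) (t45) (0) (t51) (t59) (0) (0) (0) (0) (0) (0) (t63) (0) (0) (t65) (0) (t66) (0) (0) (0) (0) := by
    rw [R.ucj65]
    congr 1 <;> (first | rfl | ring1 | (rw [← sub_eq_zero]; ring_nf; simp only [h2, h4, h6, h8, h10, h12, h14, h16, h18, h20, h22, h24, h26, h28, h30, h32, mul_zero, zero_mul, add_zero, zero_add, neg_zero, sub_zero, sub_self]))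
  exact UP_cj D (D.xmem65 c) (R.inv65 c) e (ih _ _ _ _ _ _ hn45 hn51)

theorem e6s16_17 (D : UData R)
    (ih : ∀ (t45 t51 t59 t63 t66 : K), t45 ≠ 0 → t51 ≠ 0 → UP D (R.RNF (0) (0) (0) (0) (0) (0) (0) (0) (0) (0) (0) (0) (0) (0) (0) (0) (t45) (0) (t51) (t59) (0) (0) (0) (0) (0) (0) (t63) (0) (0) (0) (0) (t66) (0) (0) (0) (0))) :
    ∀ (t45 t51 t59 t63 t65 t66 : K), t45 ≠ 0 → t51 ≠ 0 → UP D (R.RNF (0) (0) (0) (0) (0) (0) (0) (0) (0) (0) (0) (0) (0) (0) (0) (0) (t45) (0) (t51) (t59) (0) (0) (0) (0) (0) (0) (t63) (0) (0) (t65) (0) (t66) (0) (0) (0) (0)) := by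
  intro t45 t51 t59 t63 t65 t66 hn45 hn51 hu hne
  have hsq := hu
  rw [R.usq] at hsq
  obtain ⟨e36, e37, e39, e42, e46, e56, e38, e40, e43, e47, e57, e41, e44, e48, e50, e58, e45, e49, e51, e59, e61, e52, e53, e60, e62, e54, e63, e64, e55, e65, e67, e66, e68, e69, e70, e71⟩ := D.inj _ _ _ _ _ _ _ _ _ _ _ _ _ _ _ _ _ _ _ _ _ _ _ _ _ _ _ _ _ _ _ _ _ _ _ _ hsq
  have hz : t65 = 0 := by
    have h : t51 * t65 = 0 := by linear_combination e71
    exact (mul_eq_zero.mp h).resolve_left hn51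
  subst hz
  exact ih _ _ _ _ _ hn45 hn51 hu hne

theorem e6s16_18 (D : UData R)
    (ih : ∀ (t45 t59 t53 t65 t66 : K), t45 ≠ 0 → t53 ≠ 0 → UP D (R.RNF (0) (0) (0) (0) (0) (0) (0) (0) (0) (0) (0) (0) (0) (0) (0) (0) (t45) (0) (0) (t59) (0) (0) (t53) (0) (0) (0) (0) (0) (0) (t65) (0) (t66) (0) (0) (0) (0))) :
    ∀ (t45 t51 t59 t63 t66 : K), t45 ≠ 0 → t51 ≠ 0 → UP D (R.RNF (0) (0) (0) (0) (0) (0) (0) (0) (0) (0) (0) (0) (0) (0) (0) (0) (t45) (0) (t51) (t59) (0) (0) (0) (0) (0) (0) (t63) (0) (0) (0) (0) (t66) (0) (0) (0) (0)) := by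
  intro t45 t51 t59 t63 t66 hn45 hn51
  have h2 : (2 : K) = 0 := CharTwo.two_eq_zero
  have h4 : (4 : K) = 0 := by linear_combination 2 * h2
  have h6 : (6 : K) = 0 := by linear_combination 3 * h2
  have h8 : (8 : K) = 0 := by linear_combination 4 * h2
  have h10 : (10 : K) = 0 := by linear_combination 5 * h2
  have h12 : (12 : K) = 0 := by linear_combination 6 * h2
  have h14 : (14 : K) = 0 := by linear_combination 7 * h2
  have h16 : (16 : K) = 0 := by linear_combination 8 * h2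
  have h18 : (18 : K) = 0 := by linear_combination 9 * h2
  have h20 : (20 : K) = 0 := by linear_combination 10 * h2
  have h22 : (22 : K) = 0 := by linear_combination 11 * h2
  have h24 : (24 : K) = 0 := by linear_combination 12 * h2
  have h26 : (26 : K) = 0 := by linear_combination 13 * h2
  have h28 : (28 : K) = 0 := by linear_combination 14 * h2
  have h30 : (30 : K) = 0 := by linear_combination 15 * h2
  have h32 : (32 : K) = 0 := by linear_combination 16 * h2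
  have e : D.n4 * R.RNF (0) (0) (0) (0) (0) (0) (0) (0) (0) (0) (0) (0) (0) (0) (0) (0) (t45) (0) (t51) (t59) (0) (0) (0) (0) (0) (0) (t63) (0) (0) (0) (0) (t66) (0) (0) (0) (0) * D.n4⁻¹ =
      R.RNF (0) (0) (0) (0) (0) (0) (0) (0) (0) (0) (0) (0) (0) (0) (0) (0) (t45) (0) (0) (t59) (0) (0) (t51) (0) (0) (0) (0) (0) (0) (t63) (0) (t66) (0) (0) (0) (0) := by
    rw [D.toWeylE6.conj_n4]
    congr 1 <;> (first | rfl | ring1 | (rw [← sub_eq_zero]; ring_nf; simp only [h2, h4, h6, h8, h10, h12, h14, h16, h18, h20, h22, h24, h26, h28, h30, h32, mul_zero, zero_mul, add_zero, zero_add, neg_zero, sub_zero, sub_self]))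
  exact UP_n D D.n4_mem e (ih _ _ _ _ _ hn45 hn51)

theorem e6s16_19 (D : UData R)
    (ih : ∀ (t52 t53 t62 t65 t66 : K), t52 ≠ 0 → t53 ≠ 0 → UP D (R.RNF (0) (0) (0) (0) (0) (0) (0) (0) (0) (0) (0) (0) (0) (0) (0) (0) (0) (0) (0) (0) (0) (t52) (t53) (0) (t62) (0) (0) (0) (0) (t65) (0) (t66) (0) (0) (0) (0))) :
    ∀ (t45 t59 t53 t65 t66 : K), t45 ≠ 0 → t53 ≠ 0 → UP D (R.RNF (0) (0) (0) (0) (0) (0) (0) (0) (0) (0) (0) (0) (0) (0) (0) (0) (t45) (0) (0) (t59) (0) (0) (t53) (0) (0) (0) (0) (0) (0) (t65) (0) (t66) (0) (0) (0) (0)) := by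
  intro t45 t59 t53 t65 t66 hn45 hn53
  have h2 : (2 : K) = 0 := CharTwo.two_eq_zero
  have h4 : (4 : K) = 0 := by linear_combination 2 * h2
  have h6 : (6 : K) = 0 := by linear_combination 3 * h2
  have h8 : (8 : K) = 0 := by linear_combination 4 * h2
  have h10 : (10 : K) = 0 := by linear_combination 5 * h2
  have h12 : (12 : K) = 0 := by linear_combination 6 * h2
  have h14 : (14 : K) = 0 := by linear_combination 7 * h2
  have h16 : (16 : K) = 0 := by linear_combination 8 * h2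
  have h18 : (18 : K) = 0 := by linear_combination 9 * h2
  have h20 : (20 : K) = 0 := by linear_combination 10 * h2
  have h22 : (22 : K) = 0 := by linear_combination 11 * h2
  have h24 : (24 : K) = 0 := by linear_combination 12 * h2
  have h26 : (26 : K) = 0 := by linear_combination 13 * h2
  have h28 : (28 : K) = 0 := by linear_combination 14 * h2
  have h30 : (30 : K) = 0 := by linear_combination 15 * h2
  have h32 : (32 : K) = 0 := by linear_combination 16 * h2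
  have e : D.n2 * R.RNF (0) (0) (0) (0) (0) (0) (0) (0) (0) (0) (0) (0) (0) (0) (0) (0) (t45) (0) (0) (t59) (0) (0) (t53) (0) (0) (0) (0) (0) (0) (t65) (0) (t66) (0) (0) (0) (0) * D.n2⁻¹ =
      R.RNF (0) (0) (0) (0) (0) (0) (0) (0) (0) (0) (0) (0) (0) (0) (0) (0) (0) (0) (0) (0) (0) (t45) (t53) (0) (t59) (0) (0) (0) (0) (t65) (0) (t66) (0) (0) (0) (0) := by
    rw [D.toWeylE6.conj_n2]
    congr 1 <;> (first | rfl | ring1 | (rw [← sub_eq_zero]; ring_nf; simp only [h2, h4, h6, h8, h10, h12, h14, h16, h18, h20, h22, h24, h26, h28, h30, h32, mul_zero, zero_mul, add_zero, zero_add, neg_zero, sub_zero, sub_self]))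
  exact UP_n D D.n2_mem e (ih _ _ _ _ _ hn45 hn53)

theorem e6s16_20 (D : UData R)
    (ih : ∀ (t45 t49 t51 t53 t63 t65 t67 t66 t71 : K), t45 ≠ 0 → t49 ≠ 0 → UP D (R.RNF (0) (0) (0) (0) (0) (0) (0) (0) (0) (0) (0) (0) (0) (0) (0) (0) (t45) (t49) (t51) (0) (0) (0) (t53) (0) (0) (0) (t63) (0) (0) (t65) (t67) (t66) (0) (0) (0) (t71))) :
    ∀ (t45 t49 t51 t59 t53 t63 t65 t67 t66 t71 : K), t45 ≠ 0 → t49 ≠ 0 → UP D (R.RNF (0) (0) (0) (0) (0) (0) (0) (0) (0) (0) (0) (0) (0) (0) (0) (0) (t45) (t49) (t51) (t59) (0) (0) (t53) (0) (0) (0) (t63) (0) (0) (t65) (t67) (t66) (0) (0) (0) (t71)) := by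
  intro t45 t49 t51 t59 t53 t63 t65 t67 t66 t71 hn45 hn49 hu hne
  have hsq := hu
  rw [R.usq] at hsq
  obtain ⟨e36, e37, e39, e42, e46, e56, e38, e40, e43, e47, e57, e41, e44, e48, e50, e58, e45, e49, e51, e59, e61, e52, e53, e60, e62, e54, e63, e64, e55, e65, e67, e66, e68, e69, e70, e71⟩ := D.inj _ _ _ _ _ _ _ _ _ _ _ _ _ _ _ _ _ _ _ _ _ _ _ _ _ _ _ _ _ _ _ _ _ _ _ _ hsq
  have hz : t59 = 0 := by
    have h : t49 * t59 = 0 := by linear_combination e66
    exact (mul_eq_zero.mp h).resolve_left hn49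
  subst hz
  exact ih _ _ _ _ _ _ _ _ _ hn45 hn49 hu hne

theorem e6s16_21 (D : UData R)
    (ih : ∀ (t45 t49 t51 t53 t65 t67 t66 t71 : K), t45 ≠ 0 → t49 ≠ 0 → UP D (R.RNF (0) (0) (0) (0) (0) (0) (0) (0) (0) (0) (0) (0) (0) (0) (0) (0) (t45) (t49) (t51) (0) (0) (0) (t53) (0) (0) (0) (0) (0) (0) (t65) (t67) (t66) (0) (0) (0) (t71))) :
    ∀ (t45 t49 t51 t53 t63 t65 t67 t66 t71 : K), t45 ≠ 0 → t49 ≠ 0 → UP D (R.RNF (0) (0) (0) (0) (0) (0) (0) (0) (0) (0) (0) (0) (0) (0) (0) (0) (t45) (t49) (t51) (0) (0) (0) (t53) (0) (0) (0) (t63) (0) (0) (t65) (t67) (t66) (0) (0) (0) (t71)) := by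
  intro t45 t49 t51 t53 t63 t65 t67 t66 t71 hn45 hn49
  have h2 : (2 : K) = 0 := CharTwo.two_eq_zero
  have h4 : (4 : K) = 0 := by linear_combination 2 * h2
  have h6 : (6 : K) = 0 := by linear_combination 3 * h2
  have h8 : (8 : K) = 0 := by linear_combination 4 * h2
  have h10 : (10 : K) = 0 := by linear_combination 5 * h2
  have h12 : (12 : K) = 0 := by linear_combination 6 * h2
  have h14 : (14 : K) = 0 := by linear_combination 7 * h2
  have h16 : (16 : K) = 0 := by linear_combination 8 * h2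
  have h18 : (18 : K) = 0 := by linear_combination 9 * h2
  have h20 : (20 : K) = 0 := by linear_combination 10 * h2
  have h22 : (22 : K) = 0 := by linear_combination 11 * h2
  have h24 : (24 : K) = 0 := by linear_combination 12 * h2
  have h26 : (26 : K) = 0 := by linear_combination 13 * h2
  have h28 : (28 : K) = 0 := by linear_combination 14 * h2
  have h30 : (30 : K) = 0 := by linear_combination 15 * h2
  have h32 : (32 : K) = 0 := by linear_combination 16 * h2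
  obtain ⟨c, rfl⟩ : ∃ c, t63 = c * t49 := ⟨t63 / t49, by field_simp⟩
  have e : R.X57 c * R.RNF (0) (0) (0) (0) (0) (0) (0) (0) (0) (0) (0) (0) (0) (0) (0) (0) (t45) (t49) (t51) (0) (0) (0) (t53) (0) (0) (0) (c * t49) (0) (0) (t65) (t67) (t66) (0) (0) (0) (t71) * R.X57 c =
      R.RNF (0) (0) (0) (0) (0) (0) (0) (0) (0) (0) (0) (0) (0) (0) (0) (0) (t45) (t49) (t51) (0) (0) (0) (t53) (0) (0) (0) (0) (0) (0) (t65) (c * t53 + t67) (t66) (0) (0) (0) (c * t49 * t53 + t71) := by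
    rw [R.ucj57]
    congr 1 <;> (first | rfl | ring1 | (rw [← sub_eq_zero]; ring_nf; simp only [h2, h4, h6, h8, h10, h12, h14, h16, h18, h20, h22, h24, h26, h28, h30, h32, mul_zero, zero_mul, add_zero, zero_add, neg_zero, sub_zero, sub_self]))
  exact UP_cj D (D.xmem57 c) (R.inv57 c) e (ih _ _ _ _ _ _ _ _ hn45 hn49)

theorem e6s16_22 (D : UData R)
    (ih : ∀ (t45 t49 t51 t53 t67 t66 t71 : K), t45 ≠ 0 → t49 ≠ 0 → UP D (R.RNF (0) (0) (0) (0) (0) (0) (0) (0) (0) (0) (0) (0) (0) (0) (0) (0) (t45) (t49) (t51) (0) (0) (0) (t53) (0) (0) (0) (0) (0) (0) (0) (t67) (t66) (0) (0) (0) (t71))) :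
    ∀ (t45 t49 t51 t53 t65 t67 t66 t71 : K), t45 ≠ 0 → t49 ≠ 0 → UP D (R.RNF (0) (0) (0) (0) (0) (0) (0) (0) (0) (0) (0) (0) (0) (0) (0) (0) (t45) (t49) (t51) (0) (0) (0) (t53) (0) (0) (0) (0) (0) (0) (t65) (t67) (t66) (0) (0) (0) (t71)) := by
  intro t45 t49 t51 t53 t65 t67 t66 t71 hn45 hn49
  have h2 : (2 : K) = 0 := CharTwo.two_eq_zero
  have h4 : (4 : K) = 0 := by linear_combination 2 * h2
  have h6 : (6 : K) = 0 := by linear_combination 3 * h2
  have h8 : (8 : K) = 0 := by linear_combination 4 * h2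
  have h10 : (10 : K) = 0 := by linear_combination 5 * h2
  have h12 : (12 : K) = 0 := by linear_combination 6 * h2
  have h14 : (14 : K) = 0 := by linear_combination 7 * h2
  have h16 : (16 : K) = 0 := by linear_combination 8 * h2
  have h18 : (18 : K) = 0 := by linear_combination 9 * h2
  have h20 : (20 : K) = 0 := by linear_combination 10 * h2
  have h22 : (22 : K) = 0 := by linear_combination 11 * h2
  have h24 : (24 : K) = 0 := by linear_combination 12 * h2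
  have h26 : (26 : K) = 0 := by linear_combination 13 * h2
  have h28 : (28 : K) = 0 := by linear_combination 14 * h2
  have h30 : (30 : K) = 0 := by linear_combination 15 * h2
  have h32 : (32 : K) = 0 := by linear_combination 16 * h2
  obtain ⟨c, rfl⟩ : ∃ c, t65 = c * t49 := ⟨t65 / t49, by field_simp⟩
  have e : R.X58 c * R.RNF (0) (0) (0) (0) (0) (0) (0) (0) (0) (0) (0) (0) (0) (0) (0) (0) (t45) (t49) (t51) (0) (0) (0) (t53) (0) (0) (0) (0) (0) (0) (c * t49) (t67) (t66) (0) (0) (0) (t71) * R.X58 c =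
      R.RNF (0) (0) (0) (0) (0) (0) (0) (0) (0) (0) (0) (0) (0) (0) (0) (0) (t45) (t49) (t51) (0) (0) (0) (t53) (0) (0) (0) (0) (0) (0) (0) (c * t51 + t67) (t66) (0) (0) (0) (c * t49 * t51 + t71) := by
    rw [R.ucj58]
    congr 1 <;> (first | rfl | ring1 | (rw [← sub_eq_zero]; ring_nf; simp only [h2, h4, h6, h8, h10, h12, h14, h16, h18, h20, h22, h24, h26, h28, h30, h32, mul_zero, zero_mul, add_zero, zero_add, neg_zero, sub_zero, sub_self]))
  exact UP_cj D (D.xmem58 c) (R.inv58 c) e (ih _ _ _ _ _ _ _ hn45 hn49)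

theorem e6s16_23 (D : UData R)
    (ih : ∀ (t45 t49 t51 t53 t67 t71 : K), t45 ≠ 0 → t49 ≠ 0 → UP D (R.RNF (0) (0) (0) (0) (0) (0) (0) (0) (0) (0) (0) (0) (0) (0) (0) (0) (t45) (t49) (t51) (0) (0) (0) (t53) (0) (0) (0) (0) (0) (0) (0) (t67) (0) (0) (0) (0) (t71))) :
    ∀ (t45 t49 t51 t53 t67 t66 t71 : K), t45 ≠ 0 → t49 ≠ 0 → UP D (R.RNF (0) (0) (0) (0) (0) (0) (0) (0) (0) (0) (0) (0) (0) (0) (0) (0) (t45) (t49) (t51) (0) (0) (0) (t53) (0) (0) (0) (0) (0) (0) (0) (t67) (t66) (0) (0) (0) (t71)) := by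
  intro t45 t49 t51 t53 t67 t66 t71 hn45 hn49
  have h2 : (2 : K) = 0 := CharTwo.two_eq_zero
  have h4 : (4 : K) = 0 := by linear_combination 2 * h2
  have h6 : (6 : K) = 0 := by linear_combination 3 * h2
  have h8 : (8 : K) = 0 := by linear_combination 4 * h2
  have h10 : (10 : K) = 0 := by linear_combination 5 * h2
  have h12 : (12 : K) = 0 := by linear_combination 6 * h2
  have h14 : (14 : K) = 0 := by linear_combination 7 * h2
  have h16 : (16 : K) = 0 := by linear_combination 8 * h2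
  have h18 : (18 : K) = 0 := by linear_combination 9 * h2
  have h20 : (20 : K) = 0 := by linear_combination 10 * h2
  have h22 : (22 : K) = 0 := by linear_combination 11 * h2
  have h24 : (24 : K) = 0 := by linear_combination 12 * h2
  have h26 : (26 : K) = 0 := by linear_combination 13 * h2
  have h28 : (28 : K) = 0 := by linear_combination 14 * h2
  have h30 : (30 : K) = 0 := by linear_combination 15 * h2
  have h32 : (32 : K) = 0 := by linear_combination 16 * h2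
  obtain ⟨c, rfl⟩ : ∃ c, t66 = c * t49 := ⟨t66 / t49, by field_simp⟩
  have e : R.X59 c * R.RNF (0) (0) (0) (0) (0) (0) (0) (0) (0) (0) (0) (0) (0) (0) (0) (0) (t45) (t49) (t51) (0) (0) (0) (t53) (0) (0) (0) (0) (0) (0) (0) (t67) (c * t49) (0) (0) (0) (t71) * R.X59 c =
      R.RNF (0) (0) (0) (0) (0) (0) (0) (0) (0) (0) (0) (0) (0) (0) (0) (0) (t45) (t49) (t51) (0) (0) (0) (t53) (0) (0) (0) (0) (0) (0) (0) (t67) (0) (0) (0) (0) (t71) := by
    rw [R.ucj59]
    congr 1 <;> (first | rfl | ring1 | (rw [← sub_eq_zero]; ring_nf; simp only [h2, h4, h6, h8, h10, h12, h14, h16, h18, h20, h22, h24, h26, h28, h30, h32, mul_zero, zero_mul, add_zero, zero_add, neg_zero, sub_zero, sub_self]))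
  exact UP_cj D (D.xmem59 c) (R.inv59 c) e (ih _ _ _ _ _ _ hn45 hn49)

theorem e6s16_24 (D : UData R)
    (ih : ∀ (t45 t49 t51 t53 t67 : K), t45 ≠ 0 → t49 ≠ 0 → UP D (R.RNF (0) (0) (0) (0) (0) (0) (0) (0) (0) (0) (0) (0) (0) (0) (0) (0) (t45) (t49) (t51) (0) (0) (0) (t53) (0) (0) (0) (0) (0) (0) (0) (t67) (0) (0) (0) (0) (0))) :
    ∀ (t45 t49 t51 t53 t67 t71 : K), t45 ≠ 0 → t49 ≠ 0 → UP D (R.RNF (0) (0) (0) (0) (0) (0) (0) (0) (0) (0) (0) (0) (0) (0) (0) (0) (t45) (t49) (t51) (0) (0) (0) (t53) (0) (0) (0) (0) (0) (0) (0) (t67) (0) (0) (0) (0) (t71)) := by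
  intro t45 t49 t51 t53 t67 t71 hn45 hn49
  have h2 : (2 : K) = 0 := CharTwo.two_eq_zero
  have h4 : (4 : K) = 0 := by linear_combination 2 * h2
  have h6 : (6 : K) = 0 := by linear_combination 3 * h2
  have h8 : (8 : K) = 0 := by linear_combination 4 * h2
  have h10 : (10 : K) = 0 := by linear_combination 5 * h2
  have h12 : (12 : K) = 0 := by linear_combination 6 * h2
  have h14 : (14 : K) = 0 := by linear_combination 7 * h2
  have h16 : (16 : K) = 0 := by linear_combination 8 * h2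
  have h18 : (18 : K) = 0 := by linear_combination 9 * h2
  have h20 : (20 : K) = 0 := by linear_combination 10 * h2
  have h22 : (22 : K) = 0 := by linear_combination 11 * h2
  have h24 : (24 : K) = 0 := by linear_combination 12 * h2
  have h26 : (26 : K) = 0 := by linear_combination 13 * h2
  have h28 : (28 : K) = 0 := by linear_combination 14 * h2
  have h30 : (30 : K) = 0 := by linear_combination 15 * h2
  have h32 : (32 : K) = 0 := by linear_combination 16 * h2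
  obtain ⟨c, rfl⟩ : ∃ c, t71 = c * t49 := ⟨t71 / t49, by field_simp⟩
  have e : R.X67 c * R.RNF (0) (0) (0) (0) (0) (0) (0) (0) (0) (0) (0) (0) (0) (0) (0) (0) (t45) (t49) (t51) (0) (0) (0) (t53) (0) (0) (0) (0) (0) (0) (0) (t67) (0) (0) (0) (0) (c * t49) * R.X67 c =
      R.RNF (0) (0) (0) (0) (0) (0) (0) (0) (0) (0) (0) (0) (0) (0) (0) (0) (t45) (t49) (t51) (0) (0) (0) (t53) (0) (0) (0) (0) (0) (0) (0) (t67) (0) (0) (0) (0) (0) := by
    rw [R.ucj67]
    congr 1 <;> (first | rfl | ring1 | (rw [← sub_eq_zero]; ring_nf; simp only [h2, h4, h6, h8, h10, h12, h14, h16, h18, h20, h22, h24, h26, h28, h30, h32, mul_zero, zero_mul, add_zero, zero_add, neg_zero, sub_zero, sub_self]))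
  exact UP_cj D (D.xmem67 c) (R.inv67 c) e (ih _ _ _ _ _ hn45 hn49)

theorem e6s16_25 (D : UData R)
    (ih : ∀ (t45 t49 t51 t53 : K), t45 ≠ 0 → t49 ≠ 0 → UP D (R.RNF (0) (0) (0) (0) (0) (0) (0) (0) (0) (0) (0) (0) (0) (0) (0) (0) (t45) (t49) (t51) (0) (0) (0) (t53) (0) (0) (0) (0) (0) (0) (0) (0) (0) (0) (0) (0) (0))) :
    ∀ (t45 t49 t51 t53 t67 : K), t45 ≠ 0 → t49 ≠ 0 → UP D (R.RNF (0) (0) (0) (0) (0) (0) (0) (0) (0) (0) (0) (0) (0) (0) (0) (0) (t45) (t49) (t51) (0) (0) (0) (t53) (0) (0) (0) (0) (0) (0) (0) (t67) (0) (0) (0) (0) (0)) := by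
  intro t45 t49 t51 t53 t67 hn45 hn49 hu hne
  have hsq := hu
  rw [R.usq] at hsq
  obtain ⟨e36, e37, e39, e42, e46, e56, e38, e40, e43, e47, e57, e41, e44, e48, e50, e58, e45, e49, e51, e59, e61, e52, e53, e60, e62, e54, e63, e64, e55, e65, e67, e66, e68, e69, e70, e71⟩ := D.inj _ _ _ _ _ _ _ _ _ _ _ _ _ _ _ _ _ _ _ _ _ _ _ _ _ _ _ _ _ _ _ _ _ _ _ _ hsq
  have hz : t67 = 0 := by
    have h : t49 * t67 = 0 := by linear_combination e71
    exact (mul_eq_zero.mp h).resolve_left hn49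
  subst hz
  exact ih _ _ _ _ hn45 hn49 hu hne

theorem e6s16_26 (D : UData R)
    (ih : ∀ (t49 t60 t62 t64 : K), t49 ≠ 0 → t60 ≠ 0 → UP D (R.RNF (0) (0) (0) (0) (0) (0) (0) (0) (0) (0) (0) (0) (0) (0) (0) (0) (0) (t49) (0) (0) (0) (0) (0) (t60) (t62) (0) (0) (t64) (0) (0) (0) (0) (0) (0) (0) (0))) :
    ∀ (t45 t49 t51 t53 : K), t45 ≠ 0 → t49 ≠ 0 → UP D (R.RNF (0) (0) (0) (0) (0) (0) (0) (0) (0) (0) (0) (0) (0) (0) (0) (0) (t45) (t49) (t51) (0) (0) (0) (t53) (0) (0) (0) (0) (0) (0) (0) (0) (0) (0) (0) (0) (0)) := by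
  intro t45 t49 t51 t53 hn45 hn49
  have h2 : (2 : K) = 0 := CharTwo.two_eq_zero
  have h4 : (4 : K) = 0 := by linear_combination 2 * h2
  have h6 : (6 : K) = 0 := by linear_combination 3 * h2
  have h8 : (8 : K) = 0 := by linear_combination 4 * h2
  have h10 : (10 : K) = 0 := by linear_combination 5 * h2
  have h12 : (12 : K) = 0 := by linear_combination 6 * h2
  have h14 : (14 : K) = 0 := by linear_combination 7 * h2
  have h16 : (16 : K) = 0 := by linear_combination 8 * h2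
  have h18 : (18 : K) = 0 := by linear_combination 9 * h2
  have h20 : (20 : K) = 0 := by linear_combination 10 * h2
  have h22 : (22 : K) = 0 := by linear_combination 11 * h2
  have h24 : (24 : K) = 0 := by linear_combination 12 * h2
  have h26 : (26 : K) = 0 := by linear_combination 13 * h2
  have h28 : (28 : K) = 0 := by linear_combination 14 * h2
  have h30 : (30 : K) = 0 := by linear_combination 15 * h2
  have h32 : (32 : K) = 0 := by linear_combination 16 * h2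
  have e : D.n1 * R.RNF (0) (0) (0) (0) (0) (0) (0) (0) (0) (0) (0) (0) (0) (0) (0) (0) (t45) (t49) (t51) (0) (0) (0) (t53) (0) (0) (0) (0) (0) (0) (0) (0) (0) (0) (0) (0) (0) * D.n1⁻¹ =
      R.RNF (0) (0) (0) (0) (0) (0) (0) (0) (0) (0) (0) (0) (0) (0) (0) (0) (0) (t49) (0) (0) (0) (0) (0) (t45) (t51) (0) (0) (t53) (0) (0) (0) (0) (0) (0) (0) (0) := by
    rw [D.toWeylE6.conj_n1]
    congr 1 <;> (first | rfl | ring1 | (rw [← sub_eq_zero]; ring_nf; simp only [h2, h4, h6, h8, h10, h12, h14, h16, h18, h20, h22, h24, h26, h28, h30, h32, mul_zero, zero_mul, add_zero, zero_add, neg_zero, sub_zero, sub_self]))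
  exact UP_n D D.n1_mem e (ih _ _ _ _ hn49 hn45)

theorem upiv16 (D : UData R)
    (ih : ∀ (t49 t51 t59 t61 t52 t53 t60 t62 t54 t63 t64 t55 t65 t67 t66 t68 t69 t70 t71 : K), UP D (R.RNF (0) (0) (0) (0) (0) (0) (0) (0) (0) (0) (0) (0) (0) (0) (0) (0) (0) (t49) (t51) (t59) (t61) (t52) (t53) (t60) (t62) (t54) (t63) (t64) (t55) (t65) (t67) (t66) (t68) (t69) (t70) (t71))) :
    ∀ (t45 t49 t51 t59 t61 t52 t53 t60 t62 t54 t63 t64 t55 t65 t67 t66 t68 t69 t70 t71 : K), UP D (R.RNF (0) (0) (0) (0) (0) (0) (0) (0) (0) (0) (0) (0) (0) (0) (0) (0) (t45) (t49) (t51) (t59) (t61) (t52) (t53) (t60) (t62) (t54) (t63) (t64) (t55) (t65) (t67) (t66) (t68) (t69) (t70) (t71)) := by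
  intro t45 t49 t51 t59 t61 t52 t53 t60 t62 t54 t63 t64 t55 t65 t67 t66 t68 t69 t70 t71
  by_cases h0 : t45 = 0
  · subst h0; exact ih _ _ _ _ _ _ _ _ _ _ _ _ _ _ _ _ _ _ _
  · exact (e6s16_1 D (e6s16_2 D (e6s16_3 D (e6s16_4 D (e6s16_5 D (e6s16_6 D (e6s16_7 D (e6s16_8 D (e6s16_9 D (e6s16_10 D (e6s16_11 D (e6s16_12 D (e6s16_13 D (fun t52 t53 t60 t62 t65 t67 t66 t70 _ => ih 0 0 0 0 t52 t53 t60 t62 0 0 0 0 t65 t67 t66 0 0 t70 0)) (e6s16_14 D (e6s16_15 D (e6s16_16 D (e6s16_17 D (e6s16_18 D (e6s16_19 D (fun t52 t53 t62 t65 t66 _ _ => ih 0 0 0 0 t52 t53 0 t62 0 0 0 0 t65 0 t66 0 0 0 0)))))))) (e6s16_20 D (e6s16_21 D (e6s16_22 D (e6s16_23 D (e6s16_24 D (e6s16_25 D (e6s16_26 D (fun t49 t60 t62 t64 _ _ => ih t49 0 0 0 0 0 t60 t62 0 0 t64 0 0 0 0 0 0 0 0))))))))))))))))))) t45 t49 t51 t59 t61 t52 t53 t60 t62 t54 t63 t64 t55 t65 t67 t66 t68 t69 t70 t71 h0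

end Cfsg.Agent.Helper4.E6Inv
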