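import Cfsg.Agent.Helper4.E6Inv.UFinT

/-! Generated: steps of the reduction of involutions in the unipotent group of `E₆`
(characteristic two). -/

set_option autoImplicit false
set_option maxHeartbeats 8000000
set_option maxRecDepth 100000
set_option linter.unusedSimpArgs false
set_option linter.unusedVariables false
set_option linter.unusedSectionVars false
set_option linter.unusedTactic false
set_option linter.unreachableTactic false

namespace Cfsg.Agent.Helper4.E6Inv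

variable {K Γ : Type*} [Field K] [Group Γ] {R : RelE6 K Γ} [CharP K 2]

theorem e6s17_1 (D : UData R)
    (ih : ∀ (t49 t51 t61 t52 t53 t60 t62 t54 t63 t64 t55 t65 t67 t66 t68 t69 t70 t71 : K), t49 ≠ 0 → UP D (R.RNF (0) (0) (0) (0) (0) (0) (0) (0) (0) (0) (0) (0) (0) (0) (0) (0) (0) (t49) (t51) (0) (t61) (t52) (t53) (t60) (t62) (t54) (t63) (t64) (t55) (t65) (t67) (t66) (t68) (t69) (t70) (t71))) :
    ∀ (t49 t51 t59 t61 t52 t53 t60 t62 t54 t63 t64 t55 t65 t67 t66 t68 t69 t70 t71 : K), t49 ≠ 0 → UP D (R.RNF (0) (0) (0) (0) (0) (0) (0) (0) (0) (0) (0) (0) (0) (0) (0) (0) (0) (t49) (t51) (t59) (t61) (t52) (t53) (t60) (t62) (t54) (t63) (t64) (t55) (t65) (t67) (t66) (t68) (t69) (t70) (t71)) := by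
  intro t49 t51 t59 t61 t52 t53 t60 t62 t54 t63 t64 t55 t65 t67 t66 t68 t69 t70 t71 hn49 hu hne
  have hsq := hu
  rw [R.usq] at hsq
  obtain ⟨e36, e37, e39, e42, e46, e56, e38, e40, e43, e47, e57, e41, e44, e48, e50, e58, e45, e49, e51, e59, e61, e52, e53, e60, e62, e54, e63, e64, e55, e65, e67, e66, e68, e69, e70, e71⟩ := D.inj _ _ _ _ _ _ _ _ _ _ _ _ _ _ _ _ _ _ _ _ _ _ _ _ _ _ _ _ _ _ _ _ _ _ _ _ hsq
  have hz : t59 = 0 := by
    have h : t49 * t59 = 0 := by linear_combination e66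
    exact (mul_eq_zero.mp h).resolve_left hn49
  subst hz
  exact ih _ _ _ _ _ _ _ _ _ _ _ _ _ _ _ _ _ _ hn49 hu hne

theorem e6s17_2 (D : UData R)
    (ih : ∀ (t49 t51 t61 t53 t60 t62 t54 t63 t64 t55 t65 t67 t66 t68 t69 t70 t71 : K), t49 ≠ 0 → UP D (R.RNF (0) (0) (0) (0) (0) (0) (0) (0) (0) (0) (0) (0) (0) (0) (0) (0) (0) (t49) (t51) (0) (t61) (0) (t53) (t60) (t62) (t54) (t63) (t64) (t55) (t65) (t67) (t66) (t68) (t69) (t70) (t71))) :
    ∀ (t49 t51 t61 t52 t53 t60 t62 t54 t63 t64 t55 t65 t67 t66 t68 t69 t70 t71 : K), t49 ≠ 0 → UP D (R.RNF (0) (0) (0) (0) (0) (0) (0) (0) (0) (0) (0) (0) (0) (0) (0) (0) (0) (t49) (t51) (0) (t61) (t52) (t53) (t60) (t62) (t54) (t63) (t64) (t55) (t65) (t67) (t66) (t68) (t69) (t70) (t71)) := by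
  intro t49 t51 t61 t52 t53 t60 t62 t54 t63 t64 t55 t65 t67 t66 t68 t69 t70 t71 hn49
  have h2 : (2 : K) = 0 := CharTwo.two_eq_zero
  have h4 : (4 : K) = 0 := by linear_combination 2 * h2
  have h6 : (6 : K) = 0 := by linear_combination 3 * h2
  have h8 : (8 : K) = 0 := by linear_combination 4 * h2
  have h10 : (10 : K) = 0 := by linear_combination 5 * h2
  have h12 : (12 : K) = 0 := by linear_combination 6 * h2
  have h14 : (14 : K) = 0 := by linear_combination 7 * h2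
  have h16 : (16 : K) = 0 := by linear_combination 8 * h2
  have h18 : (18 : K) = 0 := by linear_combination 9 * h2
  have h20 : (20 : K) = 0 := by linear_combination 10 * h2
  have h22 : (22 : K) = 0 := by linear_combination 11 * h2
  have h24 : (24 : K) = 0 := by linear_combination 12 * h2
  have h26 : (26 : K) = 0 := by linear_combination 13 * h2
  have h28 : (28 : K) = 0 := by linear_combination 14 * h2
  have h30 : (30 : K) = 0 := by linear_combination 15 * h2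
  have h32 : (32 : K) = 0 := by linear_combination 16 * h2
  obtain ⟨c, rfl⟩ : ∃ c, t52 = c * t49 := ⟨t52 / t49, by field_simp⟩
  have e : R.X42 c * R.RNF (0) (0) (0) (0) (0) (0) (0) (0) (0) (0) (0) (0) (0) (0) (0) (0) (0) (t49) (t51) (0) (t61) (c * t49) (t53) (t60) (t62) (t54) (t63) (t64) (t55) (t65) (t67) (t66) (t68) (t69) (t70) (t71) * R.X42 c =
      R.RNF (0) (0) (0) (0) (0) (0) (0) (0) (0) (0) (0) (0) (0) (0) (0) (0) (0) (t49) (t51) (0) (t61) (0) (t53) (t60) (t62) (t54) (t63) (t64) (t55) (t65) (c * t64 + t67) (t66) (c * t65 + t68) (c * t66 + t69) (t70) (t71) := by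
    rw [R.ucj42]
    congr 1 <;> (first | rfl | ring1 | (rw [← sub_eq_zero]; ring_nf; simp only [h2, h4, h6, h8, h10, h12, h14, h16, h18, h20, h22, h24, h26, h28, h30, h32, mul_zero, zero_mul, add_zero, zero_add, neg_zero, sub_zero, sub_self]))
  exact UP_cj D (D.xmem42 c) (R.inv42 c) e (ih _ _ _ _ _ _ _ _ _ _ _ _ _ _ _ _ _ hn49)

theorem e6s17_3 (D : UData R)
    (ih : ∀ (t49 t51 t61 t53 t60 t62 t63 t64 t55 t65 t67 t66 t68 t69 t70 t71 : K), t49 ≠ 0 → UP D (R.RNF (0) (0) (0) (0) (0) (0) (0) (0) (0) (0) (0) (0) (0) (0) (0) (0) (0) (t49) (t51) (0) (t61) (0) (t53) (t60) (t62) (0) (t63) (t64) (t55) (t65) (t67) (t66) (t68) (t69) (t70) (t71))) :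
    ∀ (t49 t51 t61 t53 t60 t62 t54 t63 t64 t55 t65 t67 t66 t68 t69 t70 t71 : K), t49 ≠ 0 → UP D (R.RNF (0) (0) (0) (0) (0) (0) (0) (0) (0) (0) (0) (0) (0) (0) (0) (0) (0) (t49) (t51) (0) (t61) (0) (t53) (t60) (t62) (t54) (t63) (t64) (t55) (t65) (t67) (t66) (t68) (t69) (t70) (t71)) := by
  intro t49 t51 t61 t53 t60 t62 t54 t63 t64 t55 t65 t67 t66 t68 t69 t70 t71 hn49
  have h2 : (2 : K) = 0 := CharTwo.two_eq_zero
  have h4 : (4 : K) = 0 := by linear_combination 2 * h2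
  have h6 : (6 : K) = 0 := by linear_combination 3 * h2
  have h8 : (8 : K) = 0 := by linear_combination 4 * h2
  have h10 : (10 : K) = 0 := by linear_combination 5 * h2
  have h12 : (12 : K) = 0 := by linear_combination 6 * h2
  have h14 : (14 : K) = 0 := by linear_combination 7 * h2
  have h16 : (16 : K) = 0 := by linear_combination 8 * h2
  have h18 : (18 : K) = 0 := by linear_combination 9 * h2
  have h20 : (20 : K) = 0 := by linear_combination 10 * h2
  have h22 : (22 : K) = 0 := by linear_combination 11 * h2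
  have h24 : (24 : K) = 0 := by linear_combination 12 * h2
  have h26 : (26 : K) = 0 := by linear_combination 13 * h2
  have h28 : (28 : K) = 0 := by linear_combination 14 * h2
  have h30 : (30 : K) = 0 := by linear_combination 15 * h2
  have h32 : (32 : K) = 0 := by linear_combination 16 * h2
  obtain ⟨c, rfl⟩ : ∃ c, t54 = c * t49 := ⟨t54 / t49, by field_simp⟩
  have e : R.X43 c * R.RNF (0) (0) (0) (0) (0) (0) (0) (0) (0) (0) (0) (0) (0) (0) (0) (0) (0) (t49) (t51) (0) (t61) (0) (t53) (t60) (t62) (c * t49) (t63) (t64) (t55) (t65) (t67) (t66) (t68) (t69) (t70) (t71) * R.X43 c =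
      R.RNF (0) (0) (0) (0) (0) (0) (0) (0) (0) (0) (0) (0) (0) (0) (0) (0) (0) (t49) (t51) (0) (t61) (0) (t53) (t60) (t62) (0) (t63) (t64) (t55) (t65) (c * t62 + t67) (t66) (c * t63 + t68) (t69) (c * t66 + t70) (c * t49 * t62 + t71) := by
    rw [R.ucj43]
    congr 1 <;> (first | rfl | ring1 | (rw [← sub_eq_zero]; ring_nf; simp only [h2, h4, h6, h8, h10, h12, h14, h16, h18, h20, h22, h24, h26, h28, h30, h32, mul_zero, zero_mul, add_zero, zero_add, neg_zero, sub_zero, sub_self]))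
  exact UP_cj D (D.xmem43 c) (R.inv43 c) e (ih _ _ _ _ _ _ _ _ _ _ _ _ _ _ _ _ hn49)

theorem e6s17_4 (D : UData R)
    (ih : ∀ (t49 t51 t61 t53 t60 t62 t64 t55 t65 t67 t66 t68 t69 t70 t71 : K), t49 ≠ 0 → UP D (R.RNF (0) (0) (0) (0) (0) (0) (0) (0) (0) (0) (0) (0) (0) (0) (0) (0) (0) (t49) (t51) (0) (t61) (0) (t53) (t60) (t62) (0) (0) (t64) (t55) (t65) (t67) (t66) (t68) (t69) (t70) (t71))) :
    ∀ (t49 t51 t61 t53 t60 t62 t63 t64 t55 t65 t67 t66 t68 t69 t70 t71 : K), t49 ≠ 0 → UP D (R.RNF (0) (0) (0) (0) (0) (0) (0) (0) (0) (0) (0) (0) (0) (0) (0) (0) (0) (t49) (t51) (0) (t61) (0) (t53) (t60) (t62) (0) (t63) (t64) (t55) (t65) (t67) (t66) (t68) (t69) (t70) (t71)) := by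
  intro t49 t51 t61 t53 t60 t62 t63 t64 t55 t65 t67 t66 t68 t69 t70 t71 hn49
  have h2 : (2 : K) = 0 := CharTwo.two_eq_zero
  have h4 : (4 : K) = 0 := by linear_combination 2 * h2
  have h6 : (6 : K) = 0 := by linear_combination 3 * h2
  have h8 : (8 : K) = 0 := by linear_combination 4 * h2
  have h10 : (10 : K) = 0 := by linear_combination 5 * h2
  have h12 : (12 : K) = 0 := by linear_combination 6 * h2
  have h14 : (14 : K) = 0 := by linear_combination 7 * h2
  have h16 : (16 : K) = 0 := by linear_combination 8 * h2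
  have h18 : (18 : K) = 0 := by linear_combination 9 * h2
  have h20 : (20 : K) = 0 := by linear_combination 10 * h2
  have h22 : (22 : K) = 0 := by linear_combination 11 * h2
  have h24 : (24 : K) = 0 := by linear_combination 12 * h2
  have h26 : (26 : K) = 0 := by linear_combination 13 * h2
  have h28 : (28 : K) = 0 := by linear_combination 14 * h2
  have h30 : (30 : K) = 0 := by linear_combination 15 * h2
  have h32 : (32 : K) = 0 := by linear_combination 16 * h2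
  obtain ⟨c, rfl⟩ : ∃ c, t63 = c * t49 := ⟨t63 / t49, by field_simp⟩
  have e : R.X57 c * R.RNF (0) (0) (0) (0) (0) (0) (0) (0) (0) (0) (0) (0) (0) (0) (0) (0) (0) (t49) (t51) (0) (t61) (0) (t53) (t60) (t62) (0) (c * t49) (t64) (t55) (t65) (t67) (t66) (t68) (t69) (t70) (t71) * R.X57 c =
      R.RNF (0) (0) (0) (0) (0) (0) (0) (0) (0) (0) (0) (0) (0) (0) (0) (0) (0) (t49) (t51) (0) (t61) (0) (t53) (t60) (t62) (0) (0) (t64) (t55) (t65) (c * t53 + t67) (t66) (t68) (c * t55 + t69) (t70) (c * t49 * t53 + t71) := by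
    rw [R.ucj57]
    congr 1 <;> (first | rfl | ring1 | (rw [← sub_eq_zero]; ring_nf; simp only [h2, h4, h6, h8, h10, h12, h14, h16, h18, h20, h22, h24, h26, h28, h30, h32, mul_zero, zero_mul, add_zero, zero_add, neg_zero, sub_zero, sub_self]))
  exact UP_cj D (D.xmem57 c) (R.inv57 c) e (ih _ _ _ _ _ _ _ _ _ _ _ _ _ _ _ hn49)

theorem e6s17_5 (D : UData R)
    (ih : ∀ (t49 t51 t61 t53 t60 t62 t64 t65 t67 t66 t68 t69 t70 t71 : K), t49 ≠ 0 → UP D (R.RNF (0) (0) (0) (0) (0) (0) (0) (0) (0) (0) (0) (0) (0) (0) (0) (0) (0) (t49) (t51) (0) (t61) (0) (t53) (t60) (t62) (0) (0) (t64) (0) (t65) (t67) (t66) (t68) (t69) (t70) (t71))) :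
    ∀ (t49 t51 t61 t53 t60 t62 t64 t55 t65 t67 t66 t68 t69 t70 t71 : K), t49 ≠ 0 → UP D (R.RNF (0) (0) (0) (0) (0) (0) (0) (0) (0) (0) (0) (0) (0) (0) (0) (0) (0) (t49) (t51) (0) (t61) (0) (t53) (t60) (t62) (0) (0) (t64) (t55) (t65) (t67) (t66) (t68) (t69) (t70) (t71)) := by
  intro t49 t51 t61 t53 t60 t62 t64 t55 t65 t67 t66 t68 t69 t70 t71 hn49
  have h2 : (2 : K) = 0 := CharTwo.two_eq_zero
  have h4 : (4 : K) = 0 := by linear_combination 2 * h2
  have h6 : (6 : K) = 0 := by linear_combination 3 * h2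
  have h8 : (8 : K) = 0 := by linear_combination 4 * h2
  have h10 : (10 : K) = 0 := by linear_combination 5 * h2
  have h12 : (12 : K) = 0 := by linear_combination 6 * h2
  have h14 : (14 : K) = 0 := by linear_combination 7 * h2
  have h16 : (16 : K) = 0 := by linear_combination 8 * h2
  have h18 : (18 : K) = 0 := by linear_combination 9 * h2
  have h20 : (20 : K) = 0 := by linear_combination 10 * h2
  have h22 : (22 : K) = 0 := by linear_combination 11 * h2
  have h24 : (24 : K) = 0 := by linear_combination 12 * h2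
  have h26 : (26 : K) = 0 := by linear_combination 13 * h2
  have h28 : (28 : K) = 0 := by linear_combination 14 * h2
  have h30 : (30 : K) = 0 := by linear_combination 15 * h2
  have h32 : (32 : K) = 0 := by linear_combination 16 * h2
  obtain ⟨c, rfl⟩ : ∃ c, t55 = c * t49 := ⟨t55 / t49, by field_simp⟩
  have e : R.X44 c * R.RNF (0) (0) (0) (0) (0) (0) (0) (0) (0) (0) (0) (0) (0) (0) (0) (0) (0) (t49) (t51) (0) (t61) (0) (t53) (t60) (t62) (0) (0) (t64) (c * t49) (t65) (t67) (t66) (t68) (t69) (t70) (t71) * R.X44 c =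
      R.RNF (0) (0) (0) (0) (0) (0) (0) (0) (0) (0) (0) (0) (0) (0) (0) (0) (0) (t49) (t51) (0) (t61) (0) (t53) (t60) (t62) (0) (0) (t64) (0) (t65) (c * t61 + t67) (t66) (t68) (t69) (c * t65 + t70) (c * t49 * t61 + t71) := by
    rw [R.ucj44]
    congr 1 <;> (first | rfl | ring1 | (rw [← sub_eq_zero]; ring_nf; simp only [h2, h4, h6, h8, h10, h12, h14, h16, h18, h20, h22, h24, h26, h28, h30, h32, mul_zero, zero_mul, add_zero, zero_add, neg_zero, sub_zero, sub_self]))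
  exact UP_cj D (D.xmem44 c) (R.inv44 c) e (ih _ _ _ _ _ _ _ _ _ _ _ _ _ _ hn49)

theorem e6s17_6 (D : UData R)
    (ih : ∀ (t49 t51 t61 t53 t60 t62 t64 t67 t66 t68 t69 t70 t71 : K), t49 ≠ 0 → UP D (R.RNF (0) (0) (0) (0) (0) (0) (0) (0) (0) (0) (0) (0) (0) (0) (0) (0) (0) (t49) (t51) (0) (t61) (0) (t53) (t60) (t62) (0) (0) (t64) (0) (0) (t67) (t66) (t68) (t69) (t70) (t71))) :
    ∀ (t49 t51 t61 t53 t60 t62 t64 t65 t67 t66 t68 t69 t70 t71 : K), t49 ≠ 0 → UP D (R.RNF (0) (0) (0) (0) (0) (0) (0) (0) (0) (0) (0) (0) (0) (0) (0) (0) (0) (t49) (t51) (0) (t61) (0) (t53) (t60) (t62) (0) (0) (t64) (0) (t65) (t67) (t66) (t68) (t69) (t70) (t71)) := by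
  intro t49 t51 t61 t53 t60 t62 t64 t65 t67 t66 t68 t69 t70 t71 hn49
  have h2 : (2 : K) = 0 := CharTwo.two_eq_zero
  have h4 : (4 : K) = 0 := by linear_combination 2 * h2
  have h6 : (6 : K) = 0 := by linear_combination 3 * h2
  have h8 : (8 : K) = 0 := by linear_combination 4 * h2
  have h10 : (10 : K) = 0 := by linear_combination 5 * h2
  have h12 : (12 : K) = 0 := by linear_combination 6 * h2
  have h14 : (14 : K) = 0 := by linear_combination 7 * h2
  have h16 : (16 : K) = 0 := by linear_combination 8 * h2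
  have h18 : (18 : K) = 0 := by linear_combination 9 * h2
  have h20 : (20 : K) = 0 := by linear_combination 10 * h2
  have h22 : (22 : K) = 0 := by linear_combination 11 * h2
  have h24 : (24 : K) = 0 := by linear_combination 12 * h2
  have h26 : (26 : K) = 0 := by linear_combination 13 * h2
  have h28 : (28 : K) = 0 := by linear_combination 14 * h2
  have h30 : (30 : K) = 0 := by linear_combination 15 * h2
  have h32 : (32 : K) = 0 := by linear_combination 16 * h2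
  obtain ⟨c, rfl⟩ : ∃ c, t65 = c * t49 := ⟨t65 / t49, by field_simp⟩
  have e : R.X58 c * R.RNF (0) (0) (0) (0) (0) (0) (0) (0) (0) (0) (0) (0) (0) (0) (0) (0) (0) (t49) (t51) (0) (t61) (0) (t53) (t60) (t62) (0) (0) (t64) (0) (c * t49) (t67) (t66) (t68) (t69) (t70) (t71) * R.X58 c =
      R.RNF (0) (0) (0) (0) (0) (0) (0) (0) (0) (0) (0) (0) (0) (0) (0) (0) (0) (t49) (t51) (0) (t61) (0) (t53) (t60) (t62) (0) (0) (t64) (0) (0) (c * t51 + t67) (t66) (t68) (t69) (t70) (c * t49 * t51 + t71) := by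
    rw [R.ucj58]
    congr 1 <;> (first | rfl | ring1 | (rw [← sub_eq_zero]; ring_nf; simp only [h2, h4, h6, h8, h10, h12, h14, h16, h18, h20, h22, h24, h26, h28, h30, h32, mul_zero, zero_mul, add_zero, zero_add, neg_zero, sub_zero, sub_self]))
  exact UP_cj D (D.xmem58 c) (R.inv58 c) e (ih _ _ _ _ _ _ _ _ _ _ _ _ _ hn49)

theorem e6s17_7 (D : UData R)
    (ih : ∀ (t49 t51 t61 t53 t60 t62 t64 t67 t68 t69 t70 t71 : K), t49 ≠ 0 → UP D (R.RNF (0) (0) (0) (0) (0) (0) (0) (0) (0) (0) (0) (0) (0) (0) (0) (0) (0) (t49) (t51) (0) (t61) (0) (t53) (t60) (t62) (0) (0) (t64) (0) (0) (t67) (0) (t68) (t69) (t70) (t71))) :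
    ∀ (t49 t51 t61 t53 t60 t62 t64 t67 t66 t68 t69 t70 t71 : K), t49 ≠ 0 → UP D (R.RNF (0) (0) (0) (0) (0) (0) (0) (0) (0) (0) (0) (0) (0) (0) (0) (0) (0) (t49) (t51) (0) (t61) (0) (t53) (t60) (t62) (0) (0) (t64) (0) (0) (t67) (t66) (t68) (t69) (t70) (t71)) := by
  intro t49 t51 t61 t53 t60 t62 t64 t67 t66 t68 t69 t70 t71 hn49
  have h2 : (2 : K) = 0 := CharTwo.two_eq_zero
  have h4 : (4 : K) = 0 := by linear_combination 2 * h2
  have h6 : (6 : K) = 0 := by linear_combination 3 * h2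
  have h8 : (8 : K) = 0 := by linear_combination 4 * h2
  have h10 : (10 : K) = 0 := by linear_combination 5 * h2
  have h12 : (12 : K) = 0 := by linear_combination 6 * h2
  have h14 : (14 : K) = 0 := by linear_combination 7 * h2
  have h16 : (16 : K) = 0 := by linear_combination 8 * h2
  have h18 : (18 : K) = 0 := by linear_combination 9 * h2
  have h20 : (20 : K) = 0 := by linear_combination 10 * h2
  have h22 : (22 : K) = 0 := by linear_combination 11 * h2
  have h24 : (24 : K) = 0 := by linear_combination 12 * h2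
  have h26 : (26 : K) = 0 := by linear_combination 13 * h2
  have h28 : (28 : K) = 0 := by linear_combination 14 * h2
  have h30 : (30 : K) = 0 := by linear_combination 15 * h2
  have h32 : (32 : K) = 0 := by linear_combination 16 * h2
  obtain ⟨c, rfl⟩ : ∃ c, t66 = c * t49 := ⟨t66 / t49, by field_simp⟩
  have e : R.X59 c * R.RNF (0) (0) (0) (0) (0) (0) (0) (0) (0) (0) (0) (0) (0) (0) (0) (0) (0) (t49) (t51) (0) (t61) (0) (t53) (t60) (t62) (0) (0) (t64) (0) (0) (t67) (c * t49) (t68) (t69) (t70) (t71) * R.X59 c =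
      R.RNF (0) (0) (0) (0) (0) (0) (0) (0) (0) (0) (0) (0) (0) (0) (0) (0) (0) (t49) (t51) (0) (t61) (0) (t53) (t60) (t62) (0) (0) (t64) (0) (0) (t67) (0) (t68) (t69) (t70) (t71) := by
    rw [R.ucj59]
    congr 1 <;> (first | rfl | ring1 | (rw [← sub_eq_zero]; ring_nf; simp only [h2, h4, h6, h8, h10, h12, h14, h16, h18, h20, h22, h24, h26, h28, h30, h32, mul_zero, zero_mul, add_zero, zero_add, neg_zero, sub_zero, sub_self]))
  exact UP_cj D (D.xmem59 c) (R.inv59 c) e (ih _ _ _ _ _ _ _ _ _ _ _ _ hn49)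

theorem e6s17_8 (D : UData R)
    (ih : ∀ (t49 t51 t61 t53 t60 t62 t64 t67 t68 t69 t70 : K), t49 ≠ 0 → UP D (R.RNF (0) (0) (0) (0) (0) (0) (0) (0) (0) (0) (0) (0) (0) (0) (0) (0) (0) (t49) (t51) (0) (t61) (0) (t53) (t60) (t62) (0) (0) (t64) (0) (0) (t67) (0) (t68) (t69) (t70) (0))) :
    ∀ (t49 t51 t61 t53 t60 t62 t64 t67 t68 t69 t70 t71 : K), t49 ≠ 0 → UP D (R.RNF (0) (0) (0) (0) (0) (0) (0) (0) (0) (0) (0) (0) (0) (0) (0) (0) (0) (t49) (t51) (0) (t61) (0) (t53) (t60) (t62) (0) (0) (t64) (0) (0) (t67) (0) (t68) (t69) (t70) (t71)) := by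
  intro t49 t51 t61 t53 t60 t62 t64 t67 t68 t69 t70 t71 hn49
  have h2 : (2 : K) = 0 := CharTwo.two_eq_zero
  have h4 : (4 : K) = 0 := by linear_combination 2 * h2
  have h6 : (6 : K) = 0 := by linear_combination 3 * h2
  have h8 : (8 : K) = 0 := by linear_combination 4 * h2
  have h10 : (10 : K) = 0 := by linear_combination 5 * h2
  have h12 : (12 : K) = 0 := by linear_combination 6 * h2
  have h14 : (14 : K) = 0 := by linear_combination 7 * h2
  have h16 : (16 : K) = 0 := by linear_combination 8 * h2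
  have h18 : (18 : K) = 0 := by linear_combination 9 * h2
  have h20 : (20 : K) = 0 := by linear_combination 10 * h2
  have h22 : (22 : K) = 0 := by linear_combination 11 * h2
  have h24 : (24 : K) = 0 := by linear_combination 12 * h2
  have h26 : (26 : K) = 0 := by linear_combination 13 * h2
  have h28 : (28 : K) = 0 := by linear_combination 14 * h2
  have h30 : (30 : K) = 0 := by linear_combination 15 * h2
  have h32 : (32 : K) = 0 := by linear_combination 16 * h2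
  obtain ⟨c, rfl⟩ : ∃ c, t71 = c * t49 := ⟨t71 / t49, by field_simp⟩
  have e : R.X67 c * R.RNF (0) (0) (0) (0) (0) (0) (0) (0) (0) (0) (0) (0) (0) (0) (0) (0) (0) (t49) (t51) (0) (t61) (0) (t53) (t60) (t62) (0) (0) (t64) (0) (0) (t67) (0) (t68) (t69) (t70) (c * t49) * R.X67 c =
      R.RNF (0) (0) (0) (0) (0) (0) (0) (0) (0) (0) (0) (0) (0) (0) (0) (0) (0) (t49) (t51) (0) (t61) (0) (t53) (t60) (t62) (0) (0) (t64) (0) (0) (t67) (0) (t68) (t69) (t70) (0) := by
    rw [R.ucj67]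
    congr 1 <;> (first | rfl | ring1 | (rw [← sub_eq_zero]; ring_nf; simp only [h2, h4, h6, h8, h10, h12, h14, h16, h18, h20, h22, h24, h26, h28, h30, h32, mul_zero, zero_mul, add_zero, zero_add, neg_zero, sub_zero, sub_self]))
  exact UP_cj D (D.xmem67 c) (R.inv67 c) e (ih _ _ _ _ _ _ _ _ _ _ _ hn49)

theorem e6s17_9 (D : UData R)
    (ih : ∀ (t49 t51 t61 t53 t60 t62 t64 t68 t69 t70 : K), t49 ≠ 0 → UP D (R.RNF (0) (0) (0) (0) (0) (0) (0) (0) (0) (0) (0) (0) (0) (0) (0) (0) (0) (t49) (t51) (0) (t61) (0) (t53) (t60) (t62) (0) (0) (t64) (0) (0) (0) (0) (t68) (t69) (t70) (0))) :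
    ∀ (t49 t51 t61 t53 t60 t62 t64 t67 t68 t69 t70 : K), t49 ≠ 0 → UP D (R.RNF (0) (0) (0) (0) (0) (0) (0) (0) (0) (0) (0) (0) (0) (0) (0) (0) (0) (t49) (t51) (0) (t61) (0) (t53) (t60) (t62) (0) (0) (t64) (0) (0) (t67) (0) (t68) (t69) (t70) (0)) := by
  intro t49 t51 t61 t53 t60 t62 t64 t67 t68 t69 t70 hn49 hu hne
  have hsq := hu
  rw [R.usq] at hsq
  obtain ⟨e36, e37, e39, e42, e46, e56, e38, e40, e43, e47, e57, e41, e44, e48, e50, e58, e45, e49, e51, e59, e61, e52, e53, e60, e62, e54, e63, e64, e55, e65, e67, e66, e68, e69, e70, e71⟩ := D.inj _ _ _ _ _ _ _ _ _ _ _ _ _ _ _ _ _ _ _ _ _ _ _ _ _ _ _ _ _ _ _ _ _ _ _ _ hsq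
  have hz : t67 = 0 := by
    have h : t49 * t67 = 0 := by linear_combination e71
    exact (mul_eq_zero.mp h).resolve_left hn49
  subst hz
  exact ih _ _ _ _ _ _ _ _ _ _ hn49 hu hne

theorem e6s17_10 (D : UData R)
    (ihz : ∀ (t49 t61 t53 t60 t62 t64 t68 t69 t70 : K), t49 ≠ 0 → UP D (R.RNF (0) (0) (0) (0) (0) (0) (0) (0) (0) (0) (0) (0) (0) (0) (0) (0) (0) (t49) (0) (0) (t61) (0) (t53) (t60) (t62) (0) (0) (t64) (0) (0) (0) (0) (t68) (t69) (t70) (0)))
    (ihn : ∀ (t49 t51 t61 t53 t60 t62 t64 t68 t69 t70 : K), t49 ≠ 0 → t51 ≠ 0 → UP D (R.RNF (0) (0) (0) (0) (0) (0) (0) (0) (0) (0) (0) (0) (0) (0) (0) (0) (0) (t49) (t51) (0) (t61) (0) (t53) (t60) (t62) (0) (0) (t64) (0) (0) (0) (0) (t68) (t69) (t70) (0))) :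
    ∀ (t49 t51 t61 t53 t60 t62 t64 t68 t69 t70 : K), t49 ≠ 0 → UP D (R.RNF (0) (0) (0) (0) (0) (0) (0) (0) (0) (0) (0) (0) (0) (0) (0) (0) (0) (t49) (t51) (0) (t61) (0) (t53) (t60) (t62) (0) (0) (t64) (0) (0) (0) (0) (t68) (t69) (t70) (0)) := by
  intro t49 t51 t61 t53 t60 t62 t64 t68 t69 t70 hn49
  by_cases hn51 : t51 = 0
  · subst hn51; exact ihz _ _ _ _ _ _ _ _ _ hn49
  · exact ihn _ _ _ _ _ _ _ _ _ _ hn49 hn51

theorem e6s17_11 (D : UData R)
    (ih : ∀ (t61 t52 t53 t60 t62 t65 t67 t66 t70 : K), t52 ≠ 0 → UP D (R.RNF (0) (0) (0) (0) (0) (0) (0) (0) (0) (0) (0) (0) (0) (0) (0) (0) (0) (0) (0) (0) (t61) (t52) (t53) (t60) (t62) (0) (0) (0) (0) (t65) (t67) (t66) (0) (0) (t70) (0))) :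
    ∀ (t49 t61 t53 t60 t62 t64 t68 t69 t70 : K), t49 ≠ 0 → UP D (R.RNF (0) (0) (0) (0) (0) (0) (0) (0) (0) (0) (0) (0) (0) (0) (0) (0) (0) (t49) (0) (0) (t61) (0) (t53) (t60) (t62) (0) (0) (t64) (0) (0) (0) (0) (t68) (t69) (t70) (0)) := by
  intro t49 t61 t53 t60 t62 t64 t68 t69 t70 hn49
  have h2 : (2 : K) = 0 := CharTwo.two_eq_zero
  have h4 : (4 : K) = 0 := by linear_combination 2 * h2
  have h6 : (6 : K) = 0 := by linear_combination 3 * h2
  have h8 : (8 : K) = 0 := by linear_combination 4 * h2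
  have h10 : (10 : K) = 0 := by linear_combination 5 * h2
  have h12 : (12 : K) = 0 := by linear_combination 6 * h2
  have h14 : (14 : K) = 0 := by linear_combination 7 * h2
  have h16 : (16 : K) = 0 := by linear_combination 8 * h2
  have h18 : (18 : K) = 0 := by linear_combination 9 * h2
  have h20 : (20 : K) = 0 := by linear_combination 10 * h2
  have h22 : (22 : K) = 0 := by linear_combination 11 * h2
  have h24 : (24 : K) = 0 := by linear_combination 12 * h2
  have h26 : (26 : K) = 0 := by linear_combination 13 * h2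
  have h28 : (28 : K) = 0 := by linear_combination 14 * h2
  have h30 : (30 : K) = 0 := by linear_combination 15 * h2
  have h32 : (32 : K) = 0 := by linear_combination 16 * h2
  have e : D.n3 * R.RNF (0) (0) (0) (0) (0) (0) (0) (0) (0) (0) (0) (0) (0) (0) (0) (0) (0) (t49) (0) (0) (t61) (0) (t53) (t60) (t62) (0) (0) (t64) (0) (0) (0) (0) (t68) (t69) (t70) (0) * D.n3⁻¹ =
      R.RNF (0) (0) (0) (0) (0) (0) (0) (0) (0) (0) (0) (0) (0) (0) (0) (0) (0) (0) (0) (0) (t61) (t49) (t53) (t60) (t62) (0) (0) (0) (0) (t68) (t64) (t69) (0) (0) (t70) (0) := by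
    rw [D.toWeylE6.conj_n3]
    congr 1 <;> (first | rfl | ring1 | (rw [← sub_eq_zero]; ring_nf; simp only [h2, h4, h6, h8, h10, h12, h14, h16, h18, h20, h22, h24, h26, h28, h30, h32, mul_zero, zero_mul, add_zero, zero_add, neg_zero, sub_zero, sub_self]))
  exact UP_n D D.n3_mem e (ih _ _ _ _ _ _ _ _ _ hn49)

theorem e6s17_12 (D : UData R)
    (ih : ∀ (t49 t51 t61 t53 t62 t64 t68 t69 t70 : K), t49 ≠ 0 → t51 ≠ 0 → UP D (R.RNF (0) (0) (0) (0) (0) (0) (0) (0) (0) (0) (0) (0) (0) (0) (0) (0) (0) (t49) (t51) (0) (t61) (0) (t53) (0) (t62) (0) (0) (t64) (0) (0) (0) (0) (t68) (t69) (t70) (0))) :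
    ∀ (t49 t51 t61 t53 t60 t62 t64 t68 t69 t70 : K), t49 ≠ 0 → t51 ≠ 0 → UP D (R.RNF (0) (0) (0) (0) (0) (0) (0) (0) (0) (0) (0) (0) (0) (0) (0) (0) (0) (t49) (t51) (0) (t61) (0) (t53) (t60) (t62) (0) (0) (t64) (0) (0) (0) (0) (t68) (t69) (t70) (0)) := by
  intro t49 t51 t61 t53 t60 t62 t64 t68 t69 t70 hn49 hn51 hu hne
  have hsq := hu
  rw [R.usq] at hsq
  obtain ⟨e36, e37, e39, e42, e46, e56, e38, e40, e43, e47, e57, e41, e44, e48, e50, e58, e45, e49, e51, e59, e61, e52, e53, e60, e62, e54, e63, e64, e55, e65, e67, e66, e68, e69, e70, e71⟩ := D.inj _ _ _ _ _ _ _ _ _ _ _ _ _ _ _ _ _ _ _ _ _ _ _ _ _ _ _ _ _ _ _ _ _ _ _ _ hsq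
  have hz : t60 = 0 := by
    have h : t51 * t60 = 0 := by linear_combination e69
    exact (mul_eq_zero.mp h).resolve_left hn51
  subst hz
  exact ih _ _ _ _ _ _ _ _ _ hn49 hn51 hu hne

theorem e6s17_13 (D : UData R)
    (ih : ∀ (t49 t51 t61 t62 t64 t68 t69 t70 : K), t49 ≠ 0 → t51 ≠ 0 → UP D (R.RNF (0) (0) (0) (0) (0) (0) (0) (0) (0) (0) (0) (0) (0) (0) (0) (0) (0) (t49) (t51) (0) (t61) (0) (0) (0) (t62) (0) (0) (t64) (0) (0) (0) (0) (t68) (t69) (t70) (0))) :
    ∀ (t49 t51 t61 t53 t62 t64 t68 t69 t70 : K), t49 ≠ 0 → t51 ≠ 0 → UP D (R.RNF (0) (0) (0) (0) (0) (0) (0) (0) (0) (0) (0) (0) (0) (0) (0) (0) (0) (t49) (t51) (0) (t61) (0) (t53) (0) (t62) (0) (0) (t64) (0) (0) (0) (0) (t68) (t69) (t70) (0)) := by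
  intro t49 t51 t61 t53 t62 t64 t68 t69 t70 hn49 hn51
  have h2 : (2 : K) = 0 := CharTwo.two_eq_zero
  have h4 : (4 : K) = 0 := by linear_combination 2 * h2
  have h6 : (6 : K) = 0 := by linear_combination 3 * h2
  have h8 : (8 : K) = 0 := by linear_combination 4 * h2
  have h10 : (10 : K) = 0 := by linear_combination 5 * h2
  have h12 : (12 : K) = 0 := by linear_combination 6 * h2
  have h14 : (14 : K) = 0 := by linear_combination 7 * h2
  have h16 : (16 : K) = 0 := by linear_combination 8 * h2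
  have h18 : (18 : K) = 0 := by linear_combination 9 * h2
  have h20 : (20 : K) = 0 := by linear_combination 10 * h2
  have h22 : (22 : K) = 0 := by linear_combination 11 * h2
  have h24 : (24 : K) = 0 := by linear_combination 12 * h2
  have h26 : (26 : K) = 0 := by linear_combination 13 * h2
  have h28 : (28 : K) = 0 := by linear_combination 14 * h2
  have h30 : (30 : K) = 0 := by linear_combination 15 * h2
  have h32 : (32 : K) = 0 := by linear_combination 16 * h2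
  obtain ⟨c, rfl⟩ : ∃ c, t53 = c * t51 := ⟨t53 / t51, by field_simp⟩
  have e : R.X39 c * R.RNF (0) (0) (0) (0) (0) (0) (0) (0) (0) (0) (0) (0) (0) (0) (0) (0) (0) (t49) (t51) (0) (t61) (0) (c * t51) (0) (t62) (0) (0) (t64) (0) (0) (0) (0) (t68) (t69) (t70) (0) * R.X39 c =
      R.RNF (0) (0) (0) (0) (0) (0) (0) (0) (0) (0) (0) (0) (0) (0) (0) (0) (0) (t49) (t51) (0) (t61) (0) (0) (0) (t62) (0) (0) (c * t62 + t64) (0) (0) (0) (0) (t68) (t69) (c * t69 + t70) (0) := by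
    rw [R.ucj39]
    congr 1 <;> (first | rfl | ring1 | (rw [← sub_eq_zero]; ring_nf; simp only [h2, h4, h6, h8, h10, h12, h14, h16, h18, h20, h22, h24, h26, h28, h30, h32, mul_zero, zero_mul, add_zero, zero_add, neg_zero, sub_zero, sub_self]))
  exact UP_cj D (D.xmem39 c) (R.inv39 c) e (ih _ _ _ _ _ _ _ _ hn49 hn51)

theorem e6s17_14 (D : UData R)
    (ih : ∀ (t49 t51 t61 t64 t68 t69 t70 : K), t49 ≠ 0 → t51 ≠ 0 → UP D (R.RNF (0) (0) (0) (0) (0) (0) (0) (0) (0) (0) (0) (0) (0) (0) (0) (0) (0) (t49) (t51) (0) (t61) (0) (0) (0) (0) (0) (0) (t64) (0) (0) (0) (0) (t68) (t69) (t70) (0))) :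
    ∀ (t49 t51 t61 t62 t64 t68 t69 t70 : K), t49 ≠ 0 → t51 ≠ 0 → UP D (R.RNF (0) (0) (0) (0) (0) (0) (0) (0) (0) (0) (0) (0) (0) (0) (0) (0) (0) (t49) (t51) (0) (t61) (0) (0) (0) (t62) (0) (0) (t64) (0) (0) (0) (0) (t68) (t69) (t70) (0)) := by
  intro t49 t51 t61 t62 t64 t68 t69 t70 hn49 hn51
  have h2 : (2 : K) = 0 := CharTwo.two_eq_zero
  have h4 : (4 : K) = 0 := by linear_combination 2 * h2
  have h6 : (6 : K) = 0 := by linear_combination 3 * h2
  have h8 : (8 : K) = 0 := by linear_combination 4 * h2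
  have h10 : (10 : K) = 0 := by linear_combination 5 * h2
  have h12 : (12 : K) = 0 := by linear_combination 6 * h2
  have h14 : (14 : K) = 0 := by linear_combination 7 * h2
  have h16 : (16 : K) = 0 := by linear_combination 8 * h2
  have h18 : (18 : K) = 0 := by linear_combination 9 * h2
  have h20 : (20 : K) = 0 := by linear_combination 10 * h2
  have h22 : (22 : K) = 0 := by linear_combination 11 * h2
  have h24 : (24 : K) = 0 := by linear_combination 12 * h2
  have h26 : (26 : K) = 0 := by linear_combination 13 * h2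
  have h28 : (28 : K) = 0 := by linear_combination 14 * h2
  have h30 : (30 : K) = 0 := by linear_combination 15 * h2
  have h32 : (32 : K) = 0 := by linear_combination 16 * h2
  obtain ⟨c, rfl⟩ : ∃ c, t62 = c * t51 := ⟨t62 / t51, by field_simp⟩
  have e : R.X56 c * R.RNF (0) (0) (0) (0) (0) (0) (0) (0) (0) (0) (0) (0) (0) (0) (0) (0) (0) (t49) (t51) (0) (t61) (0) (0) (0) (c * t51) (0) (0) (t64) (0) (0) (0) (0) (t68) (t69) (t70) (0) * R.X56 c =
      R.RNF (0) (0) (0) (0) (0) (0) (0) (0) (0) (0) (0) (0) (0) (0) (0) (0) (0) (t49) (t51) (0) (t61) (0) (0) (0) (0) (0) (0) (t64) (0) (0) (0) (0) (t68) (t69) (t70) (0) := by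
    rw [R.ucj56]
    congr 1 <;> (first | rfl | ring1 | (rw [← sub_eq_zero]; ring_nf; simp only [h2, h4, h6, h8, h10, h12, h14, h16, h18, h20, h22, h24, h26, h28, h30, h32, mul_zero, zero_mul, add_zero, zero_add, neg_zero, sub_zero, sub_self]))
  exact UP_cj D (D.xmem56 c) (R.inv56 c) e (ih _ _ _ _ _ _ _ hn49 hn51)

theorem e6s17_15 (D : UData R)
    (ih : ∀ (t49 t51 t61 t64 t68 t70 : K), t49 ≠ 0 → t51 ≠ 0 → UP D (R.RNF (0) (0) (0) (0) (0) (0) (0) (0) (0) (0) (0) (0) (0) (0) (0) (0) (0) (t49) (t51) (0) (t61) (0) (0) (0) (0) (0) (0) (t64) (0) (0) (0) (0) (t68) (0) (t70) (0))) :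
    ∀ (t49 t51 t61 t64 t68 t69 t70 : K), t49 ≠ 0 → t51 ≠ 0 → UP D (R.RNF (0) (0) (0) (0) (0) (0) (0) (0) (0) (0) (0) (0) (0) (0) (0) (0) (0) (t49) (t51) (0) (t61) (0) (0) (0) (0) (0) (0) (t64) (0) (0) (0) (0) (t68) (t69) (t70) (0)) := by
  intro t49 t51 t61 t64 t68 t69 t70 hn49 hn51
  have h2 : (2 : K) = 0 := CharTwo.two_eq_zero
  have h4 : (4 : K) = 0 := by linear_combination 2 * h2
  have h6 : (6 : K) = 0 := by linear_combination 3 * h2
  have h8 : (8 : K) = 0 := by linear_combination 4 * h2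
  have h10 : (10 : K) = 0 := by linear_combination 5 * h2
  have h12 : (12 : K) = 0 := by linear_combination 6 * h2
  have h14 : (14 : K) = 0 := by linear_combination 7 * h2
  have h16 : (16 : K) = 0 := by linear_combination 8 * h2
  have h18 : (18 : K) = 0 := by linear_combination 9 * h2
  have h20 : (20 : K) = 0 := by linear_combination 10 * h2
  have h22 : (22 : K) = 0 := by linear_combination 11 * h2
  have h24 : (24 : K) = 0 := by linear_combination 12 * h2
  have h26 : (26 : K) = 0 := by linear_combination 13 * h2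
  have h28 : (28 : K) = 0 := by linear_combination 14 * h2
  have h30 : (30 : K) = 0 := by linear_combination 15 * h2
  have h32 : (32 : K) = 0 := by linear_combination 16 * h2
  obtain ⟨c, rfl⟩ : ∃ c, t69 = c * t51 := ⟨t69 / t51, by field_simp⟩
  have e : R.X60 c * R.RNF (0) (0) (0) (0) (0) (0) (0) (0) (0) (0) (0) (0) (0) (0) (0) (0) (0) (t49) (t51) (0) (t61) (0) (0) (0) (0) (0) (0) (t64) (0) (0) (0) (0) (t68) (c * t51) (t70) (0) * R.X60 c =
      R.RNF (0) (0) (0) (0) (0) (0) (0) (0) (0) (0) (0) (0) (0) (0) (0) (0) (0) (t49) (t51) (0) (t61) (0) (0) (0) (0) (0) (0) (t64) (0) (0) (0) (0) (t68) (0) (t70) (0) := by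
    rw [R.ucj60]
    congr 1 <;> (first | rfl | ring1 | (rw [← sub_eq_zero]; ring_nf; simp only [h2, h4, h6, h8, h10, h12, h14, h16, h18, h20, h22, h24, h26, h28, h30, h32, mul_zero, zero_mul, add_zero, zero_add, neg_zero, sub_zero, sub_self]))
  exact UP_cj D (D.xmem60 c) (R.inv60 c) e (ih _ _ _ _ _ _ hn49 hn51)

theorem e6s17_16 (D : UData R)
    (ih : ∀ (t49 t61 t53 t62 t68 t69 : K), t49 ≠ 0 → t53 ≠ 0 → UP D (R.RNF (0) (0) (0) (0) (0) (0) (0) (0) (0) (0) (0) (0) (0) (0) (0) (0) (0) (t49) (0) (0) (t61) (0) (t53) (0) (t62) (0) (0) (0) (0) (0) (0) (0) (t68) (t69) (0) (0))) :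
    ∀ (t49 t51 t61 t64 t68 t70 : K), t49 ≠ 0 → t51 ≠ 0 → UP D (R.RNF (0) (0) (0) (0) (0) (0) (0) (0) (0) (0) (0) (0) (0) (0) (0) (0) (0) (t49) (t51) (0) (t61) (0) (0) (0) (0) (0) (0) (t64) (0) (0) (0) (0) (t68) (0) (t70) (0)) := by
  intro t49 t51 t61 t64 t68 t70 hn49 hn51
  have h2 : (2 : K) = 0 := CharTwo.two_eq_zero
  have h4 : (4 : K) = 0 := by linear_combination 2 * h2
  have h6 : (6 : K) = 0 := by linear_combination 3 * h2
  have h8 : (8 : K) = 0 := by linear_combination 4 * h2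
  have h10 : (10 : K) = 0 := by linear_combination 5 * h2
  have h12 : (12 : K) = 0 := by linear_combination 6 * h2
  have h14 : (14 : K) = 0 := by linear_combination 7 * h2
  have h16 : (16 : K) = 0 := by linear_combination 8 * h2
  have h18 : (18 : K) = 0 := by linear_combination 9 * h2
  have h20 : (20 : K) = 0 := by linear_combination 10 * h2
  have h22 : (22 : K) = 0 := by linear_combination 11 * h2
  have h24 : (24 : K) = 0 := by linear_combination 12 * h2
  have h26 : (26 : K) = 0 := by linear_combination 13 * h2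
  have h28 : (28 : K) = 0 := by linear_combination 14 * h2
  have h30 : (30 : K) = 0 := by linear_combination 15 * h2
  have h32 : (32 : K) = 0 := by linear_combination 16 * h2
  have e : D.n4 * R.RNF (0) (0) (0) (0) (0) (0) (0) (0) (0) (0) (0) (0) (0) (0) (0) (0) (0) (t49) (t51) (0) (t61) (0) (0) (0) (0) (0) (0) (t64) (0) (0) (0) (0) (t68) (0) (t70) (0) * D.n4⁻¹ =
      R.RNF (0) (0) (0) (0) (0) (0) (0) (0) (0) (0) (0) (0) (0) (0) (0) (0) (0) (t49) (0) (0) (t61) (0) (t51) (0) (t64) (0) (0) (0) (0) (0) (0) (0) (t68) (t70) (0) (0) := by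
    rw [D.toWeylE6.conj_n4]
    congr 1 <;> (first | rfl | ring1 | (rw [← sub_eq_zero]; ring_nf; simp only [h2, h4, h6, h8, h10, h12, h14, h16, h18, h20, h22, h24, h26, h28, h30, h32, mul_zero, zero_mul, add_zero, zero_add, neg_zero, sub_zero, sub_self]))
  exact UP_n D D.n4_mem e (ih _ _ _ _ _ _ hn49 hn51)

theorem e6s17_17 (D : UData R)
    (ih : ∀ (t61 t52 t53 t62 t65 t66 : K), t52 ≠ 0 → t53 ≠ 0 → UP D (R.RNF (0) (0) (0) (0) (0) (0) (0) (0) (0) (0) (0) (0) (0) (0) (0) (0) (0) (0) (0) (0) (t61) (t52) (t53) (0) (t62) (0) (0) (0) (0) (t65) (0) (t66) (0) (0) (0) (0))) :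
    ∀ (t49 t61 t53 t62 t68 t69 : K), t49 ≠ 0 → t53 ≠ 0 → UP D (R.RNF (0) (0) (0) (0) (0) (0) (0) (0) (0) (0) (0) (0) (0) (0) (0) (0) (0) (t49) (0) (0) (t61) (0) (t53) (0) (t62) (0) (0) (0) (0) (0) (0) (0) (t68) (t69) (0) (0)) := by
  intro t49 t61 t53 t62 t68 t69 hn49 hn53
  have h2 : (2 : K) = 0 := CharTwo.two_eq_zero
  have h4 : (4 : K) = 0 := by linear_combination 2 * h2
  have h6 : (6 : K) = 0 := by linear_combination 3 * h2
  have h8 : (8 : K) = 0 := by linear_combination 4 * h2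
  have h10 : (10 : K) = 0 := by linear_combination 5 * h2
  have h12 : (12 : K) = 0 := by linear_combination 6 * h2
  have h14 : (14 : K) = 0 := by linear_combination 7 * h2
  have h16 : (16 : K) = 0 := by linear_combination 8 * h2
  have h18 : (18 : K) = 0 := by linear_combination 9 * h2
  have h20 : (20 : K) = 0 := by linear_combination 10 * h2
  have h22 : (22 : K) = 0 := by linear_combination 11 * h2
  have h24 : (24 : K) = 0 := by linear_combination 12 * h2
  have h26 : (26 : K) = 0 := by linear_combination 13 * h2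
  have h28 : (28 : K) = 0 := by linear_combination 14 * h2
  have h30 : (30 : K) = 0 := by linear_combination 15 * h2
  have h32 : (32 : K) = 0 := by linear_combination 16 * h2
  have e : D.n3 * R.RNF (0) (0) (0) (0) (0) (0) (0) (0) (0) (0) (0) (0) (0) (0) (0) (0) (0) (t49) (0) (0) (t61) (0) (t53) (0) (t62) (0) (0) (0) (0) (0) (0) (0) (t68) (t69) (0) (0) * D.n3⁻¹ =
      R.RNF (0) (0) (0) (0) (0) (0) (0) (0) (0) (0) (0) (0) (0) (0) (0) (0) (0) (0) (0) (0) (t61) (t49) (t53) (0) (t62) (0) (0) (0) (0) (t68) (0) (t69) (0) (0) (0) (0) := by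
    rw [D.toWeylE6.conj_n3]
    congr 1 <;> (first | rfl | ring1 | (rw [← sub_eq_zero]; ring_nf; simp only [h2, h4, h6, h8, h10, h12, h14, h16, h18, h20, h22, h24, h26, h28, h30, h32, mul_zero, zero_mul, add_zero, zero_add, neg_zero, sub_zero, sub_self]))
  exact UP_n D D.n3_mem e (ih _ _ _ _ _ _ hn49 hn53)

theorem upiv17 (D : UData R)
    (ih : ∀ (t51 t59 t61 t52 t53 t60 t62 t54 t63 t64 t55 t65 t67 t66 t68 t69 t70 t71 : K), UP D (R.RNF (0) (0) (0) (0) (0) (0) (0) (0) (0) (0) (0) (0) (0) (0) (0) (0) (0) (0) (t51) (t59) (t61) (t52) (t53) (t60) (t62) (t54) (t63) (t64) (t55) (t65) (t67) (t66) (t68) (t69) (t70) (t71))) :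
    ∀ (t49 t51 t59 t61 t52 t53 t60 t62 t54 t63 t64 t55 t65 t67 t66 t68 t69 t70 t71 : K), UP D (R.RNF (0) (0) (0) (0) (0) (0) (0) (0) (0) (0) (0) (0) (0) (0) (0) (0) (0) (t49) (t51) (t59) (t61) (t52) (t53) (t60) (t62) (t54) (t63) (t64) (t55) (t65) (t67) (t66) (t68) (t69) (t70) (t71)) := by
  intro t49 t51 t59 t61 t52 t53 t60 t62 t54 t63 t64 t55 t65 t67 t66 t68 t69 t70 t71
  by_cases h0 : t49 = 0
  · subst h0; exact ih _ _ _ _ _ _ _ _ _ _ _ _ _ _ _ _ _ _
  · exact (e6s17_1 D (e6s17_2 D (e6s17_3 D (e6s17_4 D (e6s17_5 D (e6s17_6 D (e6s17_7 D (e6s17_8 D (e6s17_9 D (e6s17_10 D (e6s17_11 D (fun t61 t52 t53 t60 t62 t65 t67 t66 t70 _ => ih 0 0 t61 t52 t53 t60 t62 0 0 0 0 t65 t67 t66 0 0 t70 0)) (e6s17_12 D (e6s17_13 D (e6s17_14 D (e6s17_15 D (e6s17_16 D (e6s17_17 D (fun t61 t52 t53 t62 t65 t66 _ _ => ih 0 0 t61 t52 t53 0 t62 0 0 0 0 t65 0 t66 0 0 0 0))))))))))))))))) t49 t51 t59 t61 t52 t53 t60 t62 t54 t63 t64 t55 t65 t67 t66 t68 t69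 t70 t71 h0

end Cfsg.Agent.Helper4.E6Inv
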