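import Cfsg.Agent.Helper4.E6Inv.UFinT

/-! Generated: steps of the reduction of involutions in the unipotent group of `E₆`
(characteristic two). -/

set_option autoImplicit false
set_option maxHeartbeats 8000000
set_option maxRecDepth 100000
set_option linter.unusedSimpArgs false
set_option linter.unusedVariables false
set_option linter.unusedSectionVars false
set_option linter.unusedTactic false
set_option linter.unreachableTactic false

namespace Cfsg.Agent.Helper4.E6Inv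

variable {K Γ : Type*} [Field K] [Group Γ] {R : RelE6 K Γ} [CharP K 2]

theorem e6s18_1 (D : UData R)
    (ih : ∀ (t51 t59 t61 t53 t60 t62 t54 t63 t64 t55 t65 t67 t66 t68 t69 t70 t71 : K), t51 ≠ 0 → UP D (R.RNF (0) (0) (0) (0) (0) (0) (0) (0) (0) (0) (0) (0) (0) (0) (0) (0) (0) (0) (t51) (t59) (t61) (0) (t53) (t60) (t62) (t54) (t63) (t64) (t55) (t65) (t67) (t66) (t68) (t69) (t70) (t71))) :
    ∀ (t51 t59 t61 t52 t53 t60 t62 t54 t63 t64 t55 t65 t67 t66 t68 t69 t70 t71 : K), t51 ≠ 0 → UP D (R.RNF (0) (0) (0) (0) (0) (0) (0) (0) (0) (0) (0) (0) (0) (0) (0) (0) (0) (0) (t51) (t59) (t61) (t52) (t53) (t60) (t62) (t54) (t63) (t64) (t55) (t65) (t67) (t66) (t68) (t69) (t70) (t71)) := by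
  intro t51 t59 t61 t52 t53 t60 t62 t54 t63 t64 t55 t65 t67 t66 t68 t69 t70 t71 hn51
  have h2 : (2 : K) = 0 := CharTwo.two_eq_zero
  have h4 : (4 : K) = 0 := by linear_combination 2 * h2
  have h6 : (6 : K) = 0 := by linear_combination 3 * h2
  have h8 : (8 : K) = 0 := by linear_combination 4 * h2
  have h10 : (10 : K) = 0 := by linear_combination 5 * h2
  have h12 : (12 : K) = 0 := by linear_combination 6 * h2
  have h14 : (14 : K) = 0 := by linear_combination 7 * h2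
  have h16 : (16 : K) = 0 := by linear_combination 8 * h2
  have h18 : (18 : K) = 0 := by linear_combination 9 * h2
  have h20 : (20 : K) = 0 := by linear_combination 10 * h2
  have h22 : (22 : K) = 0 := by linear_combination 11 * h2
  have h24 : (24 : K) = 0 := by linear_combination 12 * h2
  have h26 : (26 : K) = 0 := by linear_combination 13 * h2
  have h28 : (28 : K) = 0 := by linear_combination 14 * h2
  have h30 : (30 : K) = 0 := by linear_combination 15 * h2
  have h32 : (32 : K) = 0 := by linear_combination 16 * h2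
  obtain ⟨c, rfl⟩ : ∃ c, t52 = c * t51 := ⟨t52 / t51, by field_simp⟩
  have e : R.X36 c * R.RNF (0) (0) (0) (0) (0) (0) (0) (0) (0) (0) (0) (0) (0) (0) (0) (0) (0) (0) (t51) (t59) (t61) (c * t51) (t53) (t60) (t62) (t54) (t63) (t64) (t55) (t65) (t67) (t66) (t68) (t69) (t70) (t71) * R.X36 c =
      R.RNF (0) (0) (0) (0) (0) (0) (0) (0) (0) (0) (0) (0) (0) (0) (0) (0) (0) (0) (t51) (t59) (t61) (0) (t53) (c * t59 + t60) (t62) (c * t53 + t54) (c * t62 + t63) (t64) (t55) (c * t64 + t65) (t67) (t66) (c * t67 + t68) (c * t51 * t59 + t69) (c * t53 * t59 + t70) (c * t53 * t62 + t71) := by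
    rw [R.ucj36]
    congr 1 <;> (first | rfl | ring1 | (rw [← sub_eq_zero]; ring_nf; simp only [h2, h4, h6, h8, h10, h12, h14, h16, h18, h20, h22, h24, h26, h28, h30, h32, mul_zero, zero_mul, add_zero, zero_add, neg_zero, sub_zero, sub_self]))
  exact UP_cj D (D.xmem36 c) (R.inv36 c) e (ih _ _ _ _ _ _ _ _ _ _ _ _ _ _ _ _ _ hn51)

theorem e6s18_2 (D : UData R)
    (ih : ∀ (t51 t59 t61 t60 t62 t54 t63 t64 t55 t65 t67 t66 t68 t69 t70 t71 : K), t51 ≠ 0 → UP D (R.RNF (0) (0) (0) (0) (0) (0) (0) (0) (0) (0) (0) (0) (0) (0) (0) (0) (0) (0) (t51) (t59) (t61) (0) (0) (t60) (t62) (t54) (t63) (t64) (t55) (t65) (t67) (t66) (t68) (t69) (t70) (t71))) :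
    ∀ (t51 t59 t61 t53 t60 t62 t54 t63 t64 t55 t65 t67 t66 t68 t69 t70 t71 : K), t51 ≠ 0 → UP D (R.RNF (0) (0) (0) (0) (0) (0) (0) (0) (0) (0) (0) (0) (0) (0) (0) (0) (0) (0) (t51) (t59) (t61) (0) (t53) (t60) (t62) (t54) (t63) (t64) (t55) (t65) (t67) (t66) (t68) (t69) (t70) (t71)) := by
  intro t51 t59 t61 t53 t60 t62 t54 t63 t64 t55 t65 t67 t66 t68 t69 t70 t71 hn51
  have h2 : (2 : K) = 0 := CharTwo.two_eq_zero
  have h4 : (4 : K) = 0 := by linear_combination 2 * h2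
  have h6 : (6 : K) = 0 := by linear_combination 3 * h2
  have h8 : (8 : K) = 0 := by linear_combination 4 * h2
  have h10 : (10 : K) = 0 := by linear_combination 5 * h2
  have h12 : (12 : K) = 0 := by linear_combination 6 * h2
  have h14 : (14 : K) = 0 := by linear_combination 7 * h2
  have h16 : (16 : K) = 0 := by linear_combination 8 * h2
  have h18 : (18 : K) = 0 := by linear_combination 9 * h2
  have h20 : (20 : K) = 0 := by linear_combination 10 * h2
  have h22 : (22 : K) = 0 := by linear_combination 11 * h2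
  have h24 : (24 : K) = 0 := by linear_combination 12 * h2
  have h26 : (26 : K) = 0 := by linear_combination 13 * h2
  have h28 : (28 : K) = 0 := by linear_combination 14 * h2
  have h30 : (30 : K) = 0 := by linear_combination 15 * h2
  have h32 : (32 : K) = 0 := by linear_combination 16 * h2
  obtain ⟨c, rfl⟩ : ∃ c, t53 = c * t51 := ⟨t53 / t51, by field_simp⟩
  have e : R.X39 c * R.RNF (0) (0) (0) (0) (0) (0) (0) (0) (0) (0) (0) (0) (0) (0) (0) (0) (0) (0) (t51) (t59) (t61) (0) (c * t51) (t60) (t62) (t54) (t63) (t64) (t55) (t65) (t67) (t66) (t68) (t69) (t70) (t71) * R.X39 c =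
      R.RNF (0) (0) (0) (0) (0) (0) (0) (0) (0) (0) (0) (0) (0) (0) (0) (0) (0) (0) (t51) (t59) (t61) (0) (0) (t60) (t62) (t54) (t63) (c * t62 + t64) (t55) (c * t63 + t65) (t67) (t66) (t68) (t69) (c * t69 + t70) (t71) := by
    rw [R.ucj39]
    congr 1 <;> (first | rfl | ring1 | (rw [← sub_eq_zero]; ring_nf; simp only [h2, h4, h6, h8, h10, h12, h14, h16, h18, h20, h22, h24, h26, h28, h30, h32, mul_zero, zero_mul, add_zero, zero_add, neg_zero, sub_zero, sub_self]))
  exact UP_cj D (D.xmem39 c) (R.inv39 c) e (ih _ _ _ _ _ _ _ _ _ _ _ _ _ _ _ _ hn51)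

theorem e6s18_3 (D : UData R)
    (ih : ∀ (t51 t59 t61 t60 t54 t63 t64 t55 t65 t67 t66 t68 t69 t70 t71 : K), t51 ≠ 0 → UP D (R.RNF (0) (0) (0) (0) (0) (0) (0) (0) (0) (0) (0) (0) (0) (0) (0) (0) (0) (0) (t51) (t59) (t61) (0) (0) (t60) (0) (t54) (t63) (t64) (t55) (t65) (t67) (t66) (t68) (t69) (t70) (t71))) :
    ∀ (t51 t59 t61 t60 t62 t54 t63 t64 t55 t65 t67 t66 t68 t69 t70 t71 : K), t51 ≠ 0 → UP D (R.RNF (0) (0) (0) (0) (0) (0) (0) (0) (0) (0) (0) (0) (0) (0) (0) (0) (0) (0) (t51) (t59) (t61) (0) (0) (t60) (t62) (t54) (t63) (t64) (t55) (t65) (t67) (t66) (t68) (t69) (t70) (t71)) := by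
  intro t51 t59 t61 t60 t62 t54 t63 t64 t55 t65 t67 t66 t68 t69 t70 t71 hn51
  have h2 : (2 : K) = 0 := CharTwo.two_eq_zero
  have h4 : (4 : K) = 0 := by linear_combination 2 * h2
  have h6 : (6 : K) = 0 := by linear_combination 3 * h2
  have h8 : (8 : K) = 0 := by linear_combination 4 * h2
  have h10 : (10 : K) = 0 := by linear_combination 5 * h2
  have h12 : (12 : K) = 0 := by linear_combination 6 * h2
  have h14 : (14 : K) = 0 := by linear_combination 7 * h2
  have h16 : (16 : K) = 0 := by linear_combination 8 * h2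
  have h18 : (18 : K) = 0 := by linear_combination 9 * h2
  have h20 : (20 : K) = 0 := by linear_combination 10 * h2
  have h22 : (22 : K) = 0 := by linear_combination 11 * h2
  have h24 : (24 : K) = 0 := by linear_combination 12 * h2
  have h26 : (26 : K) = 0 := by linear_combination 13 * h2
  have h28 : (28 : K) = 0 := by linear_combination 14 * h2
  have h30 : (30 : K) = 0 := by linear_combination 15 * h2
  have h32 : (32 : K) = 0 := by linear_combination 16 * h2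
  obtain ⟨c, rfl⟩ : ∃ c, t62 = c * t51 := ⟨t62 / t51, by field_simp⟩
  have e : R.X56 c * R.RNF (0) (0) (0) (0) (0) (0) (0) (0) (0) (0) (0) (0) (0) (0) (0) (0) (0) (0) (t51) (t59) (t61) (0) (0) (t60) (c * t51) (t54) (t63) (t64) (t55) (t65) (t67) (t66) (t68) (t69) (t70) (t71) * R.X56 c =
      R.RNF (0) (0) (0) (0) (0) (0) (0) (0) (0) (0) (0) (0) (0) (0) (0) (0) (0) (0) (t51) (t59) (t61) (0) (0) (t60) (0) (t54) (t63) (t64) (t55) (c * t54 + t65) (t67) (c * t55 + t66) (t68) (t69) (t70) (t71) := by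
    rw [R.ucj56]
    congr 1 <;> (first | rfl | ring1 | (rw [← sub_eq_zero]; ring_nf; simp only [h2, h4, h6, h8, h10, h12, h14, h16, h18, h20, h22, h24, h26, h28, h30, h32, mul_zero, zero_mul, add_zero, zero_add, neg_zero, sub_zero, sub_self]))
  exact UP_cj D (D.xmem56 c) (R.inv56 c) e (ih _ _ _ _ _ _ _ _ _ _ _ _ _ _ _ hn51)

theorem e6s18_4 (D : UData R)
    (ih : ∀ (t51 t59 t61 t60 t54 t63 t64 t65 t67 t66 t68 t69 t70 t71 : K), t51 ≠ 0 → UP D (R.RNF (0) (0) (0) (0) (0) (0) (0) (0) (0) (0) (0) (0) (0) (0) (0) (0) (0) (0) (t51) (t59) (t61) (0) (0) (t60) (0) (t54) (t63) (t64) (0) (t65) (t67) (t66) (t68) (t69) (t70) (t71))) :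
    ∀ (t51 t59 t61 t60 t54 t63 t64 t55 t65 t67 t66 t68 t69 t70 t71 : K), t51 ≠ 0 → UP D (R.RNF (0) (0) (0) (0) (0) (0) (0) (0) (0) (0) (0) (0) (0) (0) (0) (0) (0) (0) (t51) (t59) (t61) (0) (0) (t60) (0) (t54) (t63) (t64) (t55) (t65) (t67) (t66) (t68) (t69) (t70) (t71)) := by
  intro t51 t59 t61 t60 t54 t63 t64 t55 t65 t67 t66 t68 t69 t70 t71 hn51
  have h2 : (2 : K) = 0 := CharTwo.two_eq_zero
  have h4 : (4 : K) = 0 := by linear_combination 2 * h2
  have h6 : (6 : K) = 0 := by linear_combination 3 * h2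
  have h8 : (8 : K) = 0 := by linear_combination 4 * h2
  have h10 : (10 : K) = 0 := by linear_combination 5 * h2
  have h12 : (12 : K) = 0 := by linear_combination 6 * h2
  have h14 : (14 : K) = 0 := by linear_combination 7 * h2
  have h16 : (16 : K) = 0 := by linear_combination 8 * h2
  have h18 : (18 : K) = 0 := by linear_combination 9 * h2
  have h20 : (20 : K) = 0 := by linear_combination 10 * h2
  have h22 : (22 : K) = 0 := by linear_combination 11 * h2
  have h24 : (24 : K) = 0 := by linear_combination 12 * h2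
  have h26 : (26 : K) = 0 := by linear_combination 13 * h2
  have h28 : (28 : K) = 0 := by linear_combination 14 * h2
  have h30 : (30 : K) = 0 := by linear_combination 15 * h2
  have h32 : (32 : K) = 0 := by linear_combination 16 * h2
  obtain ⟨c, rfl⟩ : ∃ c, t55 = c * t51 := ⟨t55 / t51, by field_simp⟩
  have e : R.X41 c * R.RNF (0) (0) (0) (0) (0) (0) (0) (0) (0) (0) (0) (0) (0) (0) (0) (0) (0) (0) (t51) (t59) (t61) (0) (0) (t60) (0) (t54) (t63) (t64) (c * t51) (t65) (t67) (t66) (t68) (t69) (t70) (t71) * R.X41 c =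
      R.RNF (0) (0) (0) (0) (0) (0) (0) (0) (0) (0) (0) (0) (0) (0) (0) (0) (0) (0) (t51) (t59) (t61) (0) (0) (t60) (0) (t54) (t63) (t64) (0) (c * t61 + t65) (t67) (t66) (t68) (t69) (c * t67 + t70) (c * t51 * t61 + t71) := by
    rw [R.ucj41]
    congr 1 <;> (first | rfl | ring1 | (rw [← sub_eq_zero]; ring_nf; simp only [h2, h4, h6, h8, h10, h12, h14, h16, h18, h20, h22, h24, h26, h28, h30, h32, mul_zero, zero_mul, add_zero, zero_add, neg_zero, sub_zero, sub_self]))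
  exact UP_cj D (D.xmem41 c) (R.inv41 c) e (ih _ _ _ _ _ _ _ _ _ _ _ _ _ _ hn51)

theorem e6s18_5 (D : UData R)
    (ih : ∀ (t51 t59 t61 t60 t54 t63 t64 t65 t66 t68 t69 t70 t71 : K), t51 ≠ 0 → UP D (R.RNF (0) (0) (0) (0) (0) (0) (0) (0) (0) (0) (0) (0) (0) (0) (0) (0) (0) (0) (t51) (t59) (t61) (0) (0) (t60) (0) (t54) (t63) (t64) (0) (t65) (0) (t66) (t68) (t69) (t70) (t71))) :
    ∀ (t51 t59 t61 t60 t54 t63 t64 t65 t67 t66 t68 t69 t70 t71 : K), t51 ≠ 0 → UP D (R.RNF (0) (0) (0) (0) (0) (0) (0) (0) (0) (0) (0) (0) (0) (0) (0) (0) (0) (0) (t51) (t59) (t61) (0) (0) (t60) (0) (t54) (t63) (t64) (0) (t65) (t67) (t66) (t68) (t69) (t70) (t71)) := by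
  intro t51 t59 t61 t60 t54 t63 t64 t65 t67 t66 t68 t69 t70 t71 hn51
  have h2 : (2 : K) = 0 := CharTwo.two_eq_zero
  have h4 : (4 : K) = 0 := by linear_combination 2 * h2
  have h6 : (6 : K) = 0 := by linear_combination 3 * h2
  have h8 : (8 : K) = 0 := by linear_combination 4 * h2
  have h10 : (10 : K) = 0 := by linear_combination 5 * h2
  have h12 : (12 : K) = 0 := by linear_combination 6 * h2
  have h14 : (14 : K) = 0 := by linear_combination 7 * h2
  have h16 : (16 : K) = 0 := by linear_combination 8 * h2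
  have h18 : (18 : K) = 0 := by linear_combination 9 * h2
  have h20 : (20 : K) = 0 := by linear_combination 10 * h2
  have h22 : (22 : K) = 0 := by linear_combination 11 * h2
  have h24 : (24 : K) = 0 := by linear_combination 12 * h2
  have h26 : (26 : K) = 0 := by linear_combination 13 * h2
  have h28 : (28 : K) = 0 := by linear_combination 14 * h2
  have h30 : (30 : K) = 0 := by linear_combination 15 * h2
  have h32 : (32 : K) = 0 := by linear_combination 16 * h2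
  obtain ⟨c, rfl⟩ : ∃ c, t67 = c * t51 := ⟨t67 / t51, by field_simp⟩
  have e : R.X58 c * R.RNF (0) (0) (0) (0) (0) (0) (0) (0) (0) (0) (0) (0) (0) (0) (0) (0) (0) (0) (t51) (t59) (t61) (0) (0) (t60) (0) (t54) (t63) (t64) (0) (t65) (c * t51) (t66) (t68) (t69) (t70) (t71) * R.X58 c =
      R.RNF (0) (0) (0) (0) (0) (0) (0) (0) (0) (0) (0) (0) (0) (0) (0) (0) (0) (0) (t51) (t59) (t61) (0) (0) (t60) (0) (t54) (t63) (t64) (0) (t65) (0) (t66) (t68) (t69) (t70) (t71) := by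
    rw [R.ucj58]
    congr 1 <;> (first | rfl | ring1 | (rw [← sub_eq_zero]; ring_nf; simp only [h2, h4, h6, h8, h10, h12, h14, h16, h18, h20, h22, h24, h26, h28, h30, h32, mul_zero, zero_mul, add_zero, zero_add, neg_zero, sub_zero, sub_self]))
  exact UP_cj D (D.xmem58 c) (R.inv58 c) e (ih _ _ _ _ _ _ _ _ _ _ _ _ _ hn51)

theorem e6s18_6 (D : UData R)
    (ih : ∀ (t51 t59 t61 t60 t54 t63 t64 t65 t66 t68 t70 t71 : K), t51 ≠ 0 → UP D (R.RNF (0) (0) (0) (0) (0) (0) (0) (0) (0) (0) (0) (0) (0) (0) (0) (0) (0) (0) (t51) (t59) (t61) (0) (0) (t60) (0) (t54) (t63) (t64) (0) (t65) (0) (t66) (t68) (0) (t70) (t71))) :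
    ∀ (t51 t59 t61 t60 t54 t63 t64 t65 t66 t68 t69 t70 t71 : K), t51 ≠ 0 → UP D (R.RNF (0) (0) (0) (0) (0) (0) (0) (0) (0) (0) (0) (0) (0) (0) (0) (0) (0) (0) (t51) (t59) (t61) (0) (0) (t60) (0) (t54) (t63) (t64) (0) (t65) (0) (t66) (t68) (t69) (t70) (t71)) := by
  intro t51 t59 t61 t60 t54 t63 t64 t65 t66 t68 t69 t70 t71 hn51
  have h2 : (2 : K) = 0 := CharTwo.two_eq_zero
  have h4 : (4 : K) = 0 := by linear_combination 2 * h2
  have h6 : (6 : K) = 0 := by linear_combination 3 * h2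
  have h8 : (8 : K) = 0 := by linear_combination 4 * h2
  have h10 : (10 : K) = 0 := by linear_combination 5 * h2
  have h12 : (12 : K) = 0 := by linear_combination 6 * h2
  have h14 : (14 : K) = 0 := by linear_combination 7 * h2
  have h16 : (16 : K) = 0 := by linear_combination 8 * h2
  have h18 : (18 : K) = 0 := by linear_combination 9 * h2
  have h20 : (20 : K) = 0 := by linear_combination 10 * h2
  have h22 : (22 : K) = 0 := by linear_combination 11 * h2
  have h24 : (24 : K) = 0 := by linear_combination 12 * h2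
  have h26 : (26 : K) = 0 := by linear_combination 13 * h2
  have h28 : (28 : K) = 0 := by linear_combination 14 * h2
  have h30 : (30 : K) = 0 := by linear_combination 15 * h2
  have h32 : (32 : K) = 0 := by linear_combination 16 * h2
  obtain ⟨c, rfl⟩ : ∃ c, t69 = c * t51 := ⟨t69 / t51, by field_simp⟩
  have e : R.X60 c * R.RNF (0) (0) (0) (0) (0) (0) (0) (0) (0) (0) (0) (0) (0) (0) (0) (0) (0) (0) (t51) (t59) (t61) (0) (0) (t60) (0) (t54) (t63) (t64) (0) (t65) (0) (t66) (t68) (c * t51) (t70) (t71) * R.X60 c =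
      R.RNF (0) (0) (0) (0) (0) (0) (0) (0) (0) (0) (0) (0) (0) (0) (0) (0) (0) (0) (t51) (t59) (t61) (0) (0) (t60) (0) (t54) (t63) (t64) (0) (t65) (0) (t66) (t68) (0) (t70) (t71) := by
    rw [R.ucj60]
    congr 1 <;> (first | rfl | ring1 | (rw [← sub_eq_zero]; ring_nf; simp only [h2, h4, h6, h8, h10, h12, h14, h16, h18, h20, h22, h24, h26, h28, h30, h32, mul_zero, zero_mul, add_zero, zero_add, neg_zero, sub_zero, sub_self]))
  exact UP_cj D (D.xmem60 c) (R.inv60 c) e (ih _ _ _ _ _ _ _ _ _ _ _ _ hn51)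

theorem e6s18_7 (D : UData R)
    (ih : ∀ (t51 t59 t61 t60 t54 t63 t64 t65 t66 t68 t70 : K), t51 ≠ 0 → UP D (R.RNF (0) (0) (0) (0) (0) (0) (0) (0) (0) (0) (0) (0) (0) (0) (0) (0) (0) (0) (t51) (t59) (t61) (0) (0) (t60) (0) (t54) (t63) (t64) (0) (t65) (0) (t66) (t68) (0) (t70) (0))) :
    ∀ (t51 t59 t61 t60 t54 t63 t64 t65 t66 t68 t70 t71 : K), t51 ≠ 0 → UP D (R.RNF (0) (0) (0) (0) (0) (0) (0) (0) (0) (0) (0) (0) (0) (0) (0) (0) (0) (0) (t51) (t59) (t61) (0) (0) (t60) (0) (t54) (t63) (t64) (0) (t65) (0) (t66) (t68) (0) (t70) (t71)) := by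
  intro t51 t59 t61 t60 t54 t63 t64 t65 t66 t68 t70 t71 hn51
  have h2 : (2 : K) = 0 := CharTwo.two_eq_zero
  have h4 : (4 : K) = 0 := by linear_combination 2 * h2
  have h6 : (6 : K) = 0 := by linear_combination 3 * h2
  have h8 : (8 : K) = 0 := by linear_combination 4 * h2
  have h10 : (10 : K) = 0 := by linear_combination 5 * h2
  have h12 : (12 : K) = 0 := by linear_combination 6 * h2
  have h14 : (14 : K) = 0 := by linear_combination 7 * h2
  have h16 : (16 : K) = 0 := by linear_combination 8 * h2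
  have h18 : (18 : K) = 0 := by linear_combination 9 * h2
  have h20 : (20 : K) = 0 := by linear_combination 10 * h2
  have h22 : (22 : K) = 0 := by linear_combination 11 * h2
  have h24 : (24 : K) = 0 := by linear_combination 12 * h2
  have h26 : (26 : K) = 0 := by linear_combination 13 * h2
  have h28 : (28 : K) = 0 := by linear_combination 14 * h2
  have h30 : (30 : K) = 0 := by linear_combination 15 * h2
  have h32 : (32 : K) = 0 := by linear_combination 16 * h2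
  obtain ⟨c, rfl⟩ : ∃ c, t71 = c * t51 := ⟨t71 / t51, by field_simp⟩
  have e : R.X65 c * R.RNF (0) (0) (0) (0) (0) (0) (0) (0) (0) (0) (0) (0) (0) (0) (0) (0) (0) (0) (t51) (t59) (t61) (0) (0) (t60) (0) (t54) (t63) (t64) (0) (t65) (0) (t66) (t68) (0) (t70) (c * t51) * R.X65 c =
      R.RNF (0) (0) (0) (0) (0) (0) (0) (0) (0) (0) (0) (0) (0) (0) (0) (0) (0) (0) (t51) (t59) (t61) (0) (0) (t60) (0) (t54) (t63) (t64) (0) (t65) (0) (t66) (t68) (0) (t70) (0) := by
    rw [R.ucj65]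
    congr 1 <;> (first | rfl | ring1 | (rw [← sub_eq_zero]; ring_nf; simp only [h2, h4, h6, h8, h10, h12, h14, h16, h18, h20, h22, h24, h26, h28, h30, h32, mul_zero, zero_mul, add_zero, zero_add, neg_zero, sub_zero, sub_self]))
  exact UP_cj D (D.xmem65 c) (R.inv65 c) e (ih _ _ _ _ _ _ _ _ _ _ _ hn51)

theorem e6s18_8 (D : UData R)
    (ih : ∀ (t51 t59 t61 t54 t63 t64 t65 t66 t68 t70 : K), t51 ≠ 0 → UP D (R.RNF (0) (0) (0) (0) (0) (0) (0) (0) (0) (0) (0) (0) (0) (0) (0) (0) (0) (0) (t51) (t59) (t61) (0) (0) (0) (0) (t54) (t63) (t64) (0) (t65) (0) (t66) (t68) (0) (t70) (0))) :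
    ∀ (t51 t59 t61 t60 t54 t63 t64 t65 t66 t68 t70 : K), t51 ≠ 0 → UP D (R.RNF (0) (0) (0) (0) (0) (0) (0) (0) (0) (0) (0) (0) (0) (0) (0) (0) (0) (0) (t51) (t59) (t61) (0) (0) (t60) (0) (t54) (t63) (t64) (0) (t65) (0) (t66) (t68) (0) (t70) (0)) := by
  intro t51 t59 t61 t60 t54 t63 t64 t65 t66 t68 t70 hn51 hu hne
  have hsq := hu
  rw [R.usq] at hsq
  obtain ⟨e36, e37, e39, e42, e46, e56, e38, e40, e43, e47, e57, e41, e44, e48, e50, e58, e45, e49, e51, e59, e61, e52, e53, e60, e62, e54, e63, e64, e55, e65, e67, e66, e68, e69, e70, e71⟩ := D.inj _ _ _ _ _ _ _ _ _ _ _ _ _ _ _ _ _ _ _ _ _ _ _ _ _ _ _ _ _ _ _ _ _ _ _ _ hsq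
  have hz : t60 = 0 := by
    have h : t51 * t60 = 0 := by linear_combination e69
    exact (mul_eq_zero.mp h).resolve_left hn51
  subst hz
  exact ih _ _ _ _ _ _ _ _ _ _ hn51 hu hne

theorem e6s18_9 (D : UData R)
    (ih : ∀ (t51 t59 t61 t54 t63 t64 t66 t68 t70 : K), t51 ≠ 0 → UP D (R.RNF (0) (0) (0) (0) (0) (0) (0) (0) (0) (0) (0) (0) (0) (0) (0) (0) (0) (0) (t51) (t59) (t61) (0) (0) (0) (0) (t54) (t63) (t64) (0) (0) (0) (t66) (t68) (0) (t70) (0))) :
    ∀ (t51 t59 t61 t54 t63 t64 t65 t66 t68 t70 : K), t51 ≠ 0 → UP D (R.RNF (0) (0) (0) (0) (0) (0) (0) (0) (0) (0) (0) (0) (0) (0) (0) (0) (0) (0) (t51) (t59) (t61) (0) (0) (0) (0) (t54) (t63) (t64) (0) (t65) (0) (t66) (t68) (0) (t70) (0)) := by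
  intro t51 t59 t61 t54 t63 t64 t65 t66 t68 t70 hn51 hu hne
  have hsq := hu
  rw [R.usq] at hsq
  obtain ⟨e36, e37, e39, e42, e46, e56, e38, e40, e43, e47, e57, e41, e44, e48, e50, e58, e45, e49, e51, e59, e61, e52, e53, e60, e62, e54, e63, e64, e55, e65, e67, e66, e68, e69, e70, e71⟩ := D.inj _ _ _ _ _ _ _ _ _ _ _ _ _ _ _ _ _ _ _ _ _ _ _ _ _ _ _ _ _ _ _ _ _ _ _ _ hsq
  have hz : t65 = 0 := by
    have h : t51 * t65 = 0 := by linear_combination e71
    exact (mul_eq_zero.mp h).resolve_left hn51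
  subst hz
  exact ih _ _ _ _ _ _ _ _ _ hn51 hu hne

theorem e6s18_10 (D : UData R)
    (ih : ∀ (t59 t61 t52 t53 t62 t65 t66 t68 t69 : K), t53 ≠ 0 → UP D (R.RNF (0) (0) (0) (0) (0) (0) (0) (0) (0) (0) (0) (0) (0) (0) (0) (0) (0) (0) (0) (t59) (t61) (t52) (t53) (0) (t62) (0) (0) (0) (0) (t65) (0) (t66) (t68) (t69) (0) (0))) :
    ∀ (t51 t59 t61 t54 t63 t64 t66 t68 t70 : K), t51 ≠ 0 → UP D (R.RNF (0) (0) (0) (0) (0) (0) (0) (0) (0) (0) (0) (0) (0) (0) (0) (0) (0) (0) (t51) (t59) (t61) (0) (0) (0) (0) (t54) (t63) (t64) (0) (0) (0) (t66) (t68) (0) (t70) (0)) := by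
  intro t51 t59 t61 t54 t63 t64 t66 t68 t70 hn51
  have h2 : (2 : K) = 0 := CharTwo.two_eq_zero
  have h4 : (4 : K) = 0 := by linear_combination 2 * h2
  have h6 : (6 : K) = 0 := by linear_combination 3 * h2
  have h8 : (8 : K) = 0 := by linear_combination 4 * h2
  have h10 : (10 : K) = 0 := by linear_combination 5 * h2
  have h12 : (12 : K) = 0 := by linear_combination 6 * h2
  have h14 : (14 : K) = 0 := by linear_combination 7 * h2
  have h16 : (16 : K) = 0 := by linear_combination 8 * h2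
  have h18 : (18 : K) = 0 := by linear_combination 9 * h2
  have h20 : (20 : K) = 0 := by linear_combination 10 * h2
  have h22 : (22 : K) = 0 := by linear_combination 11 * h2
  have h24 : (24 : K) = 0 := by linear_combination 12 * h2
  have h26 : (26 : K) = 0 := by linear_combination 13 * h2
  have h28 : (28 : K) = 0 := by linear_combination 14 * h2
  have h30 : (30 : K) = 0 := by linear_combination 15 * h2
  have h32 : (32 : K) = 0 := by linear_combination 16 * h2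
  have e : D.n4 * R.RNF (0) (0) (0) (0) (0) (0) (0) (0) (0) (0) (0) (0) (0) (0) (0) (0) (0) (0) (t51) (t59) (t61) (0) (0) (0) (0) (t54) (t63) (t64) (0) (0) (0) (t66) (t68) (0) (t70) (0) * D.n4⁻¹ =
      R.RNF (0) (0) (0) (0) (0) (0) (0) (0) (0) (0) (0) (0) (0) (0) (0) (0) (0) (0) (0) (t59) (t61) (t54) (t51) (0) (t64) (0) (0) (0) (0) (t63) (0) (t66) (t68) (t70) (0) (0) := by
    rw [D.toWeylE6.conj_n4]
    congr 1 <;> (first | rfl | ring1 | (rw [← sub_eq_zero]; ring_nf; simp only [h2, h4, h6, h8, h10, h12, h14, h16, h18, h20, h22, h24, h26, h28, h30, h32, mul_zero, zero_mul, add_zero, zero_add, neg_zero, sub_zero, sub_self]))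
  exact UP_n D D.n4_mem e (ih _ _ _ _ _ _ _ _ _ hn51)

theorem upiv18 (D : UData R)
    (ih : ∀ (t59 t61 t52 t53 t60 t62 t54 t63 t64 t55 t65 t67 t66 t68 t69 t70 t71 : K), UP D (R.RNF (0) (0) (0) (0) (0) (0) (0) (0) (0) (0) (0) (0) (0) (0) (0) (0) (0) (0) (0) (t59) (t61) (t52) (t53) (t60) (t62) (t54) (t63) (t64) (t55) (t65) (t67) (t66) (t68) (t69) (t70) (t71))) :
    ∀ (t51 t59 t61 t52 t53 t60 t62 t54 t63 t64 t55 t65 t67 t66 t68 t69 t70 t71 : K), UP D (R.RNF (0) (0) (0) (0) (0) (0) (0) (0) (0) (0) (0) (0) (0) (0) (0) (0) (0) (0) (t51) (t59) (t61) (t52) (t53) (t60) (t62) (t54) (t63) (t64) (t55) (t65) (t67) (t66) (t68) (t69) (t70) (t71)) := by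
  intro t51 t59 t61 t52 t53 t60 t62 t54 t63 t64 t55 t65 t67 t66 t68 t69 t70 t71
  by_cases h0 : t51 = 0
  · subst h0; exact ih _ _ _ _ _ _ _ _ _ _ _ _ _ _ _ _ _
  · exact (e6s18_1 D (e6s18_2 D (e6s18_3 D (e6s18_4 D (e6s18_5 D (e6s18_6 D (e6s18_7 D (e6s18_8 D (e6s18_9 D (e6s18_10 D (fun t59 t61 t52 t53 t62 t65 t66 t68 t69 _ => ih t59 t61 t52 t53 0 t62 0 0 0 0 t65 0 t66 t68 t69 0 0))))))))))) t51 t59 t61 t52 t53 t60 t62 t54 t63 t64 t55 t65 t67 t66 t68 t69 t70 t71 h0

end Cfsg.Agent.Helper4.E6Inv
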