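import Cfsg.Agent.Helper4.E6Inv.UFinT

/-! Generated: steps of the reduction of involutions in the unipotent group of `E₆`
(characteristic two). -/

set_option autoImplicit false
set_option maxHeartbeats 8000000
set_option maxRecDepth 100000
set_option linter.unusedSimpArgs false
set_option linter.unusedVariables false
set_option linter.unusedSectionVars false
set_option linter.unusedTactic false
set_option linter.unreachableTactic false

namespace Cfsg.Agent.Helper4.E6Inv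

variable {K Γ : Type*} [Field K] [Group Γ] {R : RelE6 K Γ} [CharP K 2]

theorem e6s2_1 (D : UData R)
    (ih : ∀ (t39 t46 t56 t38 t40 t43 t47 t57 t41 t44 t48 t50 t58 t45 t49 t51 t59 t61 t52 t53 t60 t62 t54 t63 t64 t55 t65 t67 t66 t68 t69 t70 t71 : K), t39 ≠ 0 → UP D (R.RNF (0) (0) (t39) (0) (t46) (t56) (t38) (t40) (t43) (t47) (t57) (t41) (t44) (t48) (t50) (t58) (t45) (t49) (t51) (t59) (t61) (t52) (t53) (t60) (t62) (t54) (t63) (t64) (t55) (t65) (t67) (t66) (t68) (t69) (t70) (t71))) :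
    ∀ (t39 t42 t46 t56 t38 t40 t43 t47 t57 t41 t44 t48 t50 t58 t45 t49 t51 t59 t61 t52 t53 t60 t62 t54 t63 t64 t55 t65 t67 t66 t68 t69 t70 t71 : K), t39 ≠ 0 → UP D (R.RNF (0) (0) (t39) (t42) (t46) (t56) (t38) (t40) (t43) (t47) (t57) (t41) (t44) (t48) (t50) (t58) (t45) (t49) (t51) (t59) (t61) (t52) (t53) (t60) (t62) (t54) (t63) (t64) (t55) (t65) (t67) (t66) (t68) (t69) (t70) (t71)) := by
  intro t39 t42 t46 t56 t38 t40 t43 t47 t57 t41 t44 t48 t50 t58 t45 t49 t51 t59 t61 t52 t53 t60 t62 t54 t63 t64 t55 t65 t67 t66 t68 t69 t70 t71 hn39 hu hne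
  have hsq := hu
  rw [R.usq] at hsq
  obtain ⟨e36, e37, e39, e42, e46, e56, e38, e40, e43, e47, e57, e41, e44, e48, e50, e58, e45, e49, e51, e59, e61, e52, e53, e60, e62, e54, e63, e64, e55, e65, e67, e66, e68, e69, e70, e71⟩ := D.inj _ _ _ _ _ _ _ _ _ _ _ _ _ _ _ _ _ _ _ _ _ _ _ _ _ _ _ _ _ _ _ _ _ _ _ _ hsq
  have hz : t42 = 0 := by
    have h : t39 * t42 = 0 := by linear_combination e43
    exact (mul_eq_zero.mp h).resolve_left hn39
  subst hz
  exact ih _ _ _ _ _ _ _ _ _ _ _ _ _ _ _ _ _ _ _ _ _ _ _ _ _ _ _ _ _ _ _ _ _ hn39 hu hne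

theorem e6s2_2 (D : UData R)
    (ih : ∀ (t39 t56 t38 t40 t43 t47 t57 t41 t44 t48 t50 t58 t45 t49 t51 t59 t61 t52 t53 t60 t62 t54 t63 t64 t55 t65 t67 t66 t68 t69 t70 t71 : K), t39 ≠ 0 → UP D (R.RNF (0) (0) (t39) (0) (0) (t56) (t38) (t40) (t43) (t47) (t57) (t41) (t44) (t48) (t50) (t58) (t45) (t49) (t51) (t59) (t61) (t52) (t53) (t60) (t62) (t54) (t63) (t64) (t55) (t65) (t67) (t66) (t68) (t69) (t70) (t71))) :
    ∀ (t39 t46 t56 t38 t40 t43 t47 t57 t41 t44 t48 t50 t58 t45 t49 t51 t59 t61 t52 t53 t60 t62 t54 t63 t64 t55 t65 t67 t66 t68 t69 t70 t71 : K), t39 ≠ 0 → UP D (R.RNF (0) (0) (t39) (0) (t46) (t56) (t38) (t40) (t43) (t47) (t57) (t41) (t44) (t48) (t50) (t58) (t45) (t49) (t51) (t59) (t61) (t52) (t53) (t60) (t62) (t54) (t63) (t64) (t55) (t65) (t67) (t66) (t68) (t69) (t70) (t71)) := by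
  intro t39 t46 t56 t38 t40 t43 t47 t57 t41 t44 t48 t50 t58 t45 t49 t51 t59 t61 t52 t53 t60 t62 t54 t63 t64 t55 t65 t67 t66 t68 t69 t70 t71 hn39 hu hne
  have hsq := hu
  rw [R.usq] at hsq
  obtain ⟨e36, e37, e39, e42, e46, e56, e38, e40, e43, e47, e57, e41, e44, e48, e50, e58, e45, e49, e51, e59, e61, e52, e53, e60, e62, e54, e63, e64, e55, e65, e67, e66, e68, e69, e70, e71⟩ := D.inj _ _ _ _ _ _ _ _ _ _ _ _ _ _ _ _ _ _ _ _ _ _ _ _ _ _ _ _ _ _ _ _ _ _ _ _ hsq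
  have hz : t46 = 0 := by
    have h : t39 * t46 = 0 := by linear_combination e47
    exact (mul_eq_zero.mp h).resolve_left hn39
  subst hz
  exact ih _ _ _ _ _ _ _ _ _ _ _ _ _ _ _ _ _ _ _ _ _ _ _ _ _ _ _ _ _ _ _ _ hn39 hu hne

theorem e6s2_3 (D : UData R)
    (ih : ∀ (t39 t56 t40 t43 t47 t57 t41 t44 t48 t50 t58 t45 t49 t51 t59 t61 t52 t53 t60 t62 t54 t63 t64 t55 t65 t67 t66 t68 t69 t70 t71 : K), t39 ≠ 0 → UP D (R.RNF (0) (0) (t39) (0) (0) (t56) (0) (t40) (t43) (t47) (t57) (t41) (t44) (t48) (t50) (t58) (t45) (t49) (t51) (t59) (t61) (t52) (t53) (t60) (t62) (t54) (t63) (t64) (t55) (t65) (t67) (t66) (t68) (t69) (t70) (t71))) :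
    ∀ (t39 t56 t38 t40 t43 t47 t57 t41 t44 t48 t50 t58 t45 t49 t51 t59 t61 t52 t53 t60 t62 t54 t63 t64 t55 t65 t67 t66 t68 t69 t70 t71 : K), t39 ≠ 0 → UP D (R.RNF (0) (0) (t39) (0) (0) (t56) (t38) (t40) (t43) (t47) (t57) (t41) (t44) (t48) (t50) (t58) (t45) (t49) (t51) (t59) (t61) (t52) (t53) (t60) (t62) (t54) (t63) (t64) (t55) (t65) (t67) (t66) (t68) (t69) (t70) (t71)) := by
  intro t39 t56 t38 t40 t43 t47 t57 t41 t44 t48 t50 t58 t45 t49 t51 t59 t61 t52 t53 t60 t62 t54 t63 t64 t55 t65 t67 t66 t68 t69 t70 t71 hn39 hu hne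
  have hsq := hu
  rw [R.usq] at hsq
  obtain ⟨e36, e37, e39, e42, e46, e56, e38, e40, e43, e47, e57, e41, e44, e48, e50, e58, e45, e49, e51, e59, e61, e52, e53, e60, e62, e54, e63, e64, e55, e65, e67, e66, e68, e69, e70, e71⟩ := D.inj _ _ _ _ _ _ _ _ _ _ _ _ _ _ _ _ _ _ _ _ _ _ _ _ _ _ _ _ _ _ _ _ _ _ _ _ hsq
  have hz : t38 = 0 := by
    have h : t39 * t38 = 0 := by linear_combination e41
    exact (mul_eq_zero.mp h).resolve_left hn39
  subst hz
  exact ih _ _ _ _ _ _ _ _ _ _ _ _ _ _ _ _ _ _ _ _ _ _ _ _ _ _ _ _ _ _ _ hn39 hu hne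

theorem e6s2_4 (D : UData R)
    (ih : ∀ (t39 t56 t43 t47 t57 t41 t44 t48 t50 t58 t45 t49 t51 t59 t61 t52 t53 t60 t62 t54 t63 t64 t55 t65 t67 t66 t68 t69 t70 t71 : K), t39 ≠ 0 → UP D (R.RNF (0) (0) (t39) (0) (0) (t56) (0) (0) (t43) (t47) (t57) (t41) (t44) (t48) (t50) (t58) (t45) (t49) (t51) (t59) (t61) (t52) (t53) (t60) (t62) (t54) (t63) (t64) (t55) (t65) (t67) (t66) (t68) (t69) (t70) (t71))) :
    ∀ (t39 t56 t40 t43 t47 t57 t41 t44 t48 t50 t58 t45 t49 t51 t59 t61 t52 t53 t60 t62 t54 t63 t64 t55 t65 t67 t66 t68 t69 t70 t71 : K), t39 ≠ 0 → UP D (R.RNF (0) (0) (t39) (0) (0) (t56) (0) (t40) (t43) (t47) (t57) (t41) (t44) (t48) (t50) (t58) (t45) (t49) (t51) (t59) (t61) (t52) (t53) (t60) (t62) (t54) (t63) (t64) (t55) (t65) (t67) (t66) (t68) (t69) (t70) (t71)) := by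
  intro t39 t56 t40 t43 t47 t57 t41 t44 t48 t50 t58 t45 t49 t51 t59 t61 t52 t53 t60 t62 t54 t63 t64 t55 t65 t67 t66 t68 t69 t70 t71 hn39
  have h2 : (2 : K) = 0 := CharTwo.two_eq_zero
  have h4 : (4 : K) = 0 := by linear_combination 2 * h2
  have h6 : (6 : K) = 0 := by linear_combination 3 * h2
  have h8 : (8 : K) = 0 := by linear_combination 4 * h2
  have h10 : (10 : K) = 0 := by linear_combination 5 * h2
  have h12 : (12 : K) = 0 := by linear_combination 6 * h2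
  have h14 : (14 : K) = 0 := by linear_combination 7 * h2
  have h16 : (16 : K) = 0 := by linear_combination 8 * h2
  have h18 : (18 : K) = 0 := by linear_combination 9 * h2
  have h20 : (20 : K) = 0 := by linear_combination 10 * h2
  have h22 : (22 : K) = 0 := by linear_combination 11 * h2
  have h24 : (24 : K) = 0 := by linear_combination 12 * h2
  have h26 : (26 : K) = 0 := by linear_combination 13 * h2
  have h28 : (28 : K) = 0 := by linear_combination 14 * h2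
  have h30 : (30 : K) = 0 := by linear_combination 15 * h2
  have h32 : (32 : K) = 0 := by linear_combination 16 * h2
  obtain ⟨c, rfl⟩ : ∃ c, t40 = c * t39 := ⟨t40 / t39, by field_simp⟩
  have e : R.X37 c * R.RNF (0) (0) (t39) (0) (0) (t56) (0) (c * t39) (t43) (t47) (t57) (t41) (t44) (t48) (t50) (t58) (t45) (t49) (t51) (t59) (t61) (t52) (t53) (t60) (t62) (t54) (t63) (t64) (t55) (t65) (t67) (t66) (t68) (t69) (t70) (t71) * R.X37 c =
      R.RNF (0) (0) (t39) (0) (0) (t56) (0) (0) (t43) (t47) (t57) (t41) (c * t43 + t44) (c * t47 + t48) (t50) (t58) (t45) (t49) (c * t50 + t51) (c * t58 + t59) (t61) (t52) (c * t43 * t47 + t53) (t60) (c * t47 * t57 + c * t61 + t62) (t54) (t63) (t64) (c * t54 + t55) (t65) (c * t43 * t47 * t57 + c * t50 * t58 + t67) (c * t41 * t47 * t57 + c * t49 * t58 + c * t65 + t66) (t68) (c * t45 * t47 * t57 + c * t68 + t69) (c * t41 * t43 * t47 * t57 + t70) (c * t41 * t47 * t50 * t57 + c *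 t43 * t47 * t49 * t57 + c * t49 * t50 * t58 + t71) := by
    rw [R.ucj37]
    congr 1 <;> (first | rfl | ring1 | (rw [← sub_eq_zero]; ring_nf; simp only [h2, h4, h6, h8, h10, h12, h14, h16, h18, h20, h22, h24, h26, h28, h30, h32, mul_zero, zero_mul, add_zero, zero_add, neg_zero, sub_zero, sub_self]))
  exact UP_cj D (D.xmem37 c) (R.inv37 c) e (ih _ _ _ _ _ _ _ _ _ _ _ _ _ _ _ _ _ _ _ _ _ _ _ _ _ _ _ _ _ _ hn39)

theorem e6s2_5 (D : UData R)
    (ih : ∀ (t39 t56 t47 t57 t41 t44 t48 t50 t58 t45 t49 t51 t59 t61 t52 t53 t60 t62 t54 t63 t64 t55 t65 t67 t66 t68 t69 t70 t71 : K), t39 ≠ 0 → UP D (R.RNF (0) (0) (t39) (0) (0) (t56) (0) (0) (0) (t47) (t57) (t41) (t44) (t48) (t50) (t58) (t45) (t49) (t51) (t59) (t61) (t52) (t53) (t60) (t62) (t54) (t63) (t64) (t55) (t65) (t67) (t66) (t68) (t69) (t70) (t71))) :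
    ∀ (t39 t56 t43 t47 t57 t41 t44 t48 t50 t58 t45 t49 t51 t59 t61 t52 t53 t60 t62 t54 t63 t64 t55 t65 t67 t66 t68 t69 t70 t71 : K), t39 ≠ 0 → UP D (R.RNF (0) (0) (t39) (0) (0) (t56) (0) (0) (t43) (t47) (t57) (t41) (t44) (t48) (t50) (t58) (t45) (t49) (t51) (t59) (t61) (t52) (t53) (t60) (t62) (t54) (t63) (t64) (t55) (t65) (t67) (t66) (t68) (t69) (t70) (t71)) := by
  intro t39 t56 t43 t47 t57 t41 t44 t48 t50 t58 t45 t49 t51 t59 t61 t52 t53 t60 t62 t54 t63 t64 t55 t65 t67 t66 t68 t69 t70 t71 hn39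
  have h2 : (2 : K) = 0 := CharTwo.two_eq_zero
  have h4 : (4 : K) = 0 := by linear_combination 2 * h2
  have h6 : (6 : K) = 0 := by linear_combination 3 * h2
  have h8 : (8 : K) = 0 := by linear_combination 4 * h2
  have h10 : (10 : K) = 0 := by linear_combination 5 * h2
  have h12 : (12 : K) = 0 := by linear_combination 6 * h2
  have h14 : (14 : K) = 0 := by linear_combination 7 * h2
  have h16 : (16 : K) = 0 := by linear_combination 8 * h2
  have h18 : (18 : K) = 0 := by linear_combination 9 * h2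
  have h20 : (20 : K) = 0 := by linear_combination 10 * h2
  have h22 : (22 : K) = 0 := by linear_combination 11 * h2
  have h24 : (24 : K) = 0 := by linear_combination 12 * h2
  have h26 : (26 : K) = 0 := by linear_combination 13 * h2
  have h28 : (28 : K) = 0 := by linear_combination 14 * h2
  have h30 : (30 : K) = 0 := by linear_combination 15 * h2
  have h32 : (32 : K) = 0 := by linear_combination 16 * h2
  obtain ⟨c, rfl⟩ : ∃ c, t43 = c * t39 := ⟨t43 / t39, by field_simp⟩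
  have e : R.X42 c * R.RNF (0) (0) (t39) (0) (0) (t56) (0) (0) (c * t39) (t47) (t57) (t41) (t44) (t48) (t50) (t58) (t45) (t49) (t51) (t59) (t61) (t52) (t53) (t60) (t62) (t54) (t63) (t64) (t55) (t65) (t67) (t66) (t68) (t69) (t70) (t71) * R.X42 c =
      R.RNF (0) (0) (t39) (0) (0) (t56) (0) (0) (0) (t47) (c * t56 + t57) (t41) (t44) (t48) (c * t47 + t50) (c * t39 * t56 + t58) (c * t41 + t45) (t49) (c * t48 + t51) (t59) (c * t47 * t56 + t61) (c * t49 + t52) (t53) (t60) (t62) (c * t41 * t47 + t54) (t63) (c * t39 * t48 * t56 + t64) (c * t41 * t48 + t55) (c * t41 * t47 * t56 + t65) (c * t44 * t47 * t56 + c * t48 * t58 + c * t64 + t67) (t66) (c * t45 * t47 * t56 + c * t65 + c ^ 2 * t41 * t47 * t56 + t68) (c * t49 * t59 + c * t66 + t69) (c * t39 * t45 * t48 * t56 + c * t41 * t44 * t47 * t56 + c * t41 * t47 * t59 + c * t41 * t48 * t58 + c ^ 2 * t39 * t41 * t48 * t56 + t70) (c * t39 * t48 * t52 * t56 + c * t41 *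 t47 * t51 * t56 + c * t41 * t47 * t62 + c * t41 * t48 * t61 + c * t44 * t47 * t49 * t56 + c * t48 * t49 * t58 + c ^ 2 * t39 * t48 * t49 * t56 + c ^ 2 * t41 * t47 * t48 * t56 + t71) := by
    rw [R.ucj42]
    congr 1 <;> (first | rfl | ring1 | (rw [← sub_eq_zero]; ring_nf; simp only [h2, h4, h6, h8, h10, h12, h14, h16, h18, h20, h22, h24, h26, h28, h30, h32, mul_zero, zero_mul, add_zero, zero_add, neg_zero, sub_zero, sub_self]))
  exact UP_cj D (D.xmem42 c) (R.inv42 c) e (ih _ _ _ _ _ _ _ _ _ _ _ _ _ _ _ _ _ _ _ _ _ _ _ _ _ _ _ _ _ hn39)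

theorem e6s2_6 (D : UData R)
    (ih : ∀ (t39 t56 t57 t41 t44 t48 t50 t58 t45 t49 t51 t59 t61 t52 t53 t60 t62 t54 t63 t64 t55 t65 t67 t66 t68 t69 t70 t71 : K), t39 ≠ 0 → UP D (R.RNF (0) (0) (t39) (0) (0) (t56) (0) (0) (0) (0) (t57) (t41) (t44) (t48) (t50) (t58) (t45) (t49) (t51) (t59) (t61) (t52) (t53) (t60) (t62) (t54) (t63) (t64) (t55) (t65) (t67) (t66) (t68) (t69) (t70) (t71))) :
    ∀ (t39 t56 t47 t57 t41 t44 t48 t50 t58 t45 t49 t51 t59 t61 t52 t53 t60 t62 t54 t63 t64 t55 t65 t67 t66 t68 t69 t70 t71 : K), t39 ≠ 0 → UP D (R.RNF (0) (0) (t39) (0) (0) (t56) (0) (0) (0) (t47) (t57) (t41) (t44) (t48) (t50) (t58) (t45) (t49) (t51) (t59) (t61) (t52) (t53) (t60) (t62) (t54) (t63) (t64) (t55) (t65) (t67) (t66) (t68) (t69) (t70) (t71)) := by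
  intro t39 t56 t47 t57 t41 t44 t48 t50 t58 t45 t49 t51 t59 t61 t52 t53 t60 t62 t54 t63 t64 t55 t65 t67 t66 t68 t69 t70 t71 hn39
  have h2 : (2 : K) = 0 := CharTwo.two_eq_zero
  have h4 : (4 : K) = 0 := by linear_combination 2 * h2
  have h6 : (6 : K) = 0 := by linear_combination 3 * h2
  have h8 : (8 : K) = 0 := by linear_combination 4 * h2
  have h10 : (10 : K) = 0 := by linear_combination 5 * h2
  have h12 : (12 : K) = 0 := by linear_combination 6 * h2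
  have h14 : (14 : K) = 0 := by linear_combination 7 * h2
  have h16 : (16 : K) = 0 := by linear_combination 8 * h2
  have h18 : (18 : K) = 0 := by linear_combination 9 * h2
  have h20 : (20 : K) = 0 := by linear_combination 10 * h2
  have h22 : (22 : K) = 0 := by linear_combination 11 * h2
  have h24 : (24 : K) = 0 := by linear_combination 12 * h2
  have h26 : (26 : K) = 0 := by linear_combination 13 * h2
  have h28 : (28 : K) = 0 := by linear_combination 14 * h2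
  have h30 : (30 : K) = 0 := by linear_combination 15 * h2
  have h32 : (32 : K) = 0 := by linear_combination 16 * h2
  obtain ⟨c, rfl⟩ : ∃ c, t47 = c * t39 := ⟨t47 / t39, by field_simp⟩
  have e : R.X46 c * R.RNF (0) (0) (t39) (0) (0) (t56) (0) (0) (0) (c * t39) (t57) (t41) (t44) (t48) (t50) (t58) (t45) (t49) (t51) (t59) (t61) (t52) (t53) (t60) (t62) (t54) (t63) (t64) (t55) (t65) (t67) (t66) (t68) (t69) (t70) (t71) * R.X46 c =
      R.RNF (0) (0) (t39) (0) (0) (t56) (0) (0) (0) (0) (t57) (t41) (t44) (t48) (t50) (t58) (t45) (c * t41 + t49) (c * t44 + t51) (t59) (c * t58 + t61) (c * t45 + t52) (t53) (t60) (c * t59 + t62) (t54) (c * t60 + t63) (t64) (c * t41 * t44 + t55) (c * t41 * t58 + t65) (c * t44 * t58 + t67) (t66) (c * t45 * t58 + t68) (c * t45 * t59 + t69) (c * t41 * t44 * t58 + t70) (c * t41 * t44 * t61 + c * t41 * t51 * t58 + c * t44 * t49 * t58 + c * t70 + t71) := by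
    rw [R.ucj46]
    congr 1 <;> (first | rfl | ring1 | (rw [← sub_eq_zero]; ring_nf; simp only [h2, h4, h6, h8, h10, h12, h14, h16, h18, h20, h22, h24, h26, h28, h30, h32, mul_zero, zero_mul, add_zero, zero_add, neg_zero, sub_zero, sub_self]))
  exact UP_cj D (D.xmem46 c) (R.inv46 c) e (ih _ _ _ _ _ _ _ _ _ _ _ _ _ _ _ _ _ _ _ _ _ _ _ _ _ _ _ _ hn39)

theorem e6s2_7 (D : UData R)
    (ih : ∀ (t39 t56 t57 t44 t48 t50 t58 t45 t49 t51 t59 t61 t52 t53 t60 t62 t54 t63 t64 t55 t65 t67 t66 t68 t69 t70 t71 : K), t39 ≠ 0 → UP D (R.RNF (0) (0) (t39) (0) (0) (t56) (0) (0) (0) (0) (t57) (0) (t44) (t48) (t50) (t58) (t45) (t49) (t51) (t59) (t61) (t52) (t53) (t60) (t62) (t54) (t63) (t64) (t55) (t65) (t67) (t66) (t68) (t69) (t70) (t71))) :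
    ∀ (t39 t56 t57 t41 t44 t48 t50 t58 t45 t49 t51 t59 t61 t52 t53 t60 t62 t54 t63 t64 t55 t65 t67 t66 t68 t69 t70 t71 : K), t39 ≠ 0 → UP D (R.RNF (0) (0) (t39) (0) (0) (t56) (0) (0) (0) (0) (t57) (t41) (t44) (t48) (t50) (t58) (t45) (t49) (t51) (t59) (t61) (t52) (t53) (t60) (t62) (t54) (t63) (t64) (t55) (t65) (t67) (t66) (t68) (t69) (t70) (t71)) := by
  intro t39 t56 t57 t41 t44 t48 t50 t58 t45 t49 t51 t59 t61 t52 t53 t60 t62 t54 t63 t64 t55 t65 t67 t66 t68 t69 t70 t71 hn39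
  have h2 : (2 : K) = 0 := CharTwo.two_eq_zero
  have h4 : (4 : K) = 0 := by linear_combination 2 * h2
  have h6 : (6 : K) = 0 := by linear_combination 3 * h2
  have h8 : (8 : K) = 0 := by linear_combination 4 * h2
  have h10 : (10 : K) = 0 := by linear_combination 5 * h2
  have h12 : (12 : K) = 0 := by linear_combination 6 * h2
  have h14 : (14 : K) = 0 := by linear_combination 7 * h2
  have h16 : (16 : K) = 0 := by linear_combination 8 * h2
  have h18 : (18 : K) = 0 := by linear_combination 9 * h2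
  have h20 : (20 : K) = 0 := by linear_combination 10 * h2
  have h22 : (22 : K) = 0 := by linear_combination 11 * h2
  have h24 : (24 : K) = 0 := by linear_combination 12 * h2
  have h26 : (26 : K) = 0 := by linear_combination 13 * h2
  have h28 : (28 : K) = 0 := by linear_combination 14 * h2
  have h30 : (30 : K) = 0 := by linear_combination 15 * h2
  have h32 : (32 : K) = 0 := by linear_combination 16 * h2
  obtain ⟨c, rfl⟩ : ∃ c, t41 = c * t39 := ⟨t41 / t39, by field_simp⟩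
  have e : R.X38 c * R.RNF (0) (0) (t39) (0) (0) (t56) (0) (0) (0) (0) (t57) (c * t39) (t44) (t48) (t50) (t58) (t45) (t49) (t51) (t59) (t61) (t52) (t53) (t60) (t62) (t54) (t63) (t64) (t55) (t65) (t67) (t66) (t68) (t69) (t70) (t71) * R.X38 c =
      R.RNF (0) (0) (t39) (0) (0) (t56) (0) (0) (0) (0) (t57) (0) (t44) (t48) (t50) (t58) (t45) (t49) (t51) (t59) (t61) (c * t50 + t52) (t53) (c * t39 * t57 + c * t58 + t60) (t62) (t54) (c * t61 + t63) (t64) (c * t53 + t55) (t65) (t67) (c * t39 * t48 * t57 + c * t64 + t66) (c * t39 * t50 * t57 + c * t50 * t58 + t68) (c * t39 * t51 * t57 + c * t50 * t59 + c * t51 * t58 + c * t67 + t69) (c * t39 * t53 * t57 + c * t53 * t58 + t70) (c * t39 * t48 * t50 * t57 + c * t53 * t61 + t71) := by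
    rw [R.ucj38]
    congr 1 <;> (first | rfl | ring1 | (rw [← sub_eq_zero]; ring_nf; simp only [h2, h4, h6, h8, h10, h12, h14, h16, h18, h20, h22, h24, h26, h28, h30, h32, mul_zero, zero_mul, add_zero, zero_add, neg_zero, sub_zero, sub_self]))
  exact UP_cj D (D.xmem38 c) (R.inv38 c) e (ih _ _ _ _ _ _ _ _ _ _ _ _ _ _ _ _ _ _ _ _ _ _ _ _ _ _ _ hn39)

theorem e6s2_8 (D : UData R)
    (ih : ∀ (t39 t56 t57 t44 t48 t50 t45 t49 t51 t59 t61 t52 t53 t60 t62 t54 t63 t64 t55 t65 t67 t66 t68 t69 t70 t71 : K), t39 ≠ 0 → UP D (R.RNF (0) (0) (t39) (0) (0) (t56) (0) (0) (0) (0) (t57) (0) (t44) (t48) (t50) (0) (t45) (t49) (t51) (t59) (t61) (t52) (t53) (t60) (t62) (t54) (t63) (t64) (t55) (t65) (t67) (t66) (t68) (t69) (t70) (t71))) :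
    ∀ (t39 t56 t57 t44 t48 t50 t58 t45 t49 t51 t59 t61 t52 t53 t60 t62 t54 t63 t64 t55 t65 t67 t66 t68 t69 t70 t71 : K), t39 ≠ 0 → UP D (R.RNF (0) (0) (t39) (0) (0) (t56) (0) (0) (0) (0) (t57) (0) (t44) (t48) (t50) (t58) (t45) (t49) (t51) (t59) (t61) (t52) (t53) (t60) (t62) (t54) (t63) (t64) (t55) (t65) (t67) (t66) (t68) (t69) (t70) (t71)) := by
  intro t39 t56 t57 t44 t48 t50 t58 t45 t49 t51 t59 t61 t52 t53 t60 t62 t54 t63 t64 t55 t65 t67 t66 t68 t69 t70 t71 hn39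
  have h2 : (2 : K) = 0 := CharTwo.two_eq_zero
  have h4 : (4 : K) = 0 := by linear_combination 2 * h2
  have h6 : (6 : K) = 0 := by linear_combination 3 * h2
  have h8 : (8 : K) = 0 := by linear_combination 4 * h2
  have h10 : (10 : K) = 0 := by linear_combination 5 * h2
  have h12 : (12 : K) = 0 := by linear_combination 6 * h2
  have h14 : (14 : K) = 0 := by linear_combination 7 * h2
  have h16 : (16 : K) = 0 := by linear_combination 8 * h2
  have h18 : (18 : K) = 0 := by linear_combination 9 * h2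
  have h20 : (20 : K) = 0 := by linear_combination 10 * h2
  have h22 : (22 : K) = 0 := by linear_combination 11 * h2
  have h24 : (24 : K) = 0 := by linear_combination 12 * h2
  have h26 : (26 : K) = 0 := by linear_combination 13 * h2
  have h28 : (28 : K) = 0 := by linear_combination 14 * h2
  have h30 : (30 : K) = 0 := by linear_combination 15 * h2
  have h32 : (32 : K) = 0 := by linear_combination 16 * h2
  obtain ⟨c, rfl⟩ : ∃ c, t58 = c * t39 := ⟨t58 / t39, by field_simp⟩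
  have e : R.X57 c * R.RNF (0) (0) (t39) (0) (0) (t56) (0) (0) (0) (0) (t57) (0) (t44) (t48) (t50) (c * t39) (t45) (t49) (t51) (t59) (t61) (t52) (t53) (t60) (t62) (t54) (t63) (t64) (t55) (t65) (t67) (t66) (t68) (t69) (t70) (t71) * R.X57 c =
      R.RNF (0) (0) (t39) (0) (0) (t56) (0) (0) (0) (0) (t57) (0) (t44) (t48) (t50) (0) (t45) (t49) (t51) (t59) (t61) (t52) (t53) (t60) (c * t48 + t62) (t54) (c * t49 + t63) (c * t39 * t48 + t64) (t55) (t65) (c * t53 + t67) (t66) (c * t54 + t68) (c * t45 * t48 + c * t55 + t69) (c * t39 * t45 * t48 + t70) (c * t39 * t48 * t52 + c * t49 * t53 + t71) := by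
    rw [R.ucj57]
    congr 1 <;> (first | rfl | ring1 | (rw [← sub_eq_zero]; ring_nf; simp only [h2, h4, h6, h8, h10, h12, h14, h16, h18, h20, h22, h24, h26, h28, h30, h32, mul_zero, zero_mul, add_zero, zero_add, neg_zero, sub_zero, sub_self]))
  exact UP_cj D (D.xmem57 c) (R.inv57 c) e (ih _ _ _ _ _ _ _ _ _ _ _ _ _ _ _ _ _ _ _ _ _ _ _ _ _ _ hn39)

theorem e6s2_9 (D : UData R)
    (ih : ∀ (t39 t56 t57 t44 t48 t50 t45 t49 t51 t59 t61 t52 t60 t62 t54 t63 t64 t55 t65 t67 t66 t68 t69 t70 t71 : K), t39 ≠ 0 → UP D (R.RNF (0) (0) (t39) (0) (0) (t56) (0) (0) (0) (0) (t57) (0) (t44) (t48) (t50) (0) (t45) (t49) (t51) (t59) (t61) (t52) (0) (t60) (t62) (t54) (t63) (t64) (t55) (t65) (t67) (t66) (t68) (t69) (t70) (t71))) :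
    ∀ (t39 t56 t57 t44 t48 t50 t45 t49 t51 t59 t61 t52 t53 t60 t62 t54 t63 t64 t55 t65 t67 t66 t68 t69 t70 t71 : K), t39 ≠ 0 → UP D (R.RNF (0) (0) (t39) (0) (0) (t56) (0) (0) (0) (0) (t57) (0) (t44) (t48) (t50) (0) (t45) (t49) (t51) (t59) (t61) (t52) (t53) (t60) (t62) (t54) (t63) (t64) (t55) (t65) (t67) (t66) (t68) (t69) (t70) (t71)) := by
  intro t39 t56 t57 t44 t48 t50 t45 t49 t51 t59 t61 t52 t53 t60 t62 t54 t63 t64 t55 t65 t67 t66 t68 t69 t70 t71 hn39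
  have h2 : (2 : K) = 0 := CharTwo.two_eq_zero
  have h4 : (4 : K) = 0 := by linear_combination 2 * h2
  have h6 : (6 : K) = 0 := by linear_combination 3 * h2
  have h8 : (8 : K) = 0 := by linear_combination 4 * h2
  have h10 : (10 : K) = 0 := by linear_combination 5 * h2
  have h12 : (12 : K) = 0 := by linear_combination 6 * h2
  have h14 : (14 : K) = 0 := by linear_combination 7 * h2
  have h16 : (16 : K) = 0 := by linear_combination 8 * h2
  have h18 : (18 : K) = 0 := by linear_combination 9 * h2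
  have h20 : (20 : K) = 0 := by linear_combination 10 * h2
  have h22 : (22 : K) = 0 := by linear_combination 11 * h2
  have h24 : (24 : K) = 0 := by linear_combination 12 * h2
  have h26 : (26 : K) = 0 := by linear_combination 13 * h2
  have h28 : (28 : K) = 0 := by linear_combination 14 * h2
  have h30 : (30 : K) = 0 := by linear_combination 15 * h2
  have h32 : (32 : K) = 0 := by linear_combination 16 * h2
  obtain ⟨c, rfl⟩ : ∃ c, t53 = c * t39 := ⟨t53 / t39, by field_simp⟩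
  have e : R.X51 c * R.RNF (0) (0) (t39) (0) (0) (t56) (0) (0) (0) (0) (t57) (0) (t44) (t48) (t50) (0) (t45) (t49) (t51) (t59) (t61) (t52) (c * t39) (t60) (t62) (t54) (t63) (t64) (t55) (t65) (t67) (t66) (t68) (t69) (t70) (t71) * R.X51 c =
      R.RNF (0) (0) (t39) (0) (0) (t56) (0) (0) (0) (0) (t57) (0) (t44) (t48) (t50) (0) (t45) (t49) (t51) (t59) (t61) (t52) (0) (t60) (c * t56 + t62) (t54) (t63) (c * t39 * t56 + t64) (t55) (t65) (c * t39 * t57 + t67) (t66) (t68) (c * t45 * t56 + c * t60 + t69) (c * t39 * t45 * t56 + t70) (c * t39 * t49 * t57 + c * t39 * t52 * t56 + c * t65 + t71) := by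
    rw [R.ucj51]
    congr 1 <;> (first | rfl | ring1 | (rw [← sub_eq_zero]; ring_nf; simp only [h2, h4, h6, h8, h10, h12, h14, h16, h18, h20, h22, h24, h26, h28, h30, h32, mul_zero, zero_mul, add_zero, zero_add, neg_zero, sub_zero, sub_self]))
  exact UP_cj D (D.xmem51 c) (R.inv51 c) e (ih _ _ _ _ _ _ _ _ _ _ _ _ _ _ _ _ _ _ _ _ _ _ _ _ _ hn39)

theorem e6s2_10 (D : UData R)
    (ih : ∀ (t39 t56 t57 t44 t48 t50 t45 t49 t51 t59 t61 t52 t60 t62 t63 t64 t55 t65 t67 t66 t68 t69 t70 t71 : K), t39 ≠ 0 → UP D (R.RNF (0) (0) (t39) (0) (0) (t56) (0) (0) (0) (0) (t57) (0) (t44) (t48) (t50) (0) (t45) (t49) (t51) (t59) (t61) (t52) (0) (t60) (t62) (0) (t63) (t64) (t55) (t65) (t67) (t66) (t68) (t69) (t70) (t71))) :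
    ∀ (t39 t56 t57 t44 t48 t50 t45 t49 t51 t59 t61 t52 t60 t62 t54 t63 t64 t55 t65 t67 t66 t68 t69 t70 t71 : K), t39 ≠ 0 → UP D (R.RNF (0) (0) (t39) (0) (0) (t56) (0) (0) (0) (0) (t57) (0) (t44) (t48) (t50) (0) (t45) (t49) (t51) (t59) (t61) (t52) (0) (t60) (t62) (t54) (t63) (t64) (t55) (t65) (t67) (t66) (t68) (t69) (t70) (t71)) := by
  intro t39 t56 t57 t44 t48 t50 t45 t49 t51 t59 t61 t52 t60 t62 t54 t63 t64 t55 t65 t67 t66 t68 t69 t70 t71 hn39
  have h2 : (2 : K) = 0 := CharTwo.two_eq_zero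
  have h4 : (4 : K) = 0 := by linear_combination 2 * h2
  have h6 : (6 : K) = 0 := by linear_combination 3 * h2
  have h8 : (8 : K) = 0 := by linear_combination 4 * h2
  have h10 : (10 : K) = 0 := by linear_combination 5 * h2
  have h12 : (12 : K) = 0 := by linear_combination 6 * h2
  have h14 : (14 : K) = 0 := by linear_combination 7 * h2
  have h16 : (16 : K) = 0 := by linear_combination 8 * h2
  have h18 : (18 : K) = 0 := by linear_combination 9 * h2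
  have h20 : (20 : K) = 0 := by linear_combination 10 * h2
  have h22 : (22 : K) = 0 := by linear_combination 11 * h2
  have h24 : (24 : K) = 0 := by linear_combination 12 * h2
  have h26 : (26 : K) = 0 := by linear_combination 13 * h2
  have h28 : (28 : K) = 0 := by linear_combination 14 * h2
  have h30 : (30 : K) = 0 := by linear_combination 15 * h2
  have h32 : (32 : K) = 0 := by linear_combination 16 * h2
  obtain ⟨c, rfl⟩ : ∃ c, t54 = c * t39 := ⟨t54 / t39, by field_simp⟩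
  have e : R.X52 c * R.RNF (0) (0) (t39) (0) (0) (t56) (0) (0) (0) (0) (t57) (0) (t44) (t48) (t50) (0) (t45) (t49) (t51) (t59) (t61) (t52) (0) (t60) (t62) (c * t39) (t63) (t64) (t55) (t65) (t67) (t66) (t68) (t69) (t70) (t71) * R.X52 c =
      R.RNF (0) (0) (t39) (0) (0) (t56) (0) (0) (0) (0) (t57) (0) (t44) (t48) (t50) (0) (t45) (t49) (t51) (t59) (t61) (t52) (0) (t60) (t62) (0) (c * t56 + t63) (t64) (t55) (c * t39 * t56 + t65) (t67) (t66) (c * t39 * t57 + t68) (c * t44 * t56 + c * t59 + t69) (c * t39 * t44 * t56 + c * t39 * t59 + t70) (c * t39 * t48 * t57 + c * t39 * t51 * t56 + c * t39 * t62 + c * t64 + t71) := by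
    rw [R.ucj52]
    congr 1 <;> (first | rfl | ring1 | (rw [← sub_eq_zero]; ring_nf; simp only [h2, h4, h6, h8, h10, h12, h14, h16, h18, h20, h22, h24, h26, h28, h30, h32, mul_zero, zero_mul, add_zero, zero_add, neg_zero, sub_zero, sub_self]))
  exact UP_cj D (D.xmem52 c) (R.inv52 c) e (ih _ _ _ _ _ _ _ _ _ _ _ _ _ _ _ _ _ _ _ _ _ _ _ _ hn39)

theorem e6s2_11 (D : UData R)
    (ih : ∀ (t39 t56 t57 t44 t48 t50 t45 t49 t51 t59 t61 t52 t60 t62 t63 t55 t65 t67 t66 t68 t69 t70 t71 : K), t39 ≠ 0 → UP D (R.RNF (0) (0) (t39) (0) (0) (t56) (0) (0) (0) (0) (t57) (0) (t44) (t48) (t50) (0) (t45) (t49) (t51) (t59) (t61) (t52) (0) (t60) (t62) (0) (t63) (0) (t55) (t65) (t67) (t66) (t68) (t69) (t70) (t71))) :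
    ∀ (t39 t56 t57 t44 t48 t50 t45 t49 t51 t59 t61 t52 t60 t62 t63 t64 t55 t65 t67 t66 t68 t69 t70 t71 : K), t39 ≠ 0 → UP D (R.RNF (0) (0) (t39) (0) (0) (t56) (0) (0) (0) (0) (t57) (0) (t44) (t48) (t50) (0) (t45) (t49) (t51) (t59) (t61) (t52) (0) (t60) (t62) (0) (t63) (t64) (t55) (t65) (t67) (t66) (t68) (t69) (t70) (t71)) := by
  intro t39 t56 t57 t44 t48 t50 t45 t49 t51 t59 t61 t52 t60 t62 t63 t64 t55 t65 t67 t66 t68 t69 t70 t71 hn39
  have h2 : (2 : K) = 0 := CharTwo.two_eq_zero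
  have h4 : (4 : K) = 0 := by linear_combination 2 * h2
  have h6 : (6 : K) = 0 := by linear_combination 3 * h2
  have h8 : (8 : K) = 0 := by linear_combination 4 * h2
  have h10 : (10 : K) = 0 := by linear_combination 5 * h2
  have h12 : (12 : K) = 0 := by linear_combination 6 * h2
  have h14 : (14 : K) = 0 := by linear_combination 7 * h2
  have h16 : (16 : K) = 0 := by linear_combination 8 * h2
  have h18 : (18 : K) = 0 := by linear_combination 9 * h2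
  have h20 : (20 : K) = 0 := by linear_combination 10 * h2
  have h22 : (22 : K) = 0 := by linear_combination 11 * h2
  have h24 : (24 : K) = 0 := by linear_combination 12 * h2
  have h26 : (26 : K) = 0 := by linear_combination 13 * h2
  have h28 : (28 : K) = 0 := by linear_combination 14 * h2
  have h30 : (30 : K) = 0 := by linear_combination 15 * h2
  have h32 : (32 : K) = 0 := by linear_combination 16 * h2
  obtain ⟨c, rfl⟩ : ∃ c, t64 = c * t39 := ⟨t64 / t39, by field_simp⟩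
  have e : R.X62 c * R.RNF (0) (0) (t39) (0) (0) (t56) (0) (0) (0) (0) (t57) (0) (t44) (t48) (t50) (0) (t45) (t49) (t51) (t59) (t61) (t52) (0) (t60) (t62) (0) (t63) (c * t39) (t55) (t65) (t67) (t66) (t68) (t69) (t70) (t71) * R.X62 c =
      R.RNF (0) (0) (t39) (0) (0) (t56) (0) (0) (0) (0) (t57) (0) (t44) (t48) (t50) (0) (t45) (t49) (t51) (t59) (t61) (t52) (0) (t60) (t62) (0) (t63) (0) (t55) (t65) (t67) (t66) (t68) (c * t45 + t69) (c * t39 * t45 + t70) (c * t39 * t52 + t71) := by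
    rw [R.ucj62]
    congr 1 <;> (first | rfl | ring1 | (rw [← sub_eq_zero]; ring_nf; simp only [h2, h4, h6, h8, h10, h12, h14, h16, h18, h20, h22, h24, h26, h28, h30, h32, mul_zero, zero_mul, add_zero, zero_add, neg_zero, sub_zero, sub_self]))
  exact UP_cj D (D.xmem62 c) (R.inv62 c) e (ih _ _ _ _ _ _ _ _ _ _ _ _ _ _ _ _ _ _ _ _ _ _ _ hn39)

theorem e6s2_12 (D : UData R)
    (ih : ∀ (t39 t56 t57 t44 t48 t50 t45 t49 t51 t59 t61 t52 t60 t62 t63 t55 t67 t66 t68 t69 t70 t71 : K), t39 ≠ 0 → UP D (R.RNF (0) (0) (t39) (0) (0) (t56) (0) (0) (0) (0) (t57) (0) (t44) (t48) (t50) (0) (t45) (t49) (t51) (t59) (t61) (t52) (0) (t60) (t62) (0) (t63) (0) (t55) (0) (t67) (t66) (t68) (t69) (t70) (t71))) :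
    ∀ (t39 t56 t57 t44 t48 t50 t45 t49 t51 t59 t61 t52 t60 t62 t63 t55 t65 t67 t66 t68 t69 t70 t71 : K), t39 ≠ 0 → UP D (R.RNF (0) (0) (t39) (0) (0) (t56) (0) (0) (0) (0) (t57) (0) (t44) (t48) (t50) (0) (t45) (t49) (t51) (t59) (t61) (t52) (0) (t60) (t62) (0) (t63) (0) (t55) (t65) (t67) (t66) (t68) (t69) (t70) (t71)) := by
  intro t39 t56 t57 t44 t48 t50 t45 t49 t51 t59 t61 t52 t60 t62 t63 t55 t65 t67 t66 t68 t69 t70 t71 hn39
  have h2 : (2 : K) = 0 := CharTwo.two_eq_zero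
  have h4 : (4 : K) = 0 := by linear_combination 2 * h2
  have h6 : (6 : K) = 0 := by linear_combination 3 * h2
  have h8 : (8 : K) = 0 := by linear_combination 4 * h2
  have h10 : (10 : K) = 0 := by linear_combination 5 * h2
  have h12 : (12 : K) = 0 := by linear_combination 6 * h2
  have h14 : (14 : K) = 0 := by linear_combination 7 * h2
  have h16 : (16 : K) = 0 := by linear_combination 8 * h2
  have h18 : (18 : K) = 0 := by linear_combination 9 * h2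
  have h20 : (20 : K) = 0 := by linear_combination 10 * h2
  have h22 : (22 : K) = 0 := by linear_combination 11 * h2
  have h24 : (24 : K) = 0 := by linear_combination 12 * h2
  have h26 : (26 : K) = 0 := by linear_combination 13 * h2
  have h28 : (28 : K) = 0 := by linear_combination 14 * h2
  have h30 : (30 : K) = 0 := by linear_combination 15 * h2
  have h32 : (32 : K) = 0 := by linear_combination 16 * h2
  obtain ⟨c, rfl⟩ : ∃ c, t65 = c * t39 := ⟨t65 / t39, by field_simp⟩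
  have e : R.X63 c * R.RNF (0) (0) (t39) (0) (0) (t56) (0) (0) (0) (0) (t57) (0) (t44) (t48) (t50) (0) (t45) (t49) (t51) (t59) (t61) (t52) (0) (t60) (t62) (0) (t63) (0) (t55) (c * t39) (t67) (t66) (t68) (t69) (t70) (t71) * R.X63 c =
      R.RNF (0) (0) (t39) (0) (0) (t56) (0) (0) (0) (0) (t57) (0) (t44) (t48) (t50) (0) (t45) (t49) (t51) (t59) (t61) (t52) (0) (t60) (t62) (0) (t63) (0) (t55) (0) (t67) (t66) (t68) (c * t44 + t69) (c * t39 * t44 + t70) (c * t39 * t51 + t71) := by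
    rw [R.ucj63]
    congr 1 <;> (first | rfl | ring1 | (rw [← sub_eq_zero]; ring_nf; simp only [h2, h4, h6, h8, h10, h12, h14, h16, h18, h20, h22, h24, h26, h28, h30, h32, mul_zero, zero_mul, add_zero, zero_add, neg_zero, sub_zero, sub_self]))
  exact UP_cj D (D.xmem63 c) (R.inv63 c) e (ih _ _ _ _ _ _ _ _ _ _ _ _ _ _ _ _ _ _ _ _ _ _ hn39)

theorem e6s2_13 (D : UData R)
    (ih : ∀ (t39 t56 t57 t44 t48 t50 t45 t49 t51 t59 t61 t52 t60 t62 t63 t55 t67 t66 t68 t69 t71 : K), t39 ≠ 0 → UP D (R.RNF (0) (0) (t39) (0) (0) (t56) (0) (0) (0) (0) (t57) (0) (t44) (t48) (t50) (0) (t45) (t49) (t51) (t59) (t61) (t52) (0) (t60) (t62) (0) (t63) (0) (t55) (0) (t67) (t66) (t68) (t69) (0) (t71))) :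
    ∀ (t39 t56 t57 t44 t48 t50 t45 t49 t51 t59 t61 t52 t60 t62 t63 t55 t67 t66 t68 t69 t70 t71 : K), t39 ≠ 0 → UP D (R.RNF (0) (0) (t39) (0) (0) (t56) (0) (0) (0) (0) (t57) (0) (t44) (t48) (t50) (0) (t45) (t49) (t51) (t59) (t61) (t52) (0) (t60) (t62) (0) (t63) (0) (t55) (0) (t67) (t66) (t68) (t69) (t70) (t71)) := by
  intro t39 t56 t57 t44 t48 t50 t45 t49 t51 t59 t61 t52 t60 t62 t63 t55 t67 t66 t68 t69 t70 t71 hn39
  have h2 : (2 : K) = 0 := CharTwo.two_eq_zero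
  have h4 : (4 : K) = 0 := by linear_combination 2 * h2
  have h6 : (6 : K) = 0 := by linear_combination 3 * h2
  have h8 : (8 : K) = 0 := by linear_combination 4 * h2
  have h10 : (10 : K) = 0 := by linear_combination 5 * h2
  have h12 : (12 : K) = 0 := by linear_combination 6 * h2
  have h14 : (14 : K) = 0 := by linear_combination 7 * h2
  have h16 : (16 : K) = 0 := by linear_combination 8 * h2
  have h18 : (18 : K) = 0 := by linear_combination 9 * h2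
  have h20 : (20 : K) = 0 := by linear_combination 10 * h2
  have h22 : (22 : K) = 0 := by linear_combination 11 * h2
  have h24 : (24 : K) = 0 := by linear_combination 12 * h2
  have h26 : (26 : K) = 0 := by linear_combination 13 * h2
  have h28 : (28 : K) = 0 := by linear_combination 14 * h2
  have h30 : (30 : K) = 0 := by linear_combination 15 * h2
  have h32 : (32 : K) = 0 := by linear_combination 16 * h2
  obtain ⟨c, rfl⟩ : ∃ c, t70 = c * t39 := ⟨t70 / t39, by field_simp⟩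
  have e : R.X69 c * R.RNF (0) (0) (t39) (0) (0) (t56) (0) (0) (0) (0) (t57) (0) (t44) (t48) (t50) (0) (t45) (t49) (t51) (t59) (t61) (t52) (0) (t60) (t62) (0) (t63) (0) (t55) (0) (t67) (t66) (t68) (t69) (c * t39) (t71) * R.X69 c =
      R.RNF (0) (0) (t39) (0) (0) (t56) (0) (0) (0) (0) (t57) (0) (t44) (t48) (t50) (0) (t45) (t49) (t51) (t59) (t61) (t52) (0) (t60) (t62) (0) (t63) (0) (t55) (0) (t67) (t66) (t68) (t69) (0) (t71) := by
    rw [R.ucj69]
    congr 1 <;> (first | rfl | ring1 | (rw [← sub_eq_zero]; ring_nf; simp only [h2, h4, h6, h8, h10, h12, h14, h16, h18, h20, h22, h24, h26, h28, h30, h32, mul_zero, zero_mul, add_zero, zero_add, neg_zero, sub_zero, sub_self]))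
  exact UP_cj D (D.xmem69 c) (R.inv69 c) e (ih _ _ _ _ _ _ _ _ _ _ _ _ _ _ _ _ _ _ _ _ _ hn39)

theorem e6s2_14 (D : UData R)
    (ih : ∀ (t39 t56 t44 t48 t50 t45 t49 t51 t59 t61 t52 t60 t62 t63 t55 t67 t66 t68 t69 t71 : K), t39 ≠ 0 → UP D (R.RNF (0) (0) (t39) (0) (0) (t56) (0) (0) (0) (0) (0) (0) (t44) (t48) (t50) (0) (t45) (t49) (t51) (t59) (t61) (t52) (0) (t60) (t62) (0) (t63) (0) (t55) (0) (t67) (t66) (t68) (t69) (0) (t71))) :
    ∀ (t39 t56 t57 t44 t48 t50 t45 t49 t51 t59 t61 t52 t60 t62 t63 t55 t67 t66 t68 t69 t71 : K), t39 ≠ 0 → UP D (R.RNF (0) (0) (t39) (0) (0) (t56) (0) (0) (0) (0) (t57) (0) (t44) (t48) (t50) (0) (t45) (t49) (t51) (t59) (t61) (t52) (0) (t60) (t62) (0) (t63) (0) (t55) (0) (t67) (t66) (t68) (t69) (0) (t71)) := by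
  intro t39 t56 t57 t44 t48 t50 t45 t49 t51 t59 t61 t52 t60 t62 t63 t55 t67 t66 t68 t69 t71 hn39 hu hne
  have hsq := hu
  rw [R.usq] at hsq
  obtain ⟨e36, e37, e39, e42, e46, e56, e38, e40, e43, e47, e57, e41, e44, e48, e50, e58, e45, e49, e51, e59, e61, e52, e53, e60, e62, e54, e63, e64, e55, e65, e67, e66, e68, e69, e70, e71⟩ := D.inj _ _ _ _ _ _ _ _ _ _ _ _ _ _ _ _ _ _ _ _ _ _ _ _ _ _ _ _ _ _ _ _ _ _ _ _ hsq
  have hz : t57 = 0 := by
    have h : t39 * t57 = 0 := by linear_combination e58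
    exact (mul_eq_zero.mp h).resolve_left hn39
  subst hz
  exact ih _ _ _ _ _ _ _ _ _ _ _ _ _ _ _ _ _ _ _ _ hn39 hu hne

theorem e6s2_15 (D : UData R)
    (ih : ∀ (t39 t56 t44 t48 t50 t45 t49 t59 t61 t52 t60 t62 t63 t55 t67 t66 t68 t69 t71 : K), t39 ≠ 0 → UP D (R.RNF (0) (0) (t39) (0) (0) (t56) (0) (0) (0) (0) (0) (0) (t44) (t48) (t50) (0) (t45) (t49) (0) (t59) (t61) (t52) (0) (t60) (t62) (0) (t63) (0) (t55) (0) (t67) (t66) (t68) (t69) (0) (t71))) :
    ∀ (t39 t56 t44 t48 t50 t45 t49 t51 t59 t61 t52 t60 t62 t63 t55 t67 t66 t68 t69 t71 : K), t39 ≠ 0 → UP D (R.RNF (0) (0) (t39) (0) (0) (t56) (0) (0) (0) (0) (0) (0) (t44) (t48) (t50) (0) (t45) (t49) (t51) (t59) (t61) (t52) (0) (t60) (t62) (0) (t63) (0) (t55) (0) (t67) (t66) (t68) (t69) (0) (t71)) := by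
  intro t39 t56 t44 t48 t50 t45 t49 t51 t59 t61 t52 t60 t62 t63 t55 t67 t66 t68 t69 t71 hn39 hu hne
  have hsq := hu
  rw [R.usq] at hsq
  obtain ⟨e36, e37, e39, e42, e46, e56, e38, e40, e43, e47, e57, e41, e44, e48, e50, e58, e45, e49, e51, e59, e61, e52, e53, e60, e62, e54, e63, e64, e55, e65, e67, e66, e68, e69, e70, e71⟩ := D.inj _ _ _ _ _ _ _ _ _ _ _ _ _ _ _ _ _ _ _ _ _ _ _ _ _ _ _ _ _ _ _ _ _ _ _ _ hsq
  have hz : t51 = 0 := by
    have h : t39 * t51 = 0 := by linear_combination e53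
    exact (mul_eq_zero.mp h).resolve_left hn39
  subst hz
  exact ih _ _ _ _ _ _ _ _ _ _ _ _ _ _ _ _ _ _ _ hn39 hu hne

theorem e6s2_16 (D : UData R)
    (ih : ∀ (t39 t56 t44 t48 t50 t45 t49 t59 t61 t60 t62 t63 t55 t67 t66 t68 t69 t71 : K), t39 ≠ 0 → UP D (R.RNF (0) (0) (t39) (0) (0) (t56) (0) (0) (0) (0) (0) (0) (t44) (t48) (t50) (0) (t45) (t49) (0) (t59) (t61) (0) (0) (t60) (t62) (0) (t63) (0) (t55) (0) (t67) (t66) (t68) (t69) (0) (t71))) :
    ∀ (t39 t56 t44 t48 t50 t45 t49 t59 t61 t52 t60 t62 t63 t55 t67 t66 t68 t69 t71 : K), t39 ≠ 0 → UP D (R.RNF (0) (0) (t39) (0) (0) (t56) (0) (0) (0) (0) (0) (0) (t44) (t48) (t50) (0) (t45) (t49) (0) (t59) (t61) (t52) (0) (t60) (t62) (0) (t63) (0) (t55) (0) (t67) (t66) (t68) (t69) (0) (t71)) := by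
  intro t39 t56 t44 t48 t50 t45 t49 t59 t61 t52 t60 t62 t63 t55 t67 t66 t68 t69 t71 hn39 hu hne
  have hsq := hu
  rw [R.usq] at hsq
  obtain ⟨e36, e37, e39, e42, e46, e56, e38, e40, e43, e47, e57, e41, e44, e48, e50, e58, e45, e49, e51, e59, e61, e52, e53, e60, e62, e54, e63, e64, e55, e65, e67, e66, e68, e69, e70, e71⟩ := D.inj _ _ _ _ _ _ _ _ _ _ _ _ _ _ _ _ _ _ _ _ _ _ _ _ _ _ _ _ _ _ _ _ _ _ _ _ hsq
  have hz : t52 = 0 := by
    have h : t39 * t52 = 0 := by linear_combination e54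
    exact (mul_eq_zero.mp h).resolve_left hn39
  subst hz
  exact ih _ _ _ _ _ _ _ _ _ _ _ _ _ _ _ _ _ _ hn39 hu hne

theorem e6s2_17 (D : UData R)
    (ih : ∀ (t39 t56 t44 t48 t50 t45 t49 t59 t61 t60 t63 t55 t67 t66 t68 t69 t71 : K), t39 ≠ 0 → UP D (R.RNF (0) (0) (t39) (0) (0) (t56) (0) (0) (0) (0) (0) (0) (t44) (t48) (t50) (0) (t45) (t49) (0) (t59) (t61) (0) (0) (t60) (0) (0) (t63) (0) (t55) (0) (t67) (t66) (t68) (t69) (0) (t71))) :
    ∀ (t39 t56 t44 t48 t50 t45 t49 t59 t61 t60 t62 t63 t55 t67 t66 t68 t69 t71 : K), t39 ≠ 0 → UP D (R.RNF (0) (0) (t39) (0) (0) (t56) (0) (0) (0) (0) (0) (0) (t44) (t48) (t50) (0) (t45) (t49) (0) (t59) (t61) (0) (0) (t60) (t62) (0) (t63) (0) (t55) (0) (t67) (t66) (t68) (t69) (0) (t71)) := by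
  intro t39 t56 t44 t48 t50 t45 t49 t59 t61 t60 t62 t63 t55 t67 t66 t68 t69 t71 hn39 hu hne
  have hsq := hu
  rw [R.usq] at hsq
  obtain ⟨e36, e37, e39, e42, e46, e56, e38, e40, e43, e47, e57, e41, e44, e48, e50, e58, e45, e49, e51, e59, e61, e52, e53, e60, e62, e54, e63, e64, e55, e65, e67, e66, e68, e69, e70, e71⟩ := D.inj _ _ _ _ _ _ _ _ _ _ _ _ _ _ _ _ _ _ _ _ _ _ _ _ _ _ _ _ _ _ _ _ _ _ _ _ hsq
  have hz : t62 = 0 := by
    have h : t39 * t62 = 0 := by linear_combination e64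
    exact (mul_eq_zero.mp h).resolve_left hn39
  subst hz
  exact ih _ _ _ _ _ _ _ _ _ _ _ _ _ _ _ _ _ hn39 hu hne

theorem e6s2_18 (D : UData R)
    (ih : ∀ (t39 t56 t44 t48 t50 t45 t49 t59 t61 t60 t55 t67 t66 t68 t69 t71 : K), t39 ≠ 0 → UP D (R.RNF (0) (0) (t39) (0) (0) (t56) (0) (0) (0) (0) (0) (0) (t44) (t48) (t50) (0) (t45) (t49) (0) (t59) (t61) (0) (0) (t60) (0) (0) (0) (0) (t55) (0) (t67) (t66) (t68) (t69) (0) (t71))) :
    ∀ (t39 t56 t44 t48 t50 t45 t49 t59 t61 t60 t63 t55 t67 t66 t68 t69 t71 : K), t39 ≠ 0 → UP D (R.RNF (0) (0) (t39) (0) (0) (t56) (0) (0) (0) (0) (0) (0) (t44) (t48) (t50) (0) (t45) (t49) (0) (t59) (t61) (0) (0) (t60) (0) (0) (t63) (0) (t55) (0) (t67) (t66) (t68) (t69) (0) (t71)) := by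
  intro t39 t56 t44 t48 t50 t45 t49 t59 t61 t60 t63 t55 t67 t66 t68 t69 t71 hn39 hu hne
  have hsq := hu
  rw [R.usq] at hsq
  obtain ⟨e36, e37, e39, e42, e46, e56, e38, e40, e43, e47, e57, e41, e44, e48, e50, e58, e45, e49, e51, e59, e61, e52, e53, e60, e62, e54, e63, e64, e55, e65, e67, e66, e68, e69, e70, e71⟩ := D.inj _ _ _ _ _ _ _ _ _ _ _ _ _ _ _ _ _ _ _ _ _ _ _ _ _ _ _ _ _ _ _ _ _ _ _ _ hsq
  have hz : t63 = 0 := by
    have h : t39 * t63 = 0 := by linear_combination e65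
    exact (mul_eq_zero.mp h).resolve_left hn39
  subst hz
  exact ih _ _ _ _ _ _ _ _ _ _ _ _ _ _ _ _ hn39 hu hne

theorem e6s2_19 (D : UData R)
    (ih : ∀ (t39 t56 t44 t48 t50 t45 t49 t59 t61 t60 t55 t67 t66 t68 t71 : K), t39 ≠ 0 → UP D (R.RNF (0) (0) (t39) (0) (0) (t56) (0) (0) (0) (0) (0) (0) (t44) (t48) (t50) (0) (t45) (t49) (0) (t59) (t61) (0) (0) (t60) (0) (0) (0) (0) (t55) (0) (t67) (t66) (t68) (0) (0) (t71))) :
    ∀ (t39 t56 t44 t48 t50 t45 t49 t59 t61 t60 t55 t67 t66 t68 t69 t71 : K), t39 ≠ 0 → UP D (R.RNF (0) (0) (t39) (0) (0) (t56) (0) (0) (0) (0) (0) (0) (t44) (t48) (t50) (0) (t45) (t49) (0) (t59) (t61) (0) (0) (t60) (0) (0) (0) (0) (t55) (0) (t67) (t66) (t68) (t69) (0) (t71)) := by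
  intro t39 t56 t44 t48 t50 t45 t49 t59 t61 t60 t55 t67 t66 t68 t69 t71 hn39 hu hne
  have hsq := hu
  rw [R.usq] at hsq
  obtain ⟨e36, e37, e39, e42, e46, e56, e38, e40, e43, e47, e57, e41, e44, e48, e50, e58, e45, e49, e51, e59, e61, e52, e53, e60, e62, e54, e63, e64, e55, e65, e67, e66, e68, e69, e70, e71⟩ := D.inj _ _ _ _ _ _ _ _ _ _ _ _ _ _ _ _ _ _ _ _ _ _ _ _ _ _ _ _ _ _ _ _ _ _ _ _ hsq
  have hz : t69 = 0 := by
    have h : t39 * t69 = 0 := by linear_combination e70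
    exact (mul_eq_zero.mp h).resolve_left hn39
  subst hz
  exact ih _ _ _ _ _ _ _ _ _ _ _ _ _ _ _ hn39 hu hne

theorem e6s2_20 (D : UData R)
    (ih : ∀ (t56 t40 t43 t47 t41 t58 t51 t52 t62 t63 t55 t67 t66 t68 t70 : K), t47 ≠ 0 → UP D (R.RNF (0) (0) (0) (0) (0) (t56) (0) (t40) (t43) (t47) (0) (t41) (0) (0) (0) (t58) (0) (0) (t51) (0) (0) (t52) (0) (0) (t62) (0) (t63) (0) (t55) (0) (t67) (t66) (t68) (0) (t70) (0))) :
    ∀ (t39 t56 t44 t48 t50 t45 t49 t59 t61 t60 t55 t67 t66 t68 t71 : K), t39 ≠ 0 → UP D (R.RNF (0) (0) (t39) (0) (0) (t56) (0) (0) (0) (0) (0) (0) (t44) (t48) (t50) (0) (t45) (t49) (0) (t59) (t61) (0) (0) (t60) (0) (0) (0) (0) (t55) (0) (t67) (t66) (t68) (0) (0) (t71)) := by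
  intro t39 t56 t44 t48 t50 t45 t49 t59 t61 t60 t55 t67 t66 t68 t71 hn39
  have h2 : (2 : K) = 0 := CharTwo.two_eq_zero
  have h4 : (4 : K) = 0 := by linear_combination 2 * h2
  have h6 : (6 : K) = 0 := by linear_combination 3 * h2
  have h8 : (8 : K) = 0 := by linear_combination 4 * h2
  have h10 : (10 : K) = 0 := by linear_combination 5 * h2
  have h12 : (12 : K) = 0 := by linear_combination 6 * h2
  have h14 : (14 : K) = 0 := by linear_combination 7 * h2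
  have h16 : (16 : K) = 0 := by linear_combination 8 * h2
  have h18 : (18 : K) = 0 := by linear_combination 9 * h2
  have h20 : (20 : K) = 0 := by linear_combination 10 * h2
  have h22 : (22 : K) = 0 := by linear_combination 11 * h2
  have h24 : (24 : K) = 0 := by linear_combination 12 * h2
  have h26 : (26 : K) = 0 := by linear_combination 13 * h2
  have h28 : (28 : K) = 0 := by linear_combination 14 * h2
  have h30 : (30 : K) = 0 := by linear_combination 15 * h2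
  have h32 : (32 : K) = 0 := by linear_combination 16 * h2
  have e : D.n2 * R.RNF (0) (0) (t39) (0) (0) (t56) (0) (0) (0) (0) (0) (0) (t44) (t48) (t50) (0) (t45) (t49) (0) (t59) (t61) (0) (0) (t60) (0) (0) (0) (0) (t55) (0) (t67) (t66) (t68) (0) (0) (t71) * D.n2⁻¹ =
      R.RNF (0) (0) (0) (0) (0) (t56) (0) (t48) (t50) (t39) (0) (t49) (0) (0) (0) (t61) (0) (0) (t44) (0) (0) (t45) (0) (0) (t59) (0) (t60) (0) (t44 * t49 + t55) (0) (t44 * t61 + t67) (t66) (t45 * t61 + t68) (0) (t44 * t49 * t61 + t71) (0) := by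
    rw [D.toWeylE6.conj_n2]
    congr 1 <;> (first | rfl | ring1 | (rw [← sub_eq_zero]; ring_nf; simp only [h2, h4, h6, h8, h10, h12, h14, h16, h18, h20, h22, h24, h26, h28, h30, h32, mul_zero, zero_mul, add_zero, zero_add, neg_zero, sub_zero, sub_self]))
  exact UP_n D D.n2_mem e (ih _ _ _ _ _ _ _ _ _ _ _ _ _ _ _ hn39)

theorem upiv2 (D : UData R)
    (ih : ∀ (t42 t46 t56 t38 t40 t43 t47 t57 t41 t44 t48 t50 t58 t45 t49 t51 t59 t61 t52 t53 t60 t62 t54 t63 t64 t55 t65 t67 t66 t68 t69 t70 t71 : K), UP D (R.RNF (0) (0) (0) (t42) (t46) (t56) (t38) (t40) (t43) (t47) (t57) (t41) (t44) (t48) (t50) (t58) (t45) (t49) (t51) (t59) (t61) (t52) (t53) (t60) (t62) (t54) (t63) (t64) (t55) (t65) (t67) (t66) (t68) (t69) (t70) (t71))) :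
    ∀ (t39 t42 t46 t56 t38 t40 t43 t47 t57 t41 t44 t48 t50 t58 t45 t49 t51 t59 t61 t52 t53 t60 t62 t54 t63 t64 t55 t65 t67 t66 t68 t69 t70 t71 : K), UP D (R.RNF (0) (0) (t39) (t42) (t46) (t56) (t38) (t40) (t43) (t47) (t57) (t41) (t44) (t48) (t50) (t58) (t45) (t49) (t51) (t59) (t61) (t52) (t53) (t60) (t62) (t54) (t63) (t64) (t55) (t65) (t67) (t66) (t68) (t69) (t70) (t71)) := by
  intro t39 t42 t46 t56 t38 t40 t43 t47 t57 t41 t44 t48 t50 t58 t45 t49 t51 t59 t61 t52 t53 t60 t62 t54 t63 t64 t55 t65 t67 t66 t68 t69 t70 t71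
  by_cases h0 : t39 = 0
  · subst h0; exact ih _ _ _ _ _ _ _ _ _ _ _ _ _ _ _ _ _ _ _ _ _ _ _ _ _ _ _ _ _ _ _ _ _
  · exact (e6s2_1 D (e6s2_2 D (e6s2_3 D (e6s2_4 D (e6s2_5 D (e6s2_6 D (e6s2_7 D (e6s2_8 D (e6s2_9 D (e6s2_10 D (e6s2_11 D (e6s2_12 D (e6s2_13 D (e6s2_14 D (e6s2_15 D (e6s2_16 D (e6s2_17 D (e6s2_18 D (e6s2_19 D (e6s2_20 D (fun t56 t40 t43 t47 t41 t58 t51 t52 t62 t63 t55 t67 t66 t68 t70 _ => ih 0 0 t56 0 t40 t43 t47 0 t41 0 0 0 t58 0 0 t51 0 0 t52 0 0 t62 0 t63 0 t55 0 t67 t66 t68 0 t70 0))))))))))))))))))))) t39 t42 t46 t56 t38 t40 t43 t47 t57 t41 t44 t48 t50 t58 t45 t49 t51 t59 t61 t52 t53 t60 t62 t54 t63 t64 t55 t65 t67 t66 t68 t69 t70 t71 h0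

end Cfsg.Agent.Helper4.E6Inv
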