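import Cfsg.Agent.Helper4.E6Inv.UFinT

/-! Generated: steps of the reduction of involutions in the unipotent group of `E₆`
(characteristic two). -/

set_option autoImplicit false
set_option maxHeartbeats 8000000
set_option maxRecDepth 100000
set_option linter.unusedSimpArgs false
set_option linter.unusedVariables false
set_option linter.unusedSectionVars false
set_option linter.unusedTactic false
set_option linter.unreachableTactic false

namespace Cfsg.Agent.Helper4.E6Inv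

variable {K Γ : Type*} [Field K] [Group Γ] {R : RelE6 K Γ} [CharP K 2]

theorem e6s21_1 (D : UData R)
    (ih : ∀ (t52 t53 t60 t62 t63 t64 t55 t65 t67 t66 t68 t69 t70 t71 : K), t52 ≠ 0 → UP D (R.RNF (0) (0) (0) (0) (0) (0) (0) (0) (0) (0) (0) (0) (0) (0) (0) (0) (0) (0) (0) (0) (0) (t52) (t53) (t60) (t62) (0) (t63) (t64) (t55) (t65) (t67) (t66) (t68) (t69) (t70) (t71))) :
    ∀ (t52 t53 t60 t62 t54 t63 t64 t55 t65 t67 t66 t68 t69 t70 t71 : K), t52 ≠ 0 → UP D (R.RNF (0) (0) (0) (0) (0) (0) (0) (0) (0) (0) (0) (0) (0) (0) (0) (0) (0) (0) (0) (0) (0) (t52) (t53) (t60) (t62) (t54) (t63) (t64) (t55) (t65) (t67) (t66) (t68) (t69) (t70) (t71)) := by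
  intro t52 t53 t60 t62 t54 t63 t64 t55 t65 t67 t66 t68 t69 t70 t71 hn52
  have h2 : (2 : K) = 0 := CharTwo.two_eq_zero
  have h4 : (4 : K) = 0 := by linear_combination 2 * h2
  have h6 : (6 : K) = 0 := by linear_combination 3 * h2
  have h8 : (8 : K) = 0 := by linear_combination 4 * h2
  have h10 : (10 : K) = 0 := by linear_combination 5 * h2
  have h12 : (12 : K) = 0 := by linear_combination 6 * h2
  have h14 : (14 : K) = 0 := by linear_combination 7 * h2
  have h16 : (16 : K) = 0 := by linear_combination 8 * h2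
  have h18 : (18 : K) = 0 := by linear_combination 9 * h2
  have h20 : (20 : K) = 0 := by linear_combination 10 * h2
  have h22 : (22 : K) = 0 := by linear_combination 11 * h2
  have h24 : (24 : K) = 0 := by linear_combination 12 * h2
  have h26 : (26 : K) = 0 := by linear_combination 13 * h2
  have h28 : (28 : K) = 0 := by linear_combination 14 * h2
  have h30 : (30 : K) = 0 := by linear_combination 15 * h2
  have h32 : (32 : K) = 0 := by linear_combination 16 * h2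
  obtain ⟨c, rfl⟩ : ∃ c, t54 = c * t52 := ⟨t54 / t52, by field_simp⟩
  have e : R.X39 c * R.RNF (0) (0) (0) (0) (0) (0) (0) (0) (0) (0) (0) (0) (0) (0) (0) (0) (0) (0) (0) (0) (0) (t52) (t53) (t60) (t62) (c * t52) (t63) (t64) (t55) (t65) (t67) (t66) (t68) (t69) (t70) (t71) * R.X39 c =
      R.RNF (0) (0) (0) (0) (0) (0) (0) (0) (0) (0) (0) (0) (0) (0) (0) (0) (0) (0) (0) (0) (0) (t52) (t53) (t60) (t62) (0) (t63) (c * t62 + t64) (t55) (c * t63 + t65) (t67) (t66) (t68) (t69) (c * t69 + t70) (c * t52 * t62 + t71) := by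
    rw [R.ucj39]
    congr 1 <;> (first | rfl | ring1 | (rw [← sub_eq_zero]; ring_nf; simp only [h2, h4, h6, h8, h10, h12, h14, h16, h18, h20, h22, h24, h26, h28, h30, h32, mul_zero, zero_mul, add_zero, zero_add, neg_zero, sub_zero, sub_self]))
  exact UP_cj D (D.xmem39 c) (R.inv39 c) e (ih _ _ _ _ _ _ _ _ _ _ _ _ _ _ hn52)

theorem e6s21_2 (D : UData R)
    (ih : ∀ (t52 t53 t60 t62 t64 t55 t65 t67 t66 t68 t69 t70 t71 : K), t52 ≠ 0 → UP D (R.RNF (0) (0) (0) (0) (0) (0) (0) (0) (0) (0) (0) (0) (0) (0) (0) (0) (0) (0) (0) (0) (0) (t52) (t53) (t60) (t62) (0) (0) (t64) (t55) (t65) (t67) (t66) (t68) (t69) (t70) (t71))) :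
    ∀ (t52 t53 t60 t62 t63 t64 t55 t65 t67 t66 t68 t69 t70 t71 : K), t52 ≠ 0 → UP D (R.RNF (0) (0) (0) (0) (0) (0) (0) (0) (0) (0) (0) (0) (0) (0) (0) (0) (0) (0) (0) (0) (0) (t52) (t53) (t60) (t62) (0) (t63) (t64) (t55) (t65) (t67) (t66) (t68) (t69) (t70) (t71)) := by
  intro t52 t53 t60 t62 t63 t64 t55 t65 t67 t66 t68 t69 t70 t71 hn52
  have h2 : (2 : K) = 0 := CharTwo.two_eq_zero
  have h4 : (4 : K) = 0 := by linear_combination 2 * h2
  have h6 : (6 : K) = 0 := by linear_combination 3 * h2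
  have h8 : (8 : K) = 0 := by linear_combination 4 * h2
  have h10 : (10 : K) = 0 := by linear_combination 5 * h2
  have h12 : (12 : K) = 0 := by linear_combination 6 * h2
  have h14 : (14 : K) = 0 := by linear_combination 7 * h2
  have h16 : (16 : K) = 0 := by linear_combination 8 * h2
  have h18 : (18 : K) = 0 := by linear_combination 9 * h2
  have h20 : (20 : K) = 0 := by linear_combination 10 * h2
  have h22 : (22 : K) = 0 := by linear_combination 11 * h2
  have h24 : (24 : K) = 0 := by linear_combination 12 * h2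
  have h26 : (26 : K) = 0 := by linear_combination 13 * h2
  have h28 : (28 : K) = 0 := by linear_combination 14 * h2
  have h30 : (30 : K) = 0 := by linear_combination 15 * h2
  have h32 : (32 : K) = 0 := by linear_combination 16 * h2
  obtain ⟨c, rfl⟩ : ∃ c, t63 = c * t52 := ⟨t63 / t52, by field_simp⟩
  have e : R.X56 c * R.RNF (0) (0) (0) (0) (0) (0) (0) (0) (0) (0) (0) (0) (0) (0) (0) (0) (0) (0) (0) (0) (0) (t52) (t53) (t60) (t62) (0) (c * t52) (t64) (t55) (t65) (t67) (t66) (t68) (t69) (t70) (t71) * R.X56 c =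
      R.RNF (0) (0) (0) (0) (0) (0) (0) (0) (0) (0) (0) (0) (0) (0) (0) (0) (0) (0) (0) (0) (0) (t52) (t53) (t60) (t62) (0) (0) (c * t53 + t64) (t55) (t65) (t67) (c * t55 + t66) (t68) (t69) (t70) (c * t52 * t53 + t71) := by
    rw [R.ucj56]
    congr 1 <;> (first | rfl | ring1 | (rw [← sub_eq_zero]; ring_nf; simp only [h2, h4, h6, h8, h10, h12, h14, h16, h18, h20, h22, h24, h26, h28, h30, h32, mul_zero, zero_mul, add_zero, zero_add, neg_zero, sub_zero, sub_self]))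
  exact UP_cj D (D.xmem56 c) (R.inv56 c) e (ih _ _ _ _ _ _ _ _ _ _ _ _ _ hn52)

theorem e6s21_3 (D : UData R)
    (ih : ∀ (t52 t53 t60 t62 t64 t65 t67 t66 t68 t69 t70 t71 : K), t52 ≠ 0 → UP D (R.RNF (0) (0) (0) (0) (0) (0) (0) (0) (0) (0) (0) (0) (0) (0) (0) (0) (0) (0) (0) (0) (0) (t52) (t53) (t60) (t62) (0) (0) (t64) (0) (t65) (t67) (t66) (t68) (t69) (t70) (t71))) :
    ∀ (t52 t53 t60 t62 t64 t55 t65 t67 t66 t68 t69 t70 t71 : K), t52 ≠ 0 → UP D (R.RNF (0) (0) (0) (0) (0) (0) (0) (0) (0) (0) (0) (0) (0) (0) (0) (0) (0) (0) (0) (0) (0) (t52) (t53) (t60) (t62) (0) (0) (t64) (t55) (t65) (t67) (t66) (t68) (t69) (t70) (t71)) := by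
  intro t52 t53 t60 t62 t64 t55 t65 t67 t66 t68 t69 t70 t71 hn52
  have h2 : (2 : K) = 0 := CharTwo.two_eq_zero
  have h4 : (4 : K) = 0 := by linear_combination 2 * h2
  have h6 : (6 : K) = 0 := by linear_combination 3 * h2
  have h8 : (8 : K) = 0 := by linear_combination 4 * h2
  have h10 : (10 : K) = 0 := by linear_combination 5 * h2
  have h12 : (12 : K) = 0 := by linear_combination 6 * h2
  have h14 : (14 : K) = 0 := by linear_combination 7 * h2
  have h16 : (16 : K) = 0 := by linear_combination 8 * h2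
  have h18 : (18 : K) = 0 := by linear_combination 9 * h2
  have h20 : (20 : K) = 0 := by linear_combination 10 * h2
  have h22 : (22 : K) = 0 := by linear_combination 11 * h2
  have h24 : (24 : K) = 0 := by linear_combination 12 * h2
  have h26 : (26 : K) = 0 := by linear_combination 13 * h2
  have h28 : (28 : K) = 0 := by linear_combination 14 * h2
  have h30 : (30 : K) = 0 := by linear_combination 15 * h2
  have h32 : (32 : K) = 0 := by linear_combination 16 * h2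
  obtain ⟨c, rfl⟩ : ∃ c, t55 = c * t52 := ⟨t55 / t52, by field_simp⟩
  have e : R.X40 c * R.RNF (0) (0) (0) (0) (0) (0) (0) (0) (0) (0) (0) (0) (0) (0) (0) (0) (0) (0) (0) (0) (0) (t52) (t53) (t60) (t62) (0) (0) (t64) (c * t52) (t65) (t67) (t66) (t68) (t69) (t70) (t71) * R.X40 c =
      R.RNF (0) (0) (0) (0) (0) (0) (0) (0) (0) (0) (0) (0) (0) (0) (0) (0) (0) (0) (0) (0) (0) (t52) (t53) (t60) (t62) (0) (0) (t64) (0) (t65) (t67) (t66) (t68) (t69) (c * t68 + t70) (t71) := by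
    rw [R.ucj40]
    congr 1 <;> (first | rfl | ring1 | (rw [← sub_eq_zero]; ring_nf; simp only [h2, h4, h6, h8, h10, h12, h14, h16, h18, h20, h22, h24, h26, h28, h30, h32, mul_zero, zero_mul, add_zero, zero_add, neg_zero, sub_zero, sub_self]))
  exact UP_cj D (D.xmem40 c) (R.inv40 c) e (ih _ _ _ _ _ _ _ _ _ _ _ _ hn52)

theorem e6s21_4 (D : UData R)
    (ih : ∀ (t52 t53 t60 t62 t64 t65 t67 t66 t69 t70 t71 : K), t52 ≠ 0 → UP D (R.RNF (0) (0) (0) (0) (0) (0) (0) (0) (0) (0) (0) (0) (0) (0) (0) (0) (0) (0) (0) (0) (0) (t52) (t53) (t60) (t62) (0) (0) (t64) (0) (t65) (t67) (t66) (0) (t69) (t70) (t71))) :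
    ∀ (t52 t53 t60 t62 t64 t65 t67 t66 t68 t69 t70 t71 : K), t52 ≠ 0 → UP D (R.RNF (0) (0) (0) (0) (0) (0) (0) (0) (0) (0) (0) (0) (0) (0) (0) (0) (0) (0) (0) (0) (0) (t52) (t53) (t60) (t62) (0) (0) (t64) (0) (t65) (t67) (t66) (t68) (t69) (t70) (t71)) := by
  intro t52 t53 t60 t62 t64 t65 t67 t66 t68 t69 t70 t71 hn52
  have h2 : (2 : K) = 0 := CharTwo.two_eq_zero
  have h4 : (4 : K) = 0 := by linear_combination 2 * h2
  have h6 : (6 : K) = 0 := by linear_combination 3 * h2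
  have h8 : (8 : K) = 0 := by linear_combination 4 * h2
  have h10 : (10 : K) = 0 := by linear_combination 5 * h2
  have h12 : (12 : K) = 0 := by linear_combination 6 * h2
  have h14 : (14 : K) = 0 := by linear_combination 7 * h2
  have h16 : (16 : K) = 0 := by linear_combination 8 * h2
  have h18 : (18 : K) = 0 := by linear_combination 9 * h2
  have h20 : (20 : K) = 0 := by linear_combination 10 * h2
  have h22 : (22 : K) = 0 := by linear_combination 11 * h2
  have h24 : (24 : K) = 0 := by linear_combination 12 * h2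
  have h26 : (26 : K) = 0 := by linear_combination 13 * h2
  have h28 : (28 : K) = 0 := by linear_combination 14 * h2
  have h30 : (30 : K) = 0 := by linear_combination 15 * h2
  have h32 : (32 : K) = 0 := by linear_combination 16 * h2
  obtain ⟨c, rfl⟩ : ∃ c, t68 = c * t52 := ⟨t68 / t52, by field_simp⟩
  have e : R.X58 c * R.RNF (0) (0) (0) (0) (0) (0) (0) (0) (0) (0) (0) (0) (0) (0) (0) (0) (0) (0) (0) (0) (0) (t52) (t53) (t60) (t62) (0) (0) (t64) (0) (t65) (t67) (t66) (c * t52) (t69) (t70) (t71) * R.X58 c =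
      R.RNF (0) (0) (0) (0) (0) (0) (0) (0) (0) (0) (0) (0) (0) (0) (0) (0) (0) (0) (0) (0) (0) (t52) (t53) (t60) (t62) (0) (0) (t64) (0) (t65) (t67) (t66) (0) (t69) (t70) (t71) := by
    rw [R.ucj58]
    congr 1 <;> (first | rfl | ring1 | (rw [← sub_eq_zero]; ring_nf; simp only [h2, h4, h6, h8, h10, h12, h14, h16, h18, h20, h22, h24, h26, h28, h30, h32, mul_zero, zero_mul, add_zero, zero_add, neg_zero, sub_zero, sub_self]))
  exact UP_cj D (D.xmem58 c) (R.inv58 c) e (ih _ _ _ _ _ _ _ _ _ _ _ hn52)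

theorem e6s21_5 (D : UData R)
    (ih : ∀ (t52 t53 t60 t62 t64 t65 t67 t66 t70 t71 : K), t52 ≠ 0 → UP D (R.RNF (0) (0) (0) (0) (0) (0) (0) (0) (0) (0) (0) (0) (0) (0) (0) (0) (0) (0) (0) (0) (0) (t52) (t53) (t60) (t62) (0) (0) (t64) (0) (t65) (t67) (t66) (0) (0) (t70) (t71))) :
    ∀ (t52 t53 t60 t62 t64 t65 t67 t66 t69 t70 t71 : K), t52 ≠ 0 → UP D (R.RNF (0) (0) (0) (0) (0) (0) (0) (0) (0) (0) (0) (0) (0) (0) (0) (0) (0) (0) (0) (0) (0) (t52) (t53) (t60) (t62) (0) (0) (t64) (0) (t65) (t67) (t66) (0) (t69) (t70) (t71)) := by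
  intro t52 t53 t60 t62 t64 t65 t67 t66 t69 t70 t71 hn52
  have h2 : (2 : K) = 0 := CharTwo.two_eq_zero
  have h4 : (4 : K) = 0 := by linear_combination 2 * h2
  have h6 : (6 : K) = 0 := by linear_combination 3 * h2
  have h8 : (8 : K) = 0 := by linear_combination 4 * h2
  have h10 : (10 : K) = 0 := by linear_combination 5 * h2
  have h12 : (12 : K) = 0 := by linear_combination 6 * h2
  have h14 : (14 : K) = 0 := by linear_combination 7 * h2
  have h16 : (16 : K) = 0 := by linear_combination 8 * h2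
  have h18 : (18 : K) = 0 := by linear_combination 9 * h2
  have h20 : (20 : K) = 0 := by linear_combination 10 * h2
  have h22 : (22 : K) = 0 := by linear_combination 11 * h2
  have h24 : (24 : K) = 0 := by linear_combination 12 * h2
  have h26 : (26 : K) = 0 := by linear_combination 13 * h2
  have h28 : (28 : K) = 0 := by linear_combination 14 * h2
  have h30 : (30 : K) = 0 := by linear_combination 15 * h2
  have h32 : (32 : K) = 0 := by linear_combination 16 * h2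
  obtain ⟨c, rfl⟩ : ∃ c, t69 = c * t52 := ⟨t69 / t52, by field_simp⟩
  have e : R.X59 c * R.RNF (0) (0) (0) (0) (0) (0) (0) (0) (0) (0) (0) (0) (0) (0) (0) (0) (0) (0) (0) (0) (0) (t52) (t53) (t60) (t62) (0) (0) (t64) (0) (t65) (t67) (t66) (0) (c * t52) (t70) (t71) * R.X59 c =
      R.RNF (0) (0) (0) (0) (0) (0) (0) (0) (0) (0) (0) (0) (0) (0) (0) (0) (0) (0) (0) (0) (0) (t52) (t53) (t60) (t62) (0) (0) (t64) (0) (t65) (t67) (t66) (0) (0) (t70) (t71) := by
    rw [R.ucj59]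
    congr 1 <;> (first | rfl | ring1 | (rw [← sub_eq_zero]; ring_nf; simp only [h2, h4, h6, h8, h10, h12, h14, h16, h18, h20, h22, h24, h26, h28, h30, h32, mul_zero, zero_mul, add_zero, zero_add, neg_zero, sub_zero, sub_self]))
  exact UP_cj D (D.xmem59 c) (R.inv59 c) e (ih _ _ _ _ _ _ _ _ _ _ hn52)

theorem e6s21_6 (D : UData R)
    (ih : ∀ (t52 t53 t60 t62 t64 t65 t67 t66 t70 : K), t52 ≠ 0 → UP D (R.RNF (0) (0) (0) (0) (0) (0) (0) (0) (0) (0) (0) (0) (0) (0) (0) (0) (0) (0) (0) (0) (0) (t52) (t53) (t60) (t62) (0) (0) (t64) (0) (t65) (t67) (t66) (0) (0) (t70) (0))) :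
    ∀ (t52 t53 t60 t62 t64 t65 t67 t66 t70 t71 : K), t52 ≠ 0 → UP D (R.RNF (0) (0) (0) (0) (0) (0) (0) (0) (0) (0) (0) (0) (0) (0) (0) (0) (0) (0) (0) (0) (0) (t52) (t53) (t60) (t62) (0) (0) (t64) (0) (t65) (t67) (t66) (0) (0) (t70) (t71)) := by
  intro t52 t53 t60 t62 t64 t65 t67 t66 t70 t71 hn52
  have h2 : (2 : K) = 0 := CharTwo.two_eq_zero
  have h4 : (4 : K) = 0 := by linear_combination 2 * h2
  have h6 : (6 : K) = 0 := by linear_combination 3 * h2
  have h8 : (8 : K) = 0 := by linear_combination 4 * h2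
  have h10 : (10 : K) = 0 := by linear_combination 5 * h2
  have h12 : (12 : K) = 0 := by linear_combination 6 * h2
  have h14 : (14 : K) = 0 := by linear_combination 7 * h2
  have h16 : (16 : K) = 0 := by linear_combination 8 * h2
  have h18 : (18 : K) = 0 := by linear_combination 9 * h2
  have h20 : (20 : K) = 0 := by linear_combination 10 * h2
  have h22 : (22 : K) = 0 := by linear_combination 11 * h2
  have h24 : (24 : K) = 0 := by linear_combination 12 * h2
  have h26 : (26 : K) = 0 := by linear_combination 13 * h2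
  have h28 : (28 : K) = 0 := by linear_combination 14 * h2
  have h30 : (30 : K) = 0 := by linear_combination 15 * h2
  have h32 : (32 : K) = 0 := by linear_combination 16 * h2
  obtain ⟨c, rfl⟩ : ∃ c, t71 = c * t52 := ⟨t71 / t52, by field_simp⟩
  have e : R.X64 c * R.RNF (0) (0) (0) (0) (0) (0) (0) (0) (0) (0) (0) (0) (0) (0) (0) (0) (0) (0) (0) (0) (0) (t52) (t53) (t60) (t62) (0) (0) (t64) (0) (t65) (t67) (t66) (0) (0) (t70) (c * t52) * R.X64 c =
      R.RNF (0) (0) (0) (0) (0) (0) (0) (0) (0) (0) (0) (0) (0) (0) (0) (0) (0) (0) (0) (0) (0) (t52) (t53) (t60) (t62) (0) (0) (t64) (0) (t65) (t67) (t66) (0) (0) (t70) (0) := by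
    rw [R.ucj64]
    congr 1 <;> (first | rfl | ring1 | (rw [← sub_eq_zero]; ring_nf; simp only [h2, h4, h6, h8, h10, h12, h14, h16, h18, h20, h22, h24, h26, h28, h30, h32, mul_zero, zero_mul, add_zero, zero_add, neg_zero, sub_zero, sub_self]))
  exact UP_cj D (D.xmem64 c) (R.inv64 c) e (ih _ _ _ _ _ _ _ _ _ hn52)

theorem e6s21_7 (D : UData R)
    (ih : ∀ (t52 t53 t60 t62 t65 t67 t66 t70 : K), t52 ≠ 0 → UP D (R.RNF (0) (0) (0) (0) (0) (0) (0) (0) (0) (0) (0) (0) (0) (0) (0) (0) (0) (0) (0) (0) (0) (t52) (t53) (t60) (t62) (0) (0) (0) (0) (t65) (t67) (t66) (0) (0) (t70) (0))) :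
    ∀ (t52 t53 t60 t62 t64 t65 t67 t66 t70 : K), t52 ≠ 0 → UP D (R.RNF (0) (0) (0) (0) (0) (0) (0) (0) (0) (0) (0) (0) (0) (0) (0) (0) (0) (0) (0) (0) (0) (t52) (t53) (t60) (t62) (0) (0) (t64) (0) (t65) (t67) (t66) (0) (0) (t70) (0)) := by
  intro t52 t53 t60 t62 t64 t65 t67 t66 t70 hn52 hu hne
  have hsq := hu
  rw [R.usq] at hsq
  obtain ⟨e36, e37, e39, e42, e46, e56, e38, e40, e43, e47, e57, e41, e44, e48, e50, e58, e45, e49, e51, e59, e61, e52, e53, e60, e62, e54, e63, e64, e55, e65, e67, e66, e68, e69, e70, e71⟩ := D.inj _ _ _ _ _ _ _ _ _ _ _ _ _ _ _ _ _ _ _ _ _ _ _ _ _ _ _ _ _ _ _ _ _ _ _ _ hsq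
  have hz : t64 = 0 := by
    have h : t52 * t64 = 0 := by linear_combination e71
    exact (mul_eq_zero.mp h).resolve_left hn52
  subst hz
  exact ih _ _ _ _ _ _ _ _ hn52 hu hne

theorem e6s21_8 (D : UData R)
    (ihz : ∀ (t52 t60 t62 t65 t67 t66 t70 : K), t52 ≠ 0 → UP D (R.RNF (0) (0) (0) (0) (0) (0) (0) (0) (0) (0) (0) (0) (0) (0) (0) (0) (0) (0) (0) (0) (0) (t52) (0) (t60) (t62) (0) (0) (0) (0) (t65) (t67) (t66) (0) (0) (t70) (0)))
    (ihn : ∀ (t52 t53 t60 t62 t65 t67 t66 t70 : K), t52 ≠ 0 → t53 ≠ 0 → UP D (R.RNF (0) (0) (0) (0) (0) (0) (0) (0) (0) (0) (0) (0) (0) (0) (0) (0) (0) (0) (0) (0) (0) (t52) (t53) (t60) (t62) (0) (0) (0) (0) (t65) (t67) (t66) (0) (0) (t70) (0))) :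
    ∀ (t52 t53 t60 t62 t65 t67 t66 t70 : K), t52 ≠ 0 → UP D (R.RNF (0) (0) (0) (0) (0) (0) (0) (0) (0) (0) (0) (0) (0) (0) (0) (0) (0) (0) (0) (0) (0) (t52) (t53) (t60) (t62) (0) (0) (0) (0) (t65) (t67) (t66) (0) (0) (t70) (0)) := by
  intro t52 t53 t60 t62 t65 t67 t66 t70 hn52
  by_cases hn53 : t53 = 0
  · subst hn53; exact ihz _ _ _ _ _ _ _ hn52
  · exact ihn _ _ _ _ _ _ _ _ hn52 hn53

theorem e6s21_9 (D : UData R)
    (ih : ∀ (t60 t54 t63 t64 t67 t66 t69 : K), t54 ≠ 0 → UP D (R.RNF (0) (0) (0) (0) (0) (0) (0) (0) (0) (0) (0) (0) (0) (0) (0) (0) (0) (0) (0) (0) (0) (0) (0) (t60) (0) (t54) (t63) (t64) (0) (0) (t67) (t66) (0) (t69) (0) (0))) :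
    ∀ (t52 t60 t62 t65 t67 t66 t70 : K), t52 ≠ 0 → UP D (R.RNF (0) (0) (0) (0) (0) (0) (0) (0) (0) (0) (0) (0) (0) (0) (0) (0) (0) (0) (0) (0) (0) (t52) (0) (t60) (t62) (0) (0) (0) (0) (t65) (t67) (t66) (0) (0) (t70) (0)) := by
  intro t52 t60 t62 t65 t67 t66 t70 hn52
  have h2 : (2 : K) = 0 := CharTwo.two_eq_zero
  have h4 : (4 : K) = 0 := by linear_combination 2 * h2
  have h6 : (6 : K) = 0 := by linear_combination 3 * h2
  have h8 : (8 : K) = 0 := by linear_combination 4 * h2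
  have h10 : (10 : K) = 0 := by linear_combination 5 * h2
  have h12 : (12 : K) = 0 := by linear_combination 6 * h2
  have h14 : (14 : K) = 0 := by linear_combination 7 * h2
  have h16 : (16 : K) = 0 := by linear_combination 8 * h2
  have h18 : (18 : K) = 0 := by linear_combination 9 * h2
  have h20 : (20 : K) = 0 := by linear_combination 10 * h2
  have h22 : (22 : K) = 0 := by linear_combination 11 * h2
  have h24 : (24 : K) = 0 := by linear_combination 12 * h2
  have h26 : (26 : K) = 0 := by linear_combination 13 * h2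
  have h28 : (28 : K) = 0 := by linear_combination 14 * h2
  have h30 : (30 : K) = 0 := by linear_combination 15 * h2
  have h32 : (32 : K) = 0 := by linear_combination 16 * h2
  have e : D.n4 * R.RNF (0) (0) (0) (0) (0) (0) (0) (0) (0) (0) (0) (0) (0) (0) (0) (0) (0) (0) (0) (0) (0) (t52) (0) (t60) (t62) (0) (0) (0) (0) (t65) (t67) (t66) (0) (0) (t70) (0) * D.n4⁻¹ =
      R.RNF (0) (0) (0) (0) (0) (0) (0) (0) (0) (0) (0) (0) (0) (0) (0) (0) (0) (0) (0) (0) (0) (0) (0) (t60) (0) (t52) (t65) (t62) (0) (0) (t67) (t66) (0) (t70) (0) (0) := by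
    rw [D.toWeylE6.conj_n4]
    congr 1 <;> (first | rfl | ring1 | (rw [← sub_eq_zero]; ring_nf; simp only [h2, h4, h6, h8, h10, h12, h14, h16, h18, h20, h22, h24, h26, h28, h30, h32, mul_zero, zero_mul, add_zero, zero_add, neg_zero, sub_zero, sub_self]))
  exact UP_n D D.n4_mem e (ih _ _ _ _ _ _ _ hn52)

theorem e6s21_10 (D : UData R)
    (ih : ∀ (t52 t53 t62 t65 t67 t66 t70 : K), t52 ≠ 0 → t53 ≠ 0 → UP D (R.RNF (0) (0) (0) (0) (0) (0) (0) (0) (0) (0) (0) (0) (0) (0) (0) (0) (0) (0) (0) (0) (0) (t52) (t53) (0) (t62) (0) (0) (0) (0) (t65) (t67) (t66) (0) (0) (t70) (0))) :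
    ∀ (t52 t53 t60 t62 t65 t67 t66 t70 : K), t52 ≠ 0 → t53 ≠ 0 → UP D (R.RNF (0) (0) (0) (0) (0) (0) (0) (0) (0) (0) (0) (0) (0) (0) (0) (0) (0) (0) (0) (0) (0) (t52) (t53) (t60) (t62) (0) (0) (0) (0) (t65) (t67) (t66) (0) (0) (t70) (0)) := by
  intro t52 t53 t60 t62 t65 t67 t66 t70 hn52 hn53 hu hne
  have hsq := hu
  rw [R.usq] at hsq
  obtain ⟨e36, e37, e39, e42, e46, e56, e38, e40, e43, e47, e57, e41, e44, e48, e50, e58, e45, e49, e51, e59, e61, e52, e53, e60, e62, e54, e63, e64, e55, e65, e67, e66, e68, e69, e70, e71⟩ := D.inj _ _ _ _ _ _ _ _ _ _ _ _ _ _ _ _ _ _ _ _ _ _ _ _ _ _ _ _ _ _ _ _ _ _ _ _ hsq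
  have hz : t60 = 0 := by
    have h : t53 * t60 = 0 := by linear_combination e70
    exact (mul_eq_zero.mp h).resolve_left hn53
  subst hz
  exact ih _ _ _ _ _ _ _ hn52 hn53 hu hne

theorem e6s21_11 (D : UData R)
    (ih : ∀ (t52 t53 t62 t65 t66 t70 : K), t52 ≠ 0 → t53 ≠ 0 → UP D (R.RNF (0) (0) (0) (0) (0) (0) (0) (0) (0) (0) (0) (0) (0) (0) (0) (0) (0) (0) (0) (0) (0) (t52) (t53) (0) (t62) (0) (0) (0) (0) (t65) (0) (t66) (0) (0) (t70) (0))) :
    ∀ (t52 t53 t62 t65 t67 t66 t70 : K), t52 ≠ 0 → t53 ≠ 0 → UP D (R.RNF (0) (0) (0) (0) (0) (0) (0) (0) (0) (0) (0) (0) (0) (0) (0) (0) (0) (0) (0) (0) (0) (t52) (t53) (0) (t62) (0) (0) (0) (0) (t65) (t67) (t66) (0) (0) (t70) (0)) := by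
  intro t52 t53 t62 t65 t67 t66 t70 hn52 hn53
  have h2 : (2 : K) = 0 := CharTwo.two_eq_zero
  have h4 : (4 : K) = 0 := by linear_combination 2 * h2
  have h6 : (6 : K) = 0 := by linear_combination 3 * h2
  have h8 : (8 : K) = 0 := by linear_combination 4 * h2
  have h10 : (10 : K) = 0 := by linear_combination 5 * h2
  have h12 : (12 : K) = 0 := by linear_combination 6 * h2
  have h14 : (14 : K) = 0 := by linear_combination 7 * h2
  have h16 : (16 : K) = 0 := by linear_combination 8 * h2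
  have h18 : (18 : K) = 0 := by linear_combination 9 * h2
  have h20 : (20 : K) = 0 := by linear_combination 10 * h2
  have h22 : (22 : K) = 0 := by linear_combination 11 * h2
  have h24 : (24 : K) = 0 := by linear_combination 12 * h2
  have h26 : (26 : K) = 0 := by linear_combination 13 * h2
  have h28 : (28 : K) = 0 := by linear_combination 14 * h2
  have h30 : (30 : K) = 0 := by linear_combination 15 * h2
  have h32 : (32 : K) = 0 := by linear_combination 16 * h2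
  obtain ⟨c, rfl⟩ : ∃ c, t67 = c * t53 := ⟨t67 / t53, by field_simp⟩
  have e : R.X57 c * R.RNF (0) (0) (0) (0) (0) (0) (0) (0) (0) (0) (0) (0) (0) (0) (0) (0) (0) (0) (0) (0) (0) (t52) (t53) (0) (t62) (0) (0) (0) (0) (t65) (c * t53) (t66) (0) (0) (t70) (0) * R.X57 c =
      R.RNF (0) (0) (0) (0) (0) (0) (0) (0) (0) (0) (0) (0) (0) (0) (0) (0) (0) (0) (0) (0) (0) (t52) (t53) (0) (t62) (0) (0) (0) (0) (t65) (0) (t66) (0) (0) (t70) (0) := by
    rw [R.ucj57]
    congr 1 <;> (first | rfl | ring1 | (rw [← sub_eq_zero]; ring_nf; simp only [h2, h4, h6, h8, h10, h12, h14, h16, h18, h20, h22, h24, h26, h28, h30, h32, mul_zero, zero_mul, add_zero, zero_add, neg_zero, sub_zero, sub_self]))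
  exact UP_cj D (D.xmem57 c) (R.inv57 c) e (ih _ _ _ _ _ _ hn52 hn53)

theorem e6s21_12 (D : UData R)
    (ih : ∀ (t52 t53 t62 t65 t66 : K), t52 ≠ 0 → t53 ≠ 0 → UP D (R.RNF (0) (0) (0) (0) (0) (0) (0) (0) (0) (0) (0) (0) (0) (0) (0) (0) (0) (0) (0) (0) (0) (t52) (t53) (0) (t62) (0) (0) (0) (0) (t65) (0) (t66) (0) (0) (0) (0))) :
    ∀ (t52 t53 t62 t65 t66 t70 : K), t52 ≠ 0 → t53 ≠ 0 → UP D (R.RNF (0) (0) (0) (0) (0) (0) (0) (0) (0) (0) (0) (0) (0) (0) (0) (0) (0) (0) (0) (0) (0) (t52) (t53) (0) (t62) (0) (0) (0) (0) (t65) (0) (t66) (0) (0) (t70) (0)) := by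
  intro t52 t53 t62 t65 t66 t70 hn52 hn53
  have h2 : (2 : K) = 0 := CharTwo.two_eq_zero
  have h4 : (4 : K) = 0 := by linear_combination 2 * h2
  have h6 : (6 : K) = 0 := by linear_combination 3 * h2
  have h8 : (8 : K) = 0 := by linear_combination 4 * h2
  have h10 : (10 : K) = 0 := by linear_combination 5 * h2
  have h12 : (12 : K) = 0 := by linear_combination 6 * h2
  have h14 : (14 : K) = 0 := by linear_combination 7 * h2
  have h16 : (16 : K) = 0 := by linear_combination 8 * h2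
  have h18 : (18 : K) = 0 := by linear_combination 9 * h2
  have h20 : (20 : K) = 0 := by linear_combination 10 * h2
  have h22 : (22 : K) = 0 := by linear_combination 11 * h2
  have h24 : (24 : K) = 0 := by linear_combination 12 * h2
  have h26 : (26 : K) = 0 := by linear_combination 13 * h2
  have h28 : (28 : K) = 0 := by linear_combination 14 * h2
  have h30 : (30 : K) = 0 := by linear_combination 15 * h2
  have h32 : (32 : K) = 0 := by linear_combination 16 * h2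
  obtain ⟨c, rfl⟩ : ∃ c, t70 = c * t53 := ⟨t70 / t53, by field_simp⟩
  have e : R.X60 c * R.RNF (0) (0) (0) (0) (0) (0) (0) (0) (0) (0) (0) (0) (0) (0) (0) (0) (0) (0) (0) (0) (0) (t52) (t53) (0) (t62) (0) (0) (0) (0) (t65) (0) (t66) (0) (0) (c * t53) (0) * R.X60 c =
      R.RNF (0) (0) (0) (0) (0) (0) (0) (0) (0) (0) (0) (0) (0) (0) (0) (0) (0) (0) (0) (0) (0) (t52) (t53) (0) (t62) (0) (0) (0) (0) (t65) (0) (t66) (0) (0) (0) (0) := by
    rw [R.ucj60]
    congr 1 <;> (first | rfl | ring1 | (rw [← sub_eq_zero]; ring_nf; simp only [h2, h4, h6, h8, h10, h12, h14, h16, h18, h20, h22, h24, h26, h28, h30, h32, mul_zero, zero_mul, add_zero, zero_add, neg_zero, sub_zero, sub_self]))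
  exact UP_cj D (D.xmem60 c) (R.inv60 c) e (ih _ _ _ _ _ hn52 hn53)

theorem e6s21_13 (D : UData R)
    (ihz : ∀ (t52 t53 t65 t66 : K), t52 ≠ 0 → t53 ≠ 0 → UP D (R.RNF (0) (0) (0) (0) (0) (0) (0) (0) (0) (0) (0) (0) (0) (0) (0) (0) (0) (0) (0) (0) (0) (t52) (t53) (0) (0) (0) (0) (0) (0) (t65) (0) (t66) (0) (0) (0) (0)))
    (ihn : ∀ (t52 t53 t62 t65 t66 : K), t52 ≠ 0 → t53 ≠ 0 → t62 ≠ 0 → UP D (R.RNF (0) (0) (0) (0) (0) (0) (0) (0) (0) (0) (0) (0) (0) (0) (0) (0) (0) (0) (0) (0) (0) (t52) (t53) (0) (t62) (0) (0) (0) (0) (t65) (0) (t66) (0) (0) (0) (0))) :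
    ∀ (t52 t53 t62 t65 t66 : K), t52 ≠ 0 → t53 ≠ 0 → UP D (R.RNF (0) (0) (0) (0) (0) (0) (0) (0) (0) (0) (0) (0) (0) (0) (0) (0) (0) (0) (0) (0) (0) (t52) (t53) (0) (t62) (0) (0) (0) (0) (t65) (0) (t66) (0) (0) (0) (0)) := by
  intro t52 t53 t62 t65 t66 hn52 hn53
  by_cases hn62 : t62 = 0
  · subst hn62; exact ihz _ _ _ _ hn52 hn53
  · exact ihn _ _ _ _ _ hn52 hn53 hn62

theorem e6s21_14 (D : UData R)
    (ih : ∀ (t54 t63 t64 t55 : K), t63 ≠ 0 → t64 ≠ 0 → UP D (R.RNF (0) (0) (0) (0) (0) (0) (0) (0) (0) (0) (0) (0) (0) (0) (0) (0) (0) (0) (0) (0) (0) (0) (0) (0) (0) (t54) (t63) (t64) (t55) (0) (0) (0) (0) (0) (0) (0))) :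
    ∀ (t52 t53 t65 t66 : K), t52 ≠ 0 → t53 ≠ 0 → UP D (R.RNF (0) (0) (0) (0) (0) (0) (0) (0) (0) (0) (0) (0) (0) (0) (0) (0) (0) (0) (0) (0) (0) (t52) (t53) (0) (0) (0) (0) (0) (0) (t65) (0) (t66) (0) (0) (0) (0)) := by
  intro t52 t53 t65 t66 hn52 hn53
  have h2 : (2 : K) = 0 := CharTwo.two_eq_zero
  have h4 : (4 : K) = 0 := by linear_combination 2 * h2
  have h6 : (6 : K) = 0 := by linear_combination 3 * h2
  have h8 : (8 : K) = 0 := by linear_combination 4 * h2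
  have h10 : (10 : K) = 0 := by linear_combination 5 * h2
  have h12 : (12 : K) = 0 := by linear_combination 6 * h2
  have h14 : (14 : K) = 0 := by linear_combination 7 * h2
  have h16 : (16 : K) = 0 := by linear_combination 8 * h2
  have h18 : (18 : K) = 0 := by linear_combination 9 * h2
  have h20 : (20 : K) = 0 := by linear_combination 10 * h2
  have h22 : (22 : K) = 0 := by linear_combination 11 * h2
  have h24 : (24 : K) = 0 := by linear_combination 12 * h2
  have h26 : (26 : K) = 0 := by linear_combination 13 * h2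
  have h28 : (28 : K) = 0 := by linear_combination 14 * h2
  have h30 : (30 : K) = 0 := by linear_combination 15 * h2
  have h32 : (32 : K) = 0 := by linear_combination 16 * h2
  have e : D.n1 * R.RNF (0) (0) (0) (0) (0) (0) (0) (0) (0) (0) (0) (0) (0) (0) (0) (0) (0) (0) (0) (0) (0) (t52) (t53) (0) (0) (0) (0) (0) (0) (t65) (0) (t66) (0) (0) (0) (0) * D.n1⁻¹ =
      R.RNF (0) (0) (0) (0) (0) (0) (0) (0) (0) (0) (0) (0) (0) (0) (0) (0) (0) (0) (0) (0) (0) (0) (0) (0) (0) (t65) (t52) (t53) (t66) (0) (0) (0) (0) (0) (0) (0) := by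
    rw [D.toWeylE6.conj_n1]
    congr 1 <;> (first | rfl | ring1 | (rw [← sub_eq_zero]; ring_nf; simp only [h2, h4, h6, h8, h10, h12, h14, h16, h18, h20, h22, h24, h26, h28, h30, h32, mul_zero, zero_mul, add_zero, zero_add, neg_zero, sub_zero, sub_self]))
  exact UP_n D D.n1_mem e (ih _ _ _ _ hn52 hn53)

theorem e6s21_15 (D : UData R)
    (ih : ∀ (t52 t53 t62 t65 : K), t52 ≠ 0 → t53 ≠ 0 → t62 ≠ 0 → UP D (R.RNF (0) (0) (0) (0) (0) (0) (0) (0) (0) (0) (0) (0) (0) (0) (0) (0) (0) (0) (0) (0) (0) (t52) (t53) (0) (t62) (0) (0) (0) (0) (t65) (0) (0) (0) (0) (0) (0))) :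
    ∀ (t52 t53 t62 t65 t66 : K), t52 ≠ 0 → t53 ≠ 0 → t62 ≠ 0 → UP D (R.RNF (0) (0) (0) (0) (0) (0) (0) (0) (0) (0) (0) (0) (0) (0) (0) (0) (0) (0) (0) (0) (0) (t52) (t53) (0) (t62) (0) (0) (0) (0) (t65) (0) (t66) (0) (0) (0) (0)) := by
  intro t52 t53 t62 t65 t66 hn52 hn53 hn62
  have h2 : (2 : K) = 0 := CharTwo.two_eq_zero
  have h4 : (4 : K) = 0 := by linear_combination 2 * h2
  have h6 : (6 : K) = 0 := by linear_combination 3 * h2
  have h8 : (8 : K) = 0 := by linear_combination 4 * h2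
  have h10 : (10 : K) = 0 := by linear_combination 5 * h2
  have h12 : (12 : K) = 0 := by linear_combination 6 * h2
  have h14 : (14 : K) = 0 := by linear_combination 7 * h2
  have h16 : (16 : K) = 0 := by linear_combination 8 * h2
  have h18 : (18 : K) = 0 := by linear_combination 9 * h2
  have h20 : (20 : K) = 0 := by linear_combination 10 * h2
  have h22 : (22 : K) = 0 := by linear_combination 11 * h2
  have h24 : (24 : K) = 0 := by linear_combination 12 * h2
  have h26 : (26 : K) = 0 := by linear_combination 13 * h2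
  have h28 : (28 : K) = 0 := by linear_combination 14 * h2
  have h30 : (30 : K) = 0 := by linear_combination 15 * h2
  have h32 : (32 : K) = 0 := by linear_combination 16 * h2
  obtain ⟨c, rfl⟩ : ∃ c, t66 = c * t62 := ⟨t66 / t62, by field_simp⟩
  have e : R.X41 c * R.RNF (0) (0) (0) (0) (0) (0) (0) (0) (0) (0) (0) (0) (0) (0) (0) (0) (0) (0) (0) (0) (0) (t52) (t53) (0) (t62) (0) (0) (0) (0) (t65) (0) (c * t62) (0) (0) (0) (0) * R.X41 c =
      R.RNF (0) (0) (0) (0) (0) (0) (0) (0) (0) (0) (0) (0) (0) (0) (0) (0) (0) (0) (0) (0) (0) (t52) (t53) (0) (t62) (0) (0) (0) (0) (t65) (0) (0) (0) (0) (0) (0) := by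
    rw [R.ucj41]
    congr 1 <;> (first | rfl | ring1 | (rw [← sub_eq_zero]; ring_nf; simp only [h2, h4, h6, h8, h10, h12, h14, h16, h18, h20, h22, h24, h26, h28, h30, h32, mul_zero, zero_mul, add_zero, zero_add, neg_zero, sub_zero, sub_self]))
  exact UP_cj D (D.xmem41 c) (R.inv41 c) e (ih _ _ _ _ hn52 hn53 hn62)

theorem e6s21_16 (D : UData R)
    (ih : ∀ (t52 t53 t62 t71 : K), t52 ≠ 0 → t53 ≠ 0 → t62 ≠ 0 → UP D (R.RNF (0) (0) (0) (0) (0) (0) (0) (0) (0) (0) (0) (0) (0) (0) (0) (0) (0) (0) (0) (0) (0) (t52) (t53) (0) (t62) (0) (0) (0) (0) (0) (0) (0) (0) (0) (0) (t71))) :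
    ∀ (t52 t53 t62 t65 : K), t52 ≠ 0 → t53 ≠ 0 → t62 ≠ 0 → UP D (R.RNF (0) (0) (0) (0) (0) (0) (0) (0) (0) (0) (0) (0) (0) (0) (0) (0) (0) (0) (0) (0) (0) (t52) (t53) (0) (t62) (0) (0) (0) (0) (t65) (0) (0) (0) (0) (0) (0)) := by
  intro t52 t53 t62 t65 hn52 hn53 hn62
  have h2 : (2 : K) = 0 := CharTwo.two_eq_zero
  have h4 : (4 : K) = 0 := by linear_combination 2 * h2
  have h6 : (6 : K) = 0 := by linear_combination 3 * h2
  have h8 : (8 : K) = 0 := by linear_combination 4 * h2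
  have h10 : (10 : K) = 0 := by linear_combination 5 * h2
  have h12 : (12 : K) = 0 := by linear_combination 6 * h2
  have h14 : (14 : K) = 0 := by linear_combination 7 * h2
  have h16 : (16 : K) = 0 := by linear_combination 8 * h2
  have h18 : (18 : K) = 0 := by linear_combination 9 * h2
  have h20 : (20 : K) = 0 := by linear_combination 10 * h2
  have h22 : (22 : K) = 0 := by linear_combination 11 * h2
  have h24 : (24 : K) = 0 := by linear_combination 12 * h2
  have h26 : (26 : K) = 0 := by linear_combination 13 * h2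
  have h28 : (28 : K) = 0 := by linear_combination 14 * h2
  have h30 : (30 : K) = 0 := by linear_combination 15 * h2
  have h32 : (32 : K) = 0 := by linear_combination 16 * h2
  obtain ⟨e, he⟩ := D.sqrt (t65 / (t52 * t53 * t62))
  obtain rfl : t65 = e ^ 2 * t52 * t53 * t62 := by rw [he]; field_simp
  have e1 : R.X36 (e * t52) * R.RNF (0) (0) (0) (0) (0) (0) (0) (0) (0) (0) (0) (0) (0) (0) (0) (0) (0) (0) (0) (0) (0) (t52) (t53) (0) (t62) (0) (0) (0) (0) (e ^ 2 * t52 * t53 * t62) (0) (0) (0) (0) (0) (0) * R.X36 (e * t52) =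
      R.RNF (0) (0) (0) (0) (0) (0) (0) (0) (0) (0) (0) (0) (0) (0) (0) (0) (0) (0) (0) (0) (0) (t52) (t53) (0) (t62) (e * t52 * t53) (e * t52 * t62) (0) (0) (e ^ 2 * t52 * t53 * t62) (0) (0) (0) (0) (0) (e * t52 * t53 * t62) := by
    rw [R.ucj36]
    congr 1 <;> (first | rfl | ring1 | (rw [← sub_eq_zero]; ring_nf; simp only [h2, h4, h6, h8, h10, h12, h14, h16, h18, h20, h22, h24, h26, h28, h30, h32, mul_zero, zero_mul, add_zero, zero_add, neg_zero, sub_zero, sub_self]))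
  have e2 : R.X39 (e * t53) * R.RNF (0) (0) (0) (0) (0) (0) (0) (0) (0) (0) (0) (0) (0) (0) (0) (0) (0) (0) (0) (0) (0) (t52) (t53) (0) (t62) (e * t52 * t53) (e * t52 * t62) (0) (0) (e ^ 2 * t52 * t53 * t62) (0) (0) (0) (0) (0) (e * t52 * t53 * t62) * R.X39 (e * t53) =
      R.RNF (0) (0) (0) (0) (0) (0) (0) (0) (0) (0) (0) (0) (0) (0) (0) (0) (0) (0) (0) (0) (0) (t52) (t53) (0) (t62) (0) (e * t52 * t62) (e * t53 * t62) (0) (0) (0) (0) (0) (0) (0) (0) := by
    rw [R.ucj39]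
    congr 1 <;> (first | rfl | ring1 | (rw [← sub_eq_zero]; ring_nf; simp only [h2, h4, h6, h8, h10, h12, h14, h16, h18, h20, h22, h24, h26, h28, h30, h32, mul_zero, zero_mul, add_zero, zero_add, neg_zero, sub_zero, sub_self]))
  have e3 : R.X56 (e * t62) * R.RNF (0) (0) (0) (0) (0) (0) (0) (0) (0) (0) (0) (0) (0) (0) (0) (0) (0) (0) (0) (0) (0) (t52) (t53) (0) (t62) (0) (e * t52 * t62) (e * t53 * t62) (0) (0) (0) (0) (0) (0) (0) (0) * R.X56 (e * t62) =
      R.RNF (0) (0) (0) (0) (0) (0) (0) (0) (0) (0) (0) (0) (0) (0) (0) (0) (0) (0) (0) (0) (0) (t52) (t53) (0) (t62) (0) (0) (0) (0) (0) (0) (0) (0) (0) (0) (e * t52 * t53 * t62) := by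
    rw [R.ucj56]
    congr 1 <;> (first | rfl | ring1 | (rw [← sub_eq_zero]; ring_nf; simp only [h2, h4, h6, h8, h10, h12, h14, h16, h18, h20, h22, h24, h26, h28, h30, h32, mul_zero, zero_mul, add_zero, zero_add, neg_zero, sub_zero, sub_self]))
  exact UP_cj D (D.xmem36 _) (R.inv36 _) e1 (UP_cj D (D.xmem39 _) (R.inv39 _) e2 (UP_cj D (D.xmem56 _) (R.inv56 _) e3
    (ih _ _ _ _ hn52 hn53 hn62)))

theorem e6s21_17 (D : UData R)
    (ih : ∀ (t52 t53 t62 : K), t52 ≠ 0 → t53 ≠ 0 → t62 ≠ 0 → UP D (R.RNF (0) (0) (0) (0) (0) (0) (0) (0) (0) (0) (0) (0) (0) (0) (0) (0) (0) (0) (0) (0) (0) (t52) (t53) (0) (t62) (0) (0) (0) (0) (0) (0) (0) (0) (0) (0) (0))) :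
    ∀ (t52 t53 t62 t71 : K), t52 ≠ 0 → t53 ≠ 0 → t62 ≠ 0 → UP D (R.RNF (0) (0) (0) (0) (0) (0) (0) (0) (0) (0) (0) (0) (0) (0) (0) (0) (0) (0) (0) (0) (0) (t52) (t53) (0) (t62) (0) (0) (0) (0) (0) (0) (0) (0) (0) (0) (t71)) := by
  intro t52 t53 t62 t71 hn52 hn53 hn62
  have h2 : (2 : K) = 0 := CharTwo.two_eq_zero
  have h4 : (4 : K) = 0 := by linear_combination 2 * h2
  have h6 : (6 : K) = 0 := by linear_combination 3 * h2
  have h8 : (8 : K) = 0 := by linear_combination 4 * h2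
  have h10 : (10 : K) = 0 := by linear_combination 5 * h2
  have h12 : (12 : K) = 0 := by linear_combination 6 * h2
  have h14 : (14 : K) = 0 := by linear_combination 7 * h2
  have h16 : (16 : K) = 0 := by linear_combination 8 * h2
  have h18 : (18 : K) = 0 := by linear_combination 9 * h2
  have h20 : (20 : K) = 0 := by linear_combination 10 * h2
  have h22 : (22 : K) = 0 := by linear_combination 11 * h2
  have h24 : (24 : K) = 0 := by linear_combination 12 * h2
  have h26 : (26 : K) = 0 := by linear_combination 13 * h2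
  have h28 : (28 : K) = 0 := by linear_combination 14 * h2
  have h30 : (30 : K) = 0 := by linear_combination 15 * h2
  have h32 : (32 : K) = 0 := by linear_combination 16 * h2
  obtain ⟨c, rfl⟩ : ∃ c, t71 = c * t52 := ⟨t71 / t52, by field_simp⟩
  have e : R.X64 c * R.RNF (0) (0) (0) (0) (0) (0) (0) (0) (0) (0) (0) (0) (0) (0) (0) (0) (0) (0) (0) (0) (0) (t52) (t53) (0) (t62) (0) (0) (0) (0) (0) (0) (0) (0) (0) (0) (c * t52) * R.X64 c =
      R.RNF (0) (0) (0) (0) (0) (0) (0) (0) (0) (0) (0) (0) (0) (0) (0) (0) (0) (0) (0) (0) (0) (t52) (t53) (0) (t62) (0) (0) (0) (0) (0) (0) (0) (0) (0) (0) (0) := by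
    rw [R.ucj64]
    congr 1 <;> (first | rfl | ring1 | (rw [← sub_eq_zero]; ring_nf; simp only [h2, h4, h6, h8, h10, h12, h14, h16, h18, h20, h22, h24, h26, h28, h30, h32, mul_zero, zero_mul, add_zero, zero_add, neg_zero, sub_zero, sub_self]))
  exact UP_cj D (D.xmem64 c) (R.inv64 c) e (ih _ _ _ hn52 hn53 hn62)

theorem e6s21_18 (D : UData R)
    (ih : ∀ (t51 t63 t64 : K), t51 ≠ 0 → t63 ≠ 0 → t64 ≠ 0 → UP D (R.RNF (0) (0) (0) (0) (0) (0) (0) (0) (0) (0) (0) (0) (0) (0) (0) (0) (0) (0) (t51) (0) (0) (0) (0) (0) (0) (0) (t63) (t64) (0) (0) (0) (0) (0) (0) (0) (0))) :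
    ∀ (t52 t53 t62 : K), t52 ≠ 0 → t53 ≠ 0 → t62 ≠ 0 → UP D (R.RNF (0) (0) (0) (0) (0) (0) (0) (0) (0) (0) (0) (0) (0) (0) (0) (0) (0) (0) (0) (0) (0) (t52) (t53) (0) (t62) (0) (0) (0) (0) (0) (0) (0) (0) (0) (0) (0)) := by
  intro t52 t53 t62 hn52 hn53 hn62
  have h2 : (2 : K) = 0 := CharTwo.two_eq_zero
  have h4 : (4 : K) = 0 := by linear_combination 2 * h2
  have h6 : (6 : K) = 0 := by linear_combination 3 * h2
  have h8 : (8 : K) = 0 := by linear_combination 4 * h2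
  have h10 : (10 : K) = 0 := by linear_combination 5 * h2
  have h12 : (12 : K) = 0 := by linear_combination 6 * h2
  have h14 : (14 : K) = 0 := by linear_combination 7 * h2
  have h16 : (16 : K) = 0 := by linear_combination 8 * h2
  have h18 : (18 : K) = 0 := by linear_combination 9 * h2
  have h20 : (20 : K) = 0 := by linear_combination 10 * h2
  have h22 : (22 : K) = 0 := by linear_combination 11 * h2
  have h24 : (24 : K) = 0 := by linear_combination 12 * h2
  have h26 : (26 : K) = 0 := by linear_combination 13 * h2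
  have h28 : (28 : K) = 0 := by linear_combination 14 * h2
  have h30 : (30 : K) = 0 := by linear_combination 15 * h2
  have h32 : (32 : K) = 0 := by linear_combination 16 * h2
  have e : D.n1 * R.RNF (0) (0) (0) (0) (0) (0) (0) (0) (0) (0) (0) (0) (0) (0) (0) (0) (0) (0) (0) (0) (0) (t52) (t53) (0) (t62) (0) (0) (0) (0) (0) (0) (0) (0) (0) (0) (0) * D.n1⁻¹ =
      R.RNF (0) (0) (0) (0) (0) (0) (0) (0) (0) (0) (0) (0) (0) (0) (0) (0) (0) (0) (t62) (0) (0) (0) (0) (0) (0) (0) (t52) (t53) (0) (0) (0) (0) (0) (0) (0) (0) := by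
    rw [D.toWeylE6.conj_n1]
    congr 1 <;> (first | rfl | ring1 | (rw [← sub_eq_zero]; ring_nf; simp only [h2, h4, h6, h8, h10, h12, h14, h16, h18, h20, h22, h24, h26, h28, h30, h32, mul_zero, zero_mul, add_zero, zero_add, neg_zero, sub_zero, sub_self]))
  exact UP_n D D.n1_mem e (ih _ _ _ hn62 hn52 hn53)

theorem e6s21_19 (D : UData R)
    (ih : ∀ (t53 t62 t65 : K), t53 ≠ 0 → t62 ≠ 0 → t65 ≠ 0 → UP D (R.RNF (0) (0) (0) (0) (0) (0) (0) (0) (0) (0) (0) (0) (0) (0) (0) (0) (0) (0) (0) (0) (0) (0) (t53) (0) (t62) (0) (0) (0) (0) (t65) (0) (0) (0) (0) (0) (0))) :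
    ∀ (t51 t63 t64 : K), t51 ≠ 0 → t63 ≠ 0 → t64 ≠ 0 → UP D (R.RNF (0) (0) (0) (0) (0) (0) (0) (0) (0) (0) (0) (0) (0) (0) (0) (0) (0) (0) (t51) (0) (0) (0) (0) (0) (0) (0) (t63) (t64) (0) (0) (0) (0) (0) (0) (0) (0)) := by
  intro t51 t63 t64 hn51 hn63 hn64
  have h2 : (2 : K) = 0 := CharTwo.two_eq_zero
  have h4 : (4 : K) = 0 := by linear_combination 2 * h2
  have h6 : (6 : K) = 0 := by linear_combination 3 * h2
  have h8 : (8 : K) = 0 := by linear_combination 4 * h2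
  have h10 : (10 : K) = 0 := by linear_combination 5 * h2
  have h12 : (12 : K) = 0 := by linear_combination 6 * h2
  have h14 : (14 : K) = 0 := by linear_combination 7 * h2
  have h16 : (16 : K) = 0 := by linear_combination 8 * h2
  have h18 : (18 : K) = 0 := by linear_combination 9 * h2
  have h20 : (20 : K) = 0 := by linear_combination 10 * h2
  have h22 : (22 : K) = 0 := by linear_combination 11 * h2
  have h24 : (24 : K) = 0 := by linear_combination 12 * h2
  have h26 : (26 : K) = 0 := by linear_combination 13 * h2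
  have h28 : (28 : K) = 0 := by linear_combination 14 * h2
  have h30 : (30 : K) = 0 := by linear_combination 15 * h2
  have h32 : (32 : K) = 0 := by linear_combination 16 * h2
  have e : D.n4 * R.RNF (0) (0) (0) (0) (0) (0) (0) (0) (0) (0) (0) (0) (0) (0) (0) (0) (0) (0) (t51) (0) (0) (0) (0) (0) (0) (0) (t63) (t64) (0) (0) (0) (0) (0) (0) (0) (0) * D.n4⁻¹ =
      R.RNF (0) (0) (0) (0) (0) (0) (0) (0) (0) (0) (0) (0) (0) (0) (0) (0) (0) (0) (0) (0) (0) (0) (t51) (0) (t64) (0) (0) (0) (0) (t63) (0) (0) (0) (0) (0) (0) := by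
    rw [D.toWeylE6.conj_n4]
    congr 1 <;> (first | rfl | ring1 | (rw [← sub_eq_zero]; ring_nf; simp only [h2, h4, h6, h8, h10, h12, h14, h16, h18, h20, h22, h24, h26, h28, h30, h32, mul_zero, zero_mul, add_zero, zero_add, neg_zero, sub_zero, sub_self]))
  exact UP_n D D.n4_mem e (ih _ _ _ hn51 hn64 hn63)

theorem e6s21_20 (D : UData R)
    (ih : ∀ (t53 t62 t68 : K), t53 ≠ 0 → t62 ≠ 0 → t68 ≠ 0 → UP D (R.RNF (0) (0) (0) (0) (0) (0) (0) (0) (0) (0) (0) (0) (0) (0) (0) (0) (0) (0) (0) (0) (0) (0) (t53) (0) (t62) (0) (0) (0) (0) (0) (0) (0) (t68) (0) (0) (0))) :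
    ∀ (t53 t62 t65 : K), t53 ≠ 0 → t62 ≠ 0 → t65 ≠ 0 → UP D (R.RNF (0) (0) (0) (0) (0) (0) (0) (0) (0) (0) (0) (0) (0) (0) (0) (0) (0) (0) (0) (0) (0) (0) (t53) (0) (t62) (0) (0) (0) (0) (t65) (0) (0) (0) (0) (0) (0)) := by
  intro t53 t62 t65 hn53 hn62 hn65
  have h2 : (2 : K) = 0 := CharTwo.two_eq_zero
  have h4 : (4 : K) = 0 := by linear_combination 2 * h2
  have h6 : (6 : K) = 0 := by linear_combination 3 * h2
  have h8 : (8 : K) = 0 := by linear_combination 4 * h2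
  have h10 : (10 : K) = 0 := by linear_combination 5 * h2
  have h12 : (12 : K) = 0 := by linear_combination 6 * h2
  have h14 : (14 : K) = 0 := by linear_combination 7 * h2
  have h16 : (16 : K) = 0 := by linear_combination 8 * h2
  have h18 : (18 : K) = 0 := by linear_combination 9 * h2
  have h20 : (20 : K) = 0 := by linear_combination 10 * h2
  have h22 : (22 : K) = 0 := by linear_combination 11 * h2
  have h24 : (24 : K) = 0 := by linear_combination 12 * h2
  have h26 : (26 : K) = 0 := by linear_combination 13 * h2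
  have h28 : (28 : K) = 0 := by linear_combination 14 * h2
  have h30 : (30 : K) = 0 := by linear_combination 15 * h2
  have h32 : (32 : K) = 0 := by linear_combination 16 * h2
  have e : D.n3 * R.RNF (0) (0) (0) (0) (0) (0) (0) (0) (0) (0) (0) (0) (0) (0) (0) (0) (0) (0) (0) (0) (0) (0) (t53) (0) (t62) (0) (0) (0) (0) (t65) (0) (0) (0) (0) (0) (0) * D.n3⁻¹ =
      R.RNF (0) (0) (0) (0) (0) (0) (0) (0) (0) (0) (0) (0) (0) (0) (0) (0) (0) (0) (0) (0) (0) (0) (t53) (0) (t62) (0) (0) (0) (0) (0) (0) (0) (t65) (0) (0) (0) := by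
    rw [D.toWeylE6.conj_n3]
    congr 1 <;> (first | rfl | ring1 | (rw [← sub_eq_zero]; ring_nf; simp only [h2, h4, h6, h8, h10, h12, h14, h16, h18, h20, h22, h24, h26, h28, h30, h32, mul_zero, zero_mul, add_zero, zero_add, neg_zero, sub_zero, sub_self]))
  exact UP_n D D.n3_mem e (ih _ _ _ hn53 hn62 hn65)

theorem e6s21_21 (D : UData R)
    (ih : ∀ (t54 t63 t67 : K), t54 ≠ 0 → t63 ≠ 0 → t67 ≠ 0 → UP D (R.RNF (0) (0) (0) (0) (0) (0) (0) (0) (0) (0) (0) (0) (0) (0) (0) (0) (0) (0) (0) (0) (0) (0) (0) (0) (0) (t54) (t63) (0) (0) (0) (t67) (0) (0) (0) (0) (0))) :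
    ∀ (t53 t62 t68 : K), t53 ≠ 0 → t62 ≠ 0 → t68 ≠ 0 → UP D (R.RNF (0) (0) (0) (0) (0) (0) (0) (0) (0) (0) (0) (0) (0) (0) (0) (0) (0) (0) (0) (0) (0) (0) (t53) (0) (t62) (0) (0) (0) (0) (0) (0) (0) (t68) (0) (0) (0)) := by
  intro t53 t62 t68 hn53 hn62 hn68
  have h2 : (2 : K) = 0 := CharTwo.two_eq_zero
  have h4 : (4 : K) = 0 := by linear_combination 2 * h2
  have h6 : (6 : K) = 0 := by linear_combination 3 * h2
  have h8 : (8 : K) = 0 := by linear_combination 4 * h2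
  have h10 : (10 : K) = 0 := by linear_combination 5 * h2
  have h12 : (12 : K) = 0 := by linear_combination 6 * h2
  have h14 : (14 : K) = 0 := by linear_combination 7 * h2
  have h16 : (16 : K) = 0 := by linear_combination 8 * h2
  have h18 : (18 : K) = 0 := by linear_combination 9 * h2
  have h20 : (20 : K) = 0 := by linear_combination 10 * h2
  have h22 : (22 : K) = 0 := by linear_combination 11 * h2
  have h24 : (24 : K) = 0 := by linear_combination 12 * h2
  have h26 : (26 : K) = 0 := by linear_combination 13 * h2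
  have h28 : (28 : K) = 0 := by linear_combination 14 * h2
  have h30 : (30 : K) = 0 := by linear_combination 15 * h2
  have h32 : (32 : K) = 0 := by linear_combination 16 * h2
  have e : D.n6 * R.RNF (0) (0) (0) (0) (0) (0) (0) (0) (0) (0) (0) (0) (0) (0) (0) (0) (0) (0) (0) (0) (0) (0) (t53) (0) (t62) (0) (0) (0) (0) (0) (0) (0) (t68) (0) (0) (0) * D.n6⁻¹ =
      R.RNF (0) (0) (0) (0) (0) (0) (0) (0) (0) (0) (0) (0) (0) (0) (0) (0) (0) (0) (0) (0) (0) (0) (0) (0) (0) (t53) (t62) (0) (0) (0) (t68) (0) (0) (0) (0) (0) := by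
    rw [D.toWeylE6.conj_n6]
    congr 1 <;> (first | rfl | ring1 | (rw [← sub_eq_zero]; ring_nf; simp only [h2, h4, h6, h8, h10, h12, h14, h16, h18, h20, h22, h24, h26, h28, h30, h32, mul_zero, zero_mul, add_zero, zero_add, neg_zero, sub_zero, sub_self]))
  exact UP_n D D.n6_mem e (ih _ _ _ hn53 hn62 hn68)

theorem e6s21_22 (D : UData R)
    (ih : ∀ (t63 t55 t67 : K), t63 ≠ 0 → t55 ≠ 0 → t67 ≠ 0 → UP D (R.RNF (0) (0) (0) (0) (0) (0) (0) (0) (0) (0) (0) (0) (0) (0) (0) (0) (0) (0) (0) (0) (0) (0) (0) (0) (0) (0) (t63) (0) (t55) (0) (t67) (0) (0) (0) (0) (0))) :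
    ∀ (t54 t63 t67 : K), t54 ≠ 0 → t63 ≠ 0 → t67 ≠ 0 → UP D (R.RNF (0) (0) (0) (0) (0) (0) (0) (0) (0) (0) (0) (0) (0) (0) (0) (0) (0) (0) (0) (0) (0) (0) (0) (0) (0) (t54) (t63) (0) (0) (0) (t67) (0) (0) (0) (0) (0)) := by
  intro t54 t63 t67 hn54 hn63 hn67
  have h2 : (2 : K) = 0 := CharTwo.two_eq_zero
  have h4 : (4 : K) = 0 := by linear_combination 2 * h2
  have h6 : (6 : K) = 0 := by linear_combination 3 * h2
  have h8 : (8 : K) = 0 := by linear_combination 4 * h2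
  have h10 : (10 : K) = 0 := by linear_combination 5 * h2
  have h12 : (12 : K) = 0 := by linear_combination 6 * h2
  have h14 : (14 : K) = 0 := by linear_combination 7 * h2
  have h16 : (16 : K) = 0 := by linear_combination 8 * h2
  have h18 : (18 : K) = 0 := by linear_combination 9 * h2
  have h20 : (20 : K) = 0 := by linear_combination 10 * h2
  have h22 : (22 : K) = 0 := by linear_combination 11 * h2
  have h24 : (24 : K) = 0 := by linear_combination 12 * h2
  have h26 : (26 : K) = 0 := by linear_combination 13 * h2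
  have h28 : (28 : K) = 0 := by linear_combination 14 * h2
  have h30 : (30 : K) = 0 := by linear_combination 15 * h2
  have h32 : (32 : K) = 0 := by linear_combination 16 * h2
  have e : D.n5 * R.RNF (0) (0) (0) (0) (0) (0) (0) (0) (0) (0) (0) (0) (0) (0) (0) (0) (0) (0) (0) (0) (0) (0) (0) (0) (0) (t54) (t63) (0) (0) (0) (t67) (0) (0) (0) (0) (0) * D.n5⁻¹ =
      R.RNF (0) (0) (0) (0) (0) (0) (0) (0) (0) (0) (0) (0) (0) (0) (0) (0) (0) (0) (0) (0) (0) (0) (0) (0) (0) (0) (t63) (0) (t54) (0) (t67) (0) (0) (0) (0) (0) := by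
    rw [D.toWeylE6.conj_n5]
    congr 1 <;> (first | rfl | ring1 | (rw [← sub_eq_zero]; ring_nf; simp only [h2, h4, h6, h8, h10, h12, h14, h16, h18, h20, h22, h24, h26, h28, h30, h32, mul_zero, zero_mul, add_zero, zero_add, neg_zero, sub_zero, sub_self]))
  exact UP_n D D.n5_mem e (ih _ _ _ hn63 hn54 hn67)

theorem e6s21_23 (D : UData R)
    (ih : ∀ (t55 t65 t67 : K), t55 ≠ 0 → t65 ≠ 0 → t67 ≠ 0 → UP D (R.RNF (0) (0) (0) (0) (0) (0) (0) (0) (0) (0) (0) (0) (0) (0) (0) (0) (0) (0) (0) (0) (0) (0) (0) (0) (0) (0) (0) (0) (t55) (t65) (t67) (0) (0) (0) (0) (0))) :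
    ∀ (t63 t55 t67 : K), t63 ≠ 0 → t55 ≠ 0 → t67 ≠ 0 → UP D (R.RNF (0) (0) (0) (0) (0) (0) (0) (0) (0) (0) (0) (0) (0) (0) (0) (0) (0) (0) (0) (0) (0) (0) (0) (0) (0) (0) (t63) (0) (t55) (0) (t67) (0) (0) (0) (0) (0)) := by
  intro t63 t55 t67 hn63 hn55 hn67
  have h2 : (2 : K) = 0 := CharTwo.two_eq_zero
  have h4 : (4 : K) = 0 := by linear_combination 2 * h2
  have h6 : (6 : K) = 0 := by linear_combination 3 * h2
  have h8 : (8 : K) = 0 := by linear_combination 4 * h2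
  have h10 : (10 : K) = 0 := by linear_combination 5 * h2
  have h12 : (12 : K) = 0 := by linear_combination 6 * h2
  have h14 : (14 : K) = 0 := by linear_combination 7 * h2
  have h16 : (16 : K) = 0 := by linear_combination 8 * h2
  have h18 : (18 : K) = 0 := by linear_combination 9 * h2
  have h20 : (20 : K) = 0 := by linear_combination 10 * h2
  have h22 : (22 : K) = 0 := by linear_combination 11 * h2
  have h24 : (24 : K) = 0 := by linear_combination 12 * h2
  have h26 : (26 : K) = 0 := by linear_combination 13 * h2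
  have h28 : (28 : K) = 0 := by linear_combination 14 * h2
  have h30 : (30 : K) = 0 := by linear_combination 15 * h2
  have h32 : (32 : K) = 0 := by linear_combination 16 * h2
  have e : D.n4 * R.RNF (0) (0) (0) (0) (0) (0) (0) (0) (0) (0) (0) (0) (0) (0) (0) (0) (0) (0) (0) (0) (0) (0) (0) (0) (0) (0) (t63) (0) (t55) (0) (t67) (0) (0) (0) (0) (0) * D.n4⁻¹ =
      R.RNF (0) (0) (0) (0) (0) (0) (0) (0) (0) (0) (0) (0) (0) (0) (0) (0) (0) (0) (0) (0) (0) (0) (0) (0) (0) (0) (0) (0) (t55) (t63) (t67) (0) (0) (0) (0) (0) := by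
    rw [D.toWeylE6.conj_n4]
    congr 1 <;> (first | rfl | ring1 | (rw [← sub_eq_zero]; ring_nf; simp only [h2, h4, h6, h8, h10, h12, h14, h16, h18, h20, h22, h24, h26, h28, h30, h32, mul_zero, zero_mul, add_zero, zero_add, neg_zero, sub_zero, sub_self]))
  exact UP_n D D.n4_mem e (ih _ _ _ hn55 hn63 hn67)

theorem upiv21 (D : UData R)
    (ih : ∀ (t53 t60 t62 t54 t63 t64 t55 t65 t67 t66 t68 t69 t70 t71 : K), UP D (R.RNF (0) (0) (0) (0) (0) (0) (0) (0) (0) (0) (0) (0) (0) (0) (0) (0) (0) (0) (0) (0) (0) (0) (t53) (t60) (t62) (t54) (t63) (t64) (t55) (t65) (t67) (t66) (t68) (t69) (t70) (t71))) :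
    ∀ (t52 t53 t60 t62 t54 t63 t64 t55 t65 t67 t66 t68 t69 t70 t71 : K), UP D (R.RNF (0) (0) (0) (0) (0) (0) (0) (0) (0) (0) (0) (0) (0) (0) (0) (0) (0) (0) (0) (0) (0) (t52) (t53) (t60) (t62) (t54) (t63) (t64) (t55) (t65) (t67) (t66) (t68) (t69) (t70) (t71)) := by
  intro t52 t53 t60 t62 t54 t63 t64 t55 t65 t67 t66 t68 t69 t70 t71
  by_cases h0 : t52 = 0
  · subst h0; exact ih _ _ _ _ _ _ _ _ _ _ _ _ _ _
  · exact (e6s21_1 D (e6s21_2 D (e6s21_3 D (e6s21_4 D (e6s21_5 D (e6s21_6 D (e6s21_7 D (e6s21_8 D (e6s21_9 D (fun t60 t54 t63 t64 t67 t66 t69 _ => ih 0 t60 0 t54 t63 t64 0 0 t67 t66 0 t69 0 0)) (e6s21_10 D (e6s21_11 D (e6s21_12 D (e6s21_13 D (e6s21_14 D (fun t54 t63 t64 t55 _ _ => ih 0 0 0 t54 t63 t64 t55 0 0 0 0 0 0 0)) (e6s21_15 D (e6s21_16 D (e6s21_17 D (e6s21_18 D (e6s21_19 D (e6s21_20 D (e6s21_21 D (e6s21_22 D (e6s21_23 D (Tfin55_65_67 D)))))))))))))))))))))) t52 t53 t60 t62 t54 t63 t64 t55 t65 t67 t66 t68 t69 t70 t71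 h0

end Cfsg.Agent.Helper4.E6Inv
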