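import Cfsg.Agent.Helper4.E6Inv.UFinT

/-! Generated: steps of the reduction of involutions in the unipotent group of `E₆`
(characteristic two). -/

set_option autoImplicit false
set_option maxHeartbeats 8000000
set_option maxRecDepth 100000
set_option linter.unusedSimpArgs false
set_option linter.unusedVariables false
set_option linter.unusedSectionVars false
set_option linter.unusedTactic false
set_option linter.unreachableTactic false

namespace Cfsg.Agent.Helper4.E6Inv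

variable {K Γ : Type*} [Field K] [Group Γ] {R : RelE6 K Γ} [CharP K 2]

theorem e6s3_1 (D : UData R)
    (ih : ∀ (t42 t46 t38 t40 t43 t47 t57 t41 t44 t48 t50 t58 t45 t49 t51 t59 t61 t52 t53 t60 t62 t54 t63 t64 t55 t65 t67 t66 t68 t69 t70 t71 : K), t42 ≠ 0 → UP D (R.RNF (0) (0) (0) (t42) (t46) (0) (t38) (t40) (t43) (t47) (t57) (t41) (t44) (t48) (t50) (t58) (t45) (t49) (t51) (t59) (t61) (t52) (t53) (t60) (t62) (t54) (t63) (t64) (t55) (t65) (t67) (t66) (t68) (t69) (t70) (t71))) :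
    ∀ (t42 t46 t56 t38 t40 t43 t47 t57 t41 t44 t48 t50 t58 t45 t49 t51 t59 t61 t52 t53 t60 t62 t54 t63 t64 t55 t65 t67 t66 t68 t69 t70 t71 : K), t42 ≠ 0 → UP D (R.RNF (0) (0) (0) (t42) (t46) (t56) (t38) (t40) (t43) (t47) (t57) (t41) (t44) (t48) (t50) (t58) (t45) (t49) (t51) (t59) (t61) (t52) (t53) (t60) (t62) (t54) (t63) (t64) (t55) (t65) (t67) (t66) (t68) (t69) (t70) (t71)) := by
  intro t42 t46 t56 t38 t40 t43 t47 t57 t41 t44 t48 t50 t58 t45 t49 t51 t59 t61 t52 t53 t60 t62 t54 t63 t64 t55 t65 t67 t66 t68 t69 t70 t71 hn42 hu hne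
  have hsq := hu
  rw [R.usq] at hsq
  obtain ⟨e36, e37, e39, e42, e46, e56, e38, e40, e43, e47, e57, e41, e44, e48, e50, e58, e45, e49, e51, e59, e61, e52, e53, e60, e62, e54, e63, e64, e55, e65, e67, e66, e68, e69, e70, e71⟩ := D.inj _ _ _ _ _ _ _ _ _ _ _ _ _ _ _ _ _ _ _ _ _ _ _ _ _ _ _ _ _ _ _ _ _ _ _ _ hsq
  have hz : t56 = 0 := by
    have h : t42 * t56 = 0 := by linear_combination e57
    exact (mul_eq_zero.mp h).resolve_left hn42
  subst hz
  exact ih _ _ _ _ _ _ _ _ _ _ _ _ _ _ _ _ _ _ _ _ _ _ _ _ _ _ _ _ _ _ _ _ hn42 hu hne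

theorem e6s3_2 (D : UData R)
    (ih : ∀ (t42 t46 t38 t43 t47 t57 t41 t44 t48 t50 t58 t45 t49 t51 t59 t61 t52 t53 t60 t62 t54 t63 t64 t55 t65 t67 t66 t68 t69 t70 t71 : K), t42 ≠ 0 → UP D (R.RNF (0) (0) (0) (t42) (t46) (0) (t38) (0) (t43) (t47) (t57) (t41) (t44) (t48) (t50) (t58) (t45) (t49) (t51) (t59) (t61) (t52) (t53) (t60) (t62) (t54) (t63) (t64) (t55) (t65) (t67) (t66) (t68) (t69) (t70) (t71))) :
    ∀ (t42 t46 t38 t40 t43 t47 t57 t41 t44 t48 t50 t58 t45 t49 t51 t59 t61 t52 t53 t60 t62 t54 t63 t64 t55 t65 t67 t66 t68 t69 t70 t71 : K), t42 ≠ 0 → UP D (R.RNF (0) (0) (0) (t42) (t46) (0) (t38) (t40) (t43) (t47) (t57) (t41) (t44) (t48) (t50) (t58) (t45) (t49) (t51) (t59) (t61) (t52) (t53) (t60) (t62) (t54) (t63) (t64) (t55) (t65) (t67) (t66) (t68) (t69) (t70) (t71)) := by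
  intro t42 t46 t38 t40 t43 t47 t57 t41 t44 t48 t50 t58 t45 t49 t51 t59 t61 t52 t53 t60 t62 t54 t63 t64 t55 t65 t67 t66 t68 t69 t70 t71 hn42 hu hne
  have hsq := hu
  rw [R.usq] at hsq
  obtain ⟨e36, e37, e39, e42, e46, e56, e38, e40, e43, e47, e57, e41, e44, e48, e50, e58, e45, e49, e51, e59, e61, e52, e53, e60, e62, e54, e63, e64, e55, e65, e67, e66, e68, e69, e70, e71⟩ := D.inj _ _ _ _ _ _ _ _ _ _ _ _ _ _ _ _ _ _ _ _ _ _ _ _ _ _ _ _ _ _ _ _ _ _ _ _ hsq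
  have hz : t40 = 0 := by
    have h : t42 * t40 = 0 := by linear_combination e44
    exact (mul_eq_zero.mp h).resolve_left hn42
  subst hz
  exact ih _ _ _ _ _ _ _ _ _ _ _ _ _ _ _ _ _ _ _ _ _ _ _ _ _ _ _ _ _ _ _ hn42 hu hne

theorem e6s3_3 (D : UData R)
    (ih : ∀ (t42 t46 t38 t47 t57 t41 t44 t48 t50 t58 t45 t49 t51 t59 t61 t52 t53 t60 t62 t54 t63 t64 t55 t65 t67 t66 t68 t69 t70 t71 : K), t42 ≠ 0 → UP D (R.RNF (0) (0) (0) (t42) (t46) (0) (t38) (0) (0) (t47) (t57) (t41) (t44) (t48) (t50) (t58) (t45) (t49) (t51) (t59) (t61) (t52) (t53) (t60) (t62) (t54) (t63) (t64) (t55) (t65) (t67) (t66) (t68) (t69) (t70) (t71))) :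
    ∀ (t42 t46 t38 t43 t47 t57 t41 t44 t48 t50 t58 t45 t49 t51 t59 t61 t52 t53 t60 t62 t54 t63 t64 t55 t65 t67 t66 t68 t69 t70 t71 : K), t42 ≠ 0 → UP D (R.RNF (0) (0) (0) (t42) (t46) (0) (t38) (0) (t43) (t47) (t57) (t41) (t44) (t48) (t50) (t58) (t45) (t49) (t51) (t59) (t61) (t52) (t53) (t60) (t62) (t54) (t63) (t64) (t55) (t65) (t67) (t66) (t68) (t69) (t70) (t71)) := by
  intro t42 t46 t38 t43 t47 t57 t41 t44 t48 t50 t58 t45 t49 t51 t59 t61 t52 t53 t60 t62 t54 t63 t64 t55 t65 t67 t66 t68 t69 t70 t71 hn42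
  have h2 : (2 : K) = 0 := CharTwo.two_eq_zero
  have h4 : (4 : K) = 0 := by linear_combination 2 * h2
  have h6 : (6 : K) = 0 := by linear_combination 3 * h2
  have h8 : (8 : K) = 0 := by linear_combination 4 * h2
  have h10 : (10 : K) = 0 := by linear_combination 5 * h2
  have h12 : (12 : K) = 0 := by linear_combination 6 * h2
  have h14 : (14 : K) = 0 := by linear_combination 7 * h2
  have h16 : (16 : K) = 0 := by linear_combination 8 * h2
  have h18 : (18 : K) = 0 := by linear_combination 9 * h2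
  have h20 : (20 : K) = 0 := by linear_combination 10 * h2
  have h22 : (22 : K) = 0 := by linear_combination 11 * h2
  have h24 : (24 : K) = 0 := by linear_combination 12 * h2
  have h26 : (26 : K) = 0 := by linear_combination 13 * h2
  have h28 : (28 : K) = 0 := by linear_combination 14 * h2
  have h30 : (30 : K) = 0 := by linear_combination 15 * h2
  have h32 : (32 : K) = 0 := by linear_combination 16 * h2
  obtain ⟨c, rfl⟩ : ∃ c, t43 = c * t42 := ⟨t43 / t42, by field_simp⟩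
  have e : R.X39 c * R.RNF (0) (0) (0) (t42) (t46) (0) (t38) (0) (c * t42) (t47) (t57) (t41) (t44) (t48) (t50) (t58) (t45) (t49) (t51) (t59) (t61) (t52) (t53) (t60) (t62) (t54) (t63) (t64) (t55) (t65) (t67) (t66) (t68) (t69) (t70) (t71) * R.X39 c =
      R.RNF (0) (0) (0) (t42) (t46) (0) (t38) (0) (0) (c * t46 + t47) (t57) (c * t38 + t41) (t44) (t48) (c * t42 * t46 + t50) (c * t57 + t58) (c * t38 * t42 + t45) (c * t38 * t46 + t49) (t51) (t59) (t61) (c * t38 * t42 * t46 + t52) (c * t51 + t53) (c * t38 * t57 + t60) (t62) (c * t38 * t42 * t47 + c * t41 * t42 * t46 + c * t52 + c ^ 2 * t38 * t42 * t46 + t54) (c * t38 * t46 * t57 + t63) (c * t48 * t57 + c * t62 + t64) (c * t38 * t42 * t48 + c * t38 * t44 * t46 + t55) (c * t38 * t46 * t58 + c * t63 + c ^ 2 * t38 * t46 * t57 + t65) (t67) (c * t38 * t48 * t57 + t66) (c * t38 * t42 * t46 * t58 + c * t38 * t42 * t47 * t57 + c * t38 * t50 * t57 + c ^ 2 * t38 * t42 *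 t46 * t57 + t68) (c * t38 * t42 * t46 * t59 + c * t38 * t44 * t46 * t57 + c * t38 * t51 * t57 + t69) (c * t38 * t42 * t47 * t59 + c * t38 * t42 * t48 * t58 + c * t38 * t44 * t46 * t58 + c * t38 * t53 * t57 + c * t41 * t42 * t46 * t59 + c * t45 * t48 * t57 + c * t69 + c ^ 2 * t38 * t42 * t46 * t59 + c ^ 2 * t38 * t42 * t48 * t57 + c ^ 2 * t38 * t44 * t46 * t57 + c ^ 2 * t38 * t51 * t57 + t70) (c * t38 * t42 * t47 * t48 * t57 + c * t38 * t42 * t47 * t62 + c * t38 * t42 * t48 * t61 + c * t38 * t44 * t46 * t61 + c * t38 * t46 * t51 * t58 + c * t38 * t46 * t53 * t57 + c * t38 * t48 * t50 * t57 + c * t41 * t42 * t46 * t62 + c * t48 * t52 * t57 + c * t52 * t62 + c ^ 2 * t38 * t42 * t46 * t62 + t71) := by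
    rw [R.ucj39]
    congr 1 <;> (first | rfl | ring1 | (rw [← sub_eq_zero]; ring_nf; simp only [h2, h4, h6, h8, h10, h12, h14, h16, h18, h20, h22, h24, h26, h28, h30, h32, mul_zero, zero_mul, add_zero, zero_add, neg_zero, sub_zero, sub_self]))
  exact UP_cj D (D.xmem39 c) (R.inv39 c) e (ih _ _ _ _ _ _ _ _ _ _ _ _ _ _ _ _ _ _ _ _ _ _ _ _ _ _ _ _ _ _ hn42)

theorem e6s3_4 (D : UData R)
    (ih : ∀ (t42 t46 t38 t47 t41 t44 t48 t50 t58 t45 t49 t51 t59 t61 t52 t53 t60 t62 t54 t63 t64 t55 t65 t67 t66 t68 t69 t70 t71 : K), t42 ≠ 0 → UP D (R.RNF (0) (0) (0) (t42) (t46) (0) (t38) (0) (0) (t47) (0) (t41) (t44) (t48) (t50) (t58) (t45) (t49) (t51) (t59) (t61) (t52) (t53) (t60) (t62) (t54) (t63) (t64) (t55) (t65) (t67) (t66) (t68) (t69) (t70) (t71))) :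
    ∀ (t42 t46 t38 t47 t57 t41 t44 t48 t50 t58 t45 t49 t51 t59 t61 t52 t53 t60 t62 t54 t63 t64 t55 t65 t67 t66 t68 t69 t70 t71 : K), t42 ≠ 0 → UP D (R.RNF (0) (0) (0) (t42) (t46) (0) (t38) (0) (0) (t47) (t57) (t41) (t44) (t48) (t50) (t58) (t45) (t49) (t51) (t59) (t61) (t52) (t53) (t60) (t62) (t54) (t63) (t64) (t55) (t65) (t67) (t66) (t68) (t69) (t70) (t71)) := by
  intro t42 t46 t38 t47 t57 t41 t44 t48 t50 t58 t45 t49 t51 t59 t61 t52 t53 t60 t62 t54 t63 t64 t55 t65 t67 t66 t68 t69 t70 t71 hn42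
  have h2 : (2 : K) = 0 := CharTwo.two_eq_zero
  have h4 : (4 : K) = 0 := by linear_combination 2 * h2
  have h6 : (6 : K) = 0 := by linear_combination 3 * h2
  have h8 : (8 : K) = 0 := by linear_combination 4 * h2
  have h10 : (10 : K) = 0 := by linear_combination 5 * h2
  have h12 : (12 : K) = 0 := by linear_combination 6 * h2
  have h14 : (14 : K) = 0 := by linear_combination 7 * h2
  have h16 : (16 : K) = 0 := by linear_combination 8 * h2
  have h18 : (18 : K) = 0 := by linear_combination 9 * h2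
  have h20 : (20 : K) = 0 := by linear_combination 10 * h2
  have h22 : (22 : K) = 0 := by linear_combination 11 * h2
  have h24 : (24 : K) = 0 := by linear_combination 12 * h2
  have h26 : (26 : K) = 0 := by linear_combination 13 * h2
  have h28 : (28 : K) = 0 := by linear_combination 14 * h2
  have h30 : (30 : K) = 0 := by linear_combination 15 * h2
  have h32 : (32 : K) = 0 := by linear_combination 16 * h2
  obtain ⟨c, rfl⟩ : ∃ c, t57 = c * t42 := ⟨t57 / t42, by field_simp⟩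
  have e : R.X56 c * R.RNF (0) (0) (0) (t42) (t46) (0) (t38) (0) (0) (t47) (c * t42) (t41) (t44) (t48) (t50) (t58) (t45) (t49) (t51) (t59) (t61) (t52) (t53) (t60) (t62) (t54) (t63) (t64) (t55) (t65) (t67) (t66) (t68) (t69) (t70) (t71) * R.X56 c =
      R.RNF (0) (0) (0) (t42) (t46) (0) (t38) (0) (0) (t47) (0) (t41) (t44) (t48) (t50) (t58) (t45) (t49) (t51) (c * t44 + t59) (c * t42 * t47 + c * t50 + t61) (t52) (t53) (c * t45 + t60) (c * t51 + t62) (t54) (c * t52 + t63) (c * t53 + t64) (t55) (c * t41 * t42 * t47 + c * t54 + t65) (c * t42 * t44 * t47 + c * t44 * t50 + t67) (c * t44 * t49 + c * t55 + t66) (c * t42 * t45 * t47 + c * t45 * t50 + t68) (c * t45 * t51 + t69) (c * t41 * t42 * t44 * t47 + c * t45 * t53 + t70) (c * t41 * t42 * t47 * t51 + c * t42 * t44 * t47 * t49 + c * t44 * t49 * t50 + c * t52 * t53 + t71) := by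
    rw [R.ucj56]
    congr 1 <;> (first | rfl | ring1 | (rw [← sub_eq_zero]; ring_nf; simp only [h2, h4, h6, h8, h10, h12, h14, h16, h18, h20, h22, h24, h26, h28, h30, h32, mul_zero, zero_mul, add_zero, zero_add, neg_zero, sub_zero, sub_self]))
  exact UP_cj D (D.xmem56 c) (R.inv56 c) e (ih _ _ _ _ _ _ _ _ _ _ _ _ _ _ _ _ _ _ _ _ _ _ _ _ _ _ _ _ _ hn42)

theorem e6s3_5 (D : UData R)
    (ih : ∀ (t42 t46 t38 t47 t41 t48 t50 t58 t45 t49 t51 t59 t61 t52 t53 t60 t62 t54 t63 t64 t55 t65 t67 t66 t68 t69 t70 t71 : K), t42 ≠ 0 → UP D (R.RNF (0) (0) (0) (t42) (t46) (0) (t38) (0) (0) (t47) (0) (t41) (0) (t48) (t50) (t58) (t45) (t49) (t51) (t59) (t61) (t52) (t53) (t60) (t62) (t54) (t63) (t64) (t55) (t65) (t67) (t66) (t68) (t69) (t70) (t71))) :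
    ∀ (t42 t46 t38 t47 t41 t44 t48 t50 t58 t45 t49 t51 t59 t61 t52 t53 t60 t62 t54 t63 t64 t55 t65 t67 t66 t68 t69 t70 t71 : K), t42 ≠ 0 → UP D (R.RNF (0) (0) (0) (t42) (t46) (0) (t38) (0) (0) (t47) (0) (t41) (t44) (t48) (t50) (t58) (t45) (t49) (t51) (t59) (t61) (t52) (t53) (t60) (t62) (t54) (t63) (t64) (t55) (t65) (t67) (t66) (t68) (t69) (t70) (t71)) := by
  intro t42 t46 t38 t47 t41 t44 t48 t50 t58 t45 t49 t51 t59 t61 t52 t53 t60 t62 t54 t63 t64 t55 t65 t67 t66 t68 t69 t70 t71 hn42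
  have h2 : (2 : K) = 0 := CharTwo.two_eq_zero
  have h4 : (4 : K) = 0 := by linear_combination 2 * h2
  have h6 : (6 : K) = 0 := by linear_combination 3 * h2
  have h8 : (8 : K) = 0 := by linear_combination 4 * h2
  have h10 : (10 : K) = 0 := by linear_combination 5 * h2
  have h12 : (12 : K) = 0 := by linear_combination 6 * h2
  have h14 : (14 : K) = 0 := by linear_combination 7 * h2
  have h16 : (16 : K) = 0 := by linear_combination 8 * h2
  have h18 : (18 : K) = 0 := by linear_combination 9 * h2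
  have h20 : (20 : K) = 0 := by linear_combination 10 * h2
  have h22 : (22 : K) = 0 := by linear_combination 11 * h2
  have h24 : (24 : K) = 0 := by linear_combination 12 * h2
  have h26 : (26 : K) = 0 := by linear_combination 13 * h2
  have h28 : (28 : K) = 0 := by linear_combination 14 * h2
  have h30 : (30 : K) = 0 := by linear_combination 15 * h2
  have h32 : (32 : K) = 0 := by linear_combination 16 * h2
  obtain ⟨c, rfl⟩ : ∃ c, t44 = c * t42 := ⟨t44 / t42, by field_simp⟩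
  have e : R.X40 c * R.RNF (0) (0) (0) (t42) (t46) (0) (t38) (0) (0) (t47) (0) (t41) (c * t42) (t48) (t50) (t58) (t45) (t49) (t51) (t59) (t61) (t52) (t53) (t60) (t62) (t54) (t63) (t64) (t55) (t65) (t67) (t66) (t68) (t69) (t70) (t71) * R.X40 c =
      R.RNF (0) (0) (0) (t42) (t46) (0) (t38) (0) (0) (t47) (0) (t41) (0) (c * t46 + t48) (t50) (t58) (t45) (t49) (c * t42 * t46 + t51) (t59) (t61) (t52) (c * t42 * t47 + c * t50 + t53) (t60) (t62) (t54) (t63) (c * t61 + t64) (c * t41 * t42 * t46 + c * t52 + t55) (t65) (c * t42 * t46 * t58 + t67) (c * t63 + t66) (t68) (t69) (c * t41 * t42 * t46 * t58 + c * t68 + t70) (c * t41 * t42 * t46 * t61 + c * t42 * t46 * t49 * t58 + c * t52 * t61 + t71) := by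
    rw [R.ucj40]
    congr 1 <;> (first | rfl | ring1 | (rw [← sub_eq_zero]; ring_nf; simp only [h2, h4, h6, h8, h10, h12, h14, h16, h18, h20, h22, h24, h26, h28, h30, h32, mul_zero, zero_mul, add_zero, zero_add, neg_zero, sub_zero, sub_self]))
  exact UP_cj D (D.xmem40 c) (R.inv40 c) e (ih _ _ _ _ _ _ _ _ _ _ _ _ _ _ _ _ _ _ _ _ _ _ _ _ _ _ _ _ hn42)

theorem e6s3_6 (D : UData R)
    (ih : ∀ (t42 t46 t38 t47 t41 t48 t58 t45 t49 t51 t59 t61 t52 t53 t60 t62 t54 t63 t64 t55 t65 t67 t66 t68 t69 t70 t71 : K), t42 ≠ 0 → UP D (R.RNF (0) (0) (0) (t42) (t46) (0) (t38) (0) (0) (t47) (0) (t41) (0) (t48) (0) (t58) (t45) (t49) (t51) (t59) (t61) (t52) (t53) (t60) (t62) (t54) (t63) (t64) (t55) (t65) (t67) (t66) (t68) (t69) (t70) (t71))) :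
    ∀ (t42 t46 t38 t47 t41 t48 t50 t58 t45 t49 t51 t59 t61 t52 t53 t60 t62 t54 t63 t64 t55 t65 t67 t66 t68 t69 t70 t71 : K), t42 ≠ 0 → UP D (R.RNF (0) (0) (0) (t42) (t46) (0) (t38) (0) (0) (t47) (0) (t41) (0) (t48) (t50) (t58) (t45) (t49) (t51) (t59) (t61) (t52) (t53) (t60) (t62) (t54) (t63) (t64) (t55) (t65) (t67) (t66) (t68) (t69) (t70) (t71)) := by
  intro t42 t46 t38 t47 t41 t48 t50 t58 t45 t49 t51 t59 t61 t52 t53 t60 t62 t54 t63 t64 t55 t65 t67 t66 t68 t69 t70 t71 hn42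
  have h2 : (2 : K) = 0 := CharTwo.two_eq_zero
  have h4 : (4 : K) = 0 := by linear_combination 2 * h2
  have h6 : (6 : K) = 0 := by linear_combination 3 * h2
  have h8 : (8 : K) = 0 := by linear_combination 4 * h2
  have h10 : (10 : K) = 0 := by linear_combination 5 * h2
  have h12 : (12 : K) = 0 := by linear_combination 6 * h2
  have h14 : (14 : K) = 0 := by linear_combination 7 * h2
  have h16 : (16 : K) = 0 := by linear_combination 8 * h2
  have h18 : (18 : K) = 0 := by linear_combination 9 * h2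
  have h20 : (20 : K) = 0 := by linear_combination 10 * h2
  have h22 : (22 : K) = 0 := by linear_combination 11 * h2
  have h24 : (24 : K) = 0 := by linear_combination 12 * h2
  have h26 : (26 : K) = 0 := by linear_combination 13 * h2
  have h28 : (28 : K) = 0 := by linear_combination 14 * h2
  have h30 : (30 : K) = 0 := by linear_combination 15 * h2
  have h32 : (32 : K) = 0 := by linear_combination 16 * h2
  obtain ⟨c, rfl⟩ : ∃ c, t50 = c * t42 := ⟨t50 / t42, by field_simp⟩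
  have e : R.X47 c * R.RNF (0) (0) (0) (t42) (t46) (0) (t38) (0) (0) (t47) (0) (t41) (0) (t48) (c * t42) (t58) (t45) (t49) (t51) (t59) (t61) (t52) (t53) (t60) (t62) (t54) (t63) (t64) (t55) (t65) (t67) (t66) (t68) (t69) (t70) (t71) * R.X47 c =
      R.RNF (0) (0) (0) (t42) (t46) (0) (t38) (0) (0) (t47) (0) (t41) (0) (t48) (0) (t58) (t45) (c * t38 + t49) (t51) (t59) (t61) (c * t38 * t42 + t52) (t53) (t60) (t62) (c * t41 * t42 + c * t45 + t54) (t63) (c * t59 + t64) (t55) (c * t38 * t58 + c * t60 + t65) (t67) (t66) (c * t38 * t42 * t58 + t68) (c * t38 * t42 * t59 + t69) (c * t41 * t42 * t59 + c * t45 * t59 + t70) (c * t38 * t51 * t58 + c * t41 * t42 * t62 + c * t45 * t62 + c * t52 * t59 + c * t69 + t71) := by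
    rw [R.ucj47]
    congr 1 <;> (first | rfl | ring1 | (rw [← sub_eq_zero]; ring_nf; simp only [h2, h4, h6, h8, h10, h12, h14, h16, h18, h20, h22, h24, h26, h28, h30, h32, mul_zero, zero_mul, add_zero, zero_add, neg_zero, sub_zero, sub_self]))
  exact UP_cj D (D.xmem47 c) (R.inv47 c) e (ih _ _ _ _ _ _ _ _ _ _ _ _ _ _ _ _ _ _ _ _ _ _ _ _ _ _ _ hn42)

theorem e6s3_7 (D : UData R)
    (ih : ∀ (t42 t46 t38 t47 t41 t48 t58 t49 t51 t59 t61 t52 t53 t60 t62 t54 t63 t64 t55 t65 t67 t66 t68 t69 t70 t71 : K), t42 ≠ 0 → UP D (R.RNF (0) (0) (0) (t42) (t46) (0) (t38) (0) (0) (t47) (0) (t41) (0) (t48) (0) (t58) (0) (t49) (t51) (t59) (t61) (t52) (t53) (t60) (t62) (t54) (t63) (t64) (t55) (t65) (t67) (t66) (t68) (t69) (t70) (t71))) :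
    ∀ (t42 t46 t38 t47 t41 t48 t58 t45 t49 t51 t59 t61 t52 t53 t60 t62 t54 t63 t64 t55 t65 t67 t66 t68 t69 t70 t71 : K), t42 ≠ 0 → UP D (R.RNF (0) (0) (0) (t42) (t46) (0) (t38) (0) (0) (t47) (0) (t41) (0) (t48) (0) (t58) (t45) (t49) (t51) (t59) (t61) (t52) (t53) (t60) (t62) (t54) (t63) (t64) (t55) (t65) (t67) (t66) (t68) (t69) (t70) (t71)) := by
  intro t42 t46 t38 t47 t41 t48 t58 t45 t49 t51 t59 t61 t52 t53 t60 t62 t54 t63 t64 t55 t65 t67 t66 t68 t69 t70 t71 hn42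
  have h2 : (2 : K) = 0 := CharTwo.two_eq_zero
  have h4 : (4 : K) = 0 := by linear_combination 2 * h2
  have h6 : (6 : K) = 0 := by linear_combination 3 * h2
  have h8 : (8 : K) = 0 := by linear_combination 4 * h2
  have h10 : (10 : K) = 0 := by linear_combination 5 * h2
  have h12 : (12 : K) = 0 := by linear_combination 6 * h2
  have h14 : (14 : K) = 0 := by linear_combination 7 * h2
  have h16 : (16 : K) = 0 := by linear_combination 8 * h2
  have h18 : (18 : K) = 0 := by linear_combination 9 * h2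
  have h20 : (20 : K) = 0 := by linear_combination 10 * h2
  have h22 : (22 : K) = 0 := by linear_combination 11 * h2
  have h24 : (24 : K) = 0 := by linear_combination 12 * h2
  have h26 : (26 : K) = 0 := by linear_combination 13 * h2
  have h28 : (28 : K) = 0 := by linear_combination 14 * h2
  have h30 : (30 : K) = 0 := by linear_combination 15 * h2
  have h32 : (32 : K) = 0 := by linear_combination 16 * h2
  obtain ⟨c, rfl⟩ : ∃ c, t45 = c * t42 := ⟨t45 / t42, by field_simp⟩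
  have e : R.X41 c * R.RNF (0) (0) (0) (t42) (t46) (0) (t38) (0) (0) (t47) (0) (t41) (0) (t48) (0) (t58) (c * t42) (t49) (t51) (t59) (t61) (t52) (t53) (t60) (t62) (t54) (t63) (t64) (t55) (t65) (t67) (t66) (t68) (t69) (t70) (t71) * R.X41 c =
      R.RNF (0) (0) (0) (t42) (t46) (0) (t38) (0) (0) (t47) (0) (t41) (0) (t48) (0) (t58) (0) (c * t46 + t49) (t51) (t59) (t61) (c * t42 * t46 + t52) (t53) (t60) (t62) (c * t42 * t47 + t54) (t63) (t64) (c * t42 * t48 + c * t51 + t55) (c * t46 * t58 + c * t61 + t65) (t67) (c * t62 + t66) (c * t42 * t46 * t58 + t68) (c * t42 * t46 * t59 + t69) (c * t42 * t47 * t59 + c * t42 * t48 * t58 + c * t67 + t70) (c * t42 * t47 * t62 + c * t42 * t48 * t61 + c * t46 * t51 * t58 + c * t51 * t61 + t71) := by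
    rw [R.ucj41]
    congr 1 <;> (first | rfl | ring1 | (rw [← sub_eq_zero]; ring_nf; simp only [h2, h4, h6, h8, h10, h12, h14, h16, h18, h20, h22, h24, h26, h28, h30, h32, mul_zero, zero_mul, add_zero, zero_add, neg_zero, sub_zero, sub_self]))
  exact UP_cj D (D.xmem41 c) (R.inv41 c) e (ih _ _ _ _ _ _ _ _ _ _ _ _ _ _ _ _ _ _ _ _ _ _ _ _ _ _ hn42)

theorem e6s3_8 (D : UData R)
    (ih : ∀ (t42 t46 t38 t47 t41 t48 t58 t49 t59 t61 t52 t53 t60 t62 t54 t63 t64 t55 t65 t67 t66 t68 t69 t70 t71 : K), t42 ≠ 0 → UP D (R.RNF (0) (0) (0) (t42) (t46) (0) (t38) (0) (0) (t47) (0) (t41) (0) (t48) (0) (t58) (0) (t49) (0) (t59) (t61) (t52) (t53) (t60) (t62) (t54) (t63) (t64) (t55) (t65) (t67) (t66) (t68) (t69) (t70) (t71))) :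
    ∀ (t42 t46 t38 t47 t41 t48 t58 t49 t51 t59 t61 t52 t53 t60 t62 t54 t63 t64 t55 t65 t67 t66 t68 t69 t70 t71 : K), t42 ≠ 0 → UP D (R.RNF (0) (0) (0) (t42) (t46) (0) (t38) (0) (0) (t47) (0) (t41) (0) (t48) (0) (t58) (0) (t49) (t51) (t59) (t61) (t52) (t53) (t60) (t62) (t54) (t63) (t64) (t55) (t65) (t67) (t66) (t68) (t69) (t70) (t71)) := by
  intro t42 t46 t38 t47 t41 t48 t58 t49 t51 t59 t61 t52 t53 t60 t62 t54 t63 t64 t55 t65 t67 t66 t68 t69 t70 t71 hn42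
  have h2 : (2 : K) = 0 := CharTwo.two_eq_zero
  have h4 : (4 : K) = 0 := by linear_combination 2 * h2
  have h6 : (6 : K) = 0 := by linear_combination 3 * h2
  have h8 : (8 : K) = 0 := by linear_combination 4 * h2
  have h10 : (10 : K) = 0 := by linear_combination 5 * h2
  have h12 : (12 : K) = 0 := by linear_combination 6 * h2
  have h14 : (14 : K) = 0 := by linear_combination 7 * h2
  have h16 : (16 : K) = 0 := by linear_combination 8 * h2
  have h18 : (18 : K) = 0 := by linear_combination 9 * h2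
  have h20 : (20 : K) = 0 := by linear_combination 10 * h2
  have h22 : (22 : K) = 0 := by linear_combination 11 * h2
  have h24 : (24 : K) = 0 := by linear_combination 12 * h2
  have h26 : (26 : K) = 0 := by linear_combination 13 * h2
  have h28 : (28 : K) = 0 := by linear_combination 14 * h2
  have h30 : (30 : K) = 0 := by linear_combination 15 * h2
  have h32 : (32 : K) = 0 := by linear_combination 16 * h2
  obtain ⟨c, rfl⟩ : ∃ c, t51 = c * t42 := ⟨t51 / t42, by field_simp⟩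
  have e : R.X48 c * R.RNF (0) (0) (0) (t42) (t46) (0) (t38) (0) (0) (t47) (0) (t41) (0) (t48) (0) (t58) (0) (t49) (c * t42) (t59) (t61) (t52) (t53) (t60) (t62) (t54) (t63) (t64) (t55) (t65) (t67) (t66) (t68) (t69) (t70) (t71) * R.X48 c =
      R.RNF (0) (0) (0) (t42) (t46) (0) (t38) (0) (0) (t47) (0) (t41) (0) (t48) (0) (t58) (0) (t49) (0) (t59) (t61) (t52) (t53) (t60) (t62) (t54) (t63) (c * t58 + t64) (c * t41 * t42 + t55) (t65) (c * t42 * t58 + t67) (c * t60 + t66) (t68) (t69) (c * t41 * t42 * t58 + t70) (c * t41 * t42 * t61 + c * t42 * t49 * t58 + c * t52 * t58 + c * t68 + t71) := by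
    rw [R.ucj48]
    congr 1 <;> (first | rfl | ring1 | (rw [← sub_eq_zero]; ring_nf; simp only [h2, h4, h6, h8, h10, h12, h14, h16, h18, h20, h22, h24, h26, h28, h30, h32, mul_zero, zero_mul, add_zero, zero_add, neg_zero, sub_zero, sub_self]))
  exact UP_cj D (D.xmem48 c) (R.inv48 c) e (ih _ _ _ _ _ _ _ _ _ _ _ _ _ _ _ _ _ _ _ _ _ _ _ _ _ hn42)

theorem e6s3_9 (D : UData R)
    (ih : ∀ (t42 t46 t38 t47 t41 t48 t58 t49 t59 t61 t53 t60 t62 t54 t63 t64 t55 t65 t67 t66 t68 t69 t70 t71 : K), t42 ≠ 0 → UP D (R.RNF (0) (0) (0) (t42) (t46) (0) (t38) (0) (0) (t47) (0) (t41) (0) (t48) (0) (t58) (0) (t49) (0) (t59) (t61) (0) (t53) (t60) (t62) (t54) (t63) (t64) (t55) (t65) (t67) (t66) (t68) (t69) (t70) (t71))) :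
    ∀ (t42 t46 t38 t47 t41 t48 t58 t49 t59 t61 t52 t53 t60 t62 t54 t63 t64 t55 t65 t67 t66 t68 t69 t70 t71 : K), t42 ≠ 0 → UP D (R.RNF (0) (0) (0) (t42) (t46) (0) (t38) (0) (0) (t47) (0) (t41) (0) (t48) (0) (t58) (0) (t49) (0) (t59) (t61) (t52) (t53) (t60) (t62) (t54) (t63) (t64) (t55) (t65) (t67) (t66) (t68) (t69) (t70) (t71)) := by
  intro t42 t46 t38 t47 t41 t48 t58 t49 t59 t61 t52 t53 t60 t62 t54 t63 t64 t55 t65 t67 t66 t68 t69 t70 t71 hn42
  have h2 : (2 : K) = 0 := CharTwo.two_eq_zero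
  have h4 : (4 : K) = 0 := by linear_combination 2 * h2
  have h6 : (6 : K) = 0 := by linear_combination 3 * h2
  have h8 : (8 : K) = 0 := by linear_combination 4 * h2
  have h10 : (10 : K) = 0 := by linear_combination 5 * h2
  have h12 : (12 : K) = 0 := by linear_combination 6 * h2
  have h14 : (14 : K) = 0 := by linear_combination 7 * h2
  have h16 : (16 : K) = 0 := by linear_combination 8 * h2
  have h18 : (18 : K) = 0 := by linear_combination 9 * h2
  have h20 : (20 : K) = 0 := by linear_combination 10 * h2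
  have h22 : (22 : K) = 0 := by linear_combination 11 * h2
  have h24 : (24 : K) = 0 := by linear_combination 12 * h2
  have h26 : (26 : K) = 0 := by linear_combination 13 * h2
  have h28 : (28 : K) = 0 := by linear_combination 14 * h2
  have h30 : (30 : K) = 0 := by linear_combination 15 * h2
  have h32 : (32 : K) = 0 := by linear_combination 16 * h2
  obtain ⟨c, rfl⟩ : ∃ c, t52 = c * t42 := ⟨t52 / t42, by field_simp⟩
  have e : R.X49 c * R.RNF (0) (0) (0) (t42) (t46) (0) (t38) (0) (0) (t47) (0) (t41) (0) (t48) (0) (t58) (0) (t49) (0) (t59) (t61) (c * t42) (t53) (t60) (t62) (t54) (t63) (t64) (t55) (t65) (t67) (t66) (t68) (t69) (t70) (t71) * R.X49 c =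
      R.RNF (0) (0) (0) (t42) (t46) (0) (t38) (0) (0) (t47) (0) (t41) (0) (t48) (0) (t58) (0) (t49) (0) (t59) (t61) (0) (t53) (t60) (t62) (t54) (t63) (t64) (t55) (c * t58 + t65) (t67) (c * t59 + t66) (c * t42 * t58 + t68) (c * t42 * t59 + t69) (t70) (c * t67 + t71) := by
    rw [R.ucj49]
    congr 1 <;> (first | rfl | ring1 | (rw [← sub_eq_zero]; ring_nf; simp only [h2, h4, h6, h8, h10, h12, h14, h16, h18, h20, h22, h24, h26, h28, h30, h32, mul_zero, zero_mul, add_zero, zero_add, neg_zero, sub_zero, sub_self]))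
  exact UP_cj D (D.xmem49 c) (R.inv49 c) e (ih _ _ _ _ _ _ _ _ _ _ _ _ _ _ _ _ _ _ _ _ _ _ _ _ hn42)

theorem e6s3_10 (D : UData R)
    (ih : ∀ (t42 t46 t38 t47 t41 t48 t58 t49 t59 t61 t53 t60 t62 t54 t63 t64 t55 t65 t66 t68 t69 t70 t71 : K), t42 ≠ 0 → UP D (R.RNF (0) (0) (0) (t42) (t46) (0) (t38) (0) (0) (t47) (0) (t41) (0) (t48) (0) (t58) (0) (t49) (0) (t59) (t61) (0) (t53) (t60) (t62) (t54) (t63) (t64) (t55) (t65) (0) (t66) (t68) (t69) (t70) (t71))) :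
    ∀ (t42 t46 t38 t47 t41 t48 t58 t49 t59 t61 t53 t60 t62 t54 t63 t64 t55 t65 t67 t66 t68 t69 t70 t71 : K), t42 ≠ 0 → UP D (R.RNF (0) (0) (0) (t42) (t46) (0) (t38) (0) (0) (t47) (0) (t41) (0) (t48) (0) (t58) (0) (t49) (0) (t59) (t61) (0) (t53) (t60) (t62) (t54) (t63) (t64) (t55) (t65) (t67) (t66) (t68) (t69) (t70) (t71)) := by
  intro t42 t46 t38 t47 t41 t48 t58 t49 t59 t61 t53 t60 t62 t54 t63 t64 t55 t65 t67 t66 t68 t69 t70 t71 hn42
  have h2 : (2 : K) = 0 := CharTwo.two_eq_zero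
  have h4 : (4 : K) = 0 := by linear_combination 2 * h2
  have h6 : (6 : K) = 0 := by linear_combination 3 * h2
  have h8 : (8 : K) = 0 := by linear_combination 4 * h2
  have h10 : (10 : K) = 0 := by linear_combination 5 * h2
  have h12 : (12 : K) = 0 := by linear_combination 6 * h2
  have h14 : (14 : K) = 0 := by linear_combination 7 * h2
  have h16 : (16 : K) = 0 := by linear_combination 8 * h2
  have h18 : (18 : K) = 0 := by linear_combination 9 * h2
  have h20 : (20 : K) = 0 := by linear_combination 10 * h2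
  have h22 : (22 : K) = 0 := by linear_combination 11 * h2
  have h24 : (24 : K) = 0 := by linear_combination 12 * h2
  have h26 : (26 : K) = 0 := by linear_combination 13 * h2
  have h28 : (28 : K) = 0 := by linear_combination 14 * h2
  have h30 : (30 : K) = 0 := by linear_combination 15 * h2
  have h32 : (32 : K) = 0 := by linear_combination 16 * h2
  obtain ⟨c, rfl⟩ : ∃ c, t67 = c * t42 := ⟨t67 / t42, by field_simp⟩
  have e : R.X64 c * R.RNF (0) (0) (0) (t42) (t46) (0) (t38) (0) (0) (t47) (0) (t41) (0) (t48) (0) (t58) (0) (t49) (0) (t59) (t61) (0) (t53) (t60) (t62) (t54) (t63) (t64) (t55) (t65) (c * t42) (t66) (t68) (t69) (t70) (t71) * R.X64 c =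
      R.RNF (0) (0) (0) (t42) (t46) (0) (t38) (0) (0) (t47) (0) (t41) (0) (t48) (0) (t58) (0) (t49) (0) (t59) (t61) (0) (t53) (t60) (t62) (t54) (t63) (t64) (t55) (t65) (0) (c * t38 + t66) (t68) (c * t38 * t42 + t69) (c * t41 * t42 + t70) (c * t38 * t42 * t47 + c * t42 * t49 + t71) := by
    rw [R.ucj64]
    congr 1 <;> (first | rfl | ring1 | (rw [← sub_eq_zero]; ring_nf; simp only [h2, h4, h6, h8, h10, h12, h14, h16, h18, h20, h22, h24, h26, h28, h30, h32, mul_zero, zero_mul, add_zero, zero_add, neg_zero, sub_zero, sub_self]))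
  exact UP_cj D (D.xmem64 c) (R.inv64 c) e (ih _ _ _ _ _ _ _ _ _ _ _ _ _ _ _ _ _ _ _ _ _ _ _ hn42)

theorem e6s3_11 (D : UData R)
    (ih : ∀ (t42 t46 t38 t47 t41 t48 t58 t49 t59 t61 t53 t60 t62 t54 t63 t64 t55 t65 t66 t69 t70 t71 : K), t42 ≠ 0 → UP D (R.RNF (0) (0) (0) (t42) (t46) (0) (t38) (0) (0) (t47) (0) (t41) (0) (t48) (0) (t58) (0) (t49) (0) (t59) (t61) (0) (t53) (t60) (t62) (t54) (t63) (t64) (t55) (t65) (0) (t66) (0) (t69) (t70) (t71))) :
    ∀ (t42 t46 t38 t47 t41 t48 t58 t49 t59 t61 t53 t60 t62 t54 t63 t64 t55 t65 t66 t68 t69 t70 t71 : K), t42 ≠ 0 → UP D (R.RNF (0) (0) (0) (t42) (t46) (0) (t38) (0) (0) (t47) (0) (t41) (0) (t48) (0) (t58) (0) (t49) (0) (t59) (t61) (0) (t53) (t60) (t62) (t54) (t63) (t64) (t55) (t65) (0) (t66) (t68) (t69) (t70) (t71)) := by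
  intro t42 t46 t38 t47 t41 t48 t58 t49 t59 t61 t53 t60 t62 t54 t63 t64 t55 t65 t66 t68 t69 t70 t71 hn42
  have h2 : (2 : K) = 0 := CharTwo.two_eq_zero
  have h4 : (4 : K) = 0 := by linear_combination 2 * h2
  have h6 : (6 : K) = 0 := by linear_combination 3 * h2
  have h8 : (8 : K) = 0 := by linear_combination 4 * h2
  have h10 : (10 : K) = 0 := by linear_combination 5 * h2
  have h12 : (12 : K) = 0 := by linear_combination 6 * h2
  have h14 : (14 : K) = 0 := by linear_combination 7 * h2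
  have h16 : (16 : K) = 0 := by linear_combination 8 * h2
  have h18 : (18 : K) = 0 := by linear_combination 9 * h2
  have h20 : (20 : K) = 0 := by linear_combination 10 * h2
  have h22 : (22 : K) = 0 := by linear_combination 11 * h2
  have h24 : (24 : K) = 0 := by linear_combination 12 * h2
  have h26 : (26 : K) = 0 := by linear_combination 13 * h2
  have h28 : (28 : K) = 0 := by linear_combination 14 * h2
  have h30 : (30 : K) = 0 := by linear_combination 15 * h2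
  have h32 : (32 : K) = 0 := by linear_combination 16 * h2
  obtain ⟨c, rfl⟩ : ∃ c, t68 = c * t42 := ⟨t68 / t42, by field_simp⟩
  have e : R.X65 c * R.RNF (0) (0) (0) (t42) (t46) (0) (t38) (0) (0) (t47) (0) (t41) (0) (t48) (0) (t58) (0) (t49) (0) (t59) (t61) (0) (t53) (t60) (t62) (t54) (t63) (t64) (t55) (t65) (0) (t66) (c * t42) (t69) (t70) (t71) * R.X65 c =
      R.RNF (0) (0) (0) (t42) (t46) (0) (t38) (0) (0) (t47) (0) (t41) (0) (t48) (0) (t58) (0) (t49) (0) (t59) (t61) (0) (t53) (t60) (t62) (t54) (t63) (t64) (t55) (t65) (0) (t66) (0) (t69) (t70) (c * t42 * t48 + t71) := by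
    rw [R.ucj65]
    congr 1 <;> (first | rfl | ring1 | (rw [← sub_eq_zero]; ring_nf; simp only [h2, h4, h6, h8, h10, h12, h14, h16, h18, h20, h22, h24, h26, h28, h30, h32, mul_zero, zero_mul, add_zero, zero_add, neg_zero, sub_zero, sub_self]))
  exact UP_cj D (D.xmem65 c) (R.inv65 c) e (ih _ _ _ _ _ _ _ _ _ _ _ _ _ _ _ _ _ _ _ _ _ _ hn42)

theorem e6s3_12 (D : UData R)
    (ih : ∀ (t42 t46 t38 t47 t41 t48 t58 t49 t59 t61 t53 t60 t62 t54 t63 t64 t55 t65 t66 t70 t71 : K), t42 ≠ 0 → UP D (R.RNF (0) (0) (0) (t42) (t46) (0) (t38) (0) (0) (t47) (0) (t41) (0) (t48) (0) (t58) (0) (t49) (0) (t59) (t61) (0) (t53) (t60) (t62) (t54) (t63) (t64) (t55) (t65) (0) (t66) (0) (0) (t70) (t71))) :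
    ∀ (t42 t46 t38 t47 t41 t48 t58 t49 t59 t61 t53 t60 t62 t54 t63 t64 t55 t65 t66 t69 t70 t71 : K), t42 ≠ 0 → UP D (R.RNF (0) (0) (0) (t42) (t46) (0) (t38) (0) (0) (t47) (0) (t41) (0) (t48) (0) (t58) (0) (t49) (0) (t59) (t61) (0) (t53) (t60) (t62) (t54) (t63) (t64) (t55) (t65) (0) (t66) (0) (t69) (t70) (t71)) := by
  intro t42 t46 t38 t47 t41 t48 t58 t49 t59 t61 t53 t60 t62 t54 t63 t64 t55 t65 t66 t69 t70 t71 hn42
  have h2 : (2 : K) = 0 := CharTwo.two_eq_zero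
  have h4 : (4 : K) = 0 := by linear_combination 2 * h2
  have h6 : (6 : K) = 0 := by linear_combination 3 * h2
  have h8 : (8 : K) = 0 := by linear_combination 4 * h2
  have h10 : (10 : K) = 0 := by linear_combination 5 * h2
  have h12 : (12 : K) = 0 := by linear_combination 6 * h2
  have h14 : (14 : K) = 0 := by linear_combination 7 * h2
  have h16 : (16 : K) = 0 := by linear_combination 8 * h2
  have h18 : (18 : K) = 0 := by linear_combination 9 * h2
  have h20 : (20 : K) = 0 := by linear_combination 10 * h2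
  have h22 : (22 : K) = 0 := by linear_combination 11 * h2
  have h24 : (24 : K) = 0 := by linear_combination 12 * h2
  have h26 : (26 : K) = 0 := by linear_combination 13 * h2
  have h28 : (28 : K) = 0 := by linear_combination 14 * h2
  have h30 : (30 : K) = 0 := by linear_combination 15 * h2
  have h32 : (32 : K) = 0 := by linear_combination 16 * h2
  obtain ⟨c, rfl⟩ : ∃ c, t69 = c * t42 := ⟨t69 / t42, by field_simp⟩
  have e : R.X66 c * R.RNF (0) (0) (0) (t42) (t46) (0) (t38) (0) (0) (t47) (0) (t41) (0) (t48) (0) (t58) (0) (t49) (0) (t59) (t61) (0) (t53) (t60) (t62) (t54) (t63) (t64) (t55) (t65) (0) (t66) (0) (c * t42) (t70) (t71) * R.X66 c =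
      R.RNF (0) (0) (0) (t42) (t46) (0) (t38) (0) (0) (t47) (0) (t41) (0) (t48) (0) (t58) (0) (t49) (0) (t59) (t61) (0) (t53) (t60) (t62) (t54) (t63) (t64) (t55) (t65) (0) (t66) (0) (0) (t70) (c * t42 * t47 + t71) := by
    rw [R.ucj66]
    congr 1 <;> (first | rfl | ring1 | (rw [← sub_eq_zero]; ring_nf; simp only [h2, h4, h6, h8, h10, h12, h14, h16, h18, h20, h22, h24, h26, h28, h30, h32, mul_zero, zero_mul, add_zero, zero_add, neg_zero, sub_zero, sub_self]))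
  exact UP_cj D (D.xmem66 c) (R.inv66 c) e (ih _ _ _ _ _ _ _ _ _ _ _ _ _ _ _ _ _ _ _ _ _ hn42)

theorem e6s3_13 (D : UData R)
    (ih : ∀ (t42 t46 t38 t41 t48 t58 t49 t59 t61 t53 t60 t62 t54 t63 t64 t55 t65 t66 t70 t71 : K), t42 ≠ 0 → UP D (R.RNF (0) (0) (0) (t42) (t46) (0) (t38) (0) (0) (0) (0) (t41) (0) (t48) (0) (t58) (0) (t49) (0) (t59) (t61) (0) (t53) (t60) (t62) (t54) (t63) (t64) (t55) (t65) (0) (t66) (0) (0) (t70) (t71))) :
    ∀ (t42 t46 t38 t47 t41 t48 t58 t49 t59 t61 t53 t60 t62 t54 t63 t64 t55 t65 t66 t70 t71 : K), t42 ≠ 0 → UP D (R.RNF (0) (0) (0) (t42) (t46) (0) (t38) (0) (0) (t47) (0) (t41) (0) (t48) (0) (t58) (0) (t49) (0) (t59) (t61) (0) (t53) (t60) (t62) (t54) (t63) (t64) (t55) (t65) (0) (t66) (0) (0) (t70) (t71)) := by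
  intro t42 t46 t38 t47 t41 t48 t58 t49 t59 t61 t53 t60 t62 t54 t63 t64 t55 t65 t66 t70 t71 hn42 hu hne
  have hsq := hu
  rw [R.usq] at hsq
  obtain ⟨e36, e37, e39, e42, e46, e56, e38, e40, e43, e47, e57, e41, e44, e48, e50, e58, e45, e49, e51, e59, e61, e52, e53, e60, e62, e54, e63, e64, e55, e65, e67, e66, e68, e69, e70, e71⟩ := D.inj _ _ _ _ _ _ _ _ _ _ _ _ _ _ _ _ _ _ _ _ _ _ _ _ _ _ _ _ _ _ _ _ _ _ _ _ hsq
  have hz : t47 = 0 := by
    have h : t42 * t47 = 0 := by linear_combination e50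
    exact (mul_eq_zero.mp h).resolve_left hn42
  subst hz
  exact ih _ _ _ _ _ _ _ _ _ _ _ _ _ _ _ _ _ _ _ _ hn42 hu hne

theorem e6s3_14 (D : UData R)
    (ih : ∀ (t42 t46 t38 t48 t58 t49 t59 t61 t53 t60 t62 t54 t63 t64 t55 t65 t66 t70 t71 : K), t42 ≠ 0 → UP D (R.RNF (0) (0) (0) (t42) (t46) (0) (t38) (0) (0) (0) (0) (0) (0) (t48) (0) (t58) (0) (t49) (0) (t59) (t61) (0) (t53) (t60) (t62) (t54) (t63) (t64) (t55) (t65) (0) (t66) (0) (0) (t70) (t71))) :
    ∀ (t42 t46 t38 t41 t48 t58 t49 t59 t61 t53 t60 t62 t54 t63 t64 t55 t65 t66 t70 t71 : K), t42 ≠ 0 → UP D (R.RNF (0) (0) (0) (t42) (t46) (0) (t38) (0) (0) (0) (0) (t41) (0) (t48) (0) (t58) (0) (t49) (0) (t59) (t61) (0) (t53) (t60) (t62) (t54) (t63) (t64) (t55) (t65) (0) (t66) (0) (0) (t70) (t71)) := by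
  intro t42 t46 t38 t41 t48 t58 t49 t59 t61 t53 t60 t62 t54 t63 t64 t55 t65 t66 t70 t71 hn42 hu hne
  have hsq := hu
  rw [R.usq] at hsq
  obtain ⟨e36, e37, e39, e42, e46, e56, e38, e40, e43, e47, e57, e41, e44, e48, e50, e58, e45, e49, e51, e59, e61, e52, e53, e60, e62, e54, e63, e64, e55, e65, e67, e66, e68, e69, e70, e71⟩ := D.inj _ _ _ _ _ _ _ _ _ _ _ _ _ _ _ _ _ _ _ _ _ _ _ _ _ _ _ _ _ _ _ _ _ _ _ _ hsq
  have hz : t41 = 0 := by
    have h : t42 * t41 = 0 := by linear_combination e45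
    exact (mul_eq_zero.mp h).resolve_left hn42
  subst hz
  exact ih _ _ _ _ _ _ _ _ _ _ _ _ _ _ _ _ _ _ _ hn42 hu hne

theorem e6s3_15 (D : UData R)
    (ih : ∀ (t42 t46 t38 t58 t49 t59 t61 t53 t60 t62 t54 t63 t64 t55 t65 t66 t70 t71 : K), t42 ≠ 0 → UP D (R.RNF (0) (0) (0) (t42) (t46) (0) (t38) (0) (0) (0) (0) (0) (0) (0) (0) (t58) (0) (t49) (0) (t59) (t61) (0) (t53) (t60) (t62) (t54) (t63) (t64) (t55) (t65) (0) (t66) (0) (0) (t70) (t71))) :
    ∀ (t42 t46 t38 t48 t58 t49 t59 t61 t53 t60 t62 t54 t63 t64 t55 t65 t66 t70 t71 : K), t42 ≠ 0 → UP D (R.RNF (0) (0) (0) (t42) (t46) (0) (t38) (0) (0) (0) (0) (0) (0) (t48) (0) (t58) (0) (t49) (0) (t59) (t61) (0) (t53) (t60) (t62) (t54) (t63) (t64) (t55) (t65) (0) (t66) (0) (0) (t70) (t71)) := by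
  intro t42 t46 t38 t48 t58 t49 t59 t61 t53 t60 t62 t54 t63 t64 t55 t65 t66 t70 t71 hn42 hu hne
  have hsq := hu
  rw [R.usq] at hsq
  obtain ⟨e36, e37, e39, e42, e46, e56, e38, e40, e43, e47, e57, e41, e44, e48, e50, e58, e45, e49, e51, e59, e61, e52, e53, e60, e62, e54, e63, e64, e55, e65, e67, e66, e68, e69, e70, e71⟩ := D.inj _ _ _ _ _ _ _ _ _ _ _ _ _ _ _ _ _ _ _ _ _ _ _ _ _ _ _ _ _ _ _ _ _ _ _ _ hsq
  have hz : t48 = 0 := by
    have h : t42 * t48 = 0 := by linear_combination e51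
    exact (mul_eq_zero.mp h).resolve_left hn42
  subst hz
  exact ih _ _ _ _ _ _ _ _ _ _ _ _ _ _ _ _ _ _ hn42 hu hne

theorem e6s3_16 (D : UData R)
    (ih : ∀ (t42 t46 t38 t58 t59 t61 t53 t60 t62 t54 t63 t64 t55 t65 t66 t70 t71 : K), t42 ≠ 0 → UP D (R.RNF (0) (0) (0) (t42) (t46) (0) (t38) (0) (0) (0) (0) (0) (0) (0) (0) (t58) (0) (0) (0) (t59) (t61) (0) (t53) (t60) (t62) (t54) (t63) (t64) (t55) (t65) (0) (t66) (0) (0) (t70) (t71))) :
    ∀ (t42 t46 t38 t58 t49 t59 t61 t53 t60 t62 t54 t63 t64 t55 t65 t66 t70 t71 : K), t42 ≠ 0 → UP D (R.RNF (0) (0) (0) (t42) (t46) (0) (t38) (0) (0) (0) (0) (0) (0) (0) (0) (t58) (0) (t49) (0) (t59) (t61) (0) (t53) (t60) (t62) (t54) (t63) (t64) (t55) (t65) (0) (t66) (0) (0) (t70) (t71)) := by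
  intro t42 t46 t38 t58 t49 t59 t61 t53 t60 t62 t54 t63 t64 t55 t65 t66 t70 t71 hn42 hu hne
  have hsq := hu
  rw [R.usq] at hsq
  obtain ⟨e36, e37, e39, e42, e46, e56, e38, e40, e43, e47, e57, e41, e44, e48, e50, e58, e45, e49, e51, e59, e61, e52, e53, e60, e62, e54, e63, e64, e55, e65, e67, e66, e68, e69, e70, e71⟩ := D.inj _ _ _ _ _ _ _ _ _ _ _ _ _ _ _ _ _ _ _ _ _ _ _ _ _ _ _ _ _ _ _ _ _ _ _ _ hsq
  have hz : t49 = 0 := by
    have h : t42 * t49 = 0 := by linear_combination e52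
    exact (mul_eq_zero.mp h).resolve_left hn42
  subst hz
  exact ih _ _ _ _ _ _ _ _ _ _ _ _ _ _ _ _ _ hn42 hu hne

theorem e6s3_17 (D : UData R)
    (ih : ∀ (t42 t46 t38 t58 t59 t61 t53 t60 t62 t54 t63 t55 t65 t66 t70 t71 : K), t42 ≠ 0 → UP D (R.RNF (0) (0) (0) (t42) (t46) (0) (t38) (0) (0) (0) (0) (0) (0) (0) (0) (t58) (0) (0) (0) (t59) (t61) (0) (t53) (t60) (t62) (t54) (t63) (0) (t55) (t65) (0) (t66) (0) (0) (t70) (t71))) :
    ∀ (t42 t46 t38 t58 t59 t61 t53 t60 t62 t54 t63 t64 t55 t65 t66 t70 t71 : K), t42 ≠ 0 → UP D (R.RNF (0) (0) (0) (t42) (t46) (0) (t38) (0) (0) (0) (0) (0) (0) (0) (0) (t58) (0) (0) (0) (t59) (t61) (0) (t53) (t60) (t62) (t54) (t63) (t64) (t55) (t65) (0) (t66) (0) (0) (t70) (t71)) := by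
  intro t42 t46 t38 t58 t59 t61 t53 t60 t62 t54 t63 t64 t55 t65 t66 t70 t71 hn42 hu hne
  have hsq := hu
  rw [R.usq] at hsq
  obtain ⟨e36, e37, e39, e42, e46, e56, e38, e40, e43, e47, e57, e41, e44, e48, e50, e58, e45, e49, e51, e59, e61, e52, e53, e60, e62, e54, e63, e64, e55, e65, e67, e66, e68, e69, e70, e71⟩ := D.inj _ _ _ _ _ _ _ _ _ _ _ _ _ _ _ _ _ _ _ _ _ _ _ _ _ _ _ _ _ _ _ _ _ _ _ _ hsq
  have hz : t64 = 0 := by
    have h : t42 * t64 = 0 := by linear_combination e67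
    exact (mul_eq_zero.mp h).resolve_left hn42
  subst hz
  exact ih _ _ _ _ _ _ _ _ _ _ _ _ _ _ _ _ hn42 hu hne

theorem e6s3_18 (D : UData R)
    (ih : ∀ (t42 t46 t38 t58 t59 t61 t53 t60 t62 t54 t63 t55 t66 t70 t71 : K), t42 ≠ 0 → UP D (R.RNF (0) (0) (0) (t42) (t46) (0) (t38) (0) (0) (0) (0) (0) (0) (0) (0) (t58) (0) (0) (0) (t59) (t61) (0) (t53) (t60) (t62) (t54) (t63) (0) (t55) (0) (0) (t66) (0) (0) (t70) (t71))) :
    ∀ (t42 t46 t38 t58 t59 t61 t53 t60 t62 t54 t63 t55 t65 t66 t70 t71 : K), t42 ≠ 0 → UP D (R.RNF (0) (0) (0) (t42) (t46) (0) (t38) (0) (0) (0) (0) (0) (0) (0) (0) (t58) (0) (0) (0) (t59) (t61) (0) (t53) (t60) (t62) (t54) (t63) (0) (t55) (t65) (0) (t66) (0) (0) (t70) (t71)) := by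
  intro t42 t46 t38 t58 t59 t61 t53 t60 t62 t54 t63 t55 t65 t66 t70 t71 hn42 hu hne
  have hsq := hu
  rw [R.usq] at hsq
  obtain ⟨e36, e37, e39, e42, e46, e56, e38, e40, e43, e47, e57, e41, e44, e48, e50, e58, e45, e49, e51, e59, e61, e52, e53, e60, e62, e54, e63, e64, e55, e65, e67, e66, e68, e69, e70, e71⟩ := D.inj _ _ _ _ _ _ _ _ _ _ _ _ _ _ _ _ _ _ _ _ _ _ _ _ _ _ _ _ _ _ _ _ _ _ _ _ hsq
  have hz : t65 = 0 := by
    have h : t42 * t65 = 0 := by linear_combination e68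
    exact (mul_eq_zero.mp h).resolve_left hn42
  subst hz
  exact ih _ _ _ _ _ _ _ _ _ _ _ _ _ _ _ hn42 hu hne

theorem e6s3_19 (D : UData R)
    (ih : ∀ (t42 t46 t38 t58 t59 t61 t53 t60 t62 t54 t63 t55 t70 t71 : K), t42 ≠ 0 → UP D (R.RNF (0) (0) (0) (t42) (t46) (0) (t38) (0) (0) (0) (0) (0) (0) (0) (0) (t58) (0) (0) (0) (t59) (t61) (0) (t53) (t60) (t62) (t54) (t63) (0) (t55) (0) (0) (0) (0) (0) (t70) (t71))) :
    ∀ (t42 t46 t38 t58 t59 t61 t53 t60 t62 t54 t63 t55 t66 t70 t71 : K), t42 ≠ 0 → UP D (R.RNF (0) (0) (0) (t42) (t46) (0) (t38) (0) (0) (0) (0) (0) (0) (0) (0) (t58) (0) (0) (0) (t59) (t61) (0) (t53) (t60) (t62) (t54) (t63) (0) (t55) (0) (0) (t66) (0) (0) (t70) (t71)) := by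
  intro t42 t46 t38 t58 t59 t61 t53 t60 t62 t54 t63 t55 t66 t70 t71 hn42 hu hne
  have hsq := hu
  rw [R.usq] at hsq
  obtain ⟨e36, e37, e39, e42, e46, e56, e38, e40, e43, e47, e57, e41, e44, e48, e50, e58, e45, e49, e51, e59, e61, e52, e53, e60, e62, e54, e63, e64, e55, e65, e67, e66, e68, e69, e70, e71⟩ := D.inj _ _ _ _ _ _ _ _ _ _ _ _ _ _ _ _ _ _ _ _ _ _ _ _ _ _ _ _ _ _ _ _ _ _ _ _ hsq
  have hz : t66 = 0 := by
    have h : t42 * t66 = 0 := by linear_combination e69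
    exact (mul_eq_zero.mp h).resolve_left hn42
  subst hz
  exact ih _ _ _ _ _ _ _ _ _ _ _ _ _ _ hn42 hu hne

theorem e6s3_20 (D : UData R)
    (ih : ∀ (t46 t38 t43 t57 t44 t50 t45 t51 t52 t64 t65 t66 t70 t71 : K), t57 ≠ 0 → UP D (R.RNF (0) (0) (0) (0) (t46) (0) (t38) (0) (t43) (0) (t57) (0) (t44) (0) (t50) (0) (t45) (0) (t51) (0) (0) (t52) (0) (0) (0) (0) (0) (t64) (0) (t65) (0) (t66) (0) (0) (t70) (t71))) :
    ∀ (t42 t46 t38 t58 t59 t61 t53 t60 t62 t54 t63 t55 t70 t71 : K), t42 ≠ 0 → UP D (R.RNF (0) (0) (0) (t42) (t46) (0) (t38) (0) (0) (0) (0) (0) (0) (0) (0) (t58) (0) (0) (0) (t59) (t61) (0) (t53) (t60) (t62) (t54) (t63) (0) (t55) (0) (0) (0) (0) (0) (t70) (t71)) := by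
  intro t42 t46 t38 t58 t59 t61 t53 t60 t62 t54 t63 t55 t70 t71 hn42
  have h2 : (2 : K) = 0 := CharTwo.two_eq_zero
  have h4 : (4 : K) = 0 := by linear_combination 2 * h2
  have h6 : (6 : K) = 0 := by linear_combination 3 * h2
  have h8 : (8 : K) = 0 := by linear_combination 4 * h2
  have h10 : (10 : K) = 0 := by linear_combination 5 * h2
  have h12 : (12 : K) = 0 := by linear_combination 6 * h2
  have h14 : (14 : K) = 0 := by linear_combination 7 * h2
  have h16 : (16 : K) = 0 := by linear_combination 8 * h2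
  have h18 : (18 : K) = 0 := by linear_combination 9 * h2
  have h20 : (20 : K) = 0 := by linear_combination 10 * h2
  have h22 : (22 : K) = 0 := by linear_combination 11 * h2
  have h24 : (24 : K) = 0 := by linear_combination 12 * h2
  have h26 : (26 : K) = 0 := by linear_combination 13 * h2
  have h28 : (28 : K) = 0 := by linear_combination 14 * h2
  have h30 : (30 : K) = 0 := by linear_combination 15 * h2
  have h32 : (32 : K) = 0 := by linear_combination 16 * h2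
  have e : D.n1 * R.RNF (0) (0) (0) (t42) (t46) (0) (t38) (0) (0) (0) (0) (0) (0) (0) (0) (t58) (0) (0) (0) (t59) (t61) (0) (t53) (t60) (t62) (t54) (t63) (0) (t55) (0) (0) (0) (0) (0) (t70) (t71) * D.n1⁻¹ =
      R.RNF (0) (0) (0) (0) (t46) (0) (t38) (0) (t58) (0) (t42) (0) (t59) (0) (t61) (0) (t60) (0) (t62) (0) (0) (t63) (0) (0) (0) (0) (0) (t53) (0) (t54) (0) (t55) (0) (0) (t53 * t60 + t70) (t53 * t63 + t71) := by
    rw [D.toWeylE6.conj_n1]
    congr 1 <;> (first | rfl | ring1 | (rw [← sub_eq_zero]; ring_nf; simp only [h2, h4, h6, h8, h10, h12, h14, h16, h18, h20, h22, h24, h26, h28, h30, h32, mul_zero, zero_mul, add_zero, zero_add, neg_zero, sub_zero, sub_self]))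
  exact UP_n D D.n1_mem e (ih _ _ _ _ _ _ _ _ _ _ _ _ _ _ hn42)

theorem upiv3 (D : UData R)
    (ih : ∀ (t46 t56 t38 t40 t43 t47 t57 t41 t44 t48 t50 t58 t45 t49 t51 t59 t61 t52 t53 t60 t62 t54 t63 t64 t55 t65 t67 t66 t68 t69 t70 t71 : K), UP D (R.RNF (0) (0) (0) (0) (t46) (t56) (t38) (t40) (t43) (t47) (t57) (t41) (t44) (t48) (t50) (t58) (t45) (t49) (t51) (t59) (t61) (t52) (t53) (t60) (t62) (t54) (t63) (t64) (t55) (t65) (t67) (t66) (t68) (t69) (t70) (t71))) :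
    ∀ (t42 t46 t56 t38 t40 t43 t47 t57 t41 t44 t48 t50 t58 t45 t49 t51 t59 t61 t52 t53 t60 t62 t54 t63 t64 t55 t65 t67 t66 t68 t69 t70 t71 : K), UP D (R.RNF (0) (0) (0) (t42) (t46) (t56) (t38) (t40) (t43) (t47) (t57) (t41) (t44) (t48) (t50) (t58) (t45) (t49) (t51) (t59) (t61) (t52) (t53) (t60) (t62) (t54) (t63) (t64) (t55) (t65) (t67) (t66) (t68) (t69) (t70) (t71)) := by
  intro t42 t46 t56 t38 t40 t43 t47 t57 t41 t44 t48 t50 t58 t45 t49 t51 t59 t61 t52 t53 t60 t62 t54 t63 t64 t55 t65 t67 t66 t68 t69 t70 t71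
  by_cases h0 : t42 = 0
  · subst h0; exact ih _ _ _ _ _ _ _ _ _ _ _ _ _ _ _ _ _ _ _ _ _ _ _ _ _ _ _ _ _ _ _ _
  · exact (e6s3_1 D (e6s3_2 D (e6s3_3 D (e6s3_4 D (e6s3_5 D (e6s3_6 D (e6s3_7 D (e6s3_8 D (e6s3_9 D (e6s3_10 D (e6s3_11 D (e6s3_12 D (e6s3_13 D (e6s3_14 D (e6s3_15 D (e6s3_16 D (e6s3_17 D (e6s3_18 D (e6s3_19 D (e6s3_20 D (fun t46 t38 t43 t57 t44 t50 t45 t51 t52 t64 t65 t66 t70 t71 _ => ih t46 0 t38 0 t43 0 t57 0 t44 0 t50 0 t45 0 t51 0 0 t52 0 0 0 0 0 t64 0 t65 0 t66 0 0 t70 t71))))))))))))))))))))) t42 t46 t56 t38 t40 t43 t47 t57 t41 t44 t48 t50 t58 t45 t49 t51 t59 t61 t52 t53 t60 t62 t54 t63 t64 t55 t65 t67 t66 t68 t69 t70 t71 h0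

end Cfsg.Agent.Helper4.E6Inv
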