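import Cfsg.Agent.Helper4.E6Inv.UFinT

/-! Generated: steps of the reduction of involutions in the unipotent group of `E₆`
(characteristic two). -/

set_option autoImplicit false
set_option maxHeartbeats 8000000
set_option maxRecDepth 100000
set_option linter.unusedSimpArgs false
set_option linter.unusedVariables false
set_option linter.unusedSectionVars false
set_option linter.unusedTactic false
set_option linter.unreachableTactic false

namespace Cfsg.Agent.Helper4.E6Inv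

variable {K Γ : Type*} [Field K] [Group Γ] {R : RelE6 K Γ} [CharP K 2]

theorem e6s4_1 (D : UData R)
    (ih : ∀ (t46 t56 t38 t43 t47 t57 t41 t44 t48 t50 t58 t45 t49 t51 t59 t61 t52 t53 t60 t62 t54 t63 t64 t55 t65 t67 t66 t68 t69 t70 t71 : K), t46 ≠ 0 → UP D (R.RNF (0) (0) (0) (0) (t46) (t56) (t38) (0) (t43) (t47) (t57) (t41) (t44) (t48) (t50) (t58) (t45) (t49) (t51) (t59) (t61) (t52) (t53) (t60) (t62) (t54) (t63) (t64) (t55) (t65) (t67) (t66) (t68) (t69) (t70) (t71))) :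
    ∀ (t46 t56 t38 t40 t43 t47 t57 t41 t44 t48 t50 t58 t45 t49 t51 t59 t61 t52 t53 t60 t62 t54 t63 t64 t55 t65 t67 t66 t68 t69 t70 t71 : K), t46 ≠ 0 → UP D (R.RNF (0) (0) (0) (0) (t46) (t56) (t38) (t40) (t43) (t47) (t57) (t41) (t44) (t48) (t50) (t58) (t45) (t49) (t51) (t59) (t61) (t52) (t53) (t60) (t62) (t54) (t63) (t64) (t55) (t65) (t67) (t66) (t68) (t69) (t70) (t71)) := by
  intro t46 t56 t38 t40 t43 t47 t57 t41 t44 t48 t50 t58 t45 t49 t51 t59 t61 t52 t53 t60 t62 t54 t63 t64 t55 t65 t67 t66 t68 t69 t70 t71 hn46 hu hne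
  have hsq := hu
  rw [R.usq] at hsq
  obtain ⟨e36, e37, e39, e42, e46, e56, e38, e40, e43, e47, e57, e41, e44, e48, e50, e58, e45, e49, e51, e59, e61, e52, e53, e60, e62, e54, e63, e64, e55, e65, e67, e66, e68, e69, e70, e71⟩ := D.inj _ _ _ _ _ _ _ _ _ _ _ _ _ _ _ _ _ _ _ _ _ _ _ _ _ _ _ _ _ _ _ _ _ _ _ _ hsq
  have hz : t40 = 0 := by
    have h : t46 * t40 = 0 := by linear_combination e48
    exact (mul_eq_zero.mp h).resolve_left hn46
  subst hz
  exact ih _ _ _ _ _ _ _ _ _ _ _ _ _ _ _ _ _ _ _ _ _ _ _ _ _ _ _ _ _ _ _ hn46 hu hne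

theorem e6s4_2 (D : UData R)
    (ih : ∀ (t46 t56 t38 t47 t57 t41 t44 t48 t50 t58 t45 t49 t51 t59 t61 t52 t53 t60 t62 t54 t63 t64 t55 t65 t67 t66 t68 t69 t70 t71 : K), t46 ≠ 0 → UP D (R.RNF (0) (0) (0) (0) (t46) (t56) (t38) (0) (0) (t47) (t57) (t41) (t44) (t48) (t50) (t58) (t45) (t49) (t51) (t59) (t61) (t52) (t53) (t60) (t62) (t54) (t63) (t64) (t55) (t65) (t67) (t66) (t68) (t69) (t70) (t71))) :
    ∀ (t46 t56 t38 t43 t47 t57 t41 t44 t48 t50 t58 t45 t49 t51 t59 t61 t52 t53 t60 t62 t54 t63 t64 t55 t65 t67 t66 t68 t69 t70 t71 : K), t46 ≠ 0 → UP D (R.RNF (0) (0) (0) (0) (t46) (t56) (t38) (0) (t43) (t47) (t57) (t41) (t44) (t48) (t50) (t58) (t45) (t49) (t51) (t59) (t61) (t52) (t53) (t60) (t62) (t54) (t63) (t64) (t55) (t65) (t67) (t66) (t68) (t69) (t70) (t71)) := by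
  intro t46 t56 t38 t43 t47 t57 t41 t44 t48 t50 t58 t45 t49 t51 t59 t61 t52 t53 t60 t62 t54 t63 t64 t55 t65 t67 t66 t68 t69 t70 t71 hn46 hu hne
  have hsq := hu
  rw [R.usq] at hsq
  obtain ⟨e36, e37, e39, e42, e46, e56, e38, e40, e43, e47, e57, e41, e44, e48, e50, e58, e45, e49, e51, e59, e61, e52, e53, e60, e62, e54, e63, e64, e55, e65, e67, e66, e68, e69, e70, e71⟩ := D.inj _ _ _ _ _ _ _ _ _ _ _ _ _ _ _ _ _ _ _ _ _ _ _ _ _ _ _ _ _ _ _ _ _ _ _ _ hsq
  have hz : t43 = 0 := by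
    have h : t46 * t43 = 0 := by linear_combination e50
    exact (mul_eq_zero.mp h).resolve_left hn46
  subst hz
  exact ih _ _ _ _ _ _ _ _ _ _ _ _ _ _ _ _ _ _ _ _ _ _ _ _ _ _ _ _ _ _ hn46 hu hne

theorem e6s4_3 (D : UData R)
    (ih : ∀ (t46 t56 t38 t47 t57 t41 t48 t50 t58 t45 t49 t51 t59 t61 t52 t53 t60 t62 t54 t63 t64 t55 t65 t67 t66 t68 t69 t70 t71 : K), t46 ≠ 0 → UP D (R.RNF (0) (0) (0) (0) (t46) (t56) (t38) (0) (0) (t47) (t57) (t41) (0) (t48) (t50) (t58) (t45) (t49) (t51) (t59) (t61) (t52) (t53) (t60) (t62) (t54) (t63) (t64) (t55) (t65) (t67) (t66) (t68) (t69) (t70) (t71))) :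
    ∀ (t46 t56 t38 t47 t57 t41 t44 t48 t50 t58 t45 t49 t51 t59 t61 t52 t53 t60 t62 t54 t63 t64 t55 t65 t67 t66 t68 t69 t70 t71 : K), t46 ≠ 0 → UP D (R.RNF (0) (0) (0) (0) (t46) (t56) (t38) (0) (0) (t47) (t57) (t41) (t44) (t48) (t50) (t58) (t45) (t49) (t51) (t59) (t61) (t52) (t53) (t60) (t62) (t54) (t63) (t64) (t55) (t65) (t67) (t66) (t68) (t69) (t70) (t71)) := by
  intro t46 t56 t38 t47 t57 t41 t44 t48 t50 t58 t45 t49 t51 t59 t61 t52 t53 t60 t62 t54 t63 t64 t55 t65 t67 t66 t68 t69 t70 t71 hn46 hu hne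
  have hsq := hu
  rw [R.usq] at hsq
  obtain ⟨e36, e37, e39, e42, e46, e56, e38, e40, e43, e47, e57, e41, e44, e48, e50, e58, e45, e49, e51, e59, e61, e52, e53, e60, e62, e54, e63, e64, e55, e65, e67, e66, e68, e69, e70, e71⟩ := D.inj _ _ _ _ _ _ _ _ _ _ _ _ _ _ _ _ _ _ _ _ _ _ _ _ _ _ _ _ _ _ _ _ _ _ _ _ hsq
  have hz : t44 = 0 := by
    have h : t46 * t44 = 0 := by linear_combination e51
    exact (mul_eq_zero.mp h).resolve_left hn46
  subst hz
  exact ih _ _ _ _ _ _ _ _ _ _ _ _ _ _ _ _ _ _ _ _ _ _ _ _ _ _ _ _ _ hn46 hu hne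

theorem e6s4_4 (D : UData R)
    (ih : ∀ (t46 t56 t38 t57 t41 t48 t50 t58 t45 t49 t51 t59 t61 t52 t53 t60 t62 t54 t63 t64 t55 t65 t67 t66 t68 t69 t70 t71 : K), t46 ≠ 0 → UP D (R.RNF (0) (0) (0) (0) (t46) (t56) (t38) (0) (0) (0) (t57) (t41) (0) (t48) (t50) (t58) (t45) (t49) (t51) (t59) (t61) (t52) (t53) (t60) (t62) (t54) (t63) (t64) (t55) (t65) (t67) (t66) (t68) (t69) (t70) (t71))) :
    ∀ (t46 t56 t38 t47 t57 t41 t48 t50 t58 t45 t49 t51 t59 t61 t52 t53 t60 t62 t54 t63 t64 t55 t65 t67 t66 t68 t69 t70 t71 : K), t46 ≠ 0 → UP D (R.RNF (0) (0) (0) (0) (t46) (t56) (t38) (0) (0) (t47) (t57) (t41) (0) (t48) (t50) (t58) (t45) (t49) (t51) (t59) (t61) (t52) (t53) (t60) (t62) (t54) (t63) (t64) (t55) (t65) (t67) (t66) (t68) (t69) (t70) (t71)) := by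
  intro t46 t56 t38 t47 t57 t41 t48 t50 t58 t45 t49 t51 t59 t61 t52 t53 t60 t62 t54 t63 t64 t55 t65 t67 t66 t68 t69 t70 t71 hn46
  have h2 : (2 : K) = 0 := CharTwo.two_eq_zero
  have h4 : (4 : K) = 0 := by linear_combination 2 * h2
  have h6 : (6 : K) = 0 := by linear_combination 3 * h2
  have h8 : (8 : K) = 0 := by linear_combination 4 * h2
  have h10 : (10 : K) = 0 := by linear_combination 5 * h2
  have h12 : (12 : K) = 0 := by linear_combination 6 * h2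
  have h14 : (14 : K) = 0 := by linear_combination 7 * h2
  have h16 : (16 : K) = 0 := by linear_combination 8 * h2
  have h18 : (18 : K) = 0 := by linear_combination 9 * h2
  have h20 : (20 : K) = 0 := by linear_combination 10 * h2
  have h22 : (22 : K) = 0 := by linear_combination 11 * h2
  have h24 : (24 : K) = 0 := by linear_combination 12 * h2
  have h26 : (26 : K) = 0 := by linear_combination 13 * h2
  have h28 : (28 : K) = 0 := by linear_combination 14 * h2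
  have h30 : (30 : K) = 0 := by linear_combination 15 * h2
  have h32 : (32 : K) = 0 := by linear_combination 16 * h2
  obtain ⟨c, rfl⟩ : ∃ c, t47 = c * t46 := ⟨t47 / t46, by field_simp⟩
  have e : R.X39 c * R.RNF (0) (0) (0) (0) (t46) (t56) (t38) (0) (0) (c * t46) (t57) (t41) (0) (t48) (t50) (t58) (t45) (t49) (t51) (t59) (t61) (t52) (t53) (t60) (t62) (t54) (t63) (t64) (t55) (t65) (t67) (t66) (t68) (t69) (t70) (t71) * R.X39 c =
      R.RNF (0) (0) (0) (0) (t46) (t56) (t38) (0) (0) (0) (t57) (c * t38 + t41) (0) (t48) (t50) (c * t57 + t58) (t45) (c * t38 * t46 + t49) (t51) (t59) (t61) (t52) (c * t51 + t53) (c * t38 * t57 + t60) (t62) (c * t52 + t54) (c * t38 * t46 * t57 + t63) (c * t48 * t57 + c * t62 + t64) (t55) (c * t38 * t46 * t58 + c * t63 + c ^ 2 * t38 * t46 * t57 + t65) (t67) (c * t38 * t48 * t57 + t66) (c * t38 * t50 * t57 + t68) (c * t38 * t51 * t57 + t69) (c * t38 * t53 * t57 + c * t45 * t48 * t57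 + c * t69 + c ^ 2 * t38 * t51 * t57 + t70) (c * t38 * t46 * t51 * t58 + c * t38 * t46 * t53 * t57 + c * t38 * t48 * t50 * t57 + c * t48 * t52 * t57 + c * t52 * t62 + t71) := by
    rw [R.ucj39]
    congr 1 <;> (first | rfl | ring1 | (rw [← sub_eq_zero]; ring_nf; simp only [h2, h4, h6, h8, h10, h12, h14, h16, h18, h20, h22, h24, h26, h28, h30, h32, mul_zero, zero_mul, add_zero, zero_add, neg_zero, sub_zero, sub_self]))
  exact UP_cj D (D.xmem39 c) (R.inv39 c) e (ih _ _ _ _ _ _ _ _ _ _ _ _ _ _ _ _ _ _ _ _ _ _ _ _ _ _ _ _ hn46)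

theorem e6s4_5 (D : UData R)
    (ih : ∀ (t46 t56 t38 t57 t41 t50 t58 t45 t49 t51 t59 t61 t52 t53 t60 t62 t54 t63 t64 t55 t65 t67 t66 t68 t69 t70 t71 : K), t46 ≠ 0 → UP D (R.RNF (0) (0) (0) (0) (t46) (t56) (t38) (0) (0) (0) (t57) (t41) (0) (0) (t50) (t58) (t45) (t49) (t51) (t59) (t61) (t52) (t53) (t60) (t62) (t54) (t63) (t64) (t55) (t65) (t67) (t66) (t68) (t69) (t70) (t71))) :
    ∀ (t46 t56 t38 t57 t41 t48 t50 t58 t45 t49 t51 t59 t61 t52 t53 t60 t62 t54 t63 t64 t55 t65 t67 t66 t68 t69 t70 t71 : K), t46 ≠ 0 → UP D (R.RNF (0) (0) (0) (0) (t46) (t56) (t38) (0) (0) (0) (t57) (t41) (0) (t48) (t50) (t58) (t45) (t49) (t51) (t59) (t61) (t52) (t53) (t60) (t62) (t54) (t63) (t64) (t55) (t65) (t67) (t66) (t68) (t69) (t70) (t71)) := by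
  intro t46 t56 t38 t57 t41 t48 t50 t58 t45 t49 t51 t59 t61 t52 t53 t60 t62 t54 t63 t64 t55 t65 t67 t66 t68 t69 t70 t71 hn46
  have h2 : (2 : K) = 0 := CharTwo.two_eq_zero
  have h4 : (4 : K) = 0 := by linear_combination 2 * h2
  have h6 : (6 : K) = 0 := by linear_combination 3 * h2
  have h8 : (8 : K) = 0 := by linear_combination 4 * h2
  have h10 : (10 : K) = 0 := by linear_combination 5 * h2
  have h12 : (12 : K) = 0 := by linear_combination 6 * h2
  have h14 : (14 : K) = 0 := by linear_combination 7 * h2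
  have h16 : (16 : K) = 0 := by linear_combination 8 * h2
  have h18 : (18 : K) = 0 := by linear_combination 9 * h2
  have h20 : (20 : K) = 0 := by linear_combination 10 * h2
  have h22 : (22 : K) = 0 := by linear_combination 11 * h2
  have h24 : (24 : K) = 0 := by linear_combination 12 * h2
  have h26 : (26 : K) = 0 := by linear_combination 13 * h2
  have h28 : (28 : K) = 0 := by linear_combination 14 * h2
  have h30 : (30 : K) = 0 := by linear_combination 15 * h2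
  have h32 : (32 : K) = 0 := by linear_combination 16 * h2
  obtain ⟨c, rfl⟩ : ∃ c, t48 = c * t46 := ⟨t48 / t46, by field_simp⟩
  have e : R.X40 c * R.RNF (0) (0) (0) (0) (t46) (t56) (t38) (0) (0) (0) (t57) (t41) (0) (c * t46) (t50) (t58) (t45) (t49) (t51) (t59) (t61) (t52) (t53) (t60) (t62) (t54) (t63) (t64) (t55) (t65) (t67) (t66) (t68) (t69) (t70) (t71) * R.X40 c =
      R.RNF (0) (0) (0) (0) (t46) (t56) (t38) (0) (0) (0) (t57) (t41) (0) (0) (t50) (t58) (t45) (t49) (t51) (c * t57 + t59) (t61) (t52) (c * t50 + t53) (t60) (c * t46 * t57 + t62) (t54) (t63) (c * t61 + t64) (c * t52 + t55) (t65) (c * t50 * t57 + t67) (c * t41 * t46 * t57 + c * t49 * t57 + c * t63 + t66) (t68) (c * t45 * t46 * t57 + t69) (c * t68 + t70) (c * t41 * t46 * t50 * t57 + c * t49 * t50 * t57 + c * t52 * t61 + t71) := by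
    rw [R.ucj40]
    congr 1 <;> (first | rfl | ring1 | (rw [← sub_eq_zero]; ring_nf; simp only [h2, h4, h6, h8, h10, h12, h14, h16, h18, h20, h22, h24, h26, h28, h30, h32, mul_zero, zero_mul, add_zero, zero_add, neg_zero, sub_zero, sub_self]))
  exact UP_cj D (D.xmem40 c) (R.inv40 c) e (ih _ _ _ _ _ _ _ _ _ _ _ _ _ _ _ _ _ _ _ _ _ _ _ _ _ _ _ hn46)

theorem e6s4_6 (D : UData R)
    (ih : ∀ (t46 t56 t38 t57 t41 t58 t45 t49 t51 t59 t61 t52 t53 t60 t62 t54 t63 t64 t55 t65 t67 t66 t68 t69 t70 t71 : K), t46 ≠ 0 → UP D (R.RNF (0) (0) (0) (0) (t46) (t56) (t38) (0) (0) (0) (t57) (t41) (0) (0) (0) (t58) (t45) (t49) (t51) (t59) (t61) (t52) (t53) (t60) (t62) (t54) (t63) (t64) (t55) (t65) (t67) (t66) (t68) (t69) (t70) (t71))) :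
    ∀ (t46 t56 t38 t57 t41 t50 t58 t45 t49 t51 t59 t61 t52 t53 t60 t62 t54 t63 t64 t55 t65 t67 t66 t68 t69 t70 t71 : K), t46 ≠ 0 → UP D (R.RNF (0) (0) (0) (0) (t46) (t56) (t38) (0) (0) (0) (t57) (t41) (0) (0) (t50) (t58) (t45) (t49) (t51) (t59) (t61) (t52) (t53) (t60) (t62) (t54) (t63) (t64) (t55) (t65) (t67) (t66) (t68) (t69) (t70) (t71)) := by
  intro t46 t56 t38 t57 t41 t50 t58 t45 t49 t51 t59 t61 t52 t53 t60 t62 t54 t63 t64 t55 t65 t67 t66 t68 t69 t70 t71 hn46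
  have h2 : (2 : K) = 0 := CharTwo.two_eq_zero
  have h4 : (4 : K) = 0 := by linear_combination 2 * h2
  have h6 : (6 : K) = 0 := by linear_combination 3 * h2
  have h8 : (8 : K) = 0 := by linear_combination 4 * h2
  have h10 : (10 : K) = 0 := by linear_combination 5 * h2
  have h12 : (12 : K) = 0 := by linear_combination 6 * h2
  have h14 : (14 : K) = 0 := by linear_combination 7 * h2
  have h16 : (16 : K) = 0 := by linear_combination 8 * h2
  have h18 : (18 : K) = 0 := by linear_combination 9 * h2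
  have h20 : (20 : K) = 0 := by linear_combination 10 * h2
  have h22 : (22 : K) = 0 := by linear_combination 11 * h2
  have h24 : (24 : K) = 0 := by linear_combination 12 * h2
  have h26 : (26 : K) = 0 := by linear_combination 13 * h2
  have h28 : (28 : K) = 0 := by linear_combination 14 * h2
  have h30 : (30 : K) = 0 := by linear_combination 15 * h2
  have h32 : (32 : K) = 0 := by linear_combination 16 * h2
  obtain ⟨c, rfl⟩ : ∃ c, t50 = c * t46 := ⟨t50 / t46, by field_simp⟩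
  have e : R.X43 c * R.RNF (0) (0) (0) (0) (t46) (t56) (t38) (0) (0) (0) (t57) (t41) (0) (0) (c * t46) (t58) (t45) (t49) (t51) (t59) (t61) (t52) (t53) (t60) (t62) (t54) (t63) (t64) (t55) (t65) (t67) (t66) (t68) (t69) (t70) (t71) * R.X43 c =
      R.RNF (0) (0) (0) (0) (t46) (t56) (t38) (0) (0) (0) (t57) (t41) (0) (0) (0) (c * t56 + t58) (c * t38 + t45) (t49) (t51) (t59) (c * t46 * t56 + t61) (c * t38 * t46 + t52) (t53) (c * t38 * t56 + t60) (t62) (c * t41 * t46 + c * t49 + t54) (c * t38 * t46 * t56 + t63) (t64) (t55) (c * t41 * t46 * t56 + t65) (c * t62 + t67) (t66) (c * t38 * t46 * t58 + c * t45 * t46 * t56 + c * t63 + c ^ 2 * t38 * t46 * t56 + t68) (c * t38 * t46 * t59 + c * t38 * t51 * t56 + t69) (c * t38 * t53 * t56 + c * t41 * t46 * t59 + c * t49 * t59 + c * t66 + t70) (c * t38 * t46 * t53 * t56 + c * t41 * t46 * t51 * t56 + c * t41 * t46 * t62 + c * t49 * t62 + t71) := by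
    rw [R.ucj43]
    congr 1 <;> (first | rfl | ring1 | (rw [← sub_eq_zero]; ring_nf; simp only [h2, h4, h6, h8, h10, h12, h14, h16, h18, h20, h22, h24, h26, h28, h30, h32, mul_zero, zero_mul, add_zero, zero_add, neg_zero, sub_zero, sub_self]))
  exact UP_cj D (D.xmem43 c) (R.inv43 c) e (ih _ _ _ _ _ _ _ _ _ _ _ _ _ _ _ _ _ _ _ _ _ _ _ _ _ _ hn46)

theorem e6s4_7 (D : UData R)
    (ih : ∀ (t46 t56 t38 t57 t41 t58 t45 t51 t59 t61 t52 t53 t60 t62 t54 t63 t64 t55 t65 t67 t66 t68 t69 t70 t71 : K), t46 ≠ 0 → UP D (R.RNF (0) (0) (0) (0) (t46) (t56) (t38) (0) (0) (0) (t57) (t41) (0) (0) (0) (t58) (t45) (0) (t51) (t59) (t61) (t52) (t53) (t60) (t62) (t54) (t63) (t64) (t55) (t65) (t67) (t66) (t68) (t69) (t70) (t71))) :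
    ∀ (t46 t56 t38 t57 t41 t58 t45 t49 t51 t59 t61 t52 t53 t60 t62 t54 t63 t64 t55 t65 t67 t66 t68 t69 t70 t71 : K), t46 ≠ 0 → UP D (R.RNF (0) (0) (0) (0) (t46) (t56) (t38) (0) (0) (0) (t57) (t41) (0) (0) (0) (t58) (t45) (t49) (t51) (t59) (t61) (t52) (t53) (t60) (t62) (t54) (t63) (t64) (t55) (t65) (t67) (t66) (t68) (t69) (t70) (t71)) := by
  intro t46 t56 t38 t57 t41 t58 t45 t49 t51 t59 t61 t52 t53 t60 t62 t54 t63 t64 t55 t65 t67 t66 t68 t69 t70 t71 hn46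
  have h2 : (2 : K) = 0 := CharTwo.two_eq_zero
  have h4 : (4 : K) = 0 := by linear_combination 2 * h2
  have h6 : (6 : K) = 0 := by linear_combination 3 * h2
  have h8 : (8 : K) = 0 := by linear_combination 4 * h2
  have h10 : (10 : K) = 0 := by linear_combination 5 * h2
  have h12 : (12 : K) = 0 := by linear_combination 6 * h2
  have h14 : (14 : K) = 0 := by linear_combination 7 * h2
  have h16 : (16 : K) = 0 := by linear_combination 8 * h2
  have h18 : (18 : K) = 0 := by linear_combination 9 * h2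
  have h20 : (20 : K) = 0 := by linear_combination 10 * h2
  have h22 : (22 : K) = 0 := by linear_combination 11 * h2
  have h24 : (24 : K) = 0 := by linear_combination 12 * h2
  have h26 : (26 : K) = 0 := by linear_combination 13 * h2
  have h28 : (28 : K) = 0 := by linear_combination 14 * h2
  have h30 : (30 : K) = 0 := by linear_combination 15 * h2
  have h32 : (32 : K) = 0 := by linear_combination 16 * h2
  obtain ⟨c, rfl⟩ : ∃ c, t49 = c * t46 := ⟨t49 / t46, by field_simp⟩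
  have e : R.X41 c * R.RNF (0) (0) (0) (0) (t46) (t56) (t38) (0) (0) (0) (t57) (t41) (0) (0) (0) (t58) (t45) (c * t46) (t51) (t59) (t61) (t52) (t53) (t60) (t62) (t54) (t63) (t64) (t55) (t65) (t67) (t66) (t68) (t69) (t70) (t71) * R.X41 c =
      R.RNF (0) (0) (0) (0) (t46) (t56) (t38) (0) (0) (0) (t57) (t41) (0) (0) (0) (t58) (t45) (0) (t51) (t59) (t61) (t52) (t53) (c * t57 + t60) (t62) (t54) (c * t46 * t57 + t63) (t64) (c * t51 + t55) (c * t46 * t58 + c * t61 + t65) (t67) (c * t62 + t66) (t68) (c * t51 * t57 + t69) (c * t53 * t57 + c * t67 + t70) (c * t46 * t51 * t58 + c * t46 * t53 * t57 + c * t51 * t61 + t71) := by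
    rw [R.ucj41]
    congr 1 <;> (first | rfl | ring1 | (rw [← sub_eq_zero]; ring_nf; simp only [h2, h4, h6, h8, h10, h12, h14, h16, h18, h20, h22, h24, h26, h28, h30, h32, mul_zero, zero_mul, add_zero, zero_add, neg_zero, sub_zero, sub_self]))
  exact UP_cj D (D.xmem41 c) (R.inv41 c) e (ih _ _ _ _ _ _ _ _ _ _ _ _ _ _ _ _ _ _ _ _ _ _ _ _ _ hn46)

theorem e6s4_8 (D : UData R)
    (ih : ∀ (t46 t56 t38 t57 t41 t58 t45 t59 t61 t52 t53 t60 t62 t54 t63 t64 t55 t65 t67 t66 t68 t69 t70 t71 : K), t46 ≠ 0 → UP D (R.RNF (0) (0) (0) (0) (t46) (t56) (t38) (0) (0) (0) (t57) (t41) (0) (0) (0) (t58) (t45) (0) (0) (t59) (t61) (t52) (t53) (t60) (t62) (t54) (t63) (t64) (t55) (t65) (t67) (t66) (t68) (t69) (t70) (t71))) :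
    ∀ (t46 t56 t38 t57 t41 t58 t45 t51 t59 t61 t52 t53 t60 t62 t54 t63 t64 t55 t65 t67 t66 t68 t69 t70 t71 : K), t46 ≠ 0 → UP D (R.RNF (0) (0) (0) (0) (t46) (t56) (t38) (0) (0) (0) (t57) (t41) (0) (0) (0) (t58) (t45) (0) (t51) (t59) (t61) (t52) (t53) (t60) (t62) (t54) (t63) (t64) (t55) (t65) (t67) (t66) (t68) (t69) (t70) (t71)) := by
  intro t46 t56 t38 t57 t41 t58 t45 t51 t59 t61 t52 t53 t60 t62 t54 t63 t64 t55 t65 t67 t66 t68 t69 t70 t71 hn46
  have h2 : (2 : K) = 0 := CharTwo.two_eq_zero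
  have h4 : (4 : K) = 0 := by linear_combination 2 * h2
  have h6 : (6 : K) = 0 := by linear_combination 3 * h2
  have h8 : (8 : K) = 0 := by linear_combination 4 * h2
  have h10 : (10 : K) = 0 := by linear_combination 5 * h2
  have h12 : (12 : K) = 0 := by linear_combination 6 * h2
  have h14 : (14 : K) = 0 := by linear_combination 7 * h2
  have h16 : (16 : K) = 0 := by linear_combination 8 * h2
  have h18 : (18 : K) = 0 := by linear_combination 9 * h2
  have h20 : (20 : K) = 0 := by linear_combination 10 * h2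
  have h22 : (22 : K) = 0 := by linear_combination 11 * h2
  have h24 : (24 : K) = 0 := by linear_combination 12 * h2
  have h26 : (26 : K) = 0 := by linear_combination 13 * h2
  have h28 : (28 : K) = 0 := by linear_combination 14 * h2
  have h30 : (30 : K) = 0 := by linear_combination 15 * h2
  have h32 : (32 : K) = 0 := by linear_combination 16 * h2
  obtain ⟨c, rfl⟩ : ∃ c, t51 = c * t46 := ⟨t51 / t46, by field_simp⟩
  have e : R.X44 c * R.RNF (0) (0) (0) (0) (t46) (t56) (t38) (0) (0) (0) (t57) (t41) (0) (0) (0) (t58) (t45) (0) (c * t46) (t59) (t61) (t52) (t53) (t60) (t62) (t54) (t63) (t64) (t55) (t65) (t67) (t66) (t68) (t69) (t70) (t71) * R.X44 c =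
      R.RNF (0) (0) (0) (0) (t46) (t56) (t38) (0) (0) (0) (t57) (t41) (0) (0) (0) (t58) (t45) (0) (0) (c * t56 + t59) (t61) (t52) (t53) (t60) (c * t46 * t56 + t62) (t54) (t63) (t64) (c * t41 * t46 + t55) (t65) (c * t46 * t58 + c * t61 + t67) (c * t41 * t46 * t56 + t66) (t68) (c * t45 * t46 * t56 + c * t63 + t69) (c * t41 * t46 * t58 + c * t65 + t70) (c * t41 * t46 * t61 + t71) := by
    rw [R.ucj44]
    congr 1 <;> (first | rfl | ring1 | (rw [← sub_eq_zero]; ring_nf; simp only [h2, h4, h6, h8, h10, h12, h14, h16, h18, h20, h22, h24, h26, h28, h30, h32, mul_zero, zero_mul, add_zero, zero_add, neg_zero, sub_zero, sub_self]))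
  exact UP_cj D (D.xmem44 c) (R.inv44 c) e (ih _ _ _ _ _ _ _ _ _ _ _ _ _ _ _ _ _ _ _ _ _ _ _ _ hn46)

theorem e6s4_9 (D : UData R)
    (ih : ∀ (t46 t56 t38 t57 t41 t58 t45 t59 t52 t53 t60 t62 t54 t63 t64 t55 t65 t67 t66 t68 t69 t70 t71 : K), t46 ≠ 0 → UP D (R.RNF (0) (0) (0) (0) (t46) (t56) (t38) (0) (0) (0) (t57) (t41) (0) (0) (0) (t58) (t45) (0) (0) (t59) (0) (t52) (t53) (t60) (t62) (t54) (t63) (t64) (t55) (t65) (t67) (t66) (t68) (t69) (t70) (t71))) :
    ∀ (t46 t56 t38 t57 t41 t58 t45 t59 t61 t52 t53 t60 t62 t54 t63 t64 t55 t65 t67 t66 t68 t69 t70 t71 : K), t46 ≠ 0 → UP D (R.RNF (0) (0) (0) (0) (t46) (t56) (t38) (0) (0) (0) (t57) (t41) (0) (0) (0) (t58) (t45) (0) (0) (t59) (t61) (t52) (t53) (t60) (t62) (t54) (t63) (t64) (t55) (t65) (t67) (t66) (t68) (t69) (t70) (t71)) := by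
  intro t46 t56 t38 t57 t41 t58 t45 t59 t61 t52 t53 t60 t62 t54 t63 t64 t55 t65 t67 t66 t68 t69 t70 t71 hn46
  have h2 : (2 : K) = 0 := CharTwo.two_eq_zero
  have h4 : (4 : K) = 0 := by linear_combination 2 * h2
  have h6 : (6 : K) = 0 := by linear_combination 3 * h2
  have h8 : (8 : K) = 0 := by linear_combination 4 * h2
  have h10 : (10 : K) = 0 := by linear_combination 5 * h2
  have h12 : (12 : K) = 0 := by linear_combination 6 * h2
  have h14 : (14 : K) = 0 := by linear_combination 7 * h2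
  have h16 : (16 : K) = 0 := by linear_combination 8 * h2
  have h18 : (18 : K) = 0 := by linear_combination 9 * h2
  have h20 : (20 : K) = 0 := by linear_combination 10 * h2
  have h22 : (22 : K) = 0 := by linear_combination 11 * h2
  have h24 : (24 : K) = 0 := by linear_combination 12 * h2
  have h26 : (26 : K) = 0 := by linear_combination 13 * h2
  have h28 : (28 : K) = 0 := by linear_combination 14 * h2
  have h30 : (30 : K) = 0 := by linear_combination 15 * h2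
  have h32 : (32 : K) = 0 := by linear_combination 16 * h2
  obtain ⟨c, rfl⟩ : ∃ c, t61 = c * t46 := ⟨t61 / t46, by field_simp⟩
  have e : R.X58 c * R.RNF (0) (0) (0) (0) (t46) (t56) (t38) (0) (0) (0) (t57) (t41) (0) (0) (0) (t58) (t45) (0) (0) (t59) (c * t46) (t52) (t53) (t60) (t62) (t54) (t63) (t64) (t55) (t65) (t67) (t66) (t68) (t69) (t70) (t71) * R.X58 c =
      R.RNF (0) (0) (0) (0) (t46) (t56) (t38) (0) (0) (0) (t57) (t41) (0) (0) (0) (t58) (t45) (0) (0) (t59) (0) (t52) (t53) (c * t38 + t60) (t62) (t54) (c * t38 * t46 + t63) (t64) (t55) (c * t41 * t46 + t65) (t67) (t66) (c * t45 * t46 + c * t52 + t68) (t69) (c * t38 * t53 + c * t55 + t70) (c * t38 * t46 * t53 + t71) := by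
    rw [R.ucj58]
    congr 1 <;> (first | rfl | ring1 | (rw [← sub_eq_zero]; ring_nf; simp only [h2, h4, h6, h8, h10, h12, h14, h16, h18, h20, h22, h24, h26, h28, h30, h32, mul_zero, zero_mul, add_zero, zero_add, neg_zero, sub_zero, sub_self]))
  exact UP_cj D (D.xmem58 c) (R.inv58 c) e (ih _ _ _ _ _ _ _ _ _ _ _ _ _ _ _ _ _ _ _ _ _ _ _ hn46)

theorem e6s4_10 (D : UData R)
    (ih : ∀ (t46 t56 t38 t57 t41 t58 t45 t59 t53 t60 t62 t54 t63 t64 t55 t65 t67 t66 t68 t69 t70 t71 : K), t46 ≠ 0 → UP D (R.RNF (0) (0) (0) (0) (t46) (t56) (t38) (0) (0) (0) (t57) (t41) (0) (0) (0) (t58) (t45) (0) (0) (t59) (0) (0) (t53) (t60) (t62) (t54) (t63) (t64) (t55) (t65) (t67) (t66) (t68) (t69) (t70) (t71))) :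
    ∀ (t46 t56 t38 t57 t41 t58 t45 t59 t52 t53 t60 t62 t54 t63 t64 t55 t65 t67 t66 t68 t69 t70 t71 : K), t46 ≠ 0 → UP D (R.RNF (0) (0) (0) (0) (t46) (t56) (t38) (0) (0) (0) (t57) (t41) (0) (0) (0) (t58) (t45) (0) (0) (t59) (0) (t52) (t53) (t60) (t62) (t54) (t63) (t64) (t55) (t65) (t67) (t66) (t68) (t69) (t70) (t71)) := by
  intro t46 t56 t38 t57 t41 t58 t45 t59 t52 t53 t60 t62 t54 t63 t64 t55 t65 t67 t66 t68 t69 t70 t71 hn46
  have h2 : (2 : K) = 0 := CharTwo.two_eq_zero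
  have h4 : (4 : K) = 0 := by linear_combination 2 * h2
  have h6 : (6 : K) = 0 := by linear_combination 3 * h2
  have h8 : (8 : K) = 0 := by linear_combination 4 * h2
  have h10 : (10 : K) = 0 := by linear_combination 5 * h2
  have h12 : (12 : K) = 0 := by linear_combination 6 * h2
  have h14 : (14 : K) = 0 := by linear_combination 7 * h2
  have h16 : (16 : K) = 0 := by linear_combination 8 * h2
  have h18 : (18 : K) = 0 := by linear_combination 9 * h2
  have h20 : (20 : K) = 0 := by linear_combination 10 * h2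
  have h22 : (22 : K) = 0 := by linear_combination 11 * h2
  have h24 : (24 : K) = 0 := by linear_combination 12 * h2
  have h26 : (26 : K) = 0 := by linear_combination 13 * h2
  have h28 : (28 : K) = 0 := by linear_combination 14 * h2
  have h30 : (30 : K) = 0 := by linear_combination 15 * h2
  have h32 : (32 : K) = 0 := by linear_combination 16 * h2
  obtain ⟨c, rfl⟩ : ∃ c, t52 = c * t46 := ⟨t52 / t46, by field_simp⟩
  have e : R.X45 c * R.RNF (0) (0) (0) (0) (t46) (t56) (t38) (0) (0) (0) (t57) (t41) (0) (0) (0) (t58) (t45) (0) (0) (t59) (0) (c * t46) (t53) (t60) (t62) (t54) (t63) (t64) (t55) (t65) (t67) (t66) (t68) (t69) (t70) (t71) * R.X45 c =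
      R.RNF (0) (0) (0) (0) (t46) (t56) (t38) (0) (0) (0) (t57) (t41) (0) (0) (0) (t58) (t45) (0) (0) (t59) (0) (0) (t53) (c * t56 + t60) (t62) (t54) (c * t46 * t56 + t63) (t64) (t55) (t65) (t67) (t66) (c * t46 * t58 + t68) (c * t46 * t59 + c * t62 + t69) (c * t53 * t56 + c * t64 + t70) (c * t46 * t53 * t56 + t71) := by
    rw [R.ucj45]
    congr 1 <;> (first | rfl | ring1 | (rw [← sub_eq_zero]; ring_nf; simp only [h2, h4, h6, h8, h10, h12, h14, h16, h18, h20, h22, h24, h26, h28, h30, h32, mul_zero, zero_mul, add_zero, zero_add, neg_zero, sub_zero, sub_self]))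
  exact UP_cj D (D.xmem45 c) (R.inv45 c) e (ih _ _ _ _ _ _ _ _ _ _ _ _ _ _ _ _ _ _ _ _ _ _ hn46)

theorem e6s4_11 (D : UData R)
    (ih : ∀ (t46 t56 t38 t57 t41 t58 t45 t59 t53 t60 t54 t63 t64 t55 t65 t67 t66 t68 t69 t70 t71 : K), t46 ≠ 0 → UP D (R.RNF (0) (0) (0) (0) (t46) (t56) (t38) (0) (0) (0) (t57) (t41) (0) (0) (0) (t58) (t45) (0) (0) (t59) (0) (0) (t53) (t60) (0) (t54) (t63) (t64) (t55) (t65) (t67) (t66) (t68) (t69) (t70) (t71))) :
    ∀ (t46 t56 t38 t57 t41 t58 t45 t59 t53 t60 t62 t54 t63 t64 t55 t65 t67 t66 t68 t69 t70 t71 : K), t46 ≠ 0 → UP D (R.RNF (0) (0) (0) (0) (t46) (t56) (t38) (0) (0) (0) (t57) (t41) (0) (0) (0) (t58) (t45) (0) (0) (t59) (0) (0) (t53) (t60) (t62) (t54) (t63) (t64) (t55) (t65) (t67) (t66) (t68) (t69) (t70) (t71)) := by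
  intro t46 t56 t38 t57 t41 t58 t45 t59 t53 t60 t62 t54 t63 t64 t55 t65 t67 t66 t68 t69 t70 t71 hn46
  have h2 : (2 : K) = 0 := CharTwo.two_eq_zero
  have h4 : (4 : K) = 0 := by linear_combination 2 * h2
  have h6 : (6 : K) = 0 := by linear_combination 3 * h2
  have h8 : (8 : K) = 0 := by linear_combination 4 * h2
  have h10 : (10 : K) = 0 := by linear_combination 5 * h2
  have h12 : (12 : K) = 0 := by linear_combination 6 * h2
  have h14 : (14 : K) = 0 := by linear_combination 7 * h2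
  have h16 : (16 : K) = 0 := by linear_combination 8 * h2
  have h18 : (18 : K) = 0 := by linear_combination 9 * h2
  have h20 : (20 : K) = 0 := by linear_combination 10 * h2
  have h22 : (22 : K) = 0 := by linear_combination 11 * h2
  have h24 : (24 : K) = 0 := by linear_combination 12 * h2
  have h26 : (26 : K) = 0 := by linear_combination 13 * h2
  have h28 : (28 : K) = 0 := by linear_combination 14 * h2
  have h30 : (30 : K) = 0 := by linear_combination 15 * h2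
  have h32 : (32 : K) = 0 := by linear_combination 16 * h2
  obtain ⟨c, rfl⟩ : ∃ c, t62 = c * t46 := ⟨t62 / t46, by field_simp⟩
  have e : R.X59 c * R.RNF (0) (0) (0) (0) (t46) (t56) (t38) (0) (0) (0) (t57) (t41) (0) (0) (0) (t58) (t45) (0) (0) (t59) (0) (0) (t53) (t60) (c * t46) (t54) (t63) (t64) (t55) (t65) (t67) (t66) (t68) (t69) (t70) (t71) * R.X59 c =
      R.RNF (0) (0) (0) (0) (t46) (t56) (t38) (0) (0) (0) (t57) (t41) (0) (0) (0) (t58) (t45) (0) (0) (t59) (0) (0) (t53) (t60) (0) (t54) (t63) (t64) (t55) (t65) (t67) (c * t41 * t46 + t66) (t68) (c * t45 * t46 + t69) (c * t54 + t70) (t71) := by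
    rw [R.ucj59]
    congr 1 <;> (first | rfl | ring1 | (rw [← sub_eq_zero]; ring_nf; simp only [h2, h4, h6, h8, h10, h12, h14, h16, h18, h20, h22, h24, h26, h28, h30, h32, mul_zero, zero_mul, add_zero, zero_add, neg_zero, sub_zero, sub_self]))
  exact UP_cj D (D.xmem59 c) (R.inv59 c) e (ih _ _ _ _ _ _ _ _ _ _ _ _ _ _ _ _ _ _ _ _ _ hn46)

theorem e6s4_12 (D : UData R)
    (ih : ∀ (t46 t56 t38 t57 t41 t58 t45 t59 t53 t60 t54 t64 t55 t65 t67 t66 t68 t69 t70 t71 : K), t46 ≠ 0 → UP D (R.RNF (0) (0) (0) (0) (t46) (t56) (t38) (0) (0) (0) (t57) (t41) (0) (0) (0) (t58) (t45) (0) (0) (t59) (0) (0) (t53) (t60) (0) (t54) (0) (t64) (t55) (t65) (t67) (t66) (t68) (t69) (t70) (t71))) :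
    ∀ (t46 t56 t38 t57 t41 t58 t45 t59 t53 t60 t54 t63 t64 t55 t65 t67 t66 t68 t69 t70 t71 : K), t46 ≠ 0 → UP D (R.RNF (0) (0) (0) (0) (t46) (t56) (t38) (0) (0) (0) (t57) (t41) (0) (0) (0) (t58) (t45) (0) (0) (t59) (0) (0) (t53) (t60) (0) (t54) (t63) (t64) (t55) (t65) (t67) (t66) (t68) (t69) (t70) (t71)) := by
  intro t46 t56 t38 t57 t41 t58 t45 t59 t53 t60 t54 t63 t64 t55 t65 t67 t66 t68 t69 t70 t71 hn46
  have h2 : (2 : K) = 0 := CharTwo.two_eq_zero
  have h4 : (4 : K) = 0 := by linear_combination 2 * h2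
  have h6 : (6 : K) = 0 := by linear_combination 3 * h2
  have h8 : (8 : K) = 0 := by linear_combination 4 * h2
  have h10 : (10 : K) = 0 := by linear_combination 5 * h2
  have h12 : (12 : K) = 0 := by linear_combination 6 * h2
  have h14 : (14 : K) = 0 := by linear_combination 7 * h2
  have h16 : (16 : K) = 0 := by linear_combination 8 * h2
  have h18 : (18 : K) = 0 := by linear_combination 9 * h2
  have h20 : (20 : K) = 0 := by linear_combination 10 * h2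
  have h22 : (22 : K) = 0 := by linear_combination 11 * h2
  have h24 : (24 : K) = 0 := by linear_combination 12 * h2
  have h26 : (26 : K) = 0 := by linear_combination 13 * h2
  have h28 : (28 : K) = 0 := by linear_combination 14 * h2
  have h30 : (30 : K) = 0 := by linear_combination 15 * h2
  have h32 : (32 : K) = 0 := by linear_combination 16 * h2
  obtain ⟨c, rfl⟩ : ∃ c, t63 = c * t46 := ⟨t63 / t46, by field_simp⟩
  have e : R.X60 c * R.RNF (0) (0) (0) (0) (t46) (t56) (t38) (0) (0) (0) (t57) (t41) (0) (0) (0) (t58) (t45) (0) (0) (t59) (0) (0) (t53) (t60) (0) (t54) (c * t46) (t64) (t55) (t65) (t67) (t66) (t68) (t69) (t70) (t71) * R.X60 c =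
      R.RNF (0) (0) (0) (0) (t46) (t56) (t38) (0) (0) (0) (t57) (t41) (0) (0) (0) (t58) (t45) (0) (0) (t59) (0) (0) (t53) (t60) (0) (t54) (0) (t64) (t55) (t65) (t67) (t66) (t68) (t69) (c * t53 + t70) (c * t46 * t53 + t71) := by
    rw [R.ucj60]
    congr 1 <;> (first | rfl | ring1 | (rw [← sub_eq_zero]; ring_nf; simp only [h2, h4, h6, h8, h10, h12, h14, h16, h18, h20, h22, h24, h26, h28, h30, h32, mul_zero, zero_mul, add_zero, zero_add, neg_zero, sub_zero, sub_self]))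
  exact UP_cj D (D.xmem60 c) (R.inv60 c) e (ih _ _ _ _ _ _ _ _ _ _ _ _ _ _ _ _ _ _ _ _ hn46)

theorem e6s4_13 (D : UData R)
    (ih : ∀ (t46 t56 t38 t57 t41 t58 t45 t59 t53 t60 t54 t64 t55 t65 t67 t66 t68 t69 t70 : K), t46 ≠ 0 → UP D (R.RNF (0) (0) (0) (0) (t46) (t56) (t38) (0) (0) (0) (t57) (t41) (0) (0) (0) (t58) (t45) (0) (0) (t59) (0) (0) (t53) (t60) (0) (t54) (0) (t64) (t55) (t65) (t67) (t66) (t68) (t69) (t70) (0))) :
    ∀ (t46 t56 t38 t57 t41 t58 t45 t59 t53 t60 t54 t64 t55 t65 t67 t66 t68 t69 t70 t71 : K), t46 ≠ 0 → UP D (R.RNF (0) (0) (0) (0) (t46) (t56) (t38) (0) (0) (0) (t57) (t41) (0) (0) (0) (t58) (t45) (0) (0) (t59) (0) (0) (t53) (t60) (0) (t54) (0) (t64) (t55) (t65) (t67) (t66) (t68) (t69) (t70) (t71)) := by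
  intro t46 t56 t38 t57 t41 t58 t45 t59 t53 t60 t54 t64 t55 t65 t67 t66 t68 t69 t70 t71 hn46
  have h2 : (2 : K) = 0 := CharTwo.two_eq_zero
  have h4 : (4 : K) = 0 := by linear_combination 2 * h2
  have h6 : (6 : K) = 0 := by linear_combination 3 * h2
  have h8 : (8 : K) = 0 := by linear_combination 4 * h2
  have h10 : (10 : K) = 0 := by linear_combination 5 * h2
  have h12 : (12 : K) = 0 := by linear_combination 6 * h2
  have h14 : (14 : K) = 0 := by linear_combination 7 * h2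
  have h16 : (16 : K) = 0 := by linear_combination 8 * h2
  have h18 : (18 : K) = 0 := by linear_combination 9 * h2
  have h20 : (20 : K) = 0 := by linear_combination 10 * h2
  have h22 : (22 : K) = 0 := by linear_combination 11 * h2
  have h24 : (24 : K) = 0 := by linear_combination 12 * h2
  have h26 : (26 : K) = 0 := by linear_combination 13 * h2
  have h28 : (28 : K) = 0 := by linear_combination 14 * h2
  have h30 : (30 : K) = 0 := by linear_combination 15 * h2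
  have h32 : (32 : K) = 0 := by linear_combination 16 * h2
  obtain ⟨c, rfl⟩ : ∃ c, t71 = c * t46 := ⟨t71 / t46, by field_simp⟩
  have e : R.X70 c * R.RNF (0) (0) (0) (0) (t46) (t56) (t38) (0) (0) (0) (t57) (t41) (0) (0) (0) (t58) (t45) (0) (0) (t59) (0) (0) (t53) (t60) (0) (t54) (0) (t64) (t55) (t65) (t67) (t66) (t68) (t69) (t70) (c * t46) * R.X70 c =
      R.RNF (0) (0) (0) (0) (t46) (t56) (t38) (0) (0) (0) (t57) (t41) (0) (0) (0) (t58) (t45) (0) (0) (t59) (0) (0) (t53) (t60) (0) (t54) (0) (t64) (t55) (t65) (t67) (t66) (t68) (t69) (t70) (0) := by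
    rw [R.ucj70]
    congr 1 <;> (first | rfl | ring1 | (rw [← sub_eq_zero]; ring_nf; simp only [h2, h4, h6, h8, h10, h12, h14, h16, h18, h20, h22, h24, h26, h28, h30, h32, mul_zero, zero_mul, add_zero, zero_add, neg_zero, sub_zero, sub_self]))
  exact UP_cj D (D.xmem70 c) (R.inv70 c) e (ih _ _ _ _ _ _ _ _ _ _ _ _ _ _ _ _ _ _ _ hn46)

theorem e6s4_14 (D : UData R)
    (ih : ∀ (t46 t56 t38 t57 t58 t45 t59 t53 t60 t54 t64 t55 t65 t67 t66 t68 t69 t70 : K), t46 ≠ 0 → UP D (R.RNF (0) (0) (0) (0) (t46) (t56) (t38) (0) (0) (0) (t57) (0) (0) (0) (0) (t58) (t45) (0) (0) (t59) (0) (0) (t53) (t60) (0) (t54) (0) (t64) (t55) (t65) (t67) (t66) (t68) (t69) (t70) (0))) :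
    ∀ (t46 t56 t38 t57 t41 t58 t45 t59 t53 t60 t54 t64 t55 t65 t67 t66 t68 t69 t70 : K), t46 ≠ 0 → UP D (R.RNF (0) (0) (0) (0) (t46) (t56) (t38) (0) (0) (0) (t57) (t41) (0) (0) (0) (t58) (t45) (0) (0) (t59) (0) (0) (t53) (t60) (0) (t54) (0) (t64) (t55) (t65) (t67) (t66) (t68) (t69) (t70) (0)) := by
  intro t46 t56 t38 t57 t41 t58 t45 t59 t53 t60 t54 t64 t55 t65 t67 t66 t68 t69 t70 hn46 hu hne
  have hsq := hu
  rw [R.usq] at hsq
  obtain ⟨e36, e37, e39, e42, e46, e56, e38, e40, e43, e47, e57, e41, e44, e48, e50, e58, e45, e49, e51, e59, e61, e52, e53, e60, e62, e54, e63, e64, e55, e65, e67, e66, e68, e69, e70, e71⟩ := D.inj _ _ _ _ _ _ _ _ _ _ _ _ _ _ _ _ _ _ _ _ _ _ _ _ _ _ _ _ _ _ _ _ _ _ _ _ hsq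
  have hz : t41 = 0 := by
    have h : t46 * t41 = 0 := by linear_combination e49
    exact (mul_eq_zero.mp h).resolve_left hn46
  subst hz
  exact ih _ _ _ _ _ _ _ _ _ _ _ _ _ _ _ _ _ _ hn46 hu hne

theorem e6s4_15 (D : UData R)
    (ih : ∀ (t46 t56 t38 t57 t45 t59 t53 t60 t54 t64 t55 t65 t67 t66 t68 t69 t70 : K), t46 ≠ 0 → UP D (R.RNF (0) (0) (0) (0) (t46) (t56) (t38) (0) (0) (0) (t57) (0) (0) (0) (0) (0) (t45) (0) (0) (t59) (0) (0) (t53) (t60) (0) (t54) (0) (t64) (t55) (t65) (t67) (t66) (t68) (t69) (t70) (0))) :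
    ∀ (t46 t56 t38 t57 t58 t45 t59 t53 t60 t54 t64 t55 t65 t67 t66 t68 t69 t70 : K), t46 ≠ 0 → UP D (R.RNF (0) (0) (0) (0) (t46) (t56) (t38) (0) (0) (0) (t57) (0) (0) (0) (0) (t58) (t45) (0) (0) (t59) (0) (0) (t53) (t60) (0) (t54) (0) (t64) (t55) (t65) (t67) (t66) (t68) (t69) (t70) (0)) := by
  intro t46 t56 t38 t57 t58 t45 t59 t53 t60 t54 t64 t55 t65 t67 t66 t68 t69 t70 hn46 hu hne
  have hsq := hu
  rw [R.usq] at hsq
  obtain ⟨e36, e37, e39, e42, e46, e56, e38, e40, e43, e47, e57, e41, e44, e48, e50, e58, e45, e49, e51, e59, e61, e52, e53, e60, e62, e54, e63, e64, e55, e65, e67, e66, e68, e69, e70, e71⟩ := D.inj _ _ _ _ _ _ _ _ _ _ _ _ _ _ _ _ _ _ _ _ _ _ _ _ _ _ _ _ _ _ _ _ _ _ _ _ hsq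
  have hz : t58 = 0 := by
    have h : t46 * t58 = 0 := by linear_combination e61
    exact (mul_eq_zero.mp h).resolve_left hn46
  subst hz
  exact ih _ _ _ _ _ _ _ _ _ _ _ _ _ _ _ _ _ hn46 hu hne

theorem e6s4_16 (D : UData R)
    (ih : ∀ (t46 t56 t38 t57 t59 t53 t60 t54 t64 t55 t65 t67 t66 t68 t69 t70 : K), t46 ≠ 0 → UP D (R.RNF (0) (0) (0) (0) (t46) (t56) (t38) (0) (0) (0) (t57) (0) (0) (0) (0) (0) (0) (0) (0) (t59) (0) (0) (t53) (t60) (0) (t54) (0) (t64) (t55) (t65) (t67) (t66) (t68) (t69) (t70) (0))) :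
    ∀ (t46 t56 t38 t57 t45 t59 t53 t60 t54 t64 t55 t65 t67 t66 t68 t69 t70 : K), t46 ≠ 0 → UP D (R.RNF (0) (0) (0) (0) (t46) (t56) (t38) (0) (0) (0) (t57) (0) (0) (0) (0) (0) (t45) (0) (0) (t59) (0) (0) (t53) (t60) (0) (t54) (0) (t64) (t55) (t65) (t67) (t66) (t68) (t69) (t70) (0)) := by
  intro t46 t56 t38 t57 t45 t59 t53 t60 t54 t64 t55 t65 t67 t66 t68 t69 t70 hn46 hu hne
  have hsq := hu
  rw [R.usq] at hsq
  obtain ⟨e36, e37, e39, e42, e46, e56, e38, e40, e43, e47, e57, e41, e44, e48, e50, e58, e45, e49, e51, e59, e61, e52, e53, e60, e62, e54, e63, e64, e55, e65, e67, e66, e68, e69, e70, e71⟩ := D.inj _ _ _ _ _ _ _ _ _ _ _ _ _ _ _ _ _ _ _ _ _ _ _ _ _ _ _ _ _ _ _ _ _ _ _ _ hsq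
  have hz : t45 = 0 := by
    have h : t46 * t45 = 0 := by linear_combination e52
    exact (mul_eq_zero.mp h).resolve_left hn46
  subst hz
  exact ih _ _ _ _ _ _ _ _ _ _ _ _ _ _ _ _ hn46 hu hne

theorem e6s4_17 (D : UData R)
    (ih : ∀ (t46 t56 t38 t57 t53 t60 t54 t64 t55 t65 t67 t66 t68 t69 t70 : K), t46 ≠ 0 → UP D (R.RNF (0) (0) (0) (0) (t46) (t56) (t38) (0) (0) (0) (t57) (0) (0) (0) (0) (0) (0) (0) (0) (0) (0) (0) (t53) (t60) (0) (t54) (0) (t64) (t55) (t65) (t67) (t66) (t68) (t69) (t70) (0))) :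
    ∀ (t46 t56 t38 t57 t59 t53 t60 t54 t64 t55 t65 t67 t66 t68 t69 t70 : K), t46 ≠ 0 → UP D (R.RNF (0) (0) (0) (0) (t46) (t56) (t38) (0) (0) (0) (t57) (0) (0) (0) (0) (0) (0) (0) (0) (t59) (0) (0) (t53) (t60) (0) (t54) (0) (t64) (t55) (t65) (t67) (t66) (t68) (t69) (t70) (0)) := by
  intro t46 t56 t38 t57 t59 t53 t60 t54 t64 t55 t65 t67 t66 t68 t69 t70 hn46 hu hne
  have hsq := hu
  rw [R.usq] at hsq
  obtain ⟨e36, e37, e39, e42, e46, e56, e38, e40, e43, e47, e57, e41, e44, e48, e50, e58, e45, e49, e51, e59, e61, e52, e53, e60, e62, e54, e63, e64, e55, e65, e67, e66, e68, e69, e70, e71⟩ := D.inj _ _ _ _ _ _ _ _ _ _ _ _ _ _ _ _ _ _ _ _ _ _ _ _ _ _ _ _ _ _ _ _ _ _ _ _ hsq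
  have hz : t59 = 0 := by
    have h : t46 * t59 = 0 := by linear_combination e62
    exact (mul_eq_zero.mp h).resolve_left hn46
  subst hz
  exact ih _ _ _ _ _ _ _ _ _ _ _ _ _ _ _ hn46 hu hne

theorem e6s4_18 (D : UData R)
    (ih : ∀ (t46 t56 t38 t57 t53 t54 t64 t55 t65 t67 t66 t68 t69 t70 : K), t46 ≠ 0 → UP D (R.RNF (0) (0) (0) (0) (t46) (t56) (t38) (0) (0) (0) (t57) (0) (0) (0) (0) (0) (0) (0) (0) (0) (0) (0) (t53) (0) (0) (t54) (0) (t64) (t55) (t65) (t67) (t66) (t68) (t69) (t70) (0))) :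
    ∀ (t46 t56 t38 t57 t53 t60 t54 t64 t55 t65 t67 t66 t68 t69 t70 : K), t46 ≠ 0 → UP D (R.RNF (0) (0) (0) (0) (t46) (t56) (t38) (0) (0) (0) (t57) (0) (0) (0) (0) (0) (0) (0) (0) (0) (0) (0) (t53) (t60) (0) (t54) (0) (t64) (t55) (t65) (t67) (t66) (t68) (t69) (t70) (0)) := by
  intro t46 t56 t38 t57 t53 t60 t54 t64 t55 t65 t67 t66 t68 t69 t70 hn46 hu hne
  have hsq := hu
  rw [R.usq] at hsq
  obtain ⟨e36, e37, e39, e42, e46, e56, e38, e40, e43, e47, e57, e41, e44, e48, e50, e58, e45, e49, e51, e59, e61, e52, e53, e60, e62, e54, e63, e64, e55, e65, e67, e66, e68, e69, e70, e71⟩ := D.inj _ _ _ _ _ _ _ _ _ _ _ _ _ _ _ _ _ _ _ _ _ _ _ _ _ _ _ _ _ _ _ _ _ _ _ _ hsq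
  have hz : t60 = 0 := by
    have h : t46 * t60 = 0 := by linear_combination e63
    exact (mul_eq_zero.mp h).resolve_left hn46
  subst hz
  exact ih _ _ _ _ _ _ _ _ _ _ _ _ _ _ hn46 hu hne

theorem e6s4_19 (D : UData R)
    (ih : ∀ (t46 t56 t38 t57 t53 t54 t64 t55 t65 t67 t66 t68 t69 : K), t46 ≠ 0 → UP D (R.RNF (0) (0) (0) (0) (t46) (t56) (t38) (0) (0) (0) (t57) (0) (0) (0) (0) (0) (0) (0) (0) (0) (0) (0) (t53) (0) (0) (t54) (0) (t64) (t55) (t65) (t67) (t66) (t68) (t69) (0) (0))) :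
    ∀ (t46 t56 t38 t57 t53 t54 t64 t55 t65 t67 t66 t68 t69 t70 : K), t46 ≠ 0 → UP D (R.RNF (0) (0) (0) (0) (t46) (t56) (t38) (0) (0) (0) (t57) (0) (0) (0) (0) (0) (0) (0) (0) (0) (0) (0) (t53) (0) (0) (t54) (0) (t64) (t55) (t65) (t67) (t66) (t68) (t69) (t70) (0)) := by
  intro t46 t56 t38 t57 t53 t54 t64 t55 t65 t67 t66 t68 t69 t70 hn46 hu hne
  have hsq := hu
  rw [R.usq] at hsq
  obtain ⟨e36, e37, e39, e42, e46, e56, e38, e40, e43, e47, e57, e41, e44, e48, e50, e58, e45, e49, e51, e59, e61, e52, e53, e60, e62, e54, e63, e64, e55, e65, e67, e66, e68, e69, e70, e71⟩ := D.inj _ _ _ _ _ _ _ _ _ _ _ _ _ _ _ _ _ _ _ _ _ _ _ _ _ _ _ _ _ _ _ _ _ _ _ _ hsq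
  have hz : t70 = 0 := by
    have h : t46 * t70 = 0 := by linear_combination e71
    exact (mul_eq_zero.mp h).resolve_left hn46
  subst hz
  exact ih _ _ _ _ _ _ _ _ _ _ _ _ _ hn46 hu hne

theorem e6s4_20 (D : UData R)
    (ih : ∀ (t56 t47 t41 t58 t51 t52 t62 t63 t55 t67 t66 t68 t70 : K), t47 ≠ 0 → UP D (R.RNF (0) (0) (0) (0) (0) (t56) (0) (0) (0) (t47) (0) (t41) (0) (0) (0) (t58) (0) (0) (t51) (0) (0) (t52) (0) (0) (t62) (0) (t63) (0) (t55) (0) (t67) (t66) (t68) (0) (t70) (0))) :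
    ∀ (t46 t56 t38 t57 t53 t54 t64 t55 t65 t67 t66 t68 t69 : K), t46 ≠ 0 → UP D (R.RNF (0) (0) (0) (0) (t46) (t56) (t38) (0) (0) (0) (t57) (0) (0) (0) (0) (0) (0) (0) (0) (0) (0) (0) (t53) (0) (0) (t54) (0) (t64) (t55) (t65) (t67) (t66) (t68) (t69) (0) (0)) := by
  intro t46 t56 t38 t57 t53 t54 t64 t55 t65 t67 t66 t68 t69 hn46
  have h2 : (2 : K) = 0 := CharTwo.two_eq_zero
  have h4 : (4 : K) = 0 := by linear_combination 2 * h2
  have h6 : (6 : K) = 0 := by linear_combination 3 * h2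
  have h8 : (8 : K) = 0 := by linear_combination 4 * h2
  have h10 : (10 : K) = 0 := by linear_combination 5 * h2
  have h12 : (12 : K) = 0 := by linear_combination 6 * h2
  have h14 : (14 : K) = 0 := by linear_combination 7 * h2
  have h16 : (16 : K) = 0 := by linear_combination 8 * h2
  have h18 : (18 : K) = 0 := by linear_combination 9 * h2
  have h20 : (20 : K) = 0 := by linear_combination 10 * h2
  have h22 : (22 : K) = 0 := by linear_combination 11 * h2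
  have h24 : (24 : K) = 0 := by linear_combination 12 * h2
  have h26 : (26 : K) = 0 := by linear_combination 13 * h2
  have h28 : (28 : K) = 0 := by linear_combination 14 * h2
  have h30 : (30 : K) = 0 := by linear_combination 15 * h2
  have h32 : (32 : K) = 0 := by linear_combination 16 * h2
  have e : D.n4 * R.RNF (0) (0) (0) (0) (t46) (t56) (t38) (0) (0) (0) (t57) (0) (0) (0) (0) (0) (0) (0) (0) (0) (0) (0) (t53) (0) (0) (t54) (0) (t64) (t55) (t65) (t67) (t66) (t68) (t69) (0) (0) * D.n4⁻¹ =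
      R.RNF (0) (0) (0) (0) (0) (t56) (0) (0) (0) (t46) (0) (t38) (0) (0) (0) (t57) (0) (0) (t53) (0) (0) (t54) (0) (0) (t64) (0) (t65) (0) (t55) (0) (t67) (t66) (t68) (0) (t69) (0) := by
    rw [D.toWeylE6.conj_n4]
    congr 1 <;> (first | rfl | ring1 | (rw [← sub_eq_zero]; ring_nf; simp only [h2, h4, h6, h8, h10, h12, h14, h16, h18, h20, h22, h24, h26, h28, h30, h32, mul_zero, zero_mul, add_zero, zero_add, neg_zero, sub_zero, sub_self]))
  exact UP_n D D.n4_mem e (ih _ _ _ _ _ _ _ _ _ _ _ _ _ hn46)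

theorem upiv4 (D : UData R)
    (ih : ∀ (t56 t38 t40 t43 t47 t57 t41 t44 t48 t50 t58 t45 t49 t51 t59 t61 t52 t53 t60 t62 t54 t63 t64 t55 t65 t67 t66 t68 t69 t70 t71 : K), UP D (R.RNF (0) (0) (0) (0) (0) (t56) (t38) (t40) (t43) (t47) (t57) (t41) (t44) (t48) (t50) (t58) (t45) (t49) (t51) (t59) (t61) (t52) (t53) (t60) (t62) (t54) (t63) (t64) (t55) (t65) (t67) (t66) (t68) (t69) (t70) (t71))) :
    ∀ (t46 t56 t38 t40 t43 t47 t57 t41 t44 t48 t50 t58 t45 t49 t51 t59 t61 t52 t53 t60 t62 t54 t63 t64 t55 t65 t67 t66 t68 t69 t70 t71 : K), UP D (R.RNF (0) (0) (0) (0) (t46) (t56) (t38) (t40) (t43) (t47) (t57) (t41) (t44) (t48) (t50) (t58) (t45) (t49) (t51) (t59) (t61) (t52) (t53) (t60) (t62) (t54) (t63) (t64) (t55) (t65) (t67) (t66) (t68) (t69) (t70) (t71)) := by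
  intro t46 t56 t38 t40 t43 t47 t57 t41 t44 t48 t50 t58 t45 t49 t51 t59 t61 t52 t53 t60 t62 t54 t63 t64 t55 t65 t67 t66 t68 t69 t70 t71
  by_cases h0 : t46 = 0
  · subst h0; exact ih _ _ _ _ _ _ _ _ _ _ _ _ _ _ _ _ _ _ _ _ _ _ _ _ _ _ _ _ _ _ _
  · exact (e6s4_1 D (e6s4_2 D (e6s4_3 D (e6s4_4 D (e6s4_5 D (e6s4_6 D (e6s4_7 D (e6s4_8 D (e6s4_9 D (e6s4_10 D (e6s4_11 D (e6s4_12 D (e6s4_13 D (e6s4_14 D (e6s4_15 D (e6s4_16 D (e6s4_17 D (e6s4_18 D (e6s4_19 D (e6s4_20 D (fun t56 t47 t41 t58 t51 t52 t62 t63 t55 t67 t66 t68 t70 _ => ih t56 0 0 0 t47 0 t41 0 0 0 t58 0 0 t51 0 0 t52 0 0 t62 0 t63 0 t55 0 t67 t66 t68 0 t70 0))))))))))))))))))))) t46 t56 t38 t40 t43 t47 t57 t41 t44 t48 t50 t58 t45 t49 t51 t59 t61 t52 t53 t60 t62 t54 t63 t64 t55 t65 t67 t66 t68 t69 t70 t71 h0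

end Cfsg.Agent.Helper4.E6Inv
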