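import Cfsg.Agent.Helper4.E6Inv.UFinT

/-! Generated: steps of the reduction of involutions in the unipotent group of `E₆`
(characteristic two). -/

set_option autoImplicit false
set_option maxHeartbeats 8000000
set_option maxRecDepth 100000
set_option linter.unusedSimpArgs false
set_option linter.unusedVariables false
set_option linter.unusedSectionVars false
set_option linter.unusedTactic false
set_option linter.unreachableTactic false

namespace Cfsg.Agent.Helper4.E6Inv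

variable {K Γ : Type*} [Field K] [Group Γ] {R : RelE6 K Γ} [CharP K 2]

theorem e6s5_1 (D : UData R)
    (ih : ∀ (t56 t38 t40 t47 t57 t41 t44 t48 t50 t58 t45 t49 t51 t59 t61 t52 t53 t60 t62 t54 t63 t64 t55 t65 t67 t66 t68 t69 t70 t71 : K), t56 ≠ 0 → UP D (R.RNF (0) (0) (0) (0) (0) (t56) (t38) (t40) (0) (t47) (t57) (t41) (t44) (t48) (t50) (t58) (t45) (t49) (t51) (t59) (t61) (t52) (t53) (t60) (t62) (t54) (t63) (t64) (t55) (t65) (t67) (t66) (t68) (t69) (t70) (t71))) :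
    ∀ (t56 t38 t40 t43 t47 t57 t41 t44 t48 t50 t58 t45 t49 t51 t59 t61 t52 t53 t60 t62 t54 t63 t64 t55 t65 t67 t66 t68 t69 t70 t71 : K), t56 ≠ 0 → UP D (R.RNF (0) (0) (0) (0) (0) (t56) (t38) (t40) (t43) (t47) (t57) (t41) (t44) (t48) (t50) (t58) (t45) (t49) (t51) (t59) (t61) (t52) (t53) (t60) (t62) (t54) (t63) (t64) (t55) (t65) (t67) (t66) (t68) (t69) (t70) (t71)) := by
  intro t56 t38 t40 t43 t47 t57 t41 t44 t48 t50 t58 t45 t49 t51 t59 t61 t52 t53 t60 t62 t54 t63 t64 t55 t65 t67 t66 t68 t69 t70 t71 hn56 hu hne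
  have hsq := hu
  rw [R.usq] at hsq
  obtain ⟨e36, e37, e39, e42, e46, e56, e38, e40, e43, e47, e57, e41, e44, e48, e50, e58, e45, e49, e51, e59, e61, e52, e53, e60, e62, e54, e63, e64, e55, e65, e67, e66, e68, e69, e70, e71⟩ := D.inj _ _ _ _ _ _ _ _ _ _ _ _ _ _ _ _ _ _ _ _ _ _ _ _ _ _ _ _ _ _ _ _ _ _ _ _ hsq
  have hz : t43 = 0 := by
    have h : t56 * t43 = 0 := by linear_combination e58
    exact (mul_eq_zero.mp h).resolve_left hn56
  subst hz
  exact ih _ _ _ _ _ _ _ _ _ _ _ _ _ _ _ _ _ _ _ _ _ _ _ _ _ _ _ _ _ _ hn56 hu hne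

theorem e6s5_2 (D : UData R)
    (ih : ∀ (t56 t38 t40 t47 t41 t44 t48 t50 t58 t45 t49 t51 t59 t61 t52 t53 t60 t62 t54 t63 t64 t55 t65 t67 t66 t68 t69 t70 t71 : K), t56 ≠ 0 → UP D (R.RNF (0) (0) (0) (0) (0) (t56) (t38) (t40) (0) (t47) (0) (t41) (t44) (t48) (t50) (t58) (t45) (t49) (t51) (t59) (t61) (t52) (t53) (t60) (t62) (t54) (t63) (t64) (t55) (t65) (t67) (t66) (t68) (t69) (t70) (t71))) :
    ∀ (t56 t38 t40 t47 t57 t41 t44 t48 t50 t58 t45 t49 t51 t59 t61 t52 t53 t60 t62 t54 t63 t64 t55 t65 t67 t66 t68 t69 t70 t71 : K), t56 ≠ 0 → UP D (R.RNF (0) (0) (0) (0) (0) (t56) (t38) (t40) (0) (t47) (t57) (t41) (t44) (t48) (t50) (t58) (t45) (t49) (t51) (t59) (t61) (t52) (t53) (t60) (t62) (t54) (t63) (t64) (t55) (t65) (t67) (t66) (t68) (t69) (t70) (t71)) := by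
  intro t56 t38 t40 t47 t57 t41 t44 t48 t50 t58 t45 t49 t51 t59 t61 t52 t53 t60 t62 t54 t63 t64 t55 t65 t67 t66 t68 t69 t70 t71 hn56
  have h2 : (2 : K) = 0 := CharTwo.two_eq_zero
  have h4 : (4 : K) = 0 := by linear_combination 2 * h2
  have h6 : (6 : K) = 0 := by linear_combination 3 * h2
  have h8 : (8 : K) = 0 := by linear_combination 4 * h2
  have h10 : (10 : K) = 0 := by linear_combination 5 * h2
  have h12 : (12 : K) = 0 := by linear_combination 6 * h2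
  have h14 : (14 : K) = 0 := by linear_combination 7 * h2
  have h16 : (16 : K) = 0 := by linear_combination 8 * h2
  have h18 : (18 : K) = 0 := by linear_combination 9 * h2
  have h20 : (20 : K) = 0 := by linear_combination 10 * h2
  have h22 : (22 : K) = 0 := by linear_combination 11 * h2
  have h24 : (24 : K) = 0 := by linear_combination 12 * h2
  have h26 : (26 : K) = 0 := by linear_combination 13 * h2
  have h28 : (28 : K) = 0 := by linear_combination 14 * h2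
  have h30 : (30 : K) = 0 := by linear_combination 15 * h2
  have h32 : (32 : K) = 0 := by linear_combination 16 * h2
  obtain ⟨c, rfl⟩ : ∃ c, t57 = c * t56 := ⟨t57 / t56, by field_simp⟩
  have e : R.X42 c * R.RNF (0) (0) (0) (0) (0) (t56) (t38) (t40) (0) (t47) (c * t56) (t41) (t44) (t48) (t50) (t58) (t45) (t49) (t51) (t59) (t61) (t52) (t53) (t60) (t62) (t54) (t63) (t64) (t55) (t65) (t67) (t66) (t68) (t69) (t70) (t71) * R.X42 c =
      R.RNF (0) (0) (0) (0) (0) (t56) (t38) (t40) (0) (t47) (0) (t41) (c * t40 + t44) (t48) (c * t47 + t50) (t58) (c * t41 + t45) (t49) (c * t48 + t51) (c * t40 * t56 + t59) (c * t47 * t56 + t61) (c * t49 + t52) (c * t40 * t47 + t53) (t60) (t62) (c * t41 * t47 + t54) (t63) (c * t40 * t47 * t56 + t64) (c * t41 * t48 + t55) (c * t41 * t47 * t56 + t65) (c * t40 * t50 * t56 + c * t44 * t47 * t56 + c * t48 * t58 + c * t64 + c ^ 2 * t40 * t47 * t56 + t67) (c * t40 * t49 * t56 + t66) (c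 * t45 * t47 * t56 + c * t65 + c ^ 2 * t41 * t47 * t56 + t68) (c * t49 * t59 + c * t66 + t69) (c * t40 * t45 * t47 * t56 + c * t41 * t44 * t47 * t56 + c * t41 * t47 * t59 + c * t41 * t48 * t58 + c ^ 2 * t40 * t41 * t47 * t56 + t70) (c * t40 * t47 * t52 * t56 + c * t40 * t49 * t50 * t56 + c * t41 * t47 * t51 * t56 + c * t41 * t47 * t62 + c * t41 * t48 * t61 + c * t44 * t47 * t49 * t56 + c * t48 * t49 * t58 + c ^ 2 * t41 * t47 * t48 * t56 + t71) := by
    rw [R.ucj42]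
    congr 1 <;> (first | rfl | ring1 | (rw [← sub_eq_zero]; ring_nf; simp only [h2, h4, h6, h8, h10, h12, h14, h16, h18, h20, h22, h24, h26, h28, h30, h32, mul_zero, zero_mul, add_zero, zero_add, neg_zero, sub_zero, sub_self]))
  exact UP_cj D (D.xmem42 c) (R.inv42 c) e (ih _ _ _ _ _ _ _ _ _ _ _ _ _ _ _ _ _ _ _ _ _ _ _ _ _ _ _ _ _ hn56)

theorem e6s5_3 (D : UData R)
    (ih : ∀ (t56 t38 t40 t47 t41 t44 t48 t50 t45 t49 t51 t59 t61 t52 t53 t60 t62 t54 t63 t64 t55 t65 t67 t66 t68 t69 t70 t71 : K), t56 ≠ 0 → UP D (R.RNF (0) (0) (0) (0) (0) (t56) (t38) (t40) (0) (t47) (0) (t41) (t44) (t48) (t50) (0) (t45) (t49) (t51) (t59) (t61) (t52) (t53) (t60) (t62) (t54) (t63) (t64) (t55) (t65) (t67) (t66) (t68) (t69) (t70) (t71))) :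
    ∀ (t56 t38 t40 t47 t41 t44 t48 t50 t58 t45 t49 t51 t59 t61 t52 t53 t60 t62 t54 t63 t64 t55 t65 t67 t66 t68 t69 t70 t71 : K), t56 ≠ 0 → UP D (R.RNF (0) (0) (0) (0) (0) (t56) (t38) (t40) (0) (t47) (0) (t41) (t44) (t48) (t50) (t58) (t45) (t49) (t51) (t59) (t61) (t52) (t53) (t60) (t62) (t54) (t63) (t64) (t55) (t65) (t67) (t66) (t68) (t69) (t70) (t71)) := by
  intro t56 t38 t40 t47 t41 t44 t48 t50 t58 t45 t49 t51 t59 t61 t52 t53 t60 t62 t54 t63 t64 t55 t65 t67 t66 t68 t69 t70 t71 hn56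
  have h2 : (2 : K) = 0 := CharTwo.two_eq_zero
  have h4 : (4 : K) = 0 := by linear_combination 2 * h2
  have h6 : (6 : K) = 0 := by linear_combination 3 * h2
  have h8 : (8 : K) = 0 := by linear_combination 4 * h2
  have h10 : (10 : K) = 0 := by linear_combination 5 * h2
  have h12 : (12 : K) = 0 := by linear_combination 6 * h2
  have h14 : (14 : K) = 0 := by linear_combination 7 * h2
  have h16 : (16 : K) = 0 := by linear_combination 8 * h2
  have h18 : (18 : K) = 0 := by linear_combination 9 * h2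
  have h20 : (20 : K) = 0 := by linear_combination 10 * h2
  have h22 : (22 : K) = 0 := by linear_combination 11 * h2
  have h24 : (24 : K) = 0 := by linear_combination 12 * h2
  have h26 : (26 : K) = 0 := by linear_combination 13 * h2
  have h28 : (28 : K) = 0 := by linear_combination 14 * h2
  have h30 : (30 : K) = 0 := by linear_combination 15 * h2
  have h32 : (32 : K) = 0 := by linear_combination 16 * h2
  obtain ⟨c, rfl⟩ : ∃ c, t58 = c * t56 := ⟨t58 / t56, by field_simp⟩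
  have e : R.X43 c * R.RNF (0) (0) (0) (0) (0) (t56) (t38) (t40) (0) (t47) (0) (t41) (t44) (t48) (t50) (c * t56) (t45) (t49) (t51) (t59) (t61) (t52) (t53) (t60) (t62) (t54) (t63) (t64) (t55) (t65) (t67) (t66) (t68) (t69) (t70) (t71) * R.X43 c =
      R.RNF (0) (0) (0) (0) (0) (t56) (t38) (t40) (0) (t47) (0) (t41) (t44) (t48) (t50) (0) (c * t38 + t45) (t49) (t51) (t59) (t61) (t52) (c * t48 + t53) (c * t38 * t56 + t60) (t62) (c * t38 * t47 + c * t49 + t54) (t63) (c * t48 * t56 + t64) (c * t38 * t48 + t55) (c * t38 * t47 * t56 + t65) (c * t62 + t67) (c * t38 * t48 * t56 + t66) (c * t38 * t50 * t56 + c * t63 + t68) (c * t38 * t51 * t56 + t69) (c * t38 * t44 * t47 * t56 + c * t38 * t47 * t59 + c * t38 * t53 * t56 + c * t45 * t48 * t56 + c * t49 * t59 + c * t66 + c ^ 2 * t38 * t48 * t56 + t70) (c * t38 * t47 * t51 * t56 + c * t38 * t47 * t62 + c * t38 * t48 * t50 * t56 + c * t38 * t48 * t61 + c * t48 * t52 * t56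 + c * t49 * t62 + t71) := by
    rw [R.ucj43]
    congr 1 <;> (first | rfl | ring1 | (rw [← sub_eq_zero]; ring_nf; simp only [h2, h4, h6, h8, h10, h12, h14, h16, h18, h20, h22, h24, h26, h28, h30, h32, mul_zero, zero_mul, add_zero, zero_add, neg_zero, sub_zero, sub_self]))
  exact UP_cj D (D.xmem43 c) (R.inv43 c) e (ih _ _ _ _ _ _ _ _ _ _ _ _ _ _ _ _ _ _ _ _ _ _ _ _ _ _ _ _ hn56)

theorem e6s5_4 (D : UData R)
    (ih : ∀ (t56 t38 t40 t47 t41 t44 t48 t50 t45 t49 t51 t61 t52 t53 t60 t62 t54 t63 t64 t55 t65 t67 t66 t68 t69 t70 t71 : K), t56 ≠ 0 → UP D (R.RNF (0) (0) (0) (0) (0) (t56) (t38) (t40) (0) (t47) (0) (t41) (t44) (t48) (t50) (0) (t45) (t49) (t51) (0) (t61) (t52) (t53) (t60) (t62) (t54) (t63) (t64) (t55) (t65) (t67) (t66) (t68) (t69) (t70) (t71))) :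
    ∀ (t56 t38 t40 t47 t41 t44 t48 t50 t45 t49 t51 t59 t61 t52 t53 t60 t62 t54 t63 t64 t55 t65 t67 t66 t68 t69 t70 t71 : K), t56 ≠ 0 → UP D (R.RNF (0) (0) (0) (0) (0) (t56) (t38) (t40) (0) (t47) (0) (t41) (t44) (t48) (t50) (0) (t45) (t49) (t51) (t59) (t61) (t52) (t53) (t60) (t62) (t54) (t63) (t64) (t55) (t65) (t67) (t66) (t68) (t69) (t70) (t71)) := by
  intro t56 t38 t40 t47 t41 t44 t48 t50 t45 t49 t51 t59 t61 t52 t53 t60 t62 t54 t63 t64 t55 t65 t67 t66 t68 t69 t70 t71 hn56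
  have h2 : (2 : K) = 0 := CharTwo.two_eq_zero
  have h4 : (4 : K) = 0 := by linear_combination 2 * h2
  have h6 : (6 : K) = 0 := by linear_combination 3 * h2
  have h8 : (8 : K) = 0 := by linear_combination 4 * h2
  have h10 : (10 : K) = 0 := by linear_combination 5 * h2
  have h12 : (12 : K) = 0 := by linear_combination 6 * h2
  have h14 : (14 : K) = 0 := by linear_combination 7 * h2
  have h16 : (16 : K) = 0 := by linear_combination 8 * h2
  have h18 : (18 : K) = 0 := by linear_combination 9 * h2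
  have h20 : (20 : K) = 0 := by linear_combination 10 * h2
  have h22 : (22 : K) = 0 := by linear_combination 11 * h2
  have h24 : (24 : K) = 0 := by linear_combination 12 * h2
  have h26 : (26 : K) = 0 := by linear_combination 13 * h2
  have h28 : (28 : K) = 0 := by linear_combination 14 * h2
  have h30 : (30 : K) = 0 := by linear_combination 15 * h2
  have h32 : (32 : K) = 0 := by linear_combination 16 * h2
  obtain ⟨c, rfl⟩ : ∃ c, t59 = c * t56 := ⟨t59 / t56, by field_simp⟩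
  have e : R.X44 c * R.RNF (0) (0) (0) (0) (0) (t56) (t38) (t40) (0) (t47) (0) (t41) (t44) (t48) (t50) (0) (t45) (t49) (t51) (c * t56) (t61) (t52) (t53) (t60) (t62) (t54) (t63) (t64) (t55) (t65) (t67) (t66) (t68) (t69) (t70) (t71) * R.X44 c =
      R.RNF (0) (0) (0) (0) (0) (t56) (t38) (t40) (0) (t47) (0) (t41) (t44) (t48) (t50) (0) (t45) (t49) (t51) (0) (t61) (t52) (c * t47 + t53) (t60) (t62) (t54) (t63) (c * t47 * t56 + t64) (c * t49 + t55) (t65) (c * t50 * t56 + c * t61 + t67) (c * t49 * t56 + t66) (t68) (c * t63 + t69) (c * t45 * t47 * t56 + c * t65 + t70) (c * t47 * t52 * t56 + c * t49 * t50 * t56 + c * t49 * t61 + t71) := by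
    rw [R.ucj44]
    congr 1 <;> (first | rfl | ring1 | (rw [← sub_eq_zero]; ring_nf; simp only [h2, h4, h6, h8, h10, h12, h14, h16, h18, h20, h22, h24, h26, h28, h30, h32, mul_zero, zero_mul, add_zero, zero_add, neg_zero, sub_zero, sub_self]))
  exact UP_cj D (D.xmem44 c) (R.inv44 c) e (ih _ _ _ _ _ _ _ _ _ _ _ _ _ _ _ _ _ _ _ _ _ _ _ _ _ _ _ hn56)

theorem e6s5_5 (D : UData R)
    (ih : ∀ (t56 t38 t40 t47 t41 t44 t48 t50 t45 t49 t51 t52 t53 t60 t62 t54 t63 t64 t55 t65 t67 t66 t68 t69 t70 t71 : K), t56 ≠ 0 → UP D (R.RNF (0) (0) (0) (0) (0) (t56) (t38) (t40) (0) (t47) (0) (t41) (t44) (t48) (t50) (0) (t45) (t49) (t51) (0) (0) (t52) (t53) (t60) (t62) (t54) (t63) (t64) (t55) (t65) (t67) (t66) (t68) (t69) (t70) (t71))) :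
    ∀ (t56 t38 t40 t47 t41 t44 t48 t50 t45 t49 t51 t61 t52 t53 t60 t62 t54 t63 t64 t55 t65 t67 t66 t68 t69 t70 t71 : K), t56 ≠ 0 → UP D (R.RNF (0) (0) (0) (0) (0) (t56) (t38) (t40) (0) (t47) (0) (t41) (t44) (t48) (t50) (0) (t45) (t49) (t51) (0) (t61) (t52) (t53) (t60) (t62) (t54) (t63) (t64) (t55) (t65) (t67) (t66) (t68) (t69) (t70) (t71)) := by
  intro t56 t38 t40 t47 t41 t44 t48 t50 t45 t49 t51 t61 t52 t53 t60 t62 t54 t63 t64 t55 t65 t67 t66 t68 t69 t70 t71 hn56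
  have h2 : (2 : K) = 0 := CharTwo.two_eq_zero
  have h4 : (4 : K) = 0 := by linear_combination 2 * h2
  have h6 : (6 : K) = 0 := by linear_combination 3 * h2
  have h8 : (8 : K) = 0 := by linear_combination 4 * h2
  have h10 : (10 : K) = 0 := by linear_combination 5 * h2
  have h12 : (12 : K) = 0 := by linear_combination 6 * h2
  have h14 : (14 : K) = 0 := by linear_combination 7 * h2
  have h16 : (16 : K) = 0 := by linear_combination 8 * h2
  have h18 : (18 : K) = 0 := by linear_combination 9 * h2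
  have h20 : (20 : K) = 0 := by linear_combination 10 * h2
  have h22 : (22 : K) = 0 := by linear_combination 11 * h2
  have h24 : (24 : K) = 0 := by linear_combination 12 * h2
  have h26 : (26 : K) = 0 := by linear_combination 13 * h2
  have h28 : (28 : K) = 0 := by linear_combination 14 * h2
  have h30 : (30 : K) = 0 := by linear_combination 15 * h2
  have h32 : (32 : K) = 0 := by linear_combination 16 * h2
  obtain ⟨c, rfl⟩ : ∃ c, t61 = c * t56 := ⟨t61 / t56, by field_simp⟩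
  have e : R.X50 c * R.RNF (0) (0) (0) (0) (0) (t56) (t38) (t40) (0) (t47) (0) (t41) (t44) (t48) (t50) (0) (t45) (t49) (t51) (0) (c * t56) (t52) (t53) (t60) (t62) (t54) (t63) (t64) (t55) (t65) (t67) (t66) (t68) (t69) (t70) (t71) * R.X50 c =
      R.RNF (0) (0) (0) (0) (0) (t56) (t38) (t40) (0) (t47) (0) (t41) (t44) (t48) (t50) (0) (t45) (t49) (t51) (0) (0) (c * t38 + t52) (c * t40 + t53) (t60) (t62) (c * t41 + t54) (c * t38 * t56 + t63) (c * t40 * t56 + t64) (c * t38 * t40 + t55) (c * t41 * t56 + t65) (c * t44 * t56 + t67) (c * t38 * t40 * t56 + t66) (c * t45 * t56 + c * t60 + t68) (c * t38 * t44 * t56 + t69) (c * t40 * t45 * t56 + c * t41 * t44 * t56 + t70) (c * t38 * t40 * t50 * t56 + c * t38 * t53 * t56 + c * t40 * t52 * t56 + c * t41 * t51 * t56 + c * t41 * t62 + c * t44 * t49 * t56 + c * t66 + c ^ 2 * t38 * t40 * t56 + t71) := by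
    rw [R.ucj50]
    congr 1 <;> (first | rfl | ring1 | (rw [← sub_eq_zero]; ring_nf; simp only [h2, h4, h6, h8, h10, h12, h14, h16, h18, h20, h22, h24, h26, h28, h30, h32, mul_zero, zero_mul, add_zero, zero_add, neg_zero, sub_zero, sub_self]))
  exact UP_cj D (D.xmem50 c) (R.inv50 c) e (ih _ _ _ _ _ _ _ _ _ _ _ _ _ _ _ _ _ _ _ _ _ _ _ _ _ _ hn56)

theorem e6s5_6 (D : UData R)
    (ih : ∀ (t56 t38 t40 t47 t41 t44 t48 t50 t45 t49 t51 t52 t53 t62 t54 t63 t64 t55 t65 t67 t66 t68 t69 t70 t71 : K), t56 ≠ 0 → UP D (R.RNF (0) (0) (0) (0) (0) (t56) (t38) (t40) (0) (t47) (0) (t41) (t44) (t48) (t50) (0) (t45) (t49) (t51) (0) (0) (t52) (t53) (0) (t62) (t54) (t63) (t64) (t55) (t65) (t67) (t66) (t68) (t69) (t70) (t71))) :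
    ∀ (t56 t38 t40 t47 t41 t44 t48 t50 t45 t49 t51 t52 t53 t60 t62 t54 t63 t64 t55 t65 t67 t66 t68 t69 t70 t71 : K), t56 ≠ 0 → UP D (R.RNF (0) (0) (0) (0) (0) (t56) (t38) (t40) (0) (t47) (0) (t41) (t44) (t48) (t50) (0) (t45) (t49) (t51) (0) (0) (t52) (t53) (t60) (t62) (t54) (t63) (t64) (t55) (t65) (t67) (t66) (t68) (t69) (t70) (t71)) := by
  intro t56 t38 t40 t47 t41 t44 t48 t50 t45 t49 t51 t52 t53 t60 t62 t54 t63 t64 t55 t65 t67 t66 t68 t69 t70 t71 hn56
  have h2 : (2 : K) = 0 := CharTwo.two_eq_zero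
  have h4 : (4 : K) = 0 := by linear_combination 2 * h2
  have h6 : (6 : K) = 0 := by linear_combination 3 * h2
  have h8 : (8 : K) = 0 := by linear_combination 4 * h2
  have h10 : (10 : K) = 0 := by linear_combination 5 * h2
  have h12 : (12 : K) = 0 := by linear_combination 6 * h2
  have h14 : (14 : K) = 0 := by linear_combination 7 * h2
  have h16 : (16 : K) = 0 := by linear_combination 8 * h2
  have h18 : (18 : K) = 0 := by linear_combination 9 * h2
  have h20 : (20 : K) = 0 := by linear_combination 10 * h2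
  have h22 : (22 : K) = 0 := by linear_combination 11 * h2
  have h24 : (24 : K) = 0 := by linear_combination 12 * h2
  have h26 : (26 : K) = 0 := by linear_combination 13 * h2
  have h28 : (28 : K) = 0 := by linear_combination 14 * h2
  have h30 : (30 : K) = 0 := by linear_combination 15 * h2
  have h32 : (32 : K) = 0 := by linear_combination 16 * h2
  obtain ⟨c, rfl⟩ : ∃ c, t60 = c * t56 := ⟨t60 / t56, by field_simp⟩
  have e : R.X45 c * R.RNF (0) (0) (0) (0) (0) (t56) (t38) (t40) (0) (t47) (0) (t41) (t44) (t48) (t50) (0) (t45) (t49) (t51) (0) (0) (t52) (t53) (c * t56) (t62) (t54) (t63) (t64) (t55) (t65) (t67) (t66) (t68) (t69) (t70) (t71) * R.X45 c =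
      R.RNF (0) (0) (0) (0) (0) (t56) (t38) (t40) (0) (t47) (0) (t41) (t44) (t48) (t50) (0) (t45) (t49) (t51) (0) (0) (t52) (t53) (0) (t62) (c * t47 + t54) (t63) (t64) (c * t48 + t55) (c * t47 * t56 + t65) (t67) (c * t48 * t56 + t66) (c * t50 * t56 + t68) (c * t51 * t56 + c * t62 + t69) (c * t44 * t47 * t56 + c * t53 * t56 + c * t64 + t70) (c * t47 * t51 * t56 + c * t47 * t62 + c * t48 * t50 * t56 + t71) := by
    rw [R.ucj45]
    congr 1 <;> (first | rfl | ring1 | (rw [← sub_eq_zero]; ring_nf; simp only [h2, h4, h6, h8, h10, h12, h14, h16, h18, h20, h22, h24, h26, h28, h30, h32, mul_zero, zero_mul, add_zero, zero_add, neg_zero, sub_zero, sub_self]))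
  exact UP_cj D (D.xmem45 c) (R.inv45 c) e (ih _ _ _ _ _ _ _ _ _ _ _ _ _ _ _ _ _ _ _ _ _ _ _ _ _ hn56)

theorem e6s5_7 (D : UData R)
    (ih : ∀ (t56 t38 t40 t47 t41 t44 t48 t50 t45 t49 t51 t52 t53 t54 t63 t64 t55 t65 t67 t66 t68 t69 t70 t71 : K), t56 ≠ 0 → UP D (R.RNF (0) (0) (0) (0) (0) (t56) (t38) (t40) (0) (t47) (0) (t41) (t44) (t48) (t50) (0) (t45) (t49) (t51) (0) (0) (t52) (t53) (0) (0) (t54) (t63) (t64) (t55) (t65) (t67) (t66) (t68) (t69) (t70) (t71))) :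
    ∀ (t56 t38 t40 t47 t41 t44 t48 t50 t45 t49 t51 t52 t53 t62 t54 t63 t64 t55 t65 t67 t66 t68 t69 t70 t71 : K), t56 ≠ 0 → UP D (R.RNF (0) (0) (0) (0) (0) (t56) (t38) (t40) (0) (t47) (0) (t41) (t44) (t48) (t50) (0) (t45) (t49) (t51) (0) (0) (t52) (t53) (0) (t62) (t54) (t63) (t64) (t55) (t65) (t67) (t66) (t68) (t69) (t70) (t71)) := by
  intro t56 t38 t40 t47 t41 t44 t48 t50 t45 t49 t51 t52 t53 t62 t54 t63 t64 t55 t65 t67 t66 t68 t69 t70 t71 hn56
  have h2 : (2 : K) = 0 := CharTwo.two_eq_zero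
  have h4 : (4 : K) = 0 := by linear_combination 2 * h2
  have h6 : (6 : K) = 0 := by linear_combination 3 * h2
  have h8 : (8 : K) = 0 := by linear_combination 4 * h2
  have h10 : (10 : K) = 0 := by linear_combination 5 * h2
  have h12 : (12 : K) = 0 := by linear_combination 6 * h2
  have h14 : (14 : K) = 0 := by linear_combination 7 * h2
  have h16 : (16 : K) = 0 := by linear_combination 8 * h2
  have h18 : (18 : K) = 0 := by linear_combination 9 * h2
  have h20 : (20 : K) = 0 := by linear_combination 10 * h2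
  have h22 : (22 : K) = 0 := by linear_combination 11 * h2
  have h24 : (24 : K) = 0 := by linear_combination 12 * h2
  have h26 : (26 : K) = 0 := by linear_combination 13 * h2
  have h28 : (28 : K) = 0 := by linear_combination 14 * h2
  have h30 : (30 : K) = 0 := by linear_combination 15 * h2
  have h32 : (32 : K) = 0 := by linear_combination 16 * h2
  obtain ⟨c, rfl⟩ : ∃ c, t62 = c * t56 := ⟨t62 / t56, by field_simp⟩
  have e : R.X51 c * R.RNF (0) (0) (0) (0) (0) (t56) (t38) (t40) (0) (t47) (0) (t41) (t44) (t48) (t50) (0) (t45) (t49) (t51) (0) (0) (t52) (t53) (0) (c * t56) (t54) (t63) (t64) (t55) (t65) (t67) (t66) (t68) (t69) (t70) (t71) * R.X51 c =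
      R.RNF (0) (0) (0) (0) (0) (t56) (t38) (t40) (0) (t47) (0) (t41) (t44) (t48) (t50) (0) (t45) (t49) (t51) (0) (0) (t52) (t53) (0) (0) (t54) (t63) (t64) (c * t41 + t55) (t65) (t67) (c * t41 * t56 + t66) (t68) (c * t45 * t56 + t69) (t70) (c * t41 * t50 * t56 + c * t65 + t71) := by
    rw [R.ucj51]
    congr 1 <;> (first | rfl | ring1 | (rw [← sub_eq_zero]; ring_nf; simp only [h2, h4, h6, h8, h10, h12, h14, h16, h18, h20, h22, h24, h26, h28, h30, h32, mul_zero, zero_mul, add_zero, zero_add, neg_zero, sub_zero, sub_self]))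
  exact UP_cj D (D.xmem51 c) (R.inv51 c) e (ih _ _ _ _ _ _ _ _ _ _ _ _ _ _ _ _ _ _ _ _ _ _ _ _ hn56)

theorem e6s5_8 (D : UData R)
    (ih : ∀ (t56 t38 t40 t47 t41 t44 t48 t50 t45 t49 t51 t52 t53 t54 t64 t55 t65 t67 t66 t68 t69 t70 t71 : K), t56 ≠ 0 → UP D (R.RNF (0) (0) (0) (0) (0) (t56) (t38) (t40) (0) (t47) (0) (t41) (t44) (t48) (t50) (0) (t45) (t49) (t51) (0) (0) (t52) (t53) (0) (0) (t54) (0) (t64) (t55) (t65) (t67) (t66) (t68) (t69) (t70) (t71))) :
    ∀ (t56 t38 t40 t47 t41 t44 t48 t50 t45 t49 t51 t52 t53 t54 t63 t64 t55 t65 t67 t66 t68 t69 t70 t71 : K), t56 ≠ 0 → UP D (R.RNF (0) (0) (0) (0) (0) (t56) (t38) (t40) (0) (t47) (0) (t41) (t44) (t48) (t50) (0) (t45) (t49) (t51) (0) (0) (t52) (t53) (0) (0) (t54) (t63) (t64) (t55) (t65) (t67) (t66) (t68) (t69) (t70) (t71)) := by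
  intro t56 t38 t40 t47 t41 t44 t48 t50 t45 t49 t51 t52 t53 t54 t63 t64 t55 t65 t67 t66 t68 t69 t70 t71 hn56
  have h2 : (2 : K) = 0 := CharTwo.two_eq_zero
  have h4 : (4 : K) = 0 := by linear_combination 2 * h2
  have h6 : (6 : K) = 0 := by linear_combination 3 * h2
  have h8 : (8 : K) = 0 := by linear_combination 4 * h2
  have h10 : (10 : K) = 0 := by linear_combination 5 * h2
  have h12 : (12 : K) = 0 := by linear_combination 6 * h2
  have h14 : (14 : K) = 0 := by linear_combination 7 * h2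
  have h16 : (16 : K) = 0 := by linear_combination 8 * h2
  have h18 : (18 : K) = 0 := by linear_combination 9 * h2
  have h20 : (20 : K) = 0 := by linear_combination 10 * h2
  have h22 : (22 : K) = 0 := by linear_combination 11 * h2
  have h24 : (24 : K) = 0 := by linear_combination 12 * h2
  have h26 : (26 : K) = 0 := by linear_combination 13 * h2
  have h28 : (28 : K) = 0 := by linear_combination 14 * h2
  have h30 : (30 : K) = 0 := by linear_combination 15 * h2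
  have h32 : (32 : K) = 0 := by linear_combination 16 * h2
  obtain ⟨c, rfl⟩ : ∃ c, t63 = c * t56 := ⟨t63 / t56, by field_simp⟩
  have e : R.X52 c * R.RNF (0) (0) (0) (0) (0) (t56) (t38) (t40) (0) (t47) (0) (t41) (t44) (t48) (t50) (0) (t45) (t49) (t51) (0) (0) (t52) (t53) (0) (0) (t54) (c * t56) (t64) (t55) (t65) (t67) (t66) (t68) (t69) (t70) (t71) * R.X52 c =
      R.RNF (0) (0) (0) (0) (0) (t56) (t38) (t40) (0) (t47) (0) (t41) (t44) (t48) (t50) (0) (t45) (t49) (t51) (0) (0) (t52) (t53) (0) (0) (t54) (0) (t64) (c * t40 + t55) (t65) (t67) (c * t40 * t56 + t66) (t68) (c * t44 * t56 + t69) (t70) (c * t40 * t50 * t56 + c * t53 * t56 + c * t64 + t71) := by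
    rw [R.ucj52]
    congr 1 <;> (first | rfl | ring1 | (rw [← sub_eq_zero]; ring_nf; simp only [h2, h4, h6, h8, h10, h12, h14, h16, h18, h20, h22, h24, h26, h28, h30, h32, mul_zero, zero_mul, add_zero, zero_add, neg_zero, sub_zero, sub_self]))
  exact UP_cj D (D.xmem52 c) (R.inv52 c) e (ih _ _ _ _ _ _ _ _ _ _ _ _ _ _ _ _ _ _ _ _ _ _ _ hn56)

theorem e6s5_9 (D : UData R)
    (ih : ∀ (t56 t38 t40 t47 t41 t44 t48 t50 t45 t49 t51 t52 t53 t54 t55 t65 t67 t66 t68 t69 t70 t71 : K), t56 ≠ 0 → UP D (R.RNF (0) (0) (0) (0) (0) (t56) (t38) (t40) (0) (t47) (0) (t41) (t44) (t48) (t50) (0) (t45) (t49) (t51) (0) (0) (t52) (t53) (0) (0) (t54) (0) (0) (t55) (t65) (t67) (t66) (t68) (t69) (t70) (t71))) :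
    ∀ (t56 t38 t40 t47 t41 t44 t48 t50 t45 t49 t51 t52 t53 t54 t64 t55 t65 t67 t66 t68 t69 t70 t71 : K), t56 ≠ 0 → UP D (R.RNF (0) (0) (0) (0) (0) (t56) (t38) (t40) (0) (t47) (0) (t41) (t44) (t48) (t50) (0) (t45) (t49) (t51) (0) (0) (t52) (t53) (0) (0) (t54) (0) (t64) (t55) (t65) (t67) (t66) (t68) (t69) (t70) (t71)) := by
  intro t56 t38 t40 t47 t41 t44 t48 t50 t45 t49 t51 t52 t53 t54 t64 t55 t65 t67 t66 t68 t69 t70 t71 hn56
  have h2 : (2 : K) = 0 := CharTwo.two_eq_zero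
  have h4 : (4 : K) = 0 := by linear_combination 2 * h2
  have h6 : (6 : K) = 0 := by linear_combination 3 * h2
  have h8 : (8 : K) = 0 := by linear_combination 4 * h2
  have h10 : (10 : K) = 0 := by linear_combination 5 * h2
  have h12 : (12 : K) = 0 := by linear_combination 6 * h2
  have h14 : (14 : K) = 0 := by linear_combination 7 * h2
  have h16 : (16 : K) = 0 := by linear_combination 8 * h2
  have h18 : (18 : K) = 0 := by linear_combination 9 * h2
  have h20 : (20 : K) = 0 := by linear_combination 10 * h2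
  have h22 : (22 : K) = 0 := by linear_combination 11 * h2
  have h24 : (24 : K) = 0 := by linear_combination 12 * h2
  have h26 : (26 : K) = 0 := by linear_combination 13 * h2
  have h28 : (28 : K) = 0 := by linear_combination 14 * h2
  have h30 : (30 : K) = 0 := by linear_combination 15 * h2
  have h32 : (32 : K) = 0 := by linear_combination 16 * h2
  obtain ⟨c, rfl⟩ : ∃ c, t64 = c * t56 := ⟨t64 / t56, by field_simp⟩
  have e : R.X53 c * R.RNF (0) (0) (0) (0) (0) (t56) (t38) (t40) (0) (t47) (0) (t41) (t44) (t48) (t50) (0) (t45) (t49) (t51) (0) (0) (t52) (t53) (0) (0) (t54) (0) (c * t56) (t55) (t65) (t67) (t66) (t68) (t69) (t70) (t71) * R.X53 c =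
      R.RNF (0) (0) (0) (0) (0) (t56) (t38) (t40) (0) (t47) (0) (t41) (t44) (t48) (t50) (0) (t45) (t49) (t51) (0) (0) (t52) (t53) (0) (0) (t54) (0) (0) (c * t38 + t55) (t65) (t67) (c * t38 * t56 + t66) (t68) (t69) (c * t45 * t56 + t70) (c * t38 * t50 * t56 + c * t52 * t56 + t71) := by
    rw [R.ucj53]
    congr 1 <;> (first | rfl | ring1 | (rw [← sub_eq_zero]; ring_nf; simp only [h2, h4, h6, h8, h10, h12, h14, h16, h18, h20, h22, h24, h26, h28, h30, h32, mul_zero, zero_mul, add_zero, zero_add, neg_zero, sub_zero, sub_self]))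
  exact UP_cj D (D.xmem53 c) (R.inv53 c) e (ih _ _ _ _ _ _ _ _ _ _ _ _ _ _ _ _ _ _ _ _ _ _ hn56)

theorem e6s5_10 (D : UData R)
    (ih : ∀ (t56 t38 t40 t47 t41 t44 t48 t50 t45 t49 t51 t52 t53 t54 t55 t67 t66 t68 t69 t70 t71 : K), t56 ≠ 0 → UP D (R.RNF (0) (0) (0) (0) (0) (t56) (t38) (t40) (0) (t47) (0) (t41) (t44) (t48) (t50) (0) (t45) (t49) (t51) (0) (0) (t52) (t53) (0) (0) (t54) (0) (0) (t55) (0) (t67) (t66) (t68) (t69) (t70) (t71))) :
    ∀ (t56 t38 t40 t47 t41 t44 t48 t50 t45 t49 t51 t52 t53 t54 t55 t65 t67 t66 t68 t69 t70 t71 : K), t56 ≠ 0 → UP D (R.RNF (0) (0) (0) (0) (0) (t56) (t38) (t40) (0) (t47) (0) (t41) (t44) (t48) (t50) (0) (t45) (t49) (t51) (0) (0) (t52) (t53) (0) (0) (t54) (0) (0) (t55) (t65) (t67) (t66) (t68) (t69) (t70) (t71)) := by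
  intro t56 t38 t40 t47 t41 t44 t48 t50 t45 t49 t51 t52 t53 t54 t55 t65 t67 t66 t68 t69 t70 t71 hn56
  have h2 : (2 : K) = 0 := CharTwo.two_eq_zero
  have h4 : (4 : K) = 0 := by linear_combination 2 * h2
  have h6 : (6 : K) = 0 := by linear_combination 3 * h2
  have h8 : (8 : K) = 0 := by linear_combination 4 * h2
  have h10 : (10 : K) = 0 := by linear_combination 5 * h2
  have h12 : (12 : K) = 0 := by linear_combination 6 * h2
  have h14 : (14 : K) = 0 := by linear_combination 7 * h2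
  have h16 : (16 : K) = 0 := by linear_combination 8 * h2
  have h18 : (18 : K) = 0 := by linear_combination 9 * h2
  have h20 : (20 : K) = 0 := by linear_combination 10 * h2
  have h22 : (22 : K) = 0 := by linear_combination 11 * h2
  have h24 : (24 : K) = 0 := by linear_combination 12 * h2
  have h26 : (26 : K) = 0 := by linear_combination 13 * h2
  have h28 : (28 : K) = 0 := by linear_combination 14 * h2
  have h30 : (30 : K) = 0 := by linear_combination 15 * h2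
  have h32 : (32 : K) = 0 := by linear_combination 16 * h2
  obtain ⟨c, rfl⟩ : ∃ c, t65 = c * t56 := ⟨t65 / t56, by field_simp⟩
  have e : R.X54 c * R.RNF (0) (0) (0) (0) (0) (t56) (t38) (t40) (0) (t47) (0) (t41) (t44) (t48) (t50) (0) (t45) (t49) (t51) (0) (0) (t52) (t53) (0) (0) (t54) (0) (0) (t55) (c * t56) (t67) (t66) (t68) (t69) (t70) (t71) * R.X54 c =
      R.RNF (0) (0) (0) (0) (0) (t56) (t38) (t40) (0) (t47) (0) (t41) (t44) (t48) (t50) (0) (t45) (t49) (t51) (0) (0) (t52) (t53) (0) (0) (t54) (0) (0) (t55) (0) (t67) (t66) (t68) (t69) (c * t44 * t56 + t70) (c * t51 * t56 + t71) := by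
    rw [R.ucj54]
    congr 1 <;> (first | rfl | ring1 | (rw [← sub_eq_zero]; ring_nf; simp only [h2, h4, h6, h8, h10, h12, h14, h16, h18, h20, h22, h24, h26, h28, h30, h32, mul_zero, zero_mul, add_zero, zero_add, neg_zero, sub_zero, sub_self]))
  exact UP_cj D (D.xmem54 c) (R.inv54 c) e (ih _ _ _ _ _ _ _ _ _ _ _ _ _ _ _ _ _ _ _ _ _ hn56)

theorem e6s5_11 (D : UData R)
    (ih : ∀ (t56 t38 t40 t47 t41 t44 t48 t50 t45 t49 t51 t52 t53 t54 t55 t67 t68 t69 t70 t71 : K), t56 ≠ 0 → UP D (R.RNF (0) (0) (0) (0) (0) (t56) (t38) (t40) (0) (t47) (0) (t41) (t44) (t48) (t50) (0) (t45) (t49) (t51) (0) (0) (t52) (t53) (0) (0) (t54) (0) (0) (t55) (0) (t67) (0) (t68) (t69) (t70) (t71))) :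
    ∀ (t56 t38 t40 t47 t41 t44 t48 t50 t45 t49 t51 t52 t53 t54 t55 t67 t66 t68 t69 t70 t71 : K), t56 ≠ 0 → UP D (R.RNF (0) (0) (0) (0) (0) (t56) (t38) (t40) (0) (t47) (0) (t41) (t44) (t48) (t50) (0) (t45) (t49) (t51) (0) (0) (t52) (t53) (0) (0) (t54) (0) (0) (t55) (0) (t67) (t66) (t68) (t69) (t70) (t71)) := by
  intro t56 t38 t40 t47 t41 t44 t48 t50 t45 t49 t51 t52 t53 t54 t55 t67 t66 t68 t69 t70 t71 hn56
  have h2 : (2 : K) = 0 := CharTwo.two_eq_zero
  have h4 : (4 : K) = 0 := by linear_combination 2 * h2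
  have h6 : (6 : K) = 0 := by linear_combination 3 * h2
  have h8 : (8 : K) = 0 := by linear_combination 4 * h2
  have h10 : (10 : K) = 0 := by linear_combination 5 * h2
  have h12 : (12 : K) = 0 := by linear_combination 6 * h2
  have h14 : (14 : K) = 0 := by linear_combination 7 * h2
  have h16 : (16 : K) = 0 := by linear_combination 8 * h2
  have h18 : (18 : K) = 0 := by linear_combination 9 * h2
  have h20 : (20 : K) = 0 := by linear_combination 10 * h2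
  have h22 : (22 : K) = 0 := by linear_combination 11 * h2
  have h24 : (24 : K) = 0 := by linear_combination 12 * h2
  have h26 : (26 : K) = 0 := by linear_combination 13 * h2
  have h28 : (28 : K) = 0 := by linear_combination 14 * h2
  have h30 : (30 : K) = 0 := by linear_combination 15 * h2
  have h32 : (32 : K) = 0 := by linear_combination 16 * h2
  obtain ⟨c, rfl⟩ : ∃ c, t66 = c * t56 := ⟨t66 / t56, by field_simp⟩
  have e : R.X55 c * R.RNF (0) (0) (0) (0) (0) (t56) (t38) (t40) (0) (t47) (0) (t41) (t44) (t48) (t50) (0) (t45) (t49) (t51) (0) (0) (t52) (t53) (0) (0) (t54) (0) (0) (t55) (0) (t67) (c * t56) (t68) (t69) (t70) (t71) * R.X55 c =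
      R.RNF (0) (0) (0) (0) (0) (t56) (t38) (t40) (0) (t47) (0) (t41) (t44) (t48) (t50) (0) (t45) (t49) (t51) (0) (0) (t52) (t53) (0) (0) (t54) (0) (0) (t55) (0) (t67) (0) (t68) (t69) (t70) (c * t50 * t56 + t71) := by
    rw [R.ucj55]
    congr 1 <;> (first | rfl | ring1 | (rw [← sub_eq_zero]; ring_nf; simp only [h2, h4, h6, h8, h10, h12, h14, h16, h18, h20, h22, h24, h26, h28, h30, h32, mul_zero, zero_mul, add_zero, zero_add, neg_zero, sub_zero, sub_self]))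
  exact UP_cj D (D.xmem55 c) (R.inv55 c) e (ih _ _ _ _ _ _ _ _ _ _ _ _ _ _ _ _ _ _ _ _ hn56)

theorem e6s5_12 (D : UData R)
    (ih : ∀ (t56 t38 t40 t47 t41 t48 t50 t45 t49 t51 t52 t53 t54 t55 t67 t68 t69 t70 t71 : K), t56 ≠ 0 → UP D (R.RNF (0) (0) (0) (0) (0) (t56) (t38) (t40) (0) (t47) (0) (t41) (0) (t48) (t50) (0) (t45) (t49) (t51) (0) (0) (t52) (t53) (0) (0) (t54) (0) (0) (t55) (0) (t67) (0) (t68) (t69) (t70) (t71))) :
    ∀ (t56 t38 t40 t47 t41 t44 t48 t50 t45 t49 t51 t52 t53 t54 t55 t67 t68 t69 t70 t71 : K), t56 ≠ 0 → UP D (R.RNF (0) (0) (0) (0) (0) (t56) (t38) (t40) (0) (t47) (0) (t41) (t44) (t48) (t50) (0) (t45) (t49) (t51) (0) (0) (t52) (t53) (0) (0) (t54) (0) (0) (t55) (0) (t67) (0) (t68) (t69) (t70) (t71)) := by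
  intro t56 t38 t40 t47 t41 t44 t48 t50 t45 t49 t51 t52 t53 t54 t55 t67 t68 t69 t70 t71 hn56 hu hne
  have hsq := hu
  rw [R.usq] at hsq
  obtain ⟨e36, e37, e39, e42, e46, e56, e38, e40, e43, e47, e57, e41, e44, e48, e50, e58, e45, e49, e51, e59, e61, e52, e53, e60, e62, e54, e63, e64, e55, e65, e67, e66, e68, e69, e70, e71⟩ := D.inj _ _ _ _ _ _ _ _ _ _ _ _ _ _ _ _ _ _ _ _ _ _ _ _ _ _ _ _ _ _ _ _ _ _ _ _ hsq
  have hz : t44 = 0 := by
    have h : t56 * t44 = 0 := by linear_combination e59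
    exact (mul_eq_zero.mp h).resolve_left hn56
  subst hz
  exact ih _ _ _ _ _ _ _ _ _ _ _ _ _ _ _ _ _ _ _ hn56 hu hne

theorem e6s5_13 (D : UData R)
    (ih : ∀ (t56 t38 t40 t47 t41 t48 t45 t49 t51 t52 t53 t54 t55 t67 t68 t69 t70 t71 : K), t56 ≠ 0 → UP D (R.RNF (0) (0) (0) (0) (0) (t56) (t38) (t40) (0) (t47) (0) (t41) (0) (t48) (0) (0) (t45) (t49) (t51) (0) (0) (t52) (t53) (0) (0) (t54) (0) (0) (t55) (0) (t67) (0) (t68) (t69) (t70) (t71))) :
    ∀ (t56 t38 t40 t47 t41 t48 t50 t45 t49 t51 t52 t53 t54 t55 t67 t68 t69 t70 t71 : K), t56 ≠ 0 → UP D (R.RNF (0) (0) (0) (0) (0) (t56) (t38) (t40) (0) (t47) (0) (t41) (0) (t48) (t50) (0) (t45) (t49) (t51) (0) (0) (t52) (t53) (0) (0) (t54) (0) (0) (t55) (0) (t67) (0) (t68) (t69) (t70) (t71)) := by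
  intro t56 t38 t40 t47 t41 t48 t50 t45 t49 t51 t52 t53 t54 t55 t67 t68 t69 t70 t71 hn56 hu hne
  have hsq := hu
  rw [R.usq] at hsq
  obtain ⟨e36, e37, e39, e42, e46, e56, e38, e40, e43, e47, e57, e41, e44, e48, e50, e58, e45, e49, e51, e59, e61, e52, e53, e60, e62, e54, e63, e64, e55, e65, e67, e66, e68, e69, e70, e71⟩ := D.inj _ _ _ _ _ _ _ _ _ _ _ _ _ _ _ _ _ _ _ _ _ _ _ _ _ _ _ _ _ _ _ _ _ _ _ _ hsq
  have hz : t50 = 0 := by
    have h : t56 * t50 = 0 := by linear_combination e61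
    exact (mul_eq_zero.mp h).resolve_left hn56
  subst hz
  exact ih _ _ _ _ _ _ _ _ _ _ _ _ _ _ _ _ _ _ hn56 hu hne

theorem e6s5_14 (D : UData R)
    (ih : ∀ (t56 t38 t40 t47 t41 t48 t49 t51 t52 t53 t54 t55 t67 t68 t69 t70 t71 : K), t56 ≠ 0 → UP D (R.RNF (0) (0) (0) (0) (0) (t56) (t38) (t40) (0) (t47) (0) (t41) (0) (t48) (0) (0) (0) (t49) (t51) (0) (0) (t52) (t53) (0) (0) (t54) (0) (0) (t55) (0) (t67) (0) (t68) (t69) (t70) (t71))) :
    ∀ (t56 t38 t40 t47 t41 t48 t45 t49 t51 t52 t53 t54 t55 t67 t68 t69 t70 t71 : K), t56 ≠ 0 → UP D (R.RNF (0) (0) (0) (0) (0) (t56) (t38) (t40) (0) (t47) (0) (t41) (0) (t48) (0) (0) (t45) (t49) (t51) (0) (0) (t52) (t53) (0) (0) (t54) (0) (0) (t55) (0) (t67) (0) (t68) (t69) (t70) (t71)) := by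
  intro t56 t38 t40 t47 t41 t48 t45 t49 t51 t52 t53 t54 t55 t67 t68 t69 t70 t71 hn56 hu hne
  have hsq := hu
  rw [R.usq] at hsq
  obtain ⟨e36, e37, e39, e42, e46, e56, e38, e40, e43, e47, e57, e41, e44, e48, e50, e58, e45, e49, e51, e59, e61, e52, e53, e60, e62, e54, e63, e64, e55, e65, e67, e66, e68, e69, e70, e71⟩ := D.inj _ _ _ _ _ _ _ _ _ _ _ _ _ _ _ _ _ _ _ _ _ _ _ _ _ _ _ _ _ _ _ _ _ _ _ _ hsq
  have hz : t45 = 0 := by
    have h : t56 * t45 = 0 := by linear_combination e60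
    exact (mul_eq_zero.mp h).resolve_left hn56
  subst hz
  exact ih _ _ _ _ _ _ _ _ _ _ _ _ _ _ _ _ _ hn56 hu hne

theorem e6s5_15 (D : UData R)
    (ih : ∀ (t56 t38 t40 t47 t41 t48 t49 t52 t53 t54 t55 t67 t68 t69 t70 t71 : K), t56 ≠ 0 → UP D (R.RNF (0) (0) (0) (0) (0) (t56) (t38) (t40) (0) (t47) (0) (t41) (0) (t48) (0) (0) (0) (t49) (0) (0) (0) (t52) (t53) (0) (0) (t54) (0) (0) (t55) (0) (t67) (0) (t68) (t69) (t70) (t71))) :
    ∀ (t56 t38 t40 t47 t41 t48 t49 t51 t52 t53 t54 t55 t67 t68 t69 t70 t71 : K), t56 ≠ 0 → UP D (R.RNF (0) (0) (0) (0) (0) (t56) (t38) (t40) (0) (t47) (0) (t41) (0) (t48) (0) (0) (0) (t49) (t51) (0) (0) (t52) (t53) (0) (0) (t54) (0) (0) (t55) (0) (t67) (0) (t68) (t69) (t70) (t71)) := by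
  intro t56 t38 t40 t47 t41 t48 t49 t51 t52 t53 t54 t55 t67 t68 t69 t70 t71 hn56 hu hne
  have hsq := hu
  rw [R.usq] at hsq
  obtain ⟨e36, e37, e39, e42, e46, e56, e38, e40, e43, e47, e57, e41, e44, e48, e50, e58, e45, e49, e51, e59, e61, e52, e53, e60, e62, e54, e63, e64, e55, e65, e67, e66, e68, e69, e70, e71⟩ := D.inj _ _ _ _ _ _ _ _ _ _ _ _ _ _ _ _ _ _ _ _ _ _ _ _ _ _ _ _ _ _ _ _ _ _ _ _ hsq
  have hz : t51 = 0 := by
    have h : t56 * t51 = 0 := by linear_combination e62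
    exact (mul_eq_zero.mp h).resolve_left hn56
  subst hz
  exact ih _ _ _ _ _ _ _ _ _ _ _ _ _ _ _ _ hn56 hu hne

theorem e6s5_16 (D : UData R)
    (ih : ∀ (t56 t38 t40 t47 t41 t48 t49 t53 t54 t55 t67 t68 t69 t70 t71 : K), t56 ≠ 0 → UP D (R.RNF (0) (0) (0) (0) (0) (t56) (t38) (t40) (0) (t47) (0) (t41) (0) (t48) (0) (0) (0) (t49) (0) (0) (0) (0) (t53) (0) (0) (t54) (0) (0) (t55) (0) (t67) (0) (t68) (t69) (t70) (t71))) :
    ∀ (t56 t38 t40 t47 t41 t48 t49 t52 t53 t54 t55 t67 t68 t69 t70 t71 : K), t56 ≠ 0 → UP D (R.RNF (0) (0) (0) (0) (0) (t56) (t38) (t40) (0) (t47) (0) (t41) (0) (t48) (0) (0) (0) (t49) (0) (0) (0) (t52) (t53) (0) (0) (t54) (0) (0) (t55) (0) (t67) (0) (t68) (t69) (t70) (t71)) := by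
  intro t56 t38 t40 t47 t41 t48 t49 t52 t53 t54 t55 t67 t68 t69 t70 t71 hn56 hu hne
  have hsq := hu
  rw [R.usq] at hsq
  obtain ⟨e36, e37, e39, e42, e46, e56, e38, e40, e43, e47, e57, e41, e44, e48, e50, e58, e45, e49, e51, e59, e61, e52, e53, e60, e62, e54, e63, e64, e55, e65, e67, e66, e68, e69, e70, e71⟩ := D.inj _ _ _ _ _ _ _ _ _ _ _ _ _ _ _ _ _ _ _ _ _ _ _ _ _ _ _ _ _ _ _ _ _ _ _ _ hsq
  have hz : t52 = 0 := by
    have h : t56 * t52 = 0 := by linear_combination e63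
    exact (mul_eq_zero.mp h).resolve_left hn56
  subst hz
  exact ih _ _ _ _ _ _ _ _ _ _ _ _ _ _ _ hn56 hu hne

theorem e6s5_17 (D : UData R)
    (ih : ∀ (t56 t38 t40 t47 t41 t48 t49 t54 t55 t67 t68 t69 t70 t71 : K), t56 ≠ 0 → UP D (R.RNF (0) (0) (0) (0) (0) (t56) (t38) (t40) (0) (t47) (0) (t41) (0) (t48) (0) (0) (0) (t49) (0) (0) (0) (0) (0) (0) (0) (t54) (0) (0) (t55) (0) (t67) (0) (t68) (t69) (t70) (t71))) :
    ∀ (t56 t38 t40 t47 t41 t48 t49 t53 t54 t55 t67 t68 t69 t70 t71 : K), t56 ≠ 0 → UP D (R.RNF (0) (0) (0) (0) (0) (t56) (t38) (t40) (0) (t47) (0) (t41) (0) (t48) (0) (0) (0) (t49) (0) (0) (0) (0) (t53) (0) (0) (t54) (0) (0) (t55) (0) (t67) (0) (t68) (t69) (t70) (t71)) := by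
  intro t56 t38 t40 t47 t41 t48 t49 t53 t54 t55 t67 t68 t69 t70 t71 hn56 hu hne
  have hsq := hu
  rw [R.usq] at hsq
  obtain ⟨e36, e37, e39, e42, e46, e56, e38, e40, e43, e47, e57, e41, e44, e48, e50, e58, e45, e49, e51, e59, e61, e52, e53, e60, e62, e54, e63, e64, e55, e65, e67, e66, e68, e69, e70, e71⟩ := D.inj _ _ _ _ _ _ _ _ _ _ _ _ _ _ _ _ _ _ _ _ _ _ _ _ _ _ _ _ _ _ _ _ _ _ _ _ hsq
  have hz : t53 = 0 := by
    have h : t56 * t53 = 0 := by linear_combination e64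
    exact (mul_eq_zero.mp h).resolve_left hn56
  subst hz
  exact ih _ _ _ _ _ _ _ _ _ _ _ _ _ _ hn56 hu hne

theorem e6s5_18 (D : UData R)
    (ih : ∀ (t56 t38 t40 t47 t41 t48 t49 t55 t67 t68 t69 t70 t71 : K), t56 ≠ 0 → UP D (R.RNF (0) (0) (0) (0) (0) (t56) (t38) (t40) (0) (t47) (0) (t41) (0) (t48) (0) (0) (0) (t49) (0) (0) (0) (0) (0) (0) (0) (0) (0) (0) (t55) (0) (t67) (0) (t68) (t69) (t70) (t71))) :
    ∀ (t56 t38 t40 t47 t41 t48 t49 t54 t55 t67 t68 t69 t70 t71 : K), t56 ≠ 0 → UP D (R.RNF (0) (0) (0) (0) (0) (t56) (t38) (t40) (0) (t47) (0) (t41) (0) (t48) (0) (0) (0) (t49) (0) (0) (0) (0) (0) (0) (0) (t54) (0) (0) (t55) (0) (t67) (0) (t68) (t69) (t70) (t71)) := by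
  intro t56 t38 t40 t47 t41 t48 t49 t54 t55 t67 t68 t69 t70 t71 hn56 hu hne
  have hsq := hu
  rw [R.usq] at hsq
  obtain ⟨e36, e37, e39, e42, e46, e56, e38, e40, e43, e47, e57, e41, e44, e48, e50, e58, e45, e49, e51, e59, e61, e52, e53, e60, e62, e54, e63, e64, e55, e65, e67, e66, e68, e69, e70, e71⟩ := D.inj _ _ _ _ _ _ _ _ _ _ _ _ _ _ _ _ _ _ _ _ _ _ _ _ _ _ _ _ _ _ _ _ _ _ _ _ hsq
  have hz : t54 = 0 := by
    have h : t56 * t54 = 0 := by linear_combination e65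
    exact (mul_eq_zero.mp h).resolve_left hn56
  subst hz
  exact ih _ _ _ _ _ _ _ _ _ _ _ _ _ hn56 hu hne

theorem e6s5_19 (D : UData R)
    (ih : ∀ (t56 t38 t40 t47 t41 t48 t49 t67 t68 t69 t70 t71 : K), t56 ≠ 0 → UP D (R.RNF (0) (0) (0) (0) (0) (t56) (t38) (t40) (0) (t47) (0) (t41) (0) (t48) (0) (0) (0) (t49) (0) (0) (0) (0) (0) (0) (0) (0) (0) (0) (0) (0) (t67) (0) (t68) (t69) (t70) (t71))) :
    ∀ (t56 t38 t40 t47 t41 t48 t49 t55 t67 t68 t69 t70 t71 : K), t56 ≠ 0 → UP D (R.RNF (0) (0) (0) (0) (0) (t56) (t38) (t40) (0) (t47) (0) (t41) (0) (t48) (0) (0) (0) (t49) (0) (0) (0) (0) (0) (0) (0) (0) (0) (0) (t55) (0) (t67) (0) (t68) (t69) (t70) (t71)) := by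
  intro t56 t38 t40 t47 t41 t48 t49 t55 t67 t68 t69 t70 t71 hn56 hu hne
  have hsq := hu
  rw [R.usq] at hsq
  obtain ⟨e36, e37, e39, e42, e46, e56, e38, e40, e43, e47, e57, e41, e44, e48, e50, e58, e45, e49, e51, e59, e61, e52, e53, e60, e62, e54, e63, e64, e55, e65, e67, e66, e68, e69, e70, e71⟩ := D.inj _ _ _ _ _ _ _ _ _ _ _ _ _ _ _ _ _ _ _ _ _ _ _ _ _ _ _ _ _ _ _ _ _ _ _ _ hsq
  have hz : t55 = 0 := by
    have h : t56 * t55 = 0 := by linear_combination e66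
    exact (mul_eq_zero.mp h).resolve_left hn56
  subst hz
  exact ih _ _ _ _ _ _ _ _ _ _ _ _ hn56 hu hne

theorem e6s5_20 (D : UData R)
    (ih : ∀ (t38 t57 t44 t50 t45 t51 t52 t64 t65 t66 t70 t71 : K), t57 ≠ 0 → UP D (R.RNF (0) (0) (0) (0) (0) (0) (t38) (0) (0) (0) (t57) (0) (t44) (0) (t50) (0) (t45) (0) (t51) (0) (0) (t52) (0) (0) (0) (0) (0) (t64) (0) (t65) (0) (t66) (0) (0) (t70) (t71))) :
    ∀ (t56 t38 t40 t47 t41 t48 t49 t67 t68 t69 t70 t71 : K), t56 ≠ 0 → UP D (R.RNF (0) (0) (0) (0) (0) (t56) (t38) (t40) (0) (t47) (0) (t41) (0) (t48) (0) (0) (0) (t49) (0) (0) (0) (0) (0) (0) (0) (0) (0) (0) (0) (0) (t67) (0) (t68) (t69) (t70) (t71)) := by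
  intro t56 t38 t40 t47 t41 t48 t49 t67 t68 t69 t70 t71 hn56
  have h2 : (2 : K) = 0 := CharTwo.two_eq_zero
  have h4 : (4 : K) = 0 := by linear_combination 2 * h2
  have h6 : (6 : K) = 0 := by linear_combination 3 * h2
  have h8 : (8 : K) = 0 := by linear_combination 4 * h2
  have h10 : (10 : K) = 0 := by linear_combination 5 * h2
  have h12 : (12 : K) = 0 := by linear_combination 6 * h2
  have h14 : (14 : K) = 0 := by linear_combination 7 * h2
  have h16 : (16 : K) = 0 := by linear_combination 8 * h2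
  have h18 : (18 : K) = 0 := by linear_combination 9 * h2
  have h20 : (20 : K) = 0 := by linear_combination 10 * h2
  have h22 : (22 : K) = 0 := by linear_combination 11 * h2
  have h24 : (24 : K) = 0 := by linear_combination 12 * h2
  have h26 : (26 : K) = 0 := by linear_combination 13 * h2
  have h28 : (28 : K) = 0 := by linear_combination 14 * h2
  have h30 : (30 : K) = 0 := by linear_combination 15 * h2
  have h32 : (32 : K) = 0 := by linear_combination 16 * h2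
  have e : D.n3 * R.RNF (0) (0) (0) (0) (0) (t56) (t38) (t40) (0) (t47) (0) (t41) (0) (t48) (0) (0) (0) (t49) (0) (0) (0) (0) (0) (0) (0) (0) (0) (0) (0) (0) (t67) (0) (t68) (t69) (t70) (t71) * D.n3⁻¹ =
      R.RNF (0) (0) (0) (0) (0) (0) (t38) (0) (0) (0) (t56) (0) (t40) (0) (t47) (0) (t41) (0) (t48) (0) (0) (t49) (0) (0) (0) (0) (0) (t67) (0) (t68) (0) (t69) (0) (0) (t70) (t71) := by
    rw [D.toWeylE6.conj_n3]
    congr 1 <;> (first | rfl | ring1 | (rw [← sub_eq_zero]; ring_nf; simp only [h2, h4, h6, h8, h10, h12, h14, h16, h18, h20, h22, h24, h26, h28, h30, h32, mul_zero, zero_mul, add_zero, zero_add, neg_zero, sub_zero, sub_self]))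
  exact UP_n D D.n3_mem e (ih _ _ _ _ _ _ _ _ _ _ _ _ hn56)

theorem upiv5 (D : UData R)
    (ih : ∀ (t38 t40 t43 t47 t57 t41 t44 t48 t50 t58 t45 t49 t51 t59 t61 t52 t53 t60 t62 t54 t63 t64 t55 t65 t67 t66 t68 t69 t70 t71 : K), UP D (R.RNF (0) (0) (0) (0) (0) (0) (t38) (t40) (t43) (t47) (t57) (t41) (t44) (t48) (t50) (t58) (t45) (t49) (t51) (t59) (t61) (t52) (t53) (t60) (t62) (t54) (t63) (t64) (t55) (t65) (t67) (t66) (t68) (t69) (t70) (t71))) :
    ∀ (t56 t38 t40 t43 t47 t57 t41 t44 t48 t50 t58 t45 t49 t51 t59 t61 t52 t53 t60 t62 t54 t63 t64 t55 t65 t67 t66 t68 t69 t70 t71 : K), UP D (R.RNF (0) (0) (0) (0) (0) (t56) (t38) (t40) (t43) (t47) (t57) (t41) (t44) (t48) (t50) (t58) (t45) (t49) (t51) (t59) (t61) (t52) (t53) (t60) (t62) (t54) (t63) (t64) (t55) (t65) (t67) (t66) (t68) (t69) (t70) (t71)) := by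
  intro t56 t38 t40 t43 t47 t57 t41 t44 t48 t50 t58 t45 t49 t51 t59 t61 t52 t53 t60 t62 t54 t63 t64 t55 t65 t67 t66 t68 t69 t70 t71
  by_cases h0 : t56 = 0
  · subst h0; exact ih _ _ _ _ _ _ _ _ _ _ _ _ _ _ _ _ _ _ _ _ _ _ _ _ _ _ _ _ _ _
  · exact (e6s5_1 D (e6s5_2 D (e6s5_3 D (e6s5_4 D (e6s5_5 D (e6s5_6 D (e6s5_7 D (e6s5_8 D (e6s5_9 D (e6s5_10 D (e6s5_11 D (e6s5_12 D (e6s5_13 D (e6s5_14 D (e6s5_15 D (e6s5_16 D (e6s5_17 D (e6s5_18 D (e6s5_19 D (e6s5_20 D (fun t38 t57 t44 t50 t45 t51 t52 t64 t65 t66 t70 t71 _ => ih t38 0 0 0 t57 0 t44 0 t50 0 t45 0 t51 0 0 t52 0 0 0 0 0 t64 0 t65 0 t66 0 0 t70 t71))))))))))))))))))))) t56 t38 t40 t43 t47 t57 t41 t44 t48 t50 t58 t45 t49 t51 t59 t61 t52 t53 t60 t62 t54 t63 t64 t55 t65 t67 t66 t68 t69 t70 t71 h0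

end Cfsg.Agent.Helper4.E6Inv
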