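import Cfsg.Agent.Helper4.E6Inv.UFinT

/-! Generated: steps of the reduction of involutions in the unipotent group of `E₆`
(characteristic two). -/

set_option autoImplicit false
set_option maxHeartbeats 8000000
set_option maxRecDepth 100000
set_option linter.unusedSimpArgs false
set_option linter.unusedVariables false
set_option linter.unusedSectionVars false
set_option linter.unusedTactic false
set_option linter.unreachableTactic false

namespace Cfsg.Agent.Helper4.E6Inv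

variable {K Γ : Type*} [Field K] [Group Γ] {R : RelE6 K Γ} [CharP K 2]

theorem e6s6_1 (D : UData R)
    (ih : ∀ (t38 t40 t47 t57 t41 t44 t48 t50 t58 t45 t49 t51 t59 t61 t52 t53 t60 t62 t54 t63 t64 t55 t65 t67 t66 t68 t69 t70 t71 : K), t38 ≠ 0 → UP D (R.RNF (0) (0) (0) (0) (0) (0) (t38) (t40) (0) (t47) (t57) (t41) (t44) (t48) (t50) (t58) (t45) (t49) (t51) (t59) (t61) (t52) (t53) (t60) (t62) (t54) (t63) (t64) (t55) (t65) (t67) (t66) (t68) (t69) (t70) (t71))) :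
    ∀ (t38 t40 t43 t47 t57 t41 t44 t48 t50 t58 t45 t49 t51 t59 t61 t52 t53 t60 t62 t54 t63 t64 t55 t65 t67 t66 t68 t69 t70 t71 : K), t38 ≠ 0 → UP D (R.RNF (0) (0) (0) (0) (0) (0) (t38) (t40) (t43) (t47) (t57) (t41) (t44) (t48) (t50) (t58) (t45) (t49) (t51) (t59) (t61) (t52) (t53) (t60) (t62) (t54) (t63) (t64) (t55) (t65) (t67) (t66) (t68) (t69) (t70) (t71)) := by
  intro t38 t40 t43 t47 t57 t41 t44 t48 t50 t58 t45 t49 t51 t59 t61 t52 t53 t60 t62 t54 t63 t64 t55 t65 t67 t66 t68 t69 t70 t71 hn38 hu hne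
  have hsq := hu
  rw [R.usq] at hsq
  obtain ⟨e36, e37, e39, e42, e46, e56, e38, e40, e43, e47, e57, e41, e44, e48, e50, e58, e45, e49, e51, e59, e61, e52, e53, e60, e62, e54, e63, e64, e55, e65, e67, e66, e68, e69, e70, e71⟩ := D.inj _ _ _ _ _ _ _ _ _ _ _ _ _ _ _ _ _ _ _ _ _ _ _ _ _ _ _ _ _ _ _ _ _ _ _ _ hsq
  have hz : t43 = 0 := by
    have h : t38 * t43 = 0 := by linear_combination e45
    exact (mul_eq_zero.mp h).resolve_left hn38
  subst hz
  exact ih _ _ _ _ _ _ _ _ _ _ _ _ _ _ _ _ _ _ _ _ _ _ _ _ _ _ _ _ _ hn38 hu hne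

theorem e6s6_2 (D : UData R)
    (ih : ∀ (t38 t40 t57 t41 t44 t48 t50 t58 t45 t49 t51 t59 t61 t52 t53 t60 t62 t54 t63 t64 t55 t65 t67 t66 t68 t69 t70 t71 : K), t38 ≠ 0 → UP D (R.RNF (0) (0) (0) (0) (0) (0) (t38) (t40) (0) (0) (t57) (t41) (t44) (t48) (t50) (t58) (t45) (t49) (t51) (t59) (t61) (t52) (t53) (t60) (t62) (t54) (t63) (t64) (t55) (t65) (t67) (t66) (t68) (t69) (t70) (t71))) :
    ∀ (t38 t40 t47 t57 t41 t44 t48 t50 t58 t45 t49 t51 t59 t61 t52 t53 t60 t62 t54 t63 t64 t55 t65 t67 t66 t68 t69 t70 t71 : K), t38 ≠ 0 → UP D (R.RNF (0) (0) (0) (0) (0) (0) (t38) (t40) (0) (t47) (t57) (t41) (t44) (t48) (t50) (t58) (t45) (t49) (t51) (t59) (t61) (t52) (t53) (t60) (t62) (t54) (t63) (t64) (t55) (t65) (t67) (t66) (t68) (t69) (t70) (t71)) := by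
  intro t38 t40 t47 t57 t41 t44 t48 t50 t58 t45 t49 t51 t59 t61 t52 t53 t60 t62 t54 t63 t64 t55 t65 t67 t66 t68 t69 t70 t71 hn38 hu hne
  have hsq := hu
  rw [R.usq] at hsq
  obtain ⟨e36, e37, e39, e42, e46, e56, e38, e40, e43, e47, e57, e41, e44, e48, e50, e58, e45, e49, e51, e59, e61, e52, e53, e60, e62, e54, e63, e64, e55, e65, e67, e66, e68, e69, e70, e71⟩ := D.inj _ _ _ _ _ _ _ _ _ _ _ _ _ _ _ _ _ _ _ _ _ _ _ _ _ _ _ _ _ _ _ _ _ _ _ _ hsq
  have hz : t47 = 0 := by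
    have h : t38 * t47 = 0 := by linear_combination e49
    exact (mul_eq_zero.mp h).resolve_left hn38
  subst hz
  exact ih _ _ _ _ _ _ _ _ _ _ _ _ _ _ _ _ _ _ _ _ _ _ _ _ _ _ _ _ hn38 hu hne

theorem e6s6_3 (D : UData R)
    (ih : ∀ (t38 t40 t57 t41 t44 t48 t58 t45 t49 t51 t59 t61 t52 t53 t60 t62 t54 t63 t64 t55 t65 t67 t66 t68 t69 t70 t71 : K), t38 ≠ 0 → UP D (R.RNF (0) (0) (0) (0) (0) (0) (t38) (t40) (0) (0) (t57) (t41) (t44) (t48) (0) (t58) (t45) (t49) (t51) (t59) (t61) (t52) (t53) (t60) (t62) (t54) (t63) (t64) (t55) (t65) (t67) (t66) (t68) (t69) (t70) (t71))) :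
    ∀ (t38 t40 t57 t41 t44 t48 t50 t58 t45 t49 t51 t59 t61 t52 t53 t60 t62 t54 t63 t64 t55 t65 t67 t66 t68 t69 t70 t71 : K), t38 ≠ 0 → UP D (R.RNF (0) (0) (0) (0) (0) (0) (t38) (t40) (0) (0) (t57) (t41) (t44) (t48) (t50) (t58) (t45) (t49) (t51) (t59) (t61) (t52) (t53) (t60) (t62) (t54) (t63) (t64) (t55) (t65) (t67) (t66) (t68) (t69) (t70) (t71)) := by
  intro t38 t40 t57 t41 t44 t48 t50 t58 t45 t49 t51 t59 t61 t52 t53 t60 t62 t54 t63 t64 t55 t65 t67 t66 t68 t69 t70 t71 hn38 hu hne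
  have hsq := hu
  rw [R.usq] at hsq
  obtain ⟨e36, e37, e39, e42, e46, e56, e38, e40, e43, e47, e57, e41, e44, e48, e50, e58, e45, e49, e51, e59, e61, e52, e53, e60, e62, e54, e63, e64, e55, e65, e67, e66, e68, e69, e70, e71⟩ := D.inj _ _ _ _ _ _ _ _ _ _ _ _ _ _ _ _ _ _ _ _ _ _ _ _ _ _ _ _ _ _ _ _ _ _ _ _ hsq
  have hz : t50 = 0 := by
    have h : t38 * t50 = 0 := by linear_combination e52
    exact (mul_eq_zero.mp h).resolve_left hn38
  subst hz
  exact ih _ _ _ _ _ _ _ _ _ _ _ _ _ _ _ _ _ _ _ _ _ _ _ _ _ _ _ hn38 hu hne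

theorem e6s6_4 (D : UData R)
    (ih : ∀ (t38 t40 t57 t44 t48 t58 t45 t49 t51 t59 t61 t52 t53 t60 t62 t54 t63 t64 t55 t65 t67 t66 t68 t69 t70 t71 : K), t38 ≠ 0 → UP D (R.RNF (0) (0) (0) (0) (0) (0) (t38) (t40) (0) (0) (t57) (0) (t44) (t48) (0) (t58) (t45) (t49) (t51) (t59) (t61) (t52) (t53) (t60) (t62) (t54) (t63) (t64) (t55) (t65) (t67) (t66) (t68) (t69) (t70) (t71))) :
    ∀ (t38 t40 t57 t41 t44 t48 t58 t45 t49 t51 t59 t61 t52 t53 t60 t62 t54 t63 t64 t55 t65 t67 t66 t68 t69 t70 t71 : K), t38 ≠ 0 → UP D (R.RNF (0) (0) (0) (0) (0) (0) (t38) (t40) (0) (0) (t57) (t41) (t44) (t48) (0) (t58) (t45) (t49) (t51) (t59) (t61) (t52) (t53) (t60) (t62) (t54) (t63) (t64) (t55) (t65) (t67) (t66) (t68) (t69) (t70) (t71)) := by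
  intro t38 t40 t57 t41 t44 t48 t58 t45 t49 t51 t59 t61 t52 t53 t60 t62 t54 t63 t64 t55 t65 t67 t66 t68 t69 t70 t71 hn38
  have h2 : (2 : K) = 0 := CharTwo.two_eq_zero
  have h4 : (4 : K) = 0 := by linear_combination 2 * h2
  have h6 : (6 : K) = 0 := by linear_combination 3 * h2
  have h8 : (8 : K) = 0 := by linear_combination 4 * h2
  have h10 : (10 : K) = 0 := by linear_combination 5 * h2
  have h12 : (12 : K) = 0 := by linear_combination 6 * h2
  have h14 : (14 : K) = 0 := by linear_combination 7 * h2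
  have h16 : (16 : K) = 0 := by linear_combination 8 * h2
  have h18 : (18 : K) = 0 := by linear_combination 9 * h2
  have h20 : (20 : K) = 0 := by linear_combination 10 * h2
  have h22 : (22 : K) = 0 := by linear_combination 11 * h2
  have h24 : (24 : K) = 0 := by linear_combination 12 * h2
  have h26 : (26 : K) = 0 := by linear_combination 13 * h2
  have h28 : (28 : K) = 0 := by linear_combination 14 * h2
  have h30 : (30 : K) = 0 := by linear_combination 15 * h2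
  have h32 : (32 : K) = 0 := by linear_combination 16 * h2
  obtain ⟨c, rfl⟩ : ∃ c, t41 = c * t38 := ⟨t41 / t38, by field_simp⟩
  have e : R.X39 c * R.RNF (0) (0) (0) (0) (0) (0) (t38) (t40) (0) (0) (t57) (c * t38) (t44) (t48) (0) (t58) (t45) (t49) (t51) (t59) (t61) (t52) (t53) (t60) (t62) (t54) (t63) (t64) (t55) (t65) (t67) (t66) (t68) (t69) (t70) (t71) * R.X39 c =
      R.RNF (0) (0) (0) (0) (0) (0) (t38) (t40) (0) (0) (t57) (0) (t44) (t48) (0) (c * t57 + t58) (t45) (t49) (t51) (t59) (t61) (t52) (c * t51 + t53) (c * t38 * t57 + t60) (t62) (c * t52 + t54) (t63) (c * t48 * t57 + c * t62 + t64) (t55) (c * t63 + t65) (t67) (c * t38 * t48 * t57 + t66) (t68) (c * t38 * t51 * t57 + t69) (c * t38 * t53 * t57 + c * t45 * t48 * t57 + c * t69 + c ^ 2 * t38 * t51 * t57 + t70) (c * t48 * t52 * t57 + c * t52 * t62 + t71) := by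
    rw [R.ucj39]
    congr 1 <;> (first | rfl | ring1 | (rw [← sub_eq_zero]; ring_nf; simp only [h2, h4, h6, h8, h10, h12, h14, h16, h18, h20, h22, h24, h26, h28, h30, h32, mul_zero, zero_mul, add_zero, zero_add, neg_zero, sub_zero, sub_self]))
  exact UP_cj D (D.xmem39 c) (R.inv39 c) e (ih _ _ _ _ _ _ _ _ _ _ _ _ _ _ _ _ _ _ _ _ _ _ _ _ _ _ hn38)

theorem e6s6_5 (D : UData R)
    (ih : ∀ (t38 t40 t57 t44 t48 t58 t49 t51 t59 t61 t52 t53 t60 t62 t54 t63 t64 t55 t65 t67 t66 t68 t69 t70 t71 : K), t38 ≠ 0 → UP D (R.RNF (0) (0) (0) (0) (0) (0) (t38) (t40) (0) (0) (t57) (0) (t44) (t48) (0) (t58) (0) (t49) (t51) (t59) (t61) (t52) (t53) (t60) (t62) (t54) (t63) (t64) (t55) (t65) (t67) (t66) (t68) (t69) (t70) (t71))) :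
    ∀ (t38 t40 t57 t44 t48 t58 t45 t49 t51 t59 t61 t52 t53 t60 t62 t54 t63 t64 t55 t65 t67 t66 t68 t69 t70 t71 : K), t38 ≠ 0 → UP D (R.RNF (0) (0) (0) (0) (0) (0) (t38) (t40) (0) (0) (t57) (0) (t44) (t48) (0) (t58) (t45) (t49) (t51) (t59) (t61) (t52) (t53) (t60) (t62) (t54) (t63) (t64) (t55) (t65) (t67) (t66) (t68) (t69) (t70) (t71)) := by
  intro t38 t40 t57 t44 t48 t58 t45 t49 t51 t59 t61 t52 t53 t60 t62 t54 t63 t64 t55 t65 t67 t66 t68 t69 t70 t71 hn38
  have h2 : (2 : K) = 0 := CharTwo.two_eq_zero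
  have h4 : (4 : K) = 0 := by linear_combination 2 * h2
  have h6 : (6 : K) = 0 := by linear_combination 3 * h2
  have h8 : (8 : K) = 0 := by linear_combination 4 * h2
  have h10 : (10 : K) = 0 := by linear_combination 5 * h2
  have h12 : (12 : K) = 0 := by linear_combination 6 * h2
  have h14 : (14 : K) = 0 := by linear_combination 7 * h2
  have h16 : (16 : K) = 0 := by linear_combination 8 * h2
  have h18 : (18 : K) = 0 := by linear_combination 9 * h2
  have h20 : (20 : K) = 0 := by linear_combination 10 * h2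
  have h22 : (22 : K) = 0 := by linear_combination 11 * h2
  have h24 : (24 : K) = 0 := by linear_combination 12 * h2
  have h26 : (26 : K) = 0 := by linear_combination 13 * h2
  have h28 : (28 : K) = 0 := by linear_combination 14 * h2
  have h30 : (30 : K) = 0 := by linear_combination 15 * h2
  have h32 : (32 : K) = 0 := by linear_combination 16 * h2
  obtain ⟨c, rfl⟩ : ∃ c, t45 = c * t38 := ⟨t45 / t38, by field_simp⟩
  have e : R.X43 c * R.RNF (0) (0) (0) (0) (0) (0) (t38) (t40) (0) (0) (t57) (0) (t44) (t48) (0) (t58) (c * t38) (t49) (t51) (t59) (t61) (t52) (t53) (t60) (t62) (t54) (t63) (t64) (t55) (t65) (t67) (t66) (t68) (t69) (t70) (t71) * R.X43 c =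
      R.RNF (0) (0) (0) (0) (0) (0) (t38) (t40) (0) (0) (t57) (0) (t44) (t48) (0) (t58) (0) (t49) (t51) (t59) (t61) (t52) (c * t48 + t53) (t60) (t62) (c * t49 + t54) (t63) (t64) (c * t38 * t48 + t55) (t65) (c * t62 + t67) (t66) (c * t63 + t68) (t69) (c * t38 * t48 * t58 + c * t49 * t59 + c * t66 + t70) (c * t38 * t48 * t61 + c * t49 * t62 + t71) := by
    rw [R.ucj43]
    congr 1 <;> (first | rfl | ring1 | (rw [← sub_eq_zero]; ring_nf; simp only [h2, h4, h6, h8, h10, h12, h14, h16, h18, h20, h22, h24, h26, h28, h30, h32, mul_zero, zero_mul, add_zero, zero_add, neg_zero, sub_zero, sub_self]))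
  exact UP_cj D (D.xmem43 c) (R.inv43 c) e (ih _ _ _ _ _ _ _ _ _ _ _ _ _ _ _ _ _ _ _ _ _ _ _ _ _ hn38)

theorem e6s6_6 (D : UData R)
    (ih : ∀ (t38 t40 t57 t44 t48 t58 t51 t59 t61 t52 t53 t60 t62 t54 t63 t64 t55 t65 t67 t66 t68 t69 t70 t71 : K), t38 ≠ 0 → UP D (R.RNF (0) (0) (0) (0) (0) (0) (t38) (t40) (0) (0) (t57) (0) (t44) (t48) (0) (t58) (0) (0) (t51) (t59) (t61) (t52) (t53) (t60) (t62) (t54) (t63) (t64) (t55) (t65) (t67) (t66) (t68) (t69) (t70) (t71))) :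
    ∀ (t38 t40 t57 t44 t48 t58 t49 t51 t59 t61 t52 t53 t60 t62 t54 t63 t64 t55 t65 t67 t66 t68 t69 t70 t71 : K), t38 ≠ 0 → UP D (R.RNF (0) (0) (0) (0) (0) (0) (t38) (t40) (0) (0) (t57) (0) (t44) (t48) (0) (t58) (0) (t49) (t51) (t59) (t61) (t52) (t53) (t60) (t62) (t54) (t63) (t64) (t55) (t65) (t67) (t66) (t68) (t69) (t70) (t71)) := by
  intro t38 t40 t57 t44 t48 t58 t49 t51 t59 t61 t52 t53 t60 t62 t54 t63 t64 t55 t65 t67 t66 t68 t69 t70 t71 hn38
  have h2 : (2 : K) = 0 := CharTwo.two_eq_zero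
  have h4 : (4 : K) = 0 := by linear_combination 2 * h2
  have h6 : (6 : K) = 0 := by linear_combination 3 * h2
  have h8 : (8 : K) = 0 := by linear_combination 4 * h2
  have h10 : (10 : K) = 0 := by linear_combination 5 * h2
  have h12 : (12 : K) = 0 := by linear_combination 6 * h2
  have h14 : (14 : K) = 0 := by linear_combination 7 * h2
  have h16 : (16 : K) = 0 := by linear_combination 8 * h2
  have h18 : (18 : K) = 0 := by linear_combination 9 * h2
  have h20 : (20 : K) = 0 := by linear_combination 10 * h2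
  have h22 : (22 : K) = 0 := by linear_combination 11 * h2
  have h24 : (24 : K) = 0 := by linear_combination 12 * h2
  have h26 : (26 : K) = 0 := by linear_combination 13 * h2
  have h28 : (28 : K) = 0 := by linear_combination 14 * h2
  have h30 : (30 : K) = 0 := by linear_combination 15 * h2
  have h32 : (32 : K) = 0 := by linear_combination 16 * h2
  obtain ⟨c, rfl⟩ : ∃ c, t49 = c * t38 := ⟨t49 / t38, by field_simp⟩
  have e : R.X47 c * R.RNF (0) (0) (0) (0) (0) (0) (t38) (t40) (0) (0) (t57) (0) (t44) (t48) (0) (t58) (0) (c * t38) (t51) (t59) (t61) (t52) (t53) (t60) (t62) (t54) (t63) (t64) (t55) (t65) (t67) (t66) (t68) (t69) (t70) (t71) * R.X47 c =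
      R.RNF (0) (0) (0) (0) (0) (0) (t38) (t40) (0) (0) (t57) (0) (t44) (t48) (0) (t58) (0) (0) (t51) (t59) (c * t57 + t61) (t52) (c * t44 + t53) (t60) (t62) (t54) (c * t38 * t57 + t63) (c * t59 + t64) (c * t38 * t44 + t55) (c * t38 * t58 + c * t60 + t65) (c * t44 * t57 + t67) (t66) (t68) (c * t38 * t44 * t57 + t69) (c * t38 * t44 * t58 + t70) (c * t38 * t44 * t61 + c * t38 * t51 * t58 + c * t38 * t53 * t57 + c * t52 * t59 + c * t69 + c ^ 2 * t38 * t44 * t57 + t71) := by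
    rw [R.ucj47]
    congr 1 <;> (first | rfl | ring1 | (rw [← sub_eq_zero]; ring_nf; simp only [h2, h4, h6, h8, h10, h12, h14, h16, h18, h20, h22, h24, h26, h28, h30, h32, mul_zero, zero_mul, add_zero, zero_add, neg_zero, sub_zero, sub_self]))
  exact UP_cj D (D.xmem47 c) (R.inv47 c) e (ih _ _ _ _ _ _ _ _ _ _ _ _ _ _ _ _ _ _ _ _ _ _ _ _ hn38)

theorem e6s6_7 (D : UData R)
    (ih : ∀ (t38 t40 t57 t44 t48 t58 t51 t59 t61 t53 t60 t62 t54 t63 t64 t55 t65 t67 t66 t68 t69 t70 t71 : K), t38 ≠ 0 → UP D (R.RNF (0) (0) (0) (0) (0) (0) (t38) (t40) (0) (0) (t57) (0) (t44) (t48) (0) (t58) (0) (0) (t51) (t59) (t61) (0) (t53) (t60) (t62) (t54) (t63) (t64) (t55) (t65) (t67) (t66) (t68) (t69) (t70) (t71))) :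
    ∀ (t38 t40 t57 t44 t48 t58 t51 t59 t61 t52 t53 t60 t62 t54 t63 t64 t55 t65 t67 t66 t68 t69 t70 t71 : K), t38 ≠ 0 → UP D (R.RNF (0) (0) (0) (0) (0) (0) (t38) (t40) (0) (0) (t57) (0) (t44) (t48) (0) (t58) (0) (0) (t51) (t59) (t61) (t52) (t53) (t60) (t62) (t54) (t63) (t64) (t55) (t65) (t67) (t66) (t68) (t69) (t70) (t71)) := by
  intro t38 t40 t57 t44 t48 t58 t51 t59 t61 t52 t53 t60 t62 t54 t63 t64 t55 t65 t67 t66 t68 t69 t70 t71 hn38
  have h2 : (2 : K) = 0 := CharTwo.two_eq_zero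
  have h4 : (4 : K) = 0 := by linear_combination 2 * h2
  have h6 : (6 : K) = 0 := by linear_combination 3 * h2
  have h8 : (8 : K) = 0 := by linear_combination 4 * h2
  have h10 : (10 : K) = 0 := by linear_combination 5 * h2
  have h12 : (12 : K) = 0 := by linear_combination 6 * h2
  have h14 : (14 : K) = 0 := by linear_combination 7 * h2
  have h16 : (16 : K) = 0 := by linear_combination 8 * h2
  have h18 : (18 : K) = 0 := by linear_combination 9 * h2
  have h20 : (20 : K) = 0 := by linear_combination 10 * h2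
  have h22 : (22 : K) = 0 := by linear_combination 11 * h2
  have h24 : (24 : K) = 0 := by linear_combination 12 * h2
  have h26 : (26 : K) = 0 := by linear_combination 13 * h2
  have h28 : (28 : K) = 0 := by linear_combination 14 * h2
  have h30 : (30 : K) = 0 := by linear_combination 15 * h2
  have h32 : (32 : K) = 0 := by linear_combination 16 * h2
  obtain ⟨c, rfl⟩ : ∃ c, t52 = c * t38 := ⟨t52 / t38, by field_simp⟩
  have e : R.X50 c * R.RNF (0) (0) (0) (0) (0) (0) (t38) (t40) (0) (0) (t57) (0) (t44) (t48) (0) (t58) (0) (0) (t51) (t59) (t61) (c * t38) (t53) (t60) (t62) (t54) (t63) (t64) (t55) (t65) (t67) (t66) (t68) (t69) (t70) (t71) * R.X50 c =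
      R.RNF (0) (0) (0) (0) (0) (0) (t38) (t40) (0) (0) (t57) (0) (t44) (t48) (0) (t58) (0) (0) (t51) (t59) (t61) (0) (c * t40 + t53) (t60) (t62) (t54) (t63) (t64) (c * t38 * t40 + t55) (t65) (c * t40 * t57 + c * t59 + t67) (t66) (c * t38 * t58 + c * t60 + t68) (c * t38 * t40 * t57 + c * t38 * t59 + t69) (c * t38 * t40 * t58 + t70) (c * t38 * t40 * t61 + c * t66 + t71) := by
    rw [R.ucj50]
    congr 1 <;> (first | rfl | ring1 | (rw [← sub_eq_zero]; ring_nf; simp only [h2, h4, h6, h8, h10, h12, h14, h16, h18, h20, h22, h24, h26, h28, h30, h32, mul_zero, zero_mul, add_zero, zero_add, neg_zero, sub_zero, sub_self]))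
  exact UP_cj D (D.xmem50 c) (R.inv50 c) e (ih _ _ _ _ _ _ _ _ _ _ _ _ _ _ _ _ _ _ _ _ _ _ _ hn38)

theorem e6s6_8 (D : UData R)
    (ih : ∀ (t38 t40 t57 t44 t48 t58 t51 t59 t61 t53 t62 t54 t63 t64 t55 t65 t67 t66 t68 t69 t70 t71 : K), t38 ≠ 0 → UP D (R.RNF (0) (0) (0) (0) (0) (0) (t38) (t40) (0) (0) (t57) (0) (t44) (t48) (0) (t58) (0) (0) (t51) (t59) (t61) (0) (t53) (0) (t62) (t54) (t63) (t64) (t55) (t65) (t67) (t66) (t68) (t69) (t70) (t71))) :
    ∀ (t38 t40 t57 t44 t48 t58 t51 t59 t61 t53 t60 t62 t54 t63 t64 t55 t65 t67 t66 t68 t69 t70 t71 : K), t38 ≠ 0 → UP D (R.RNF (0) (0) (0) (0) (0) (0) (t38) (t40) (0) (0) (t57) (0) (t44) (t48) (0) (t58) (0) (0) (t51) (t59) (t61) (0) (t53) (t60) (t62) (t54) (t63) (t64) (t55) (t65) (t67) (t66) (t68) (t69) (t70) (t71)) := by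
  intro t38 t40 t57 t44 t48 t58 t51 t59 t61 t53 t60 t62 t54 t63 t64 t55 t65 t67 t66 t68 t69 t70 t71 hn38
  have h2 : (2 : K) = 0 := CharTwo.two_eq_zero
  have h4 : (4 : K) = 0 := by linear_combination 2 * h2
  have h6 : (6 : K) = 0 := by linear_combination 3 * h2
  have h8 : (8 : K) = 0 := by linear_combination 4 * h2
  have h10 : (10 : K) = 0 := by linear_combination 5 * h2
  have h12 : (12 : K) = 0 := by linear_combination 6 * h2
  have h14 : (14 : K) = 0 := by linear_combination 7 * h2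
  have h16 : (16 : K) = 0 := by linear_combination 8 * h2
  have h18 : (18 : K) = 0 := by linear_combination 9 * h2
  have h20 : (20 : K) = 0 := by linear_combination 10 * h2
  have h22 : (22 : K) = 0 := by linear_combination 11 * h2
  have h24 : (24 : K) = 0 := by linear_combination 12 * h2
  have h26 : (26 : K) = 0 := by linear_combination 13 * h2
  have h28 : (28 : K) = 0 := by linear_combination 14 * h2
  have h30 : (30 : K) = 0 := by linear_combination 15 * h2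
  have h32 : (32 : K) = 0 := by linear_combination 16 * h2
  obtain ⟨c, rfl⟩ : ∃ c, t60 = c * t38 := ⟨t60 / t38, by field_simp⟩
  have e : R.X58 c * R.RNF (0) (0) (0) (0) (0) (0) (t38) (t40) (0) (0) (t57) (0) (t44) (t48) (0) (t58) (0) (0) (t51) (t59) (t61) (0) (t53) (c * t38) (t62) (t54) (t63) (t64) (t55) (t65) (t67) (t66) (t68) (t69) (t70) (t71) * R.X58 c =
      R.RNF (0) (0) (0) (0) (0) (0) (t38) (t40) (0) (0) (t57) (0) (t44) (t48) (0) (t58) (0) (0) (t51) (t59) (t61) (0) (t53) (0) (t62) (t54) (t63) (c * t48 + t64) (t55) (t65) (c * t51 + t67) (c * t38 * t48 + t66) (t68) (c * t38 * t51 + t69) (c * t38 * t53 + c * t55 + t70) (t71) := by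
    rw [R.ucj58]
    congr 1 <;> (first | rfl | ring1 | (rw [← sub_eq_zero]; ring_nf; simp only [h2, h4, h6, h8, h10, h12, h14, h16, h18, h20, h22, h24, h26, h28, h30, h32, mul_zero, zero_mul, add_zero, zero_add, neg_zero, sub_zero, sub_self]))
  exact UP_cj D (D.xmem58 c) (R.inv58 c) e (ih _ _ _ _ _ _ _ _ _ _ _ _ _ _ _ _ _ _ _ _ _ _ hn38)

theorem e6s6_9 (D : UData R)
    (ih : ∀ (t38 t40 t57 t44 t48 t58 t51 t59 t61 t53 t62 t54 t64 t55 t65 t67 t66 t68 t69 t70 t71 : K), t38 ≠ 0 → UP D (R.RNF (0) (0) (0) (0) (0) (0) (t38) (t40) (0) (0) (t57) (0) (t44) (t48) (0) (t58) (0) (0) (t51) (t59) (t61) (0) (t53) (0) (t62) (t54) (0) (t64) (t55) (t65) (t67) (t66) (t68) (t69) (t70) (t71))) :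
    ∀ (t38 t40 t57 t44 t48 t58 t51 t59 t61 t53 t62 t54 t63 t64 t55 t65 t67 t66 t68 t69 t70 t71 : K), t38 ≠ 0 → UP D (R.RNF (0) (0) (0) (0) (0) (0) (t38) (t40) (0) (0) (t57) (0) (t44) (t48) (0) (t58) (0) (0) (t51) (t59) (t61) (0) (t53) (0) (t62) (t54) (t63) (t64) (t55) (t65) (t67) (t66) (t68) (t69) (t70) (t71)) := by
  intro t38 t40 t57 t44 t48 t58 t51 t59 t61 t53 t62 t54 t63 t64 t55 t65 t67 t66 t68 t69 t70 t71 hn38
  have h2 : (2 : K) = 0 := CharTwo.two_eq_zero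
  have h4 : (4 : K) = 0 := by linear_combination 2 * h2
  have h6 : (6 : K) = 0 := by linear_combination 3 * h2
  have h8 : (8 : K) = 0 := by linear_combination 4 * h2
  have h10 : (10 : K) = 0 := by linear_combination 5 * h2
  have h12 : (12 : K) = 0 := by linear_combination 6 * h2
  have h14 : (14 : K) = 0 := by linear_combination 7 * h2
  have h16 : (16 : K) = 0 := by linear_combination 8 * h2
  have h18 : (18 : K) = 0 := by linear_combination 9 * h2
  have h20 : (20 : K) = 0 := by linear_combination 10 * h2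
  have h22 : (22 : K) = 0 := by linear_combination 11 * h2
  have h24 : (24 : K) = 0 := by linear_combination 12 * h2
  have h26 : (26 : K) = 0 := by linear_combination 13 * h2
  have h28 : (28 : K) = 0 := by linear_combination 14 * h2
  have h30 : (30 : K) = 0 := by linear_combination 15 * h2
  have h32 : (32 : K) = 0 := by linear_combination 16 * h2
  obtain ⟨c, rfl⟩ : ∃ c, t63 = c * t38 := ⟨t63 / t38, by field_simp⟩
  have e : R.X61 c * R.RNF (0) (0) (0) (0) (0) (0) (t38) (t40) (0) (0) (t57) (0) (t44) (t48) (0) (t58) (0) (0) (t51) (t59) (t61) (0) (t53) (0) (t62) (t54) (c * t38) (t64) (t55) (t65) (t67) (t66) (t68) (t69) (t70) (t71) * R.X61 c =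
      R.RNF (0) (0) (0) (0) (0) (0) (t38) (t40) (0) (0) (t57) (0) (t44) (t48) (0) (t58) (0) (0) (t51) (t59) (t61) (0) (t53) (0) (t62) (t54) (0) (c * t40 + t64) (t55) (t65) (c * t44 + t67) (c * t38 * t40 + t66) (t68) (c * t38 * t44 + t69) (t70) (c * t38 * t53 + c * t55 + t71) := by
    rw [R.ucj61]
    congr 1 <;> (first | rfl | ring1 | (rw [← sub_eq_zero]; ring_nf; simp only [h2, h4, h6, h8, h10, h12, h14, h16, h18, h20, h22, h24, h26, h28, h30, h32, mul_zero, zero_mul, add_zero, zero_add, neg_zero, sub_zero, sub_self]))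
  exact UP_cj D (D.xmem61 c) (R.inv61 c) e (ih _ _ _ _ _ _ _ _ _ _ _ _ _ _ _ _ _ _ _ _ _ hn38)

theorem e6s6_10 (D : UData R)
    (ih : ∀ (t38 t40 t57 t44 t48 t58 t51 t59 t61 t53 t62 t54 t64 t65 t67 t66 t68 t69 t70 t71 : K), t38 ≠ 0 → UP D (R.RNF (0) (0) (0) (0) (0) (0) (t38) (t40) (0) (0) (t57) (0) (t44) (t48) (0) (t58) (0) (0) (t51) (t59) (t61) (0) (t53) (0) (t62) (t54) (0) (t64) (0) (t65) (t67) (t66) (t68) (t69) (t70) (t71))) :
    ∀ (t38 t40 t57 t44 t48 t58 t51 t59 t61 t53 t62 t54 t64 t55 t65 t67 t66 t68 t69 t70 t71 : K), t38 ≠ 0 → UP D (R.RNF (0) (0) (0) (0) (0) (0) (t38) (t40) (0) (0) (t57) (0) (t44) (t48) (0) (t58) (0) (0) (t51) (t59) (t61) (0) (t53) (0) (t62) (t54) (0) (t64) (t55) (t65) (t67) (t66) (t68) (t69) (t70) (t71)) := by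
  intro t38 t40 t57 t44 t48 t58 t51 t59 t61 t53 t62 t54 t64 t55 t65 t67 t66 t68 t69 t70 t71 hn38
  have h2 : (2 : K) = 0 := CharTwo.two_eq_zero
  have h4 : (4 : K) = 0 := by linear_combination 2 * h2
  have h6 : (6 : K) = 0 := by linear_combination 3 * h2
  have h8 : (8 : K) = 0 := by linear_combination 4 * h2
  have h10 : (10 : K) = 0 := by linear_combination 5 * h2
  have h12 : (12 : K) = 0 := by linear_combination 6 * h2
  have h14 : (14 : K) = 0 := by linear_combination 7 * h2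
  have h16 : (16 : K) = 0 := by linear_combination 8 * h2
  have h18 : (18 : K) = 0 := by linear_combination 9 * h2
  have h20 : (20 : K) = 0 := by linear_combination 10 * h2
  have h22 : (22 : K) = 0 := by linear_combination 11 * h2
  have h24 : (24 : K) = 0 := by linear_combination 12 * h2
  have h26 : (26 : K) = 0 := by linear_combination 13 * h2
  have h28 : (28 : K) = 0 := by linear_combination 14 * h2
  have h30 : (30 : K) = 0 := by linear_combination 15 * h2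
  have h32 : (32 : K) = 0 := by linear_combination 16 * h2
  obtain ⟨c, rfl⟩ : ∃ c, t55 = c * t38 := ⟨t55 / t38, by field_simp⟩
  have e : R.X53 c * R.RNF (0) (0) (0) (0) (0) (0) (t38) (t40) (0) (0) (t57) (0) (t44) (t48) (0) (t58) (0) (0) (t51) (t59) (t61) (0) (t53) (0) (t62) (t54) (0) (t64) (c * t38) (t65) (t67) (t66) (t68) (t69) (t70) (t71) * R.X53 c =
      R.RNF (0) (0) (0) (0) (0) (0) (t38) (t40) (0) (0) (t57) (0) (t44) (t48) (0) (t58) (0) (0) (t51) (t59) (t61) (0) (t53) (0) (t62) (t54) (0) (t64) (0) (t65) (c * t57 + t67) (t66) (t68) (c * t38 * t57 + t69) (c * t38 * t58 + t70) (c * t38 * t61 + t71) := by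
    rw [R.ucj53]
    congr 1 <;> (first | rfl | ring1 | (rw [← sub_eq_zero]; ring_nf; simp only [h2, h4, h6, h8, h10, h12, h14, h16, h18, h20, h22, h24, h26, h28, h30, h32, mul_zero, zero_mul, add_zero, zero_add, neg_zero, sub_zero, sub_self]))
  exact UP_cj D (D.xmem53 c) (R.inv53 c) e (ih _ _ _ _ _ _ _ _ _ _ _ _ _ _ _ _ _ _ _ _ hn38)

theorem e6s6_11 (D : UData R)
    (ih : ∀ (t38 t40 t57 t44 t48 t58 t51 t59 t61 t53 t62 t54 t64 t65 t67 t68 t69 t70 t71 : K), t38 ≠ 0 → UP D (R.RNF (0) (0) (0) (0) (0) (0) (t38) (t40) (0) (0) (t57) (0) (t44) (t48) (0) (t58) (0) (0) (t51) (t59) (t61) (0) (t53) (0) (t62) (t54) (0) (t64) (0) (t65) (t67) (0) (t68) (t69) (t70) (t71))) :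
    ∀ (t38 t40 t57 t44 t48 t58 t51 t59 t61 t53 t62 t54 t64 t65 t67 t66 t68 t69 t70 t71 : K), t38 ≠ 0 → UP D (R.RNF (0) (0) (0) (0) (0) (0) (t38) (t40) (0) (0) (t57) (0) (t44) (t48) (0) (t58) (0) (0) (t51) (t59) (t61) (0) (t53) (0) (t62) (t54) (0) (t64) (0) (t65) (t67) (t66) (t68) (t69) (t70) (t71)) := by
  intro t38 t40 t57 t44 t48 t58 t51 t59 t61 t53 t62 t54 t64 t65 t67 t66 t68 t69 t70 t71 hn38
  have h2 : (2 : K) = 0 := CharTwo.two_eq_zero
  have h4 : (4 : K) = 0 := by linear_combination 2 * h2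
  have h6 : (6 : K) = 0 := by linear_combination 3 * h2
  have h8 : (8 : K) = 0 := by linear_combination 4 * h2
  have h10 : (10 : K) = 0 := by linear_combination 5 * h2
  have h12 : (12 : K) = 0 := by linear_combination 6 * h2
  have h14 : (14 : K) = 0 := by linear_combination 7 * h2
  have h16 : (16 : K) = 0 := by linear_combination 8 * h2
  have h18 : (18 : K) = 0 := by linear_combination 9 * h2
  have h20 : (20 : K) = 0 := by linear_combination 10 * h2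
  have h22 : (22 : K) = 0 := by linear_combination 11 * h2
  have h24 : (24 : K) = 0 := by linear_combination 12 * h2
  have h26 : (26 : K) = 0 := by linear_combination 13 * h2
  have h28 : (28 : K) = 0 := by linear_combination 14 * h2
  have h30 : (30 : K) = 0 := by linear_combination 15 * h2
  have h32 : (32 : K) = 0 := by linear_combination 16 * h2
  obtain ⟨c, rfl⟩ : ∃ c, t66 = c * t38 := ⟨t66 / t38, by field_simp⟩
  have e : R.X64 c * R.RNF (0) (0) (0) (0) (0) (0) (t38) (t40) (0) (0) (t57) (0) (t44) (t48) (0) (t58) (0) (0) (t51) (t59) (t61) (0) (t53) (0) (t62) (t54) (0) (t64) (0) (t65) (t67) (c * t38) (t68) (t69) (t70) (t71) * R.X64 c =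
      R.RNF (0) (0) (0) (0) (0) (0) (t38) (t40) (0) (0) (t57) (0) (t44) (t48) (0) (t58) (0) (0) (t51) (t59) (t61) (0) (t53) (0) (t62) (t54) (0) (t64) (0) (t65) (t67) (0) (t68) (t69) (t70) (t71) := by
    rw [R.ucj64]
    congr 1 <;> (first | rfl | ring1 | (rw [← sub_eq_zero]; ring_nf; simp only [h2, h4, h6, h8, h10, h12, h14, h16, h18, h20, h22, h24, h26, h28, h30, h32, mul_zero, zero_mul, add_zero, zero_add, neg_zero, sub_zero, sub_self]))
  exact UP_cj D (D.xmem64 c) (R.inv64 c) e (ih _ _ _ _ _ _ _ _ _ _ _ _ _ _ _ _ _ _ _ hn38)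

theorem e6s6_12 (D : UData R)
    (ih : ∀ (t38 t40 t57 t44 t48 t58 t51 t59 t61 t53 t62 t54 t64 t65 t67 t68 t70 t71 : K), t38 ≠ 0 → UP D (R.RNF (0) (0) (0) (0) (0) (0) (t38) (t40) (0) (0) (t57) (0) (t44) (t48) (0) (t58) (0) (0) (t51) (t59) (t61) (0) (t53) (0) (t62) (t54) (0) (t64) (0) (t65) (t67) (0) (t68) (0) (t70) (t71))) :
    ∀ (t38 t40 t57 t44 t48 t58 t51 t59 t61 t53 t62 t54 t64 t65 t67 t68 t69 t70 t71 : K), t38 ≠ 0 → UP D (R.RNF (0) (0) (0) (0) (0) (0) (t38) (t40) (0) (0) (t57) (0) (t44) (t48) (0) (t58) (0) (0) (t51) (t59) (t61) (0) (t53) (0) (t62) (t54) (0) (t64) (0) (t65) (t67) (0) (t68) (t69) (t70) (t71)) := by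
  intro t38 t40 t57 t44 t48 t58 t51 t59 t61 t53 t62 t54 t64 t65 t67 t68 t69 t70 t71 hn38
  have h2 : (2 : K) = 0 := CharTwo.two_eq_zero
  have h4 : (4 : K) = 0 := by linear_combination 2 * h2
  have h6 : (6 : K) = 0 := by linear_combination 3 * h2
  have h8 : (8 : K) = 0 := by linear_combination 4 * h2
  have h10 : (10 : K) = 0 := by linear_combination 5 * h2
  have h12 : (12 : K) = 0 := by linear_combination 6 * h2
  have h14 : (14 : K) = 0 := by linear_combination 7 * h2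
  have h16 : (16 : K) = 0 := by linear_combination 8 * h2
  have h18 : (18 : K) = 0 := by linear_combination 9 * h2
  have h20 : (20 : K) = 0 := by linear_combination 10 * h2
  have h22 : (22 : K) = 0 := by linear_combination 11 * h2
  have h24 : (24 : K) = 0 := by linear_combination 12 * h2
  have h26 : (26 : K) = 0 := by linear_combination 13 * h2
  have h28 : (28 : K) = 0 := by linear_combination 14 * h2
  have h30 : (30 : K) = 0 := by linear_combination 15 * h2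
  have h32 : (32 : K) = 0 := by linear_combination 16 * h2
  obtain ⟨c, rfl⟩ : ∃ c, t69 = c * t38 := ⟨t69 / t38, by field_simp⟩
  have e : R.X67 c * R.RNF (0) (0) (0) (0) (0) (0) (t38) (t40) (0) (0) (t57) (0) (t44) (t48) (0) (t58) (0) (0) (t51) (t59) (t61) (0) (t53) (0) (t62) (t54) (0) (t64) (0) (t65) (t67) (0) (t68) (c * t38) (t70) (t71) * R.X67 c =
      R.RNF (0) (0) (0) (0) (0) (0) (t38) (t40) (0) (0) (t57) (0) (t44) (t48) (0) (t58) (0) (0) (t51) (t59) (t61) (0) (t53) (0) (t62) (t54) (0) (t64) (0) (t65) (t67) (0) (t68) (0) (t70) (t71) := by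
    rw [R.ucj67]
    congr 1 <;> (first | rfl | ring1 | (rw [← sub_eq_zero]; ring_nf; simp only [h2, h4, h6, h8, h10, h12, h14, h16, h18, h20, h22, h24, h26, h28, h30, h32, mul_zero, zero_mul, add_zero, zero_add, neg_zero, sub_zero, sub_self]))
  exact UP_cj D (D.xmem67 c) (R.inv67 c) e (ih _ _ _ _ _ _ _ _ _ _ _ _ _ _ _ _ _ _ hn38)

theorem e6s6_13 (D : UData R)
    (ih : ∀ (t38 t40 t57 t44 t48 t51 t59 t61 t53 t62 t54 t64 t65 t67 t68 t70 t71 : K), t38 ≠ 0 → UP D (R.RNF (0) (0) (0) (0) (0) (0) (t38) (t40) (0) (0) (t57) (0) (t44) (t48) (0) (0) (0) (0) (t51) (t59) (t61) (0) (t53) (0) (t62) (t54) (0) (t64) (0) (t65) (t67) (0) (t68) (0) (t70) (t71))) :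
    ∀ (t38 t40 t57 t44 t48 t58 t51 t59 t61 t53 t62 t54 t64 t65 t67 t68 t70 t71 : K), t38 ≠ 0 → UP D (R.RNF (0) (0) (0) (0) (0) (0) (t38) (t40) (0) (0) (t57) (0) (t44) (t48) (0) (t58) (0) (0) (t51) (t59) (t61) (0) (t53) (0) (t62) (t54) (0) (t64) (0) (t65) (t67) (0) (t68) (0) (t70) (t71)) := by
  intro t38 t40 t57 t44 t48 t58 t51 t59 t61 t53 t62 t54 t64 t65 t67 t68 t70 t71 hn38 hu hne
  have hsq := hu
  rw [R.usq] at hsq
  obtain ⟨e36, e37, e39, e42, e46, e56, e38, e40, e43, e47, e57, e41, e44, e48, e50, e58, e45, e49, e51, e59, e61, e52, e53, e60, e62, e54, e63, e64, e55, e65, e67, e66, e68, e69, e70, e71⟩ := D.inj _ _ _ _ _ _ _ _ _ _ _ _ _ _ _ _ _ _ _ _ _ _ _ _ _ _ _ _ _ _ _ _ _ _ _ _ hsq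
  have hz : t58 = 0 := by
    have h : t38 * t58 = 0 := by linear_combination e60
    exact (mul_eq_zero.mp h).resolve_left hn38
  subst hz
  exact ih _ _ _ _ _ _ _ _ _ _ _ _ _ _ _ _ _ hn38 hu hne

theorem e6s6_14 (D : UData R)
    (ih : ∀ (t38 t40 t57 t44 t48 t51 t59 t53 t62 t54 t64 t65 t67 t68 t70 t71 : K), t38 ≠ 0 → UP D (R.RNF (0) (0) (0) (0) (0) (0) (t38) (t40) (0) (0) (t57) (0) (t44) (t48) (0) (0) (0) (0) (t51) (t59) (0) (0) (t53) (0) (t62) (t54) (0) (t64) (0) (t65) (t67) (0) (t68) (0) (t70) (t71))) :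
    ∀ (t38 t40 t57 t44 t48 t51 t59 t61 t53 t62 t54 t64 t65 t67 t68 t70 t71 : K), t38 ≠ 0 → UP D (R.RNF (0) (0) (0) (0) (0) (0) (t38) (t40) (0) (0) (t57) (0) (t44) (t48) (0) (0) (0) (0) (t51) (t59) (t61) (0) (t53) (0) (t62) (t54) (0) (t64) (0) (t65) (t67) (0) (t68) (0) (t70) (t71)) := by
  intro t38 t40 t57 t44 t48 t51 t59 t61 t53 t62 t54 t64 t65 t67 t68 t70 t71 hn38 hu hne
  have hsq := hu
  rw [R.usq] at hsq
  obtain ⟨e36, e37, e39, e42, e46, e56, e38, e40, e43, e47, e57, e41, e44, e48, e50, e58, e45, e49, e51, e59, e61, e52, e53, e60, e62, e54, e63, e64, e55, e65, e67, e66, e68, e69, e70, e71⟩ := D.inj _ _ _ _ _ _ _ _ _ _ _ _ _ _ _ _ _ _ _ _ _ _ _ _ _ _ _ _ _ _ _ _ _ _ _ _ hsq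
  have hz : t61 = 0 := by
    have h : t38 * t61 = 0 := by linear_combination e63
    exact (mul_eq_zero.mp h).resolve_left hn38
  subst hz
  exact ih _ _ _ _ _ _ _ _ _ _ _ _ _ _ _ _ hn38 hu hne

theorem e6s6_15 (D : UData R)
    (ih : ∀ (t38 t40 t57 t44 t48 t51 t59 t62 t54 t64 t65 t67 t68 t70 t71 : K), t38 ≠ 0 → UP D (R.RNF (0) (0) (0) (0) (0) (0) (t38) (t40) (0) (0) (t57) (0) (t44) (t48) (0) (0) (0) (0) (t51) (t59) (0) (0) (0) (0) (t62) (t54) (0) (t64) (0) (t65) (t67) (0) (t68) (0) (t70) (t71))) :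
    ∀ (t38 t40 t57 t44 t48 t51 t59 t53 t62 t54 t64 t65 t67 t68 t70 t71 : K), t38 ≠ 0 → UP D (R.RNF (0) (0) (0) (0) (0) (0) (t38) (t40) (0) (0) (t57) (0) (t44) (t48) (0) (0) (0) (0) (t51) (t59) (0) (0) (t53) (0) (t62) (t54) (0) (t64) (0) (t65) (t67) (0) (t68) (0) (t70) (t71)) := by
  intro t38 t40 t57 t44 t48 t51 t59 t53 t62 t54 t64 t65 t67 t68 t70 t71 hn38 hu hne
  have hsq := hu
  rw [R.usq] at hsq
  obtain ⟨e36, e37, e39, e42, e46, e56, e38, e40, e43, e47, e57, e41, e44, e48, e50, e58, e45, e49, e51, e59, e61, e52, e53, e60, e62, e54, e63, e64, e55, e65, e67, e66, e68, e69, e70, e71⟩ := D.inj _ _ _ _ _ _ _ _ _ _ _ _ _ _ _ _ _ _ _ _ _ _ _ _ _ _ _ _ _ _ _ _ _ _ _ _ hsq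
  have hz : t53 = 0 := by
    have h : t38 * t53 = 0 := by linear_combination e55
    exact (mul_eq_zero.mp h).resolve_left hn38
  subst hz
  exact ih _ _ _ _ _ _ _ _ _ _ _ _ _ _ _ hn38 hu hne

theorem e6s6_16 (D : UData R)
    (ih : ∀ (t38 t40 t57 t44 t48 t51 t59 t62 t54 t65 t67 t68 t70 t71 : K), t38 ≠ 0 → UP D (R.RNF (0) (0) (0) (0) (0) (0) (t38) (t40) (0) (0) (t57) (0) (t44) (t48) (0) (0) (0) (0) (t51) (t59) (0) (0) (0) (0) (t62) (t54) (0) (0) (0) (t65) (t67) (0) (t68) (0) (t70) (t71))) :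
    ∀ (t38 t40 t57 t44 t48 t51 t59 t62 t54 t64 t65 t67 t68 t70 t71 : K), t38 ≠ 0 → UP D (R.RNF (0) (0) (0) (0) (0) (0) (t38) (t40) (0) (0) (t57) (0) (t44) (t48) (0) (0) (0) (0) (t51) (t59) (0) (0) (0) (0) (t62) (t54) (0) (t64) (0) (t65) (t67) (0) (t68) (0) (t70) (t71)) := by
  intro t38 t40 t57 t44 t48 t51 t59 t62 t54 t64 t65 t67 t68 t70 t71 hn38 hu hne
  have hsq := hu
  rw [R.usq] at hsq
  obtain ⟨e36, e37, e39, e42, e46, e56, e38, e40, e43, e47, e57, e41, e44, e48, e50, e58, e45, e49, e51, e59, e61, e52, e53, e60, e62, e54, e63, e64, e55, e65, e67, e66, e68, e69, e70, e71⟩ := D.inj _ _ _ _ _ _ _ _ _ _ _ _ _ _ _ _ _ _ _ _ _ _ _ _ _ _ _ _ _ _ _ _ _ _ _ _ hsq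
  have hz : t64 = 0 := by
    have h : t38 * t64 = 0 := by linear_combination e66
    exact (mul_eq_zero.mp h).resolve_left hn38
  subst hz
  exact ih _ _ _ _ _ _ _ _ _ _ _ _ _ _ hn38 hu hne

theorem e6s6_17 (D : UData R)
    (ih : ∀ (t38 t40 t57 t44 t48 t51 t59 t62 t54 t65 t68 t70 t71 : K), t38 ≠ 0 → UP D (R.RNF (0) (0) (0) (0) (0) (0) (t38) (t40) (0) (0) (t57) (0) (t44) (t48) (0) (0) (0) (0) (t51) (t59) (0) (0) (0) (0) (t62) (t54) (0) (0) (0) (t65) (0) (0) (t68) (0) (t70) (t71))) :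
    ∀ (t38 t40 t57 t44 t48 t51 t59 t62 t54 t65 t67 t68 t70 t71 : K), t38 ≠ 0 → UP D (R.RNF (0) (0) (0) (0) (0) (0) (t38) (t40) (0) (0) (t57) (0) (t44) (t48) (0) (0) (0) (0) (t51) (t59) (0) (0) (0) (0) (t62) (t54) (0) (0) (0) (t65) (t67) (0) (t68) (0) (t70) (t71)) := by
  intro t38 t40 t57 t44 t48 t51 t59 t62 t54 t65 t67 t68 t70 t71 hn38 hu hne
  have hsq := hu
  rw [R.usq] at hsq
  obtain ⟨e36, e37, e39, e42, e46, e56, e38, e40, e43, e47, e57, e41, e44, e48, e50, e58, e45, e49, e51, e59, e61, e52, e53, e60, e62, e54, e63, e64, e55, e65, e67, e66, e68, e69, e70, e71⟩ := D.inj _ _ _ _ _ _ _ _ _ _ _ _ _ _ _ _ _ _ _ _ _ _ _ _ _ _ _ _ _ _ _ _ _ _ _ _ hsq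
  have hz : t67 = 0 := by
    have h : t38 * t67 = 0 := by linear_combination e69
    exact (mul_eq_zero.mp h).resolve_left hn38
  subst hz
  exact ih _ _ _ _ _ _ _ _ _ _ _ _ _ hn38 hu hne

theorem e6s6_18 (D : UData R)
    (ihz : ∀ (t38 t57 t44 t48 t51 t59 t62 t54 t65 t68 t70 t71 : K), t38 ≠ 0 → UP D (R.RNF (0) (0) (0) (0) (0) (0) (t38) (0) (0) (0) (t57) (0) (t44) (t48) (0) (0) (0) (0) (t51) (t59) (0) (0) (0) (0) (t62) (t54) (0) (0) (0) (t65) (0) (0) (t68) (0) (t70) (t71)))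
    (ihn : ∀ (t38 t40 t57 t44 t48 t51 t59 t62 t54 t65 t68 t70 t71 : K), t38 ≠ 0 → t40 ≠ 0 → UP D (R.RNF (0) (0) (0) (0) (0) (0) (t38) (t40) (0) (0) (t57) (0) (t44) (t48) (0) (0) (0) (0) (t51) (t59) (0) (0) (0) (0) (t62) (t54) (0) (0) (0) (t65) (0) (0) (t68) (0) (t70) (t71))) :
    ∀ (t38 t40 t57 t44 t48 t51 t59 t62 t54 t65 t68 t70 t71 : K), t38 ≠ 0 → UP D (R.RNF (0) (0) (0) (0) (0) (0) (t38) (t40) (0) (0) (t57) (0) (t44) (t48) (0) (0) (0) (0) (t51) (t59) (0) (0) (0) (0) (t62) (t54) (0) (0) (0) (t65) (0) (0) (t68) (0) (t70) (t71)) := by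
  intro t38 t40 t57 t44 t48 t51 t59 t62 t54 t65 t68 t70 t71 hn38
  by_cases hn40 : t40 = 0
  · subst hn40; exact ihz _ _ _ _ _ _ _ _ _ _ _ _ hn38
  · exact ihn _ _ _ _ _ _ _ _ _ _ _ _ _ hn38 hn40

theorem e6s6_19 (D : UData R)
    (ih : ∀ (t38 t40 t57 t44 t51 t59 t62 t54 t65 t68 t70 t71 : K), t38 ≠ 0 → UP D (R.RNF (0) (0) (0) (0) (0) (0) (t38) (t40) (0) (0) (t57) (0) (t44) (0) (0) (0) (0) (0) (t51) (t59) (0) (0) (0) (0) (t62) (t54) (0) (0) (0) (t65) (0) (0) (t68) (0) (t70) (t71))) :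
    ∀ (t38 t57 t44 t48 t51 t59 t62 t54 t65 t68 t70 t71 : K), t38 ≠ 0 → UP D (R.RNF (0) (0) (0) (0) (0) (0) (t38) (0) (0) (0) (t57) (0) (t44) (t48) (0) (0) (0) (0) (t51) (t59) (0) (0) (0) (0) (t62) (t54) (0) (0) (0) (t65) (0) (0) (t68) (0) (t70) (t71)) := by
  intro t38 t57 t44 t48 t51 t59 t62 t54 t65 t68 t70 t71 hn38
  have h2 : (2 : K) = 0 := CharTwo.two_eq_zero
  have h4 : (4 : K) = 0 := by linear_combination 2 * h2
  have h6 : (6 : K) = 0 := by linear_combination 3 * h2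
  have h8 : (8 : K) = 0 := by linear_combination 4 * h2
  have h10 : (10 : K) = 0 := by linear_combination 5 * h2
  have h12 : (12 : K) = 0 := by linear_combination 6 * h2
  have h14 : (14 : K) = 0 := by linear_combination 7 * h2
  have h16 : (16 : K) = 0 := by linear_combination 8 * h2
  have h18 : (18 : K) = 0 := by linear_combination 9 * h2
  have h20 : (20 : K) = 0 := by linear_combination 10 * h2
  have h22 : (22 : K) = 0 := by linear_combination 11 * h2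
  have h24 : (24 : K) = 0 := by linear_combination 12 * h2
  have h26 : (26 : K) = 0 := by linear_combination 13 * h2
  have h28 : (28 : K) = 0 := by linear_combination 14 * h2
  have h30 : (30 : K) = 0 := by linear_combination 15 * h2
  have h32 : (32 : K) = 0 := by linear_combination 16 * h2
  have e : D.n2 * R.RNF (0) (0) (0) (0) (0) (0) (t38) (0) (0) (0) (t57) (0) (t44) (t48) (0) (0) (0) (0) (t51) (t59) (0) (0) (0) (0) (t62) (t54) (0) (0) (0) (t65) (0) (0) (t68) (0) (t70) (t71) * D.n2⁻¹ =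
      R.RNF (0) (0) (0) (0) (0) (0) (t38) (t48) (0) (0) (t57) (0) (t51) (0) (0) (0) (0) (0) (t44) (t48 * t57 + t62) (0) (0) (0) (0) (t59) (t54) (0) (0) (0) (t65) (0) (0) (t68) (0) (t71) (t70) := by
    rw [D.toWeylE6.conj_n2]
    congr 1 <;> (first | rfl | ring1 | (rw [← sub_eq_zero]; ring_nf; simp only [h2, h4, h6, h8, h10, h12, h14, h16, h18, h20, h22, h24, h26, h28, h30, h32, mul_zero, zero_mul, add_zero, zero_add, neg_zero, sub_zero, sub_self]))
  exact UP_n D D.n2_mem e (ih _ _ _ _ _ _ _ _ _ _ _ _ hn38)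

theorem e6s6_20 (D : UData R)
    (ihz : ∀ (t38 t57 t44 t51 t59 t62 t54 t65 t68 t70 t71 : K), t38 ≠ 0 → UP D (R.RNF (0) (0) (0) (0) (0) (0) (t38) (0) (0) (0) (t57) (0) (t44) (0) (0) (0) (0) (0) (t51) (t59) (0) (0) (0) (0) (t62) (t54) (0) (0) (0) (t65) (0) (0) (t68) (0) (t70) (t71)))
    (ihn : ∀ (t38 t40 t57 t44 t51 t59 t62 t54 t65 t68 t70 t71 : K), t38 ≠ 0 → t40 ≠ 0 → UP D (R.RNF (0) (0) (0) (0) (0) (0) (t38) (t40) (0) (0) (t57) (0) (t44) (0) (0) (0) (0) (0) (t51) (t59) (0) (0) (0) (0) (t62) (t54) (0) (0) (0) (t65) (0) (0) (t68) (0) (t70) (t71))) :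
    ∀ (t38 t40 t57 t44 t51 t59 t62 t54 t65 t68 t70 t71 : K), t38 ≠ 0 → UP D (R.RNF (0) (0) (0) (0) (0) (0) (t38) (t40) (0) (0) (t57) (0) (t44) (0) (0) (0) (0) (0) (t51) (t59) (0) (0) (0) (0) (t62) (t54) (0) (0) (0) (t65) (0) (0) (t68) (0) (t70) (t71)) := by
  intro t38 t40 t57 t44 t51 t59 t62 t54 t65 t68 t70 t71 hn38
  by_cases hn40 : t40 = 0
  · subst hn40; exact ihz _ _ _ _ _ _ _ _ _ _ _ hn38
  · exact ihn _ _ _ _ _ _ _ _ _ _ _ _ hn38 hn40

theorem e6s6_21 (D : UData R)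
    (ih : ∀ (t41 t44 t58 t59 t52 t53 t63 t64 t68 t69 t71 : K), t41 ≠ 0 → UP D (R.RNF (0) (0) (0) (0) (0) (0) (0) (0) (0) (0) (0) (t41) (t44) (0) (0) (t58) (0) (0) (0) (t59) (0) (t52) (t53) (0) (0) (0) (t63) (t64) (0) (0) (0) (0) (t68) (t69) (0) (t71))) :
    ∀ (t38 t57 t44 t51 t59 t62 t54 t65 t68 t70 t71 : K), t38 ≠ 0 → UP D (R.RNF (0) (0) (0) (0) (0) (0) (t38) (0) (0) (0) (t57) (0) (t44) (0) (0) (0) (0) (0) (t51) (t59) (0) (0) (0) (0) (t62) (t54) (0) (0) (0) (t65) (0) (0) (t68) (0) (t70) (t71)) := by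
  intro t38 t57 t44 t51 t59 t62 t54 t65 t68 t70 t71 hn38
  have h2 : (2 : K) = 0 := CharTwo.two_eq_zero
  have h4 : (4 : K) = 0 := by linear_combination 2 * h2
  have h6 : (6 : K) = 0 := by linear_combination 3 * h2
  have h8 : (8 : K) = 0 := by linear_combination 4 * h2
  have h10 : (10 : K) = 0 := by linear_combination 5 * h2
  have h12 : (12 : K) = 0 := by linear_combination 6 * h2
  have h14 : (14 : K) = 0 := by linear_combination 7 * h2
  have h16 : (16 : K) = 0 := by linear_combination 8 * h2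
  have h18 : (18 : K) = 0 := by linear_combination 9 * h2
  have h20 : (20 : K) = 0 := by linear_combination 10 * h2
  have h22 : (22 : K) = 0 := by linear_combination 11 * h2
  have h24 : (24 : K) = 0 := by linear_combination 12 * h2
  have h26 : (26 : K) = 0 := by linear_combination 13 * h2
  have h28 : (28 : K) = 0 := by linear_combination 14 * h2
  have h30 : (30 : K) = 0 := by linear_combination 15 * h2
  have h32 : (32 : K) = 0 := by linear_combination 16 * h2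
  have e : D.n4 * R.RNF (0) (0) (0) (0) (0) (0) (t38) (0) (0) (0) (t57) (0) (t44) (0) (0) (0) (0) (0) (t51) (t59) (0) (0) (0) (0) (t62) (t54) (0) (0) (0) (t65) (0) (0) (t68) (0) (t70) (t71) * D.n4⁻¹ =
      R.RNF (0) (0) (0) (0) (0) (0) (0) (0) (0) (0) (0) (t38) (t44) (0) (0) (t57) (0) (0) (0) (t59) (0) (t54) (t51) (0) (0) (0) (t65) (t62) (0) (0) (0) (0) (t68) (t70) (0) (t54 * t62 + t71) := by
    rw [D.toWeylE6.conj_n4]
    congr 1 <;> (first | rfl | ring1 | (rw [← sub_eq_zero]; ring_nf; simp only [h2, h4, h6, h8, h10, h12, h14, h16, h18, h20, h22, h24, h26, h28, h30, h32, mul_zero, zero_mul, add_zero, zero_add, neg_zero, sub_zero, sub_self]))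
  exact UP_n D D.n4_mem e (ih _ _ _ _ _ _ _ _ _ _ _ hn38)

theorem e6s6_22 (D : UData R)
    (ih : ∀ (t38 t40 t44 t51 t59 t62 t54 t65 t68 t70 t71 : K), t38 ≠ 0 → t40 ≠ 0 → UP D (R.RNF (0) (0) (0) (0) (0) (0) (t38) (t40) (0) (0) (0) (0) (t44) (0) (0) (0) (0) (0) (t51) (t59) (0) (0) (0) (0) (t62) (t54) (0) (0) (0) (t65) (0) (0) (t68) (0) (t70) (t71))) :
    ∀ (t38 t40 t57 t44 t51 t59 t62 t54 t65 t68 t70 t71 : K), t38 ≠ 0 → t40 ≠ 0 → UP D (R.RNF (0) (0) (0) (0) (0) (0) (t38) (t40) (0) (0) (t57) (0) (t44) (0) (0) (0) (0) (0) (t51) (t59) (0) (0) (0) (0) (t62) (t54) (0) (0) (0) (t65) (0) (0) (t68) (0) (t70) (t71)) := by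
  intro t38 t40 t57 t44 t51 t59 t62 t54 t65 t68 t70 t71 hn38 hn40 hu hne
  have hsq := hu
  rw [R.usq] at hsq
  obtain ⟨e36, e37, e39, e42, e46, e56, e38, e40, e43, e47, e57, e41, e44, e48, e50, e58, e45, e49, e51, e59, e61, e52, e53, e60, e62, e54, e63, e64, e55, e65, e67, e66, e68, e69, e70, e71⟩ := D.inj _ _ _ _ _ _ _ _ _ _ _ _ _ _ _ _ _ _ _ _ _ _ _ _ _ _ _ _ _ _ _ _ _ _ _ _ hsq
  have hz : t57 = 0 := by
    have h : t40 * t57 = 0 := by linear_combination e59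
    exact (mul_eq_zero.mp h).resolve_left hn40
  subst hz
  exact ih _ _ _ _ _ _ _ _ _ _ _ hn38 hn40 hu hne

theorem e6s6_23 (D : UData R)
    (ih : ∀ (t38 t40 t51 t59 t62 t54 t65 t68 t70 t71 : K), t38 ≠ 0 → t40 ≠ 0 → UP D (R.RNF (0) (0) (0) (0) (0) (0) (t38) (t40) (0) (0) (0) (0) (0) (0) (0) (0) (0) (0) (t51) (t59) (0) (0) (0) (0) (t62) (t54) (0) (0) (0) (t65) (0) (0) (t68) (0) (t70) (t71))) :
    ∀ (t38 t40 t44 t51 t59 t62 t54 t65 t68 t70 t71 : K), t38 ≠ 0 → t40 ≠ 0 → UP D (R.RNF (0) (0) (0) (0) (0) (0) (t38) (t40) (0) (0) (0) (0) (t44) (0) (0) (0) (0) (0) (t51) (t59) (0) (0) (0) (0) (t62) (t54) (0) (0) (0) (t65) (0) (0) (t68) (0) (t70) (t71)) := by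
  intro t38 t40 t44 t51 t59 t62 t54 t65 t68 t70 t71 hn38 hn40
  have h2 : (2 : K) = 0 := CharTwo.two_eq_zero
  have h4 : (4 : K) = 0 := by linear_combination 2 * h2
  have h6 : (6 : K) = 0 := by linear_combination 3 * h2
  have h8 : (8 : K) = 0 := by linear_combination 4 * h2
  have h10 : (10 : K) = 0 := by linear_combination 5 * h2
  have h12 : (12 : K) = 0 := by linear_combination 6 * h2
  have h14 : (14 : K) = 0 := by linear_combination 7 * h2
  have h16 : (16 : K) = 0 := by linear_combination 8 * h2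
  have h18 : (18 : K) = 0 := by linear_combination 9 * h2
  have h20 : (20 : K) = 0 := by linear_combination 10 * h2
  have h22 : (22 : K) = 0 := by linear_combination 11 * h2
  have h24 : (24 : K) = 0 := by linear_combination 12 * h2
  have h26 : (26 : K) = 0 := by linear_combination 13 * h2
  have h28 : (28 : K) = 0 := by linear_combination 14 * h2
  have h30 : (30 : K) = 0 := by linear_combination 15 * h2
  have h32 : (32 : K) = 0 := by linear_combination 16 * h2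
  obtain ⟨c, rfl⟩ : ∃ c, t44 = c * t40 := ⟨t44 / t40, by field_simp⟩
  have e : R.X42 c * R.RNF (0) (0) (0) (0) (0) (0) (t38) (t40) (0) (0) (0) (0) (c * t40) (0) (0) (0) (0) (0) (t51) (t59) (0) (0) (0) (0) (t62) (t54) (0) (0) (0) (t65) (0) (0) (t68) (0) (t70) (t71) * R.X42 c =
      R.RNF (0) (0) (0) (0) (0) (0) (t38) (t40) (0) (0) (0) (0) (0) (0) (0) (0) (0) (0) (t51) (t59) (0) (0) (0) (0) (t62) (t54) (0) (0) (0) (t65) (0) (0) (c * t65 + t68) (0) (t70) (t71) := by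
    rw [R.ucj42]
    congr 1 <;> (first | rfl | ring1 | (rw [← sub_eq_zero]; ring_nf; simp only [h2, h4, h6, h8, h10, h12, h14, h16, h18, h20, h22, h24, h26, h28, h30, h32, mul_zero, zero_mul, add_zero, zero_add, neg_zero, sub_zero, sub_self]))
  exact UP_cj D (D.xmem42 c) (R.inv42 c) e (ih _ _ _ _ _ _ _ _ _ _ hn38 hn40)

theorem e6s6_24 (D : UData R)
    (ih : ∀ (t38 t40 t51 t62 t54 t65 t68 t70 t71 : K), t38 ≠ 0 → t40 ≠ 0 → UP D (R.RNF (0) (0) (0) (0) (0) (0) (t38) (t40) (0) (0) (0) (0) (0) (0) (0) (0) (0) (0) (t51) (0) (0) (0) (0) (0) (t62) (t54) (0) (0) (0) (t65) (0) (0) (t68) (0) (t70) (t71))) :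
    ∀ (t38 t40 t51 t59 t62 t54 t65 t68 t70 t71 : K), t38 ≠ 0 → t40 ≠ 0 → UP D (R.RNF (0) (0) (0) (0) (0) (0) (t38) (t40) (0) (0) (0) (0) (0) (0) (0) (0) (0) (0) (t51) (t59) (0) (0) (0) (0) (t62) (t54) (0) (0) (0) (t65) (0) (0) (t68) (0) (t70) (t71)) := by
  intro t38 t40 t51 t59 t62 t54 t65 t68 t70 t71 hn38 hn40
  have h2 : (2 : K) = 0 := CharTwo.two_eq_zero
  have h4 : (4 : K) = 0 := by linear_combination 2 * h2
  have h6 : (6 : K) = 0 := by linear_combination 3 * h2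
  have h8 : (8 : K) = 0 := by linear_combination 4 * h2
  have h10 : (10 : K) = 0 := by linear_combination 5 * h2
  have h12 : (12 : K) = 0 := by linear_combination 6 * h2
  have h14 : (14 : K) = 0 := by linear_combination 7 * h2
  have h16 : (16 : K) = 0 := by linear_combination 8 * h2
  have h18 : (18 : K) = 0 := by linear_combination 9 * h2
  have h20 : (20 : K) = 0 := by linear_combination 10 * h2
  have h22 : (22 : K) = 0 := by linear_combination 11 * h2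
  have h24 : (24 : K) = 0 := by linear_combination 12 * h2
  have h26 : (26 : K) = 0 := by linear_combination 13 * h2
  have h28 : (28 : K) = 0 := by linear_combination 14 * h2
  have h30 : (30 : K) = 0 := by linear_combination 15 * h2
  have h32 : (32 : K) = 0 := by linear_combination 16 * h2
  obtain ⟨c, rfl⟩ : ∃ c, t59 = c * t40 := ⟨t59 / t40, by field_simp⟩
  have e : R.X57 c * R.RNF (0) (0) (0) (0) (0) (0) (t38) (t40) (0) (0) (0) (0) (0) (0) (0) (0) (0) (0) (t51) (c * t40) (0) (0) (0) (0) (t62) (t54) (0) (0) (0) (t65) (0) (0) (t68) (0) (t70) (t71) * R.X57 c =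
      R.RNF (0) (0) (0) (0) (0) (0) (t38) (t40) (0) (0) (0) (0) (0) (0) (0) (0) (0) (0) (t51) (0) (0) (0) (0) (0) (t62) (t54) (0) (0) (0) (t65) (0) (0) (c * t54 + t68) (0) (t70) (t71) := by
    rw [R.ucj57]
    congr 1 <;> (first | rfl | ring1 | (rw [← sub_eq_zero]; ring_nf; simp only [h2, h4, h6, h8, h10, h12, h14, h16, h18, h20, h22, h24, h26, h28, h30, h32, mul_zero, zero_mul, add_zero, zero_add, neg_zero, sub_zero, sub_self]))
  exact UP_cj D (D.xmem57 c) (R.inv57 c) e (ih _ _ _ _ _ _ _ _ _ hn38 hn40)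

theorem e6s6_25 (D : UData R)
    (ih : ∀ (t38 t40 t51 t62 t54 t65 t68 t71 : K), t38 ≠ 0 → t40 ≠ 0 → UP D (R.RNF (0) (0) (0) (0) (0) (0) (t38) (t40) (0) (0) (0) (0) (0) (0) (0) (0) (0) (0) (t51) (0) (0) (0) (0) (0) (t62) (t54) (0) (0) (0) (t65) (0) (0) (t68) (0) (0) (t71))) :
    ∀ (t38 t40 t51 t62 t54 t65 t68 t70 t71 : K), t38 ≠ 0 → t40 ≠ 0 → UP D (R.RNF (0) (0) (0) (0) (0) (0) (t38) (t40) (0) (0) (0) (0) (0) (0) (0) (0) (0) (0) (t51) (0) (0) (0) (0) (0) (t62) (t54) (0) (0) (0) (t65) (0) (0) (t68) (0) (t70) (t71)) := by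
  intro t38 t40 t51 t62 t54 t65 t68 t70 t71 hn38 hn40
  have h2 : (2 : K) = 0 := CharTwo.two_eq_zero
  have h4 : (4 : K) = 0 := by linear_combination 2 * h2
  have h6 : (6 : K) = 0 := by linear_combination 3 * h2
  have h8 : (8 : K) = 0 := by linear_combination 4 * h2
  have h10 : (10 : K) = 0 := by linear_combination 5 * h2
  have h12 : (12 : K) = 0 := by linear_combination 6 * h2
  have h14 : (14 : K) = 0 := by linear_combination 7 * h2
  have h16 : (16 : K) = 0 := by linear_combination 8 * h2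
  have h18 : (18 : K) = 0 := by linear_combination 9 * h2
  have h20 : (20 : K) = 0 := by linear_combination 10 * h2
  have h22 : (22 : K) = 0 := by linear_combination 11 * h2
  have h24 : (24 : K) = 0 := by linear_combination 12 * h2
  have h26 : (26 : K) = 0 := by linear_combination 13 * h2
  have h28 : (28 : K) = 0 := by linear_combination 14 * h2
  have h30 : (30 : K) = 0 := by linear_combination 15 * h2
  have h32 : (32 : K) = 0 := by linear_combination 16 * h2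
  obtain ⟨c, rfl⟩ : ∃ c, t70 = c * t40 := ⟨t70 / t40, by field_simp⟩
  have e : R.X68 c * R.RNF (0) (0) (0) (0) (0) (0) (t38) (t40) (0) (0) (0) (0) (0) (0) (0) (0) (0) (0) (t51) (0) (0) (0) (0) (0) (t62) (t54) (0) (0) (0) (t65) (0) (0) (t68) (0) (c * t40) (t71) * R.X68 c =
      R.RNF (0) (0) (0) (0) (0) (0) (t38) (t40) (0) (0) (0) (0) (0) (0) (0) (0) (0) (0) (t51) (0) (0) (0) (0) (0) (t62) (t54) (0) (0) (0) (t65) (0) (0) (t68) (0) (0) (t71) := by
    rw [R.ucj68]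
    congr 1 <;> (first | rfl | ring1 | (rw [← sub_eq_zero]; ring_nf; simp only [h2, h4, h6, h8, h10, h12, h14, h16, h18, h20, h22, h24, h26, h28, h30, h32, mul_zero, zero_mul, add_zero, zero_add, neg_zero, sub_zero, sub_self]))
  exact UP_cj D (D.xmem68 c) (R.inv68 c) e (ih _ _ _ _ _ _ _ _ hn38 hn40)

theorem e6s6_26 (D : UData R)
    (ih : ∀ (t38 t40 t51 t62 t54 t65 t71 : K), t38 ≠ 0 → t40 ≠ 0 → UP D (R.RNF (0) (0) (0) (0) (0) (0) (t38) (t40) (0) (0) (0) (0) (0) (0) (0) (0) (0) (0) (t51) (0) (0) (0) (0) (0) (t62) (t54) (0) (0) (0) (t65) (0) (0) (0) (0) (0) (t71))) :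
    ∀ (t38 t40 t51 t62 t54 t65 t68 t71 : K), t38 ≠ 0 → t40 ≠ 0 → UP D (R.RNF (0) (0) (0) (0) (0) (0) (t38) (t40) (0) (0) (0) (0) (0) (0) (0) (0) (0) (0) (t51) (0) (0) (0) (0) (0) (t62) (t54) (0) (0) (0) (t65) (0) (0) (t68) (0) (0) (t71)) := by
  intro t38 t40 t51 t62 t54 t65 t68 t71 hn38 hn40 hu hne
  have hsq := hu
  rw [R.usq] at hsq
  obtain ⟨e36, e37, e39, e42, e46, e56, e38, e40, e43, e47, e57, e41, e44, e48, e50, e58, e45, e49, e51, e59, e61, e52, e53, e60, e62, e54, e63, e64, e55, e65, e67, e66, e68, e69, e70, e71⟩ := D.inj _ _ _ _ _ _ _ _ _ _ _ _ _ _ _ _ _ _ _ _ _ _ _ _ _ _ _ _ _ _ _ _ _ _ _ _ hsq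
  have hz : t68 = 0 := by
    have h : t40 * t68 = 0 := by linear_combination e70
    exact (mul_eq_zero.mp h).resolve_left hn40
  subst hz
  exact ih _ _ _ _ _ _ _ hn38 hn40 hu hne

theorem e6s6_27 (D : UData R)
    (ih : ∀ (t38 t44 t48 t59 t54 t65 t70 : K), t38 ≠ 0 → t48 ≠ 0 → UP D (R.RNF (0) (0) (0) (0) (0) (0) (t38) (0) (0) (0) (0) (0) (t44) (t48) (0) (0) (0) (0) (0) (t59) (0) (0) (0) (0) (0) (t54) (0) (0) (0) (t65) (0) (0) (0) (0) (t70) (0))) :
    ∀ (t38 t40 t51 t62 t54 t65 t71 : K), t38 ≠ 0 → t40 ≠ 0 → UP D (R.RNF (0) (0) (0) (0) (0) (0) (t38) (t40) (0) (0) (0) (0) (0) (0) (0) (0) (0) (0) (t51) (0) (0) (0) (0) (0) (t62) (t54) (0) (0) (0) (t65) (0) (0) (0) (0) (0) (t71)) := by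
  intro t38 t40 t51 t62 t54 t65 t71 hn38 hn40
  have h2 : (2 : K) = 0 := CharTwo.two_eq_zero
  have h4 : (4 : K) = 0 := by linear_combination 2 * h2
  have h6 : (6 : K) = 0 := by linear_combination 3 * h2
  have h8 : (8 : K) = 0 := by linear_combination 4 * h2
  have h10 : (10 : K) = 0 := by linear_combination 5 * h2
  have h12 : (12 : K) = 0 := by linear_combination 6 * h2
  have h14 : (14 : K) = 0 := by linear_combination 7 * h2
  have h16 : (16 : K) = 0 := by linear_combination 8 * h2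
  have h18 : (18 : K) = 0 := by linear_combination 9 * h2
  have h20 : (20 : K) = 0 := by linear_combination 10 * h2
  have h22 : (22 : K) = 0 := by linear_combination 11 * h2
  have h24 : (24 : K) = 0 := by linear_combination 12 * h2
  have h26 : (26 : K) = 0 := by linear_combination 13 * h2
  have h28 : (28 : K) = 0 := by linear_combination 14 * h2
  have h30 : (30 : K) = 0 := by linear_combination 15 * h2
  have h32 : (32 : K) = 0 := by linear_combination 16 * h2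
  have e : D.n2 * R.RNF (0) (0) (0) (0) (0) (0) (t38) (t40) (0) (0) (0) (0) (0) (0) (0) (0) (0) (0) (t51) (0) (0) (0) (0) (0) (t62) (t54) (0) (0) (0) (t65) (0) (0) (0) (0) (0) (t71) * D.n2⁻¹ =
      R.RNF (0) (0) (0) (0) (0) (0) (t38) (0) (0) (0) (0) (0) (t51) (t40) (0) (0) (0) (0) (0) (t62) (0) (0) (0) (0) (0) (t54) (0) (0) (0) (t65) (0) (0) (0) (0) (t71) (0) := by
    rw [D.toWeylE6.conj_n2]
    congr 1 <;> (first | rfl | ring1 | (rw [← sub_eq_zero]; ring_nf; simp only [h2, h4, h6, h8, h10, h12, h14, h16, h18, h20, h22, h24, h26, h28, h30, h32, mul_zero, zero_mul, add_zero, zero_add, neg_zero, sub_zero, sub_self]))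
  exact UP_n D D.n2_mem e (ih _ _ _ _ _ _ _ hn38 hn40)

theorem e6s6_28 (D : UData R)
    (ih : ∀ (t41 t44 t48 t59 t52 t63 t69 : K), t41 ≠ 0 → t48 ≠ 0 → UP D (R.RNF (0) (0) (0) (0) (0) (0) (0) (0) (0) (0) (0) (t41) (t44) (t48) (0) (0) (0) (0) (0) (t59) (0) (t52) (0) (0) (0) (0) (t63) (0) (0) (0) (0) (0) (0) (t69) (0) (0))) :
    ∀ (t38 t44 t48 t59 t54 t65 t70 : K), t38 ≠ 0 → t48 ≠ 0 → UP D (R.RNF (0) (0) (0) (0) (0) (0) (t38) (0) (0) (0) (0) (0) (t44) (t48) (0) (0) (0) (0) (0) (t59) (0) (0) (0) (0) (0) (t54) (0) (0) (0) (t65) (0) (0) (0) (0) (t70) (0)) := by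
  intro t38 t44 t48 t59 t54 t65 t70 hn38 hn48
  have h2 : (2 : K) = 0 := CharTwo.two_eq_zero
  have h4 : (4 : K) = 0 := by linear_combination 2 * h2
  have h6 : (6 : K) = 0 := by linear_combination 3 * h2
  have h8 : (8 : K) = 0 := by linear_combination 4 * h2
  have h10 : (10 : K) = 0 := by linear_combination 5 * h2
  have h12 : (12 : K) = 0 := by linear_combination 6 * h2
  have h14 : (14 : K) = 0 := by linear_combination 7 * h2
  have h16 : (16 : K) = 0 := by linear_combination 8 * h2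
  have h18 : (18 : K) = 0 := by linear_combination 9 * h2
  have h20 : (20 : K) = 0 := by linear_combination 10 * h2
  have h22 : (22 : K) = 0 := by linear_combination 11 * h2
  have h24 : (24 : K) = 0 := by linear_combination 12 * h2
  have h26 : (26 : K) = 0 := by linear_combination 13 * h2
  have h28 : (28 : K) = 0 := by linear_combination 14 * h2
  have h30 : (30 : K) = 0 := by linear_combination 15 * h2
  have h32 : (32 : K) = 0 := by linear_combination 16 * h2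
  have e : D.n4 * R.RNF (0) (0) (0) (0) (0) (0) (t38) (0) (0) (0) (0) (0) (t44) (t48) (0) (0) (0) (0) (0) (t59) (0) (0) (0) (0) (0) (t54) (0) (0) (0) (t65) (0) (0) (0) (0) (t70) (0) * D.n4⁻¹ =
      R.RNF (0) (0) (0) (0) (0) (0) (0) (0) (0) (0) (0) (t38) (t44) (t48) (0) (0) (0) (0) (0) (t59) (0) (t54) (0) (0) (0) (0) (t65) (0) (0) (0) (0) (0) (0) (t70) (0) (0) := by
    rw [D.toWeylE6.conj_n4]
    congr 1 <;> (first | rfl | ring1 | (rw [← sub_eq_zero]; ring_nf; simp only [h2, h4, h6, h8, h10, h12, h14, h16, h18, h20, h22, h24, h26, h28, h30, h32, mul_zero, zero_mul, add_zero, zero_add, neg_zero, sub_zero, sub_self]))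
  exact UP_n D D.n4_mem e (ih _ _ _ _ _ _ _ hn38 hn48)

theorem e6s6_29 (D : UData R)
    (ih : ∀ (t38 t40 t44 t48 t51 t59 t62 t54 t65 t68 t70 t71 : K), t38 ≠ 0 → t40 ≠ 0 → UP D (R.RNF (0) (0) (0) (0) (0) (0) (t38) (t40) (0) (0) (0) (0) (t44) (t48) (0) (0) (0) (0) (t51) (t59) (0) (0) (0) (0) (t62) (t54) (0) (0) (0) (t65) (0) (0) (t68) (0) (t70) (t71))) :
    ∀ (t38 t40 t57 t44 t48 t51 t59 t62 t54 t65 t68 t70 t71 : K), t38 ≠ 0 → t40 ≠ 0 → UP D (R.RNF (0) (0) (0) (0) (0) (0) (t38) (t40) (0) (0) (t57) (0) (t44) (t48) (0) (0) (0) (0) (t51) (t59) (0) (0) (0) (0) (t62) (t54) (0) (0) (0) (t65) (0) (0) (t68) (0) (t70) (t71)) := by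
  intro t38 t40 t57 t44 t48 t51 t59 t62 t54 t65 t68 t70 t71 hn38 hn40 hu hne
  have hsq := hu
  rw [R.usq] at hsq
  obtain ⟨e36, e37, e39, e42, e46, e56, e38, e40, e43, e47, e57, e41, e44, e48, e50, e58, e45, e49, e51, e59, e61, e52, e53, e60, e62, e54, e63, e64, e55, e65, e67, e66, e68, e69, e70, e71⟩ := D.inj _ _ _ _ _ _ _ _ _ _ _ _ _ _ _ _ _ _ _ _ _ _ _ _ _ _ _ _ _ _ _ _ _ _ _ _ hsq
  have hz : t57 = 0 := by
    have h : t40 * t57 = 0 := by linear_combination e59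
    exact (mul_eq_zero.mp h).resolve_left hn40
  subst hz
  exact ih _ _ _ _ _ _ _ _ _ _ _ _ hn38 hn40 hu hne

theorem e6s6_30 (D : UData R)
    (ih : ∀ (t38 t40 t48 t51 t59 t62 t54 t65 t68 t70 t71 : K), t38 ≠ 0 → t40 ≠ 0 → UP D (R.RNF (0) (0) (0) (0) (0) (0) (t38) (t40) (0) (0) (0) (0) (0) (t48) (0) (0) (0) (0) (t51) (t59) (0) (0) (0) (0) (t62) (t54) (0) (0) (0) (t65) (0) (0) (t68) (0) (t70) (t71))) :
    ∀ (t38 t40 t44 t48 t51 t59 t62 t54 t65 t68 t70 t71 : K), t38 ≠ 0 → t40 ≠ 0 → UP D (R.RNF (0) (0) (0) (0) (0) (0) (t38) (t40) (0) (0) (0) (0) (t44) (t48) (0) (0) (0) (0) (t51) (t59) (0) (0) (0) (0) (t62) (t54) (0) (0) (0) (t65) (0) (0) (t68) (0) (t70) (t71)) := by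
  intro t38 t40 t44 t48 t51 t59 t62 t54 t65 t68 t70 t71 hn38 hn40
  have h2 : (2 : K) = 0 := CharTwo.two_eq_zero
  have h4 : (4 : K) = 0 := by linear_combination 2 * h2
  have h6 : (6 : K) = 0 := by linear_combination 3 * h2
  have h8 : (8 : K) = 0 := by linear_combination 4 * h2
  have h10 : (10 : K) = 0 := by linear_combination 5 * h2
  have h12 : (12 : K) = 0 := by linear_combination 6 * h2
  have h14 : (14 : K) = 0 := by linear_combination 7 * h2
  have h16 : (16 : K) = 0 := by linear_combination 8 * h2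
  have h18 : (18 : K) = 0 := by linear_combination 9 * h2
  have h20 : (20 : K) = 0 := by linear_combination 10 * h2
  have h22 : (22 : K) = 0 := by linear_combination 11 * h2
  have h24 : (24 : K) = 0 := by linear_combination 12 * h2
  have h26 : (26 : K) = 0 := by linear_combination 13 * h2
  have h28 : (28 : K) = 0 := by linear_combination 14 * h2
  have h30 : (30 : K) = 0 := by linear_combination 15 * h2
  have h32 : (32 : K) = 0 := by linear_combination 16 * h2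
  obtain ⟨c, rfl⟩ : ∃ c, t44 = c * t40 := ⟨t44 / t40, by field_simp⟩
  have e : R.X42 c * R.RNF (0) (0) (0) (0) (0) (0) (t38) (t40) (0) (0) (0) (0) (c * t40) (t48) (0) (0) (0) (0) (t51) (t59) (0) (0) (0) (0) (t62) (t54) (0) (0) (0) (t65) (0) (0) (t68) (0) (t70) (t71) * R.X42 c =
      R.RNF (0) (0) (0) (0) (0) (0) (t38) (t40) (0) (0) (0) (0) (0) (t48) (0) (0) (0) (0) (c * t48 + t51) (t59) (0) (0) (0) (0) (t62) (t54) (0) (0) (0) (t65) (0) (0) (c * t65 + t68) (0) (t70) (t71) := by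
    rw [R.ucj42]
    congr 1 <;> (first | rfl | ring1 | (rw [← sub_eq_zero]; ring_nf; simp only [h2, h4, h6, h8, h10, h12, h14, h16, h18, h20, h22, h24, h26, h28, h30, h32, mul_zero, zero_mul, add_zero, zero_add, neg_zero, sub_zero, sub_self]))
  exact UP_cj D (D.xmem42 c) (R.inv42 c) e (ih _ _ _ _ _ _ _ _ _ _ _ hn38 hn40)

theorem e6s6_31 (D : UData R)
    (ih : ∀ (t38 t40 t51 t59 t62 t54 t65 t68 t70 t71 : K), t38 ≠ 0 → t40 ≠ 0 → UP D (R.RNF (0) (0) (0) (0) (0) (0) (t38) (t40) (0) (0) (0) (0) (0) (0) (0) (0) (0) (0) (t51) (t59) (0) (0) (0) (0) (t62) (t54) (0) (0) (0) (t65) (0) (0) (t68) (0) (t70) (t71))) :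
    ∀ (t38 t40 t48 t51 t59 t62 t54 t65 t68 t70 t71 : K), t38 ≠ 0 → t40 ≠ 0 → UP D (R.RNF (0) (0) (0) (0) (0) (0) (t38) (t40) (0) (0) (0) (0) (0) (t48) (0) (0) (0) (0) (t51) (t59) (0) (0) (0) (0) (t62) (t54) (0) (0) (0) (t65) (0) (0) (t68) (0) (t70) (t71)) := by
  intro t38 t40 t48 t51 t59 t62 t54 t65 t68 t70 t71 hn38 hn40
  have h2 : (2 : K) = 0 := CharTwo.two_eq_zero
  have h4 : (4 : K) = 0 := by linear_combination 2 * h2
  have h6 : (6 : K) = 0 := by linear_combination 3 * h2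
  have h8 : (8 : K) = 0 := by linear_combination 4 * h2
  have h10 : (10 : K) = 0 := by linear_combination 5 * h2
  have h12 : (12 : K) = 0 := by linear_combination 6 * h2
  have h14 : (14 : K) = 0 := by linear_combination 7 * h2
  have h16 : (16 : K) = 0 := by linear_combination 8 * h2
  have h18 : (18 : K) = 0 := by linear_combination 9 * h2
  have h20 : (20 : K) = 0 := by linear_combination 10 * h2
  have h22 : (22 : K) = 0 := by linear_combination 11 * h2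
  have h24 : (24 : K) = 0 := by linear_combination 12 * h2
  have h26 : (26 : K) = 0 := by linear_combination 13 * h2
  have h28 : (28 : K) = 0 := by linear_combination 14 * h2
  have h30 : (30 : K) = 0 := by linear_combination 15 * h2
  have h32 : (32 : K) = 0 := by linear_combination 16 * h2
  obtain ⟨c, rfl⟩ : ∃ c, t48 = c * t40 := ⟨t48 / t40, by field_simp⟩
  have e : R.X46 c * R.RNF (0) (0) (0) (0) (0) (0) (t38) (t40) (0) (0) (0) (0) (0) (c * t40) (0) (0) (0) (0) (t51) (t59) (0) (0) (0) (0) (t62) (t54) (0) (0) (0) (t65) (0) (0) (t68) (0) (t70) (t71) * R.X46 c =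
      R.RNF (0) (0) (0) (0) (0) (0) (t38) (t40) (0) (0) (0) (0) (0) (0) (0) (0) (0) (0) (t51) (t59) (0) (0) (0) (0) (c * t59 + t62) (t54) (0) (0) (0) (t65) (0) (0) (t68) (0) (t70) (c * t70 + t71) := by
    rw [R.ucj46]
    congr 1 <;> (first | rfl | ring1 | (rw [← sub_eq_zero]; ring_nf; simp only [h2, h4, h6, h8, h10, h12, h14, h16, h18, h20, h22, h24, h26, h28, h30, h32, mul_zero, zero_mul, add_zero, zero_add, neg_zero, sub_zero, sub_self]))
  exact UP_cj D (D.xmem46 c) (R.inv46 c) e (ih _ _ _ _ _ _ _ _ _ _ hn38 hn40)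

theorem e6s6_32 (D : UData R)
    (ih : ∀ (t38 t40 t51 t62 t54 t65 t68 t70 t71 : K), t38 ≠ 0 → t40 ≠ 0 → UP D (R.RNF (0) (0) (0) (0) (0) (0) (t38) (t40) (0) (0) (0) (0) (0) (0) (0) (0) (0) (0) (t51) (0) (0) (0) (0) (0) (t62) (t54) (0) (0) (0) (t65) (0) (0) (t68) (0) (t70) (t71))) :
    ∀ (t38 t40 t51 t59 t62 t54 t65 t68 t70 t71 : K), t38 ≠ 0 → t40 ≠ 0 → UP D (R.RNF (0) (0) (0) (0) (0) (0) (t38) (t40) (0) (0) (0) (0) (0) (0) (0) (0) (0) (0) (t51) (t59) (0) (0) (0) (0) (t62) (t54) (0) (0) (0) (t65) (0) (0) (t68) (0) (t70) (t71)) := by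
  intro t38 t40 t51 t59 t62 t54 t65 t68 t70 t71 hn38 hn40
  have h2 : (2 : K) = 0 := CharTwo.two_eq_zero
  have h4 : (4 : K) = 0 := by linear_combination 2 * h2
  have h6 : (6 : K) = 0 := by linear_combination 3 * h2
  have h8 : (8 : K) = 0 := by linear_combination 4 * h2
  have h10 : (10 : K) = 0 := by linear_combination 5 * h2
  have h12 : (12 : K) = 0 := by linear_combination 6 * h2
  have h14 : (14 : K) = 0 := by linear_combination 7 * h2
  have h16 : (16 : K) = 0 := by linear_combination 8 * h2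
  have h18 : (18 : K) = 0 := by linear_combination 9 * h2
  have h20 : (20 : K) = 0 := by linear_combination 10 * h2
  have h22 : (22 : K) = 0 := by linear_combination 11 * h2
  have h24 : (24 : K) = 0 := by linear_combination 12 * h2
  have h26 : (26 : K) = 0 := by linear_combination 13 * h2
  have h28 : (28 : K) = 0 := by linear_combination 14 * h2
  have h30 : (30 : K) = 0 := by linear_combination 15 * h2
  have h32 : (32 : K) = 0 := by linear_combination 16 * h2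
  obtain ⟨c, rfl⟩ : ∃ c, t59 = c * t40 := ⟨t59 / t40, by field_simp⟩
  have e : R.X57 c * R.RNF (0) (0) (0) (0) (0) (0) (t38) (t40) (0) (0) (0) (0) (0) (0) (0) (0) (0) (0) (t51) (c * t40) (0) (0) (0) (0) (t62) (t54) (0) (0) (0) (t65) (0) (0) (t68) (0) (t70) (t71) * R.X57 c =
      R.RNF (0) (0) (0) (0) (0) (0) (t38) (t40) (0) (0) (0) (0) (0) (0) (0) (0) (0) (0) (t51) (0) (0) (0) (0) (0) (t62) (t54) (0) (0) (0) (t65) (0) (0) (c * t54 + t68) (0) (t70) (t71) := by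
    rw [R.ucj57]
    congr 1 <;> (first | rfl | ring1 | (rw [← sub_eq_zero]; ring_nf; simp only [h2, h4, h6, h8, h10, h12, h14, h16, h18, h20, h22, h24, h26, h28, h30, h32, mul_zero, zero_mul, add_zero, zero_add, neg_zero, sub_zero, sub_self]))
  exact UP_cj D (D.xmem57 c) (R.inv57 c) e (ih _ _ _ _ _ _ _ _ _ hn38 hn40)

theorem e6s6_33 (D : UData R)
    (ih : ∀ (t38 t40 t51 t62 t54 t65 t68 t71 : K), t38 ≠ 0 → t40 ≠ 0 → UP D (R.RNF (0) (0) (0) (0) (0) (0) (t38) (t40) (0) (0) (0) (0) (0) (0) (0) (0) (0) (0) (t51) (0) (0) (0) (0) (0) (t62) (t54) (0) (0) (0) (t65) (0) (0) (t68) (0) (0) (t71))) :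
    ∀ (t38 t40 t51 t62 t54 t65 t68 t70 t71 : K), t38 ≠ 0 → t40 ≠ 0 → UP D (R.RNF (0) (0) (0) (0) (0) (0) (t38) (t40) (0) (0) (0) (0) (0) (0) (0) (0) (0) (0) (t51) (0) (0) (0) (0) (0) (t62) (t54) (0) (0) (0) (t65) (0) (0) (t68) (0) (t70) (t71)) := by
  intro t38 t40 t51 t62 t54 t65 t68 t70 t71 hn38 hn40
  have h2 : (2 : K) = 0 := CharTwo.two_eq_zero
  have h4 : (4 : K) = 0 := by linear_combination 2 * h2
  have h6 : (6 : K) = 0 := by linear_combination 3 * h2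
  have h8 : (8 : K) = 0 := by linear_combination 4 * h2
  have h10 : (10 : K) = 0 := by linear_combination 5 * h2
  have h12 : (12 : K) = 0 := by linear_combination 6 * h2
  have h14 : (14 : K) = 0 := by linear_combination 7 * h2
  have h16 : (16 : K) = 0 := by linear_combination 8 * h2
  have h18 : (18 : K) = 0 := by linear_combination 9 * h2
  have h20 : (20 : K) = 0 := by linear_combination 10 * h2
  have h22 : (22 : K) = 0 := by linear_combination 11 * h2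
  have h24 : (24 : K) = 0 := by linear_combination 12 * h2
  have h26 : (26 : K) = 0 := by linear_combination 13 * h2
  have h28 : (28 : K) = 0 := by linear_combination 14 * h2
  have h30 : (30 : K) = 0 := by linear_combination 15 * h2
  have h32 : (32 : K) = 0 := by linear_combination 16 * h2
  obtain ⟨c, rfl⟩ : ∃ c, t70 = c * t40 := ⟨t70 / t40, by field_simp⟩
  have e : R.X68 c * R.RNF (0) (0) (0) (0) (0) (0) (t38) (t40) (0) (0) (0) (0) (0) (0) (0) (0) (0) (0) (t51) (0) (0) (0) (0) (0) (t62) (t54) (0) (0) (0) (t65) (0) (0) (t68) (0) (c * t40) (t71) * R.X68 c =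
      R.RNF (0) (0) (0) (0) (0) (0) (t38) (t40) (0) (0) (0) (0) (0) (0) (0) (0) (0) (0) (t51) (0) (0) (0) (0) (0) (t62) (t54) (0) (0) (0) (t65) (0) (0) (t68) (0) (0) (t71) := by
    rw [R.ucj68]
    congr 1 <;> (first | rfl | ring1 | (rw [← sub_eq_zero]; ring_nf; simp only [h2, h4, h6, h8, h10, h12, h14, h16, h18, h20, h22, h24, h26, h28, h30, h32, mul_zero, zero_mul, add_zero, zero_add, neg_zero, sub_zero, sub_self]))
  exact UP_cj D (D.xmem68 c) (R.inv68 c) e (ih _ _ _ _ _ _ _ _ hn38 hn40)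

theorem e6s6_34 (D : UData R)
    (ih : ∀ (t38 t40 t51 t62 t54 t65 t71 : K), t38 ≠ 0 → t40 ≠ 0 → UP D (R.RNF (0) (0) (0) (0) (0) (0) (t38) (t40) (0) (0) (0) (0) (0) (0) (0) (0) (0) (0) (t51) (0) (0) (0) (0) (0) (t62) (t54) (0) (0) (0) (t65) (0) (0) (0) (0) (0) (t71))) :
    ∀ (t38 t40 t51 t62 t54 t65 t68 t71 : K), t38 ≠ 0 → t40 ≠ 0 → UP D (R.RNF (0) (0) (0) (0) (0) (0) (t38) (t40) (0) (0) (0) (0) (0) (0) (0) (0) (0) (0) (t51) (0) (0) (0) (0) (0) (t62) (t54) (0) (0) (0) (t65) (0) (0) (t68) (0) (0) (t71)) := by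
  intro t38 t40 t51 t62 t54 t65 t68 t71 hn38 hn40 hu hne
  have hsq := hu
  rw [R.usq] at hsq
  obtain ⟨e36, e37, e39, e42, e46, e56, e38, e40, e43, e47, e57, e41, e44, e48, e50, e58, e45, e49, e51, e59, e61, e52, e53, e60, e62, e54, e63, e64, e55, e65, e67, e66, e68, e69, e70, e71⟩ := D.inj _ _ _ _ _ _ _ _ _ _ _ _ _ _ _ _ _ _ _ _ _ _ _ _ _ _ _ _ _ _ _ _ _ _ _ _ hsq
  have hz : t68 = 0 := by
    have h : t40 * t68 = 0 := by linear_combination e70
    exact (mul_eq_zero.mp h).resolve_left hn40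
  subst hz
  exact ih _ _ _ _ _ _ _ hn38 hn40 hu hne

theorem e6s6_35 (D : UData R)
    (ih : ∀ (t38 t40 t51 t62 t54 t65 t71 : K), t38 ≠ 0 → t40 ≠ 0 → UP D (R.RNF (0) (0) (0) (0) (0) (0) (t38) (t40) (0) (0) (0) (0) (0) (0) (0) (0) (0) (0) (t51) (0) (0) (0) (0) (0) (t62) (t54) (0) (0) (0) (t65) (0) (0) (0) (0) (0) (t71))) :
    ∀ (t38 t40 t51 t62 t54 t65 t71 : K), t38 ≠ 0 → t40 ≠ 0 → UP D (R.RNF (0) (0) (0) (0) (0) (0) (t38) (t40) (0) (0) (0) (0) (0) (0) (0) (0) (0) (0) (t51) (0) (0) (0) (0) (0) (t62) (t54) (0) (0) (0) (t65) (0) (0) (0) (0) (0) (t71)) := by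
  intro t38 t40 t51 t62 t54 t65 t71 hn38 hn40
  have h2 : (2 : K) = 0 := CharTwo.two_eq_zero
  have h4 : (4 : K) = 0 := by linear_combination 2 * h2
  have h6 : (6 : K) = 0 := by linear_combination 3 * h2
  have h8 : (8 : K) = 0 := by linear_combination 4 * h2
  have h10 : (10 : K) = 0 := by linear_combination 5 * h2
  have h12 : (12 : K) = 0 := by linear_combination 6 * h2
  have h14 : (14 : K) = 0 := by linear_combination 7 * h2
  have h16 : (16 : K) = 0 := by linear_combination 8 * h2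
  have h18 : (18 : K) = 0 := by linear_combination 9 * h2
  have h20 : (20 : K) = 0 := by linear_combination 10 * h2
  have h22 : (22 : K) = 0 := by linear_combination 11 * h2
  have h24 : (24 : K) = 0 := by linear_combination 12 * h2
  have h26 : (26 : K) = 0 := by linear_combination 13 * h2
  have h28 : (28 : K) = 0 := by linear_combination 14 * h2
  have h30 : (30 : K) = 0 := by linear_combination 15 * h2
  have h32 : (32 : K) = 0 := by linear_combination 16 * h2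
  have e : D.n1 * R.RNF (0) (0) (0) (0) (0) (0) (t38) (t40) (0) (0) (0) (0) (0) (0) (0) (0) (0) (0) (t51) (0) (0) (0) (0) (0) (t62) (t54) (0) (0) (0) (t65) (0) (0) (0) (0) (0) (t71) * D.n1⁻¹ =
      R.RNF (0) (0) (0) (0) (0) (0) (t38) (t40) (0) (0) (0) (0) (0) (0) (0) (0) (0) (0) (t62) (0) (0) (0) (0) (0) (t51) (t65) (0) (0) (0) (t54) (0) (0) (0) (0) (0) (t71) := by
    rw [D.toWeylE6.conj_n1]
    congr 1 <;> (first | rfl | ring1 | (rw [← sub_eq_zero]; ring_nf; simp only [h2, h4, h6, h8, h10, h12, h14, h16, h18, h20, h22, h24, h26, h28, h30, h32, mul_zero, zero_mul, add_zero, zero_add, neg_zero, sub_zero, sub_self]))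
  exact UP_n D D.n1_mem e (ih _ _ _ _ _ _ _ hn38 hn40)

theorem e6s6_36 (D : UData R)
    (ih : ∀ (t38 t44 t48 t59 t54 t65 t70 : K), t38 ≠ 0 → t48 ≠ 0 → UP D (R.RNF (0) (0) (0) (0) (0) (0) (t38) (0) (0) (0) (0) (0) (t44) (t48) (0) (0) (0) (0) (0) (t59) (0) (0) (0) (0) (0) (t54) (0) (0) (0) (t65) (0) (0) (0) (0) (t70) (0))) :
    ∀ (t38 t40 t51 t62 t54 t65 t71 : K), t38 ≠ 0 → t40 ≠ 0 → UP D (R.RNF (0) (0) (0) (0) (0) (0) (t38) (t40) (0) (0) (0) (0) (0) (0) (0) (0) (0) (0) (t51) (0) (0) (0) (0) (0) (t62) (t54) (0) (0) (0) (t65) (0) (0) (0) (0) (0) (t71)) := by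
  intro t38 t40 t51 t62 t54 t65 t71 hn38 hn40
  have h2 : (2 : K) = 0 := CharTwo.two_eq_zero
  have h4 : (4 : K) = 0 := by linear_combination 2 * h2
  have h6 : (6 : K) = 0 := by linear_combination 3 * h2
  have h8 : (8 : K) = 0 := by linear_combination 4 * h2
  have h10 : (10 : K) = 0 := by linear_combination 5 * h2
  have h12 : (12 : K) = 0 := by linear_combination 6 * h2
  have h14 : (14 : K) = 0 := by linear_combination 7 * h2
  have h16 : (16 : K) = 0 := by linear_combination 8 * h2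
  have h18 : (18 : K) = 0 := by linear_combination 9 * h2
  have h20 : (20 : K) = 0 := by linear_combination 10 * h2
  have h22 : (22 : K) = 0 := by linear_combination 11 * h2
  have h24 : (24 : K) = 0 := by linear_combination 12 * h2
  have h26 : (26 : K) = 0 := by linear_combination 13 * h2
  have h28 : (28 : K) = 0 := by linear_combination 14 * h2
  have h30 : (30 : K) = 0 := by linear_combination 15 * h2
  have h32 : (32 : K) = 0 := by linear_combination 16 * h2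
  have e : D.n2 * R.RNF (0) (0) (0) (0) (0) (0) (t38) (t40) (0) (0) (0) (0) (0) (0) (0) (0) (0) (0) (t51) (0) (0) (0) (0) (0) (t62) (t54) (0) (0) (0) (t65) (0) (0) (0) (0) (0) (t71) * D.n2⁻¹ =
      R.RNF (0) (0) (0) (0) (0) (0) (t38) (0) (0) (0) (0) (0) (t51) (t40) (0) (0) (0) (0) (0) (t62) (0) (0) (0) (0) (0) (t54) (0) (0) (0) (t65) (0) (0) (0) (0) (t71) (0) := by
    rw [D.toWeylE6.conj_n2]
    congr 1 <;> (first | rfl | ring1 | (rw [← sub_eq_zero]; ring_nf; simp only [h2, h4, h6, h8, h10, h12, h14, h16, h18, h20, h22, h24, h26, h28, h30, h32, mul_zero, zero_mul, add_zero, zero_add, neg_zero, sub_zero, sub_self]))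
  exact UP_n D D.n2_mem e (ih _ _ _ _ _ _ _ hn38 hn40)

theorem e6s6_37 (D : UData R)
    (ih : ∀ (t41 t44 t48 t59 t52 t63 t69 : K), t41 ≠ 0 → t48 ≠ 0 → UP D (R.RNF (0) (0) (0) (0) (0) (0) (0) (0) (0) (0) (0) (t41) (t44) (t48) (0) (0) (0) (0) (0) (t59) (0) (t52) (0) (0) (0) (0) (t63) (0) (0) (0) (0) (0) (0) (t69) (0) (0))) :
    ∀ (t38 t44 t48 t59 t54 t65 t70 : K), t38 ≠ 0 → t48 ≠ 0 → UP D (R.RNF (0) (0) (0) (0) (0) (0) (t38) (0) (0) (0) (0) (0) (t44) (t48) (0) (0) (0) (0) (0) (t59) (0) (0) (0) (0) (0) (t54) (0) (0) (0) (t65) (0) (0) (0) (0) (t70) (0)) := by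
  intro t38 t44 t48 t59 t54 t65 t70 hn38 hn48
  have h2 : (2 : K) = 0 := CharTwo.two_eq_zero
  have h4 : (4 : K) = 0 := by linear_combination 2 * h2
  have h6 : (6 : K) = 0 := by linear_combination 3 * h2
  have h8 : (8 : K) = 0 := by linear_combination 4 * h2
  have h10 : (10 : K) = 0 := by linear_combination 5 * h2
  have h12 : (12 : K) = 0 := by linear_combination 6 * h2
  have h14 : (14 : K) = 0 := by linear_combination 7 * h2
  have h16 : (16 : K) = 0 := by linear_combination 8 * h2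
  have h18 : (18 : K) = 0 := by linear_combination 9 * h2
  have h20 : (20 : K) = 0 := by linear_combination 10 * h2
  have h22 : (22 : K) = 0 := by linear_combination 11 * h2
  have h24 : (24 : K) = 0 := by linear_combination 12 * h2
  have h26 : (26 : K) = 0 := by linear_combination 13 * h2
  have h28 : (28 : K) = 0 := by linear_combination 14 * h2
  have h30 : (30 : K) = 0 := by linear_combination 15 * h2
  have h32 : (32 : K) = 0 := by linear_combination 16 * h2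
  have e : D.n4 * R.RNF (0) (0) (0) (0) (0) (0) (t38) (0) (0) (0) (0) (0) (t44) (t48) (0) (0) (0) (0) (0) (t59) (0) (0) (0) (0) (0) (t54) (0) (0) (0) (t65) (0) (0) (0) (0) (t70) (0) * D.n4⁻¹ =
      R.RNF (0) (0) (0) (0) (0) (0) (0) (0) (0) (0) (0) (t38) (t44) (t48) (0) (0) (0) (0) (0) (t59) (0) (t54) (0) (0) (0) (0) (t65) (0) (0) (0) (0) (0) (0) (t70) (0) (0) := by
    rw [D.toWeylE6.conj_n4]
    congr 1 <;> (first | rfl | ring1 | (rw [← sub_eq_zero]; ring_nf; simp only [h2, h4, h6, h8, h10, h12, h14, h16, h18, h20, h22, h24, h26, h28, h30, h32, mul_zero, zero_mul, add_zero, zero_add, neg_zero, sub_zero, sub_self]))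
  exact UP_n D D.n4_mem e (ih _ _ _ _ _ _ _ hn38 hn48)

theorem upiv6 (D : UData R)
    (ih : ∀ (t40 t43 t47 t57 t41 t44 t48 t50 t58 t45 t49 t51 t59 t61 t52 t53 t60 t62 t54 t63 t64 t55 t65 t67 t66 t68 t69 t70 t71 : K), UP D (R.RNF (0) (0) (0) (0) (0) (0) (0) (t40) (t43) (t47) (t57) (t41) (t44) (t48) (t50) (t58) (t45) (t49) (t51) (t59) (t61) (t52) (t53) (t60) (t62) (t54) (t63) (t64) (t55) (t65) (t67) (t66) (t68) (t69) (t70) (t71))) :
    ∀ (t38 t40 t43 t47 t57 t41 t44 t48 t50 t58 t45 t49 t51 t59 t61 t52 t53 t60 t62 t54 t63 t64 t55 t65 t67 t66 t68 t69 t70 t71 : K), UP D (R.RNF (0) (0) (0) (0) (0) (0) (t38) (t40) (t43) (t47) (t57) (t41) (t44) (t48) (t50) (t58) (t45) (t49) (t51) (t59) (t61) (t52) (t53) (t60) (t62) (t54) (t63) (t64) (t55) (t65) (t67) (t66) (t68) (t69) (t70) (t71)) := by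
  intro t38 t40 t43 t47 t57 t41 t44 t48 t50 t58 t45 t49 t51 t59 t61 t52 t53 t60 t62 t54 t63 t64 t55 t65 t67 t66 t68 t69 t70 t71
  by_cases h0 : t38 = 0
  · subst h0; exact ih _ _ _ _ _ _ _ _ _ _ _ _ _ _ _ _ _ _ _ _ _ _ _ _ _ _ _ _ _
  · exact (e6s6_1 D (e6s6_2 D (e6s6_3 D (e6s6_4 D (e6s6_5 D (e6s6_6 D (e6s6_7 D (e6s6_8 D (e6s6_9 D (e6s6_10 D (e6s6_11 D (e6s6_12 D (e6s6_13 D (e6s6_14 D (e6s6_15 D (e6s6_16 D (e6s6_17 D (e6s6_18 D (e6s6_19 D (e6s6_20 D (e6s6_21 D (fun t41 t44 t58 t59 t52 t53 t63 t64 t68 t69 t71 _ => ih 0 0 0 0 t41 t44 0 0 t58 0 0 0 t59 0 t52 t53 0 0 0 t63 t64 0 0 0 0 t68 t69 0 t71)) (e6s6_22 D (e6s6_23 D (e6s6_24 D (e6s6_25 D (e6s6_26 D (e6s6_27 D (e6s6_28 D (fun t41 t44 t48 t59 t52 t63 t69 _ _ => ih 0 0 0 0 t41 t44 t48 0 0 0 0 0 t59 0 t52 0 0 0 0 t63 0 0 0 0 0 0 t69 0 0)))))))))) (e6s6_29 D (e6s6_30 D (e6s6_31 D (e6s6_32 D (e6s6_33 D (e6s6_34 D (e6s6_35 D (e6s6_36 D (e6s6_37 D (fun t41 t44 t48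 t59 t52 t63 t69 _ _ => ih 0 0 0 0 t41 t44 t48 0 0 0 0 0 t59 0 t52 0 0 0 0 t63 0 0 0 0 0 0 t69 0 0)))))))))))))))))))))))))))) t38 t40 t43 t47 t57 t41 t44 t48 t50 t58 t45 t49 t51 t59 t61 t52 t53 t60 t62 t54 t63 t64 t55 t65 t67 t66 t68 t69 t70 t71 h0

end Cfsg.Agent.Helper4.E6Inv
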