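import Cfsg.Agent.Helper4.E6Inv.UFinT

/-! Generated: steps of the reduction of involutions in the unipotent group of `E₆`
(characteristic two). -/

set_option autoImplicit false
set_option maxHeartbeats 8000000
set_option maxRecDepth 100000
set_option linter.unusedSimpArgs false
set_option linter.unusedVariables false
set_option linter.unusedSectionVars false
set_option linter.unusedTactic false
set_option linter.unreachableTactic false

namespace Cfsg.Agent.Helper4.E6Inv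

variable {K Γ : Type*} [Field K] [Group Γ] {R : RelE6 K Γ} [CharP K 2]

theorem e6s7_1 (D : UData R)
    (ih : ∀ (t40 t43 t47 t41 t44 t48 t50 t58 t45 t49 t51 t59 t61 t52 t53 t60 t62 t54 t63 t64 t55 t65 t67 t66 t68 t69 t70 t71 : K), t40 ≠ 0 → UP D (R.RNF (0) (0) (0) (0) (0) (0) (0) (t40) (t43) (t47) (0) (t41) (t44) (t48) (t50) (t58) (t45) (t49) (t51) (t59) (t61) (t52) (t53) (t60) (t62) (t54) (t63) (t64) (t55) (t65) (t67) (t66) (t68) (t69) (t70) (t71))) :
    ∀ (t40 t43 t47 t57 t41 t44 t48 t50 t58 t45 t49 t51 t59 t61 t52 t53 t60 t62 t54 t63 t64 t55 t65 t67 t66 t68 t69 t70 t71 : K), t40 ≠ 0 → UP D (R.RNF (0) (0) (0) (0) (0) (0) (0) (t40) (t43) (t47) (t57) (t41) (t44) (t48) (t50) (t58) (t45) (t49) (t51) (t59) (t61) (t52) (t53) (t60) (t62) (t54) (t63) (t64) (t55) (t65) (t67) (t66) (t68) (t69) (t70) (t71)) := by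
  intro t40 t43 t47 t57 t41 t44 t48 t50 t58 t45 t49 t51 t59 t61 t52 t53 t60 t62 t54 t63 t64 t55 t65 t67 t66 t68 t69 t70 t71 hn40 hu hne
  have hsq := hu
  rw [R.usq] at hsq
  obtain ⟨e36, e37, e39, e42, e46, e56, e38, e40, e43, e47, e57, e41, e44, e48, e50, e58, e45, e49, e51, e59, e61, e52, e53, e60, e62, e54, e63, e64, e55, e65, e67, e66, e68, e69, e70, e71⟩ := D.inj _ _ _ _ _ _ _ _ _ _ _ _ _ _ _ _ _ _ _ _ _ _ _ _ _ _ _ _ _ _ _ _ _ _ _ _ hsq
  have hz : t57 = 0 := by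
    have h : t40 * t57 = 0 := by linear_combination e59
    exact (mul_eq_zero.mp h).resolve_left hn40
  subst hz
  exact ih _ _ _ _ _ _ _ _ _ _ _ _ _ _ _ _ _ _ _ _ _ _ _ _ _ _ _ _ hn40 hu hne

theorem e6s7_2 (D : UData R)
    (ih : ∀ (t40 t43 t47 t44 t48 t50 t58 t45 t49 t51 t59 t61 t52 t53 t60 t62 t54 t63 t64 t55 t65 t67 t66 t68 t69 t70 t71 : K), t40 ≠ 0 → UP D (R.RNF (0) (0) (0) (0) (0) (0) (0) (t40) (t43) (t47) (0) (0) (t44) (t48) (t50) (t58) (t45) (t49) (t51) (t59) (t61) (t52) (t53) (t60) (t62) (t54) (t63) (t64) (t55) (t65) (t67) (t66) (t68) (t69) (t70) (t71))) :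
    ∀ (t40 t43 t47 t41 t44 t48 t50 t58 t45 t49 t51 t59 t61 t52 t53 t60 t62 t54 t63 t64 t55 t65 t67 t66 t68 t69 t70 t71 : K), t40 ≠ 0 → UP D (R.RNF (0) (0) (0) (0) (0) (0) (0) (t40) (t43) (t47) (0) (t41) (t44) (t48) (t50) (t58) (t45) (t49) (t51) (t59) (t61) (t52) (t53) (t60) (t62) (t54) (t63) (t64) (t55) (t65) (t67) (t66) (t68) (t69) (t70) (t71)) := by
  intro t40 t43 t47 t41 t44 t48 t50 t58 t45 t49 t51 t59 t61 t52 t53 t60 t62 t54 t63 t64 t55 t65 t67 t66 t68 t69 t70 t71 hn40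
  have h2 : (2 : K) = 0 := CharTwo.two_eq_zero
  have h4 : (4 : K) = 0 := by linear_combination 2 * h2
  have h6 : (6 : K) = 0 := by linear_combination 3 * h2
  have h8 : (8 : K) = 0 := by linear_combination 4 * h2
  have h10 : (10 : K) = 0 := by linear_combination 5 * h2
  have h12 : (12 : K) = 0 := by linear_combination 6 * h2
  have h14 : (14 : K) = 0 := by linear_combination 7 * h2
  have h16 : (16 : K) = 0 := by linear_combination 8 * h2
  have h18 : (18 : K) = 0 := by linear_combination 9 * h2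
  have h20 : (20 : K) = 0 := by linear_combination 10 * h2
  have h22 : (22 : K) = 0 := by linear_combination 11 * h2
  have h24 : (24 : K) = 0 := by linear_combination 12 * h2
  have h26 : (26 : K) = 0 := by linear_combination 13 * h2
  have h28 : (28 : K) = 0 := by linear_combination 14 * h2
  have h30 : (30 : K) = 0 := by linear_combination 15 * h2
  have h32 : (32 : K) = 0 := by linear_combination 16 * h2
  obtain ⟨c, rfl⟩ : ∃ c, t41 = c * t40 := ⟨t41 / t40, by field_simp⟩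
  have e : R.X36 c * R.RNF (0) (0) (0) (0) (0) (0) (0) (t40) (t43) (t47) (0) (c * t40) (t44) (t48) (t50) (t58) (t45) (t49) (t51) (t59) (t61) (t52) (t53) (t60) (t62) (t54) (t63) (t64) (t55) (t65) (t67) (t66) (t68) (t69) (t70) (t71) * R.X36 c =
      R.RNF (0) (0) (0) (0) (0) (0) (0) (t40) (t43) (t47) (0) (0) (t44) (t48) (t50) (t58) (c * t44 + t45) (c * t48 + t49) (t51) (t59) (t61) (c * t51 + t52) (t53) (c * t59 + t60) (t62) (c * t53 + t54) (c * t62 + t63) (t64) (c * t44 * t48 + t55) (c * t48 * t58 + c * t64 + t65) (t67) (t66) (c * t67 + t68) (c * t51 * t59 + t69) (c * t44 * t48 * t58 + c * t53 * t59 + t70) (c * t44 * t48 * t61 + c * t48 * t51 * t58 + c * t53 * t62 + t71) := by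
    rw [R.ucj36]
    congr 1 <;> (first | rfl | ring1 | (rw [← sub_eq_zero]; ring_nf; simp only [h2, h4, h6, h8, h10, h12, h14, h16, h18, h20, h22, h24, h26, h28, h30, h32, mul_zero, zero_mul, add_zero, zero_add, neg_zero, sub_zero, sub_self]))
  exact UP_cj D (D.xmem36 c) (R.inv36 c) e (ih _ _ _ _ _ _ _ _ _ _ _ _ _ _ _ _ _ _ _ _ _ _ _ _ _ _ _ hn40)

theorem e6s7_3 (D : UData R)
    (ih : ∀ (t40 t43 t47 t48 t50 t58 t45 t49 t51 t59 t61 t52 t53 t60 t62 t54 t63 t64 t55 t65 t67 t66 t68 t69 t70 t71 : K), t40 ≠ 0 → UP D (R.RNF (0) (0) (0) (0) (0) (0) (0) (t40) (t43) (t47) (0) (0) (0) (t48) (t50) (t58) (t45) (t49) (t51) (t59) (t61) (t52) (t53) (t60) (t62) (t54) (t63) (t64) (t55) (t65) (t67) (t66) (t68) (t69) (t70) (t71))) :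
    ∀ (t40 t43 t47 t44 t48 t50 t58 t45 t49 t51 t59 t61 t52 t53 t60 t62 t54 t63 t64 t55 t65 t67 t66 t68 t69 t70 t71 : K), t40 ≠ 0 → UP D (R.RNF (0) (0) (0) (0) (0) (0) (0) (t40) (t43) (t47) (0) (0) (t44) (t48) (t50) (t58) (t45) (t49) (t51) (t59) (t61) (t52) (t53) (t60) (t62) (t54) (t63) (t64) (t55) (t65) (t67) (t66) (t68) (t69) (t70) (t71)) := by
  intro t40 t43 t47 t44 t48 t50 t58 t45 t49 t51 t59 t61 t52 t53 t60 t62 t54 t63 t64 t55 t65 t67 t66 t68 t69 t70 t71 hn40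
  have h2 : (2 : K) = 0 := CharTwo.two_eq_zero
  have h4 : (4 : K) = 0 := by linear_combination 2 * h2
  have h6 : (6 : K) = 0 := by linear_combination 3 * h2
  have h8 : (8 : K) = 0 := by linear_combination 4 * h2
  have h10 : (10 : K) = 0 := by linear_combination 5 * h2
  have h12 : (12 : K) = 0 := by linear_combination 6 * h2
  have h14 : (14 : K) = 0 := by linear_combination 7 * h2
  have h16 : (16 : K) = 0 := by linear_combination 8 * h2
  have h18 : (18 : K) = 0 := by linear_combination 9 * h2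
  have h20 : (20 : K) = 0 := by linear_combination 10 * h2
  have h22 : (22 : K) = 0 := by linear_combination 11 * h2
  have h24 : (24 : K) = 0 := by linear_combination 12 * h2
  have h26 : (26 : K) = 0 := by linear_combination 13 * h2
  have h28 : (28 : K) = 0 := by linear_combination 14 * h2
  have h30 : (30 : K) = 0 := by linear_combination 15 * h2
  have h32 : (32 : K) = 0 := by linear_combination 16 * h2
  obtain ⟨c, rfl⟩ : ∃ c, t44 = c * t40 := ⟨t44 / t40, by field_simp⟩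
  have e : R.X42 c * R.RNF (0) (0) (0) (0) (0) (0) (0) (t40) (t43) (t47) (0) (0) (c * t40) (t48) (t50) (t58) (t45) (t49) (t51) (t59) (t61) (t52) (t53) (t60) (t62) (t54) (t63) (t64) (t55) (t65) (t67) (t66) (t68) (t69) (t70) (t71) * R.X42 c =
      R.RNF (0) (0) (0) (0) (0) (0) (0) (t40) (t43) (t47) (0) (0) (0) (t48) (c * t47 + t50) (t58) (t45) (t49) (c * t48 + t51) (t59) (t61) (c * t49 + t52) (c * t40 * t47 + t53) (t60) (t62) (t54) (t63) (t64) (t55) (t65) (c * t48 * t58 + c * t64 + t67) (t66) (c * t65 + t68) (c * t49 * t59 + c * t66 + t69) (t70) (c * t48 * t49 * t58 + t71) := by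
    rw [R.ucj42]
    congr 1 <;> (first | rfl | ring1 | (rw [← sub_eq_zero]; ring_nf; simp only [h2, h4, h6, h8, h10, h12, h14, h16, h18, h20, h22, h24, h26, h28, h30, h32, mul_zero, zero_mul, add_zero, zero_add, neg_zero, sub_zero, sub_self]))
  exact UP_cj D (D.xmem42 c) (R.inv42 c) e (ih _ _ _ _ _ _ _ _ _ _ _ _ _ _ _ _ _ _ _ _ _ _ _ _ _ _ hn40)

theorem e6s7_4 (D : UData R)
    (ih : ∀ (t40 t43 t47 t50 t58 t45 t49 t51 t59 t61 t52 t53 t60 t62 t54 t63 t64 t55 t65 t67 t66 t68 t69 t70 t71 : K), t40 ≠ 0 → UP D (R.RNF (0) (0) (0) (0) (0) (0) (0) (t40) (t43) (t47) (0) (0) (0) (0) (t50) (t58) (t45) (t49) (t51) (t59) (t61) (t52) (t53) (t60) (t62) (t54) (t63) (t64) (t55) (t65) (t67) (t66) (t68) (t69) (t70) (t71))) :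
    ∀ (t40 t43 t47 t48 t50 t58 t45 t49 t51 t59 t61 t52 t53 t60 t62 t54 t63 t64 t55 t65 t67 t66 t68 t69 t70 t71 : K), t40 ≠ 0 → UP D (R.RNF (0) (0) (0) (0) (0) (0) (0) (t40) (t43) (t47) (0) (0) (0) (t48) (t50) (t58) (t45) (t49) (t51) (t59) (t61) (t52) (t53) (t60) (t62) (t54) (t63) (t64) (t55) (t65) (t67) (t66) (t68) (t69) (t70) (t71)) := by
  intro t40 t43 t47 t48 t50 t58 t45 t49 t51 t59 t61 t52 t53 t60 t62 t54 t63 t64 t55 t65 t67 t66 t68 t69 t70 t71 hn40
  have h2 : (2 : K) = 0 := CharTwo.two_eq_zero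
  have h4 : (4 : K) = 0 := by linear_combination 2 * h2
  have h6 : (6 : K) = 0 := by linear_combination 3 * h2
  have h8 : (8 : K) = 0 := by linear_combination 4 * h2
  have h10 : (10 : K) = 0 := by linear_combination 5 * h2
  have h12 : (12 : K) = 0 := by linear_combination 6 * h2
  have h14 : (14 : K) = 0 := by linear_combination 7 * h2
  have h16 : (16 : K) = 0 := by linear_combination 8 * h2
  have h18 : (18 : K) = 0 := by linear_combination 9 * h2
  have h20 : (20 : K) = 0 := by linear_combination 10 * h2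
  have h22 : (22 : K) = 0 := by linear_combination 11 * h2
  have h24 : (24 : K) = 0 := by linear_combination 12 * h2
  have h26 : (26 : K) = 0 := by linear_combination 13 * h2
  have h28 : (28 : K) = 0 := by linear_combination 14 * h2
  have h30 : (30 : K) = 0 := by linear_combination 15 * h2
  have h32 : (32 : K) = 0 := by linear_combination 16 * h2
  obtain ⟨c, rfl⟩ : ∃ c, t48 = c * t40 := ⟨t48 / t40, by field_simp⟩
  have e : R.X46 c * R.RNF (0) (0) (0) (0) (0) (0) (0) (t40) (t43) (t47) (0) (0) (0) (c * t40) (t50) (t58) (t45) (t49) (t51) (t59) (t61) (t52) (t53) (t60) (t62) (t54) (t63) (t64) (t55) (t65) (t67) (t66) (t68) (t69) (t70) (t71) * R.X46 c =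
      R.RNF (0) (0) (0) (0) (0) (0) (0) (t40) (t43) (t47) (0) (0) (0) (0) (c * t43 + t50) (t58) (t45) (t49) (t51) (t59) (c * t58 + t61) (c * t45 + t52) (c * t40 * t43 + t53) (t60) (c * t59 + t62) (t54) (c * t60 + t63) (t64) (t55) (t65) (t67) (t66) (c * t45 * t58 + t68) (c * t45 * t59 + t69) (t70) (c * t70 + t71) := by
    rw [R.ucj46]
    congr 1 <;> (first | rfl | ring1 | (rw [← sub_eq_zero]; ring_nf; simp only [h2, h4, h6, h8, h10, h12, h14, h16, h18, h20, h22, h24, h26, h28, h30, h32, mul_zero, zero_mul, add_zero, zero_add, neg_zero, sub_zero, sub_self]))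
  exact UP_cj D (D.xmem46 c) (R.inv46 c) e (ih _ _ _ _ _ _ _ _ _ _ _ _ _ _ _ _ _ _ _ _ _ _ _ _ _ hn40)

theorem e6s7_5 (D : UData R)
    (ih : ∀ (t40 t43 t47 t50 t58 t45 t49 t51 t61 t52 t53 t60 t62 t54 t63 t64 t55 t65 t67 t66 t68 t69 t70 t71 : K), t40 ≠ 0 → UP D (R.RNF (0) (0) (0) (0) (0) (0) (0) (t40) (t43) (t47) (0) (0) (0) (0) (t50) (t58) (t45) (t49) (t51) (0) (t61) (t52) (t53) (t60) (t62) (t54) (t63) (t64) (t55) (t65) (t67) (t66) (t68) (t69) (t70) (t71))) :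
    ∀ (t40 t43 t47 t50 t58 t45 t49 t51 t59 t61 t52 t53 t60 t62 t54 t63 t64 t55 t65 t67 t66 t68 t69 t70 t71 : K), t40 ≠ 0 → UP D (R.RNF (0) (0) (0) (0) (0) (0) (0) (t40) (t43) (t47) (0) (0) (0) (0) (t50) (t58) (t45) (t49) (t51) (t59) (t61) (t52) (t53) (t60) (t62) (t54) (t63) (t64) (t55) (t65) (t67) (t66) (t68) (t69) (t70) (t71)) := by
  intro t40 t43 t47 t50 t58 t45 t49 t51 t59 t61 t52 t53 t60 t62 t54 t63 t64 t55 t65 t67 t66 t68 t69 t70 t71 hn40
  have h2 : (2 : K) = 0 := CharTwo.two_eq_zero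
  have h4 : (4 : K) = 0 := by linear_combination 2 * h2
  have h6 : (6 : K) = 0 := by linear_combination 3 * h2
  have h8 : (8 : K) = 0 := by linear_combination 4 * h2
  have h10 : (10 : K) = 0 := by linear_combination 5 * h2
  have h12 : (12 : K) = 0 := by linear_combination 6 * h2
  have h14 : (14 : K) = 0 := by linear_combination 7 * h2
  have h16 : (16 : K) = 0 := by linear_combination 8 * h2
  have h18 : (18 : K) = 0 := by linear_combination 9 * h2
  have h20 : (20 : K) = 0 := by linear_combination 10 * h2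
  have h22 : (22 : K) = 0 := by linear_combination 11 * h2
  have h24 : (24 : K) = 0 := by linear_combination 12 * h2
  have h26 : (26 : K) = 0 := by linear_combination 13 * h2
  have h28 : (28 : K) = 0 := by linear_combination 14 * h2
  have h30 : (30 : K) = 0 := by linear_combination 15 * h2
  have h32 : (32 : K) = 0 := by linear_combination 16 * h2
  obtain ⟨c, rfl⟩ : ∃ c, t59 = c * t40 := ⟨t59 / t40, by field_simp⟩
  have e : R.X57 c * R.RNF (0) (0) (0) (0) (0) (0) (0) (t40) (t43) (t47) (0) (0) (0) (0) (t50) (t58) (t45) (t49) (t51) (c * t40) (t61) (t52) (t53) (t60) (t62) (t54) (t63) (t64) (t55) (t65) (t67) (t66) (t68) (t69) (t70) (t71) * R.X57 c =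
      R.RNF (0) (0) (0) (0) (0) (0) (0) (t40) (t43) (t47) (0) (0) (0) (0) (t50) (t58) (t45) (t49) (t51) (0) (c * t47 + t61) (t52) (t53) (t60) (t62) (t54) (c * t49 + t63) (c * t40 * t47 + t64) (t55) (t65) (c * t40 * t50 + c * t53 + t67) (c * t40 * t49 + t66) (c * t45 * t47 + c * t54 + t68) (c * t55 + t69) (c * t40 * t45 * t47 + t70) (c * t40 * t47 * t52 + c * t40 * t49 * t50 + c * t49 * t53 + t71) := by
    rw [R.ucj57]
    congr 1 <;> (first | rfl | ring1 | (rw [← sub_eq_zero]; ring_nf; simp only [h2, h4, h6, h8, h10, h12, h14, h16, h18, h20, h22, h24, h26, h28, h30, h32, mul_zero, zero_mul, add_zero, zero_add, neg_zero, sub_zero, sub_self]))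
  exact UP_cj D (D.xmem57 c) (R.inv57 c) e (ih _ _ _ _ _ _ _ _ _ _ _ _ _ _ _ _ _ _ _ _ _ _ _ _ hn40)

theorem e6s7_6 (D : UData R)
    (ih : ∀ (t40 t43 t47 t50 t58 t45 t49 t51 t61 t52 t60 t62 t54 t63 t64 t55 t65 t67 t66 t68 t69 t70 t71 : K), t40 ≠ 0 → UP D (R.RNF (0) (0) (0) (0) (0) (0) (0) (t40) (t43) (t47) (0) (0) (0) (0) (t50) (t58) (t45) (t49) (t51) (0) (t61) (t52) (0) (t60) (t62) (t54) (t63) (t64) (t55) (t65) (t67) (t66) (t68) (t69) (t70) (t71))) :
    ∀ (t40 t43 t47 t50 t58 t45 t49 t51 t61 t52 t53 t60 t62 t54 t63 t64 t55 t65 t67 t66 t68 t69 t70 t71 : K), t40 ≠ 0 → UP D (R.RNF (0) (0) (0) (0) (0) (0) (0) (t40) (t43) (t47) (0) (0) (0) (0) (t50) (t58) (t45) (t49) (t51) (0) (t61) (t52) (t53) (t60) (t62) (t54) (t63) (t64) (t55) (t65) (t67) (t66) (t68) (t69) (t70) (t71)) := by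
  intro t40 t43 t47 t50 t58 t45 t49 t51 t61 t52 t53 t60 t62 t54 t63 t64 t55 t65 t67 t66 t68 t69 t70 t71 hn40
  have h2 : (2 : K) = 0 := CharTwo.two_eq_zero
  have h4 : (4 : K) = 0 := by linear_combination 2 * h2
  have h6 : (6 : K) = 0 := by linear_combination 3 * h2
  have h8 : (8 : K) = 0 := by linear_combination 4 * h2
  have h10 : (10 : K) = 0 := by linear_combination 5 * h2
  have h12 : (12 : K) = 0 := by linear_combination 6 * h2
  have h14 : (14 : K) = 0 := by linear_combination 7 * h2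
  have h16 : (16 : K) = 0 := by linear_combination 8 * h2
  have h18 : (18 : K) = 0 := by linear_combination 9 * h2
  have h20 : (20 : K) = 0 := by linear_combination 10 * h2
  have h22 : (22 : K) = 0 := by linear_combination 11 * h2
  have h24 : (24 : K) = 0 := by linear_combination 12 * h2
  have h26 : (26 : K) = 0 := by linear_combination 13 * h2
  have h28 : (28 : K) = 0 := by linear_combination 14 * h2
  have h30 : (30 : K) = 0 := by linear_combination 15 * h2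
  have h32 : (32 : K) = 0 := by linear_combination 16 * h2
  obtain ⟨c, rfl⟩ : ∃ c, t53 = c * t40 := ⟨t53 / t40, by field_simp⟩
  have e : R.X50 c * R.RNF (0) (0) (0) (0) (0) (0) (0) (t40) (t43) (t47) (0) (0) (0) (0) (t50) (t58) (t45) (t49) (t51) (0) (t61) (t52) (c * t40) (t60) (t62) (t54) (t63) (t64) (t55) (t65) (t67) (t66) (t68) (t69) (t70) (t71) * R.X50 c =
      R.RNF (0) (0) (0) (0) (0) (0) (0) (t40) (t43) (t47) (0) (0) (0) (0) (t50) (t58) (t45) (t49) (t51) (0) (t61) (t52) (0) (t60) (t62) (t54) (t63) (t64) (t55) (t65) (t67) (t66) (c * t60 + t68) (t69) (t70) (c * t66 + t71) := by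
    rw [R.ucj50]
    congr 1 <;> (first | rfl | ring1 | (rw [← sub_eq_zero]; ring_nf; simp only [h2, h4, h6, h8, h10, h12, h14, h16, h18, h20, h22, h24, h26, h28, h30, h32, mul_zero, zero_mul, add_zero, zero_add, neg_zero, sub_zero, sub_self]))
  exact UP_cj D (D.xmem50 c) (R.inv50 c) e (ih _ _ _ _ _ _ _ _ _ _ _ _ _ _ _ _ _ _ _ _ _ _ _ hn40)

theorem e6s7_7 (D : UData R)
    (ih : ∀ (t40 t43 t47 t50 t58 t45 t49 t51 t61 t52 t60 t62 t54 t63 t55 t65 t67 t66 t68 t69 t70 t71 : K), t40 ≠ 0 → UP D (R.RNF (0) (0) (0) (0) (0) (0) (0) (t40) (t43) (t47) (0) (0) (0) (0) (t50) (t58) (t45) (t49) (t51) (0) (t61) (t52) (0) (t60) (t62) (t54) (t63) (0) (t55) (t65) (t67) (t66) (t68) (t69) (t70) (t71))) :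
    ∀ (t40 t43 t47 t50 t58 t45 t49 t51 t61 t52 t60 t62 t54 t63 t64 t55 t65 t67 t66 t68 t69 t70 t71 : K), t40 ≠ 0 → UP D (R.RNF (0) (0) (0) (0) (0) (0) (0) (t40) (t43) (t47) (0) (0) (0) (0) (t50) (t58) (t45) (t49) (t51) (0) (t61) (t52) (0) (t60) (t62) (t54) (t63) (t64) (t55) (t65) (t67) (t66) (t68) (t69) (t70) (t71)) := by
  intro t40 t43 t47 t50 t58 t45 t49 t51 t61 t52 t60 t62 t54 t63 t64 t55 t65 t67 t66 t68 t69 t70 t71 hn40
  have h2 : (2 : K) = 0 := CharTwo.two_eq_zero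
  have h4 : (4 : K) = 0 := by linear_combination 2 * h2
  have h6 : (6 : K) = 0 := by linear_combination 3 * h2
  have h8 : (8 : K) = 0 := by linear_combination 4 * h2
  have h10 : (10 : K) = 0 := by linear_combination 5 * h2
  have h12 : (12 : K) = 0 := by linear_combination 6 * h2
  have h14 : (14 : K) = 0 := by linear_combination 7 * h2
  have h16 : (16 : K) = 0 := by linear_combination 8 * h2
  have h18 : (18 : K) = 0 := by linear_combination 9 * h2
  have h20 : (20 : K) = 0 := by linear_combination 10 * h2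
  have h22 : (22 : K) = 0 := by linear_combination 11 * h2
  have h24 : (24 : K) = 0 := by linear_combination 12 * h2
  have h26 : (26 : K) = 0 := by linear_combination 13 * h2
  have h28 : (28 : K) = 0 := by linear_combination 14 * h2
  have h30 : (30 : K) = 0 := by linear_combination 15 * h2
  have h32 : (32 : K) = 0 := by linear_combination 16 * h2
  obtain ⟨c, rfl⟩ : ∃ c, t64 = c * t40 := ⟨t64 / t40, by field_simp⟩
  have e : R.X61 c * R.RNF (0) (0) (0) (0) (0) (0) (0) (t40) (t43) (t47) (0) (0) (0) (0) (t50) (t58) (t45) (t49) (t51) (0) (t61) (t52) (0) (t60) (t62) (t54) (t63) (c * t40) (t55) (t65) (t67) (t66) (t68) (t69) (t70) (t71) * R.X61 c =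
      R.RNF (0) (0) (0) (0) (0) (0) (0) (t40) (t43) (t47) (0) (0) (0) (0) (t50) (t58) (t45) (t49) (t51) (0) (t61) (t52) (0) (t60) (t62) (t54) (t63) (0) (t55) (t65) (t67) (t66) (c * t45 + t68) (t69) (c * t40 * t45 + t70) (c * t40 * t52 + c * t55 + t71) := by
    rw [R.ucj61]
    congr 1 <;> (first | rfl | ring1 | (rw [← sub_eq_zero]; ring_nf; simp only [h2, h4, h6, h8, h10, h12, h14, h16, h18, h20, h22, h24, h26, h28, h30, h32, mul_zero, zero_mul, add_zero, zero_add, neg_zero, sub_zero, sub_self]))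
  exact UP_cj D (D.xmem61 c) (R.inv61 c) e (ih _ _ _ _ _ _ _ _ _ _ _ _ _ _ _ _ _ _ _ _ _ _ hn40)

theorem e6s7_8 (D : UData R)
    (ih : ∀ (t40 t43 t47 t50 t58 t45 t49 t51 t61 t52 t60 t62 t54 t63 t65 t67 t66 t68 t69 t70 t71 : K), t40 ≠ 0 → UP D (R.RNF (0) (0) (0) (0) (0) (0) (0) (t40) (t43) (t47) (0) (0) (0) (0) (t50) (t58) (t45) (t49) (t51) (0) (t61) (t52) (0) (t60) (t62) (t54) (t63) (0) (0) (t65) (t67) (t66) (t68) (t69) (t70) (t71))) :
    ∀ (t40 t43 t47 t50 t58 t45 t49 t51 t61 t52 t60 t62 t54 t63 t55 t65 t67 t66 t68 t69 t70 t71 : K), t40 ≠ 0 → UP D (R.RNF (0) (0) (0) (0) (0) (0) (0) (t40) (t43) (t47) (0) (0) (0) (0) (t50) (t58) (t45) (t49) (t51) (0) (t61) (t52) (0) (t60) (t62) (t54) (t63) (0) (t55) (t65) (t67) (t66) (t68) (t69) (t70) (t71)) := by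
  intro t40 t43 t47 t50 t58 t45 t49 t51 t61 t52 t60 t62 t54 t63 t55 t65 t67 t66 t68 t69 t70 t71 hn40
  have h2 : (2 : K) = 0 := CharTwo.two_eq_zero
  have h4 : (4 : K) = 0 := by linear_combination 2 * h2
  have h6 : (6 : K) = 0 := by linear_combination 3 * h2
  have h8 : (8 : K) = 0 := by linear_combination 4 * h2
  have h10 : (10 : K) = 0 := by linear_combination 5 * h2
  have h12 : (12 : K) = 0 := by linear_combination 6 * h2
  have h14 : (14 : K) = 0 := by linear_combination 7 * h2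
  have h16 : (16 : K) = 0 := by linear_combination 8 * h2
  have h18 : (18 : K) = 0 := by linear_combination 9 * h2
  have h20 : (20 : K) = 0 := by linear_combination 10 * h2
  have h22 : (22 : K) = 0 := by linear_combination 11 * h2
  have h24 : (24 : K) = 0 := by linear_combination 12 * h2
  have h26 : (26 : K) = 0 := by linear_combination 13 * h2
  have h28 : (28 : K) = 0 := by linear_combination 14 * h2
  have h30 : (30 : K) = 0 := by linear_combination 15 * h2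
  have h32 : (32 : K) = 0 := by linear_combination 16 * h2
  obtain ⟨c, rfl⟩ : ∃ c, t55 = c * t40 := ⟨t55 / t40, by field_simp⟩
  have e : R.X52 c * R.RNF (0) (0) (0) (0) (0) (0) (0) (t40) (t43) (t47) (0) (0) (0) (0) (t50) (t58) (t45) (t49) (t51) (0) (t61) (t52) (0) (t60) (t62) (t54) (t63) (0) (c * t40) (t65) (t67) (t66) (t68) (t69) (t70) (t71) * R.X52 c =
      R.RNF (0) (0) (0) (0) (0) (0) (0) (t40) (t43) (t47) (0) (0) (0) (0) (t50) (t58) (t45) (t49) (t51) (0) (t61) (t52) (0) (t60) (t62) (t54) (t63) (0) (0) (t65) (t67) (t66) (c * t58 + t68) (t69) (c * t40 * t58 + t70) (c * t40 * t61 + t71) := by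
    rw [R.ucj52]
    congr 1 <;> (first | rfl | ring1 | (rw [← sub_eq_zero]; ring_nf; simp only [h2, h4, h6, h8, h10, h12, h14, h16, h18, h20, h22, h24, h26, h28, h30, h32, mul_zero, zero_mul, add_zero, zero_add, neg_zero, sub_zero, sub_self]))
  exact UP_cj D (D.xmem52 c) (R.inv52 c) e (ih _ _ _ _ _ _ _ _ _ _ _ _ _ _ _ _ _ _ _ _ _ hn40)

theorem e6s7_9 (D : UData R)
    (ih : ∀ (t40 t43 t47 t50 t58 t45 t49 t51 t61 t52 t60 t62 t54 t63 t65 t67 t68 t69 t70 t71 : K), t40 ≠ 0 → UP D (R.RNF (0) (0) (0) (0) (0) (0) (0) (t40) (t43) (t47) (0) (0) (0) (0) (t50) (t58) (t45) (t49) (t51) (0) (t61) (t52) (0) (t60) (t62) (t54) (t63) (0) (0) (t65) (t67) (0) (t68) (t69) (t70) (t71))) :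
    ∀ (t40 t43 t47 t50 t58 t45 t49 t51 t61 t52 t60 t62 t54 t63 t65 t67 t66 t68 t69 t70 t71 : K), t40 ≠ 0 → UP D (R.RNF (0) (0) (0) (0) (0) (0) (0) (t40) (t43) (t47) (0) (0) (0) (0) (t50) (t58) (t45) (t49) (t51) (0) (t61) (t52) (0) (t60) (t62) (t54) (t63) (0) (0) (t65) (t67) (t66) (t68) (t69) (t70) (t71)) := by
  intro t40 t43 t47 t50 t58 t45 t49 t51 t61 t52 t60 t62 t54 t63 t65 t67 t66 t68 t69 t70 t71 hn40
  have h2 : (2 : K) = 0 := CharTwo.two_eq_zero
  have h4 : (4 : K) = 0 := by linear_combination 2 * h2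
  have h6 : (6 : K) = 0 := by linear_combination 3 * h2
  have h8 : (8 : K) = 0 := by linear_combination 4 * h2
  have h10 : (10 : K) = 0 := by linear_combination 5 * h2
  have h12 : (12 : K) = 0 := by linear_combination 6 * h2
  have h14 : (14 : K) = 0 := by linear_combination 7 * h2
  have h16 : (16 : K) = 0 := by linear_combination 8 * h2
  have h18 : (18 : K) = 0 := by linear_combination 9 * h2
  have h20 : (20 : K) = 0 := by linear_combination 10 * h2
  have h22 : (22 : K) = 0 := by linear_combination 11 * h2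
  have h24 : (24 : K) = 0 := by linear_combination 12 * h2
  have h26 : (26 : K) = 0 := by linear_combination 13 * h2
  have h28 : (28 : K) = 0 := by linear_combination 14 * h2
  have h30 : (30 : K) = 0 := by linear_combination 15 * h2
  have h32 : (32 : K) = 0 := by linear_combination 16 * h2
  obtain ⟨c, rfl⟩ : ∃ c, t66 = c * t40 := ⟨t66 / t40, by field_simp⟩
  have e : R.X63 c * R.RNF (0) (0) (0) (0) (0) (0) (0) (t40) (t43) (t47) (0) (0) (0) (0) (t50) (t58) (t45) (t49) (t51) (0) (t61) (t52) (0) (t60) (t62) (t54) (t63) (0) (0) (t65) (t67) (c * t40) (t68) (t69) (t70) (t71) * R.X63 c =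
      R.RNF (0) (0) (0) (0) (0) (0) (0) (t40) (t43) (t47) (0) (0) (0) (0) (t50) (t58) (t45) (t49) (t51) (0) (t61) (t52) (0) (t60) (t62) (t54) (t63) (0) (0) (t65) (t67) (0) (c * t43 + t68) (t69) (c * t40 * t43 + t70) (c * t40 * t50 + t71) := by
    rw [R.ucj63]
    congr 1 <;> (first | rfl | ring1 | (rw [← sub_eq_zero]; ring_nf; simp only [h2, h4, h6, h8, h10, h12, h14, h16, h18, h20, h22, h24, h26, h28, h30, h32, mul_zero, zero_mul, add_zero, zero_add, neg_zero, sub_zero, sub_self]))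
  exact UP_cj D (D.xmem63 c) (R.inv63 c) e (ih _ _ _ _ _ _ _ _ _ _ _ _ _ _ _ _ _ _ _ _ hn40)

theorem e6s7_10 (D : UData R)
    (ih : ∀ (t40 t43 t47 t50 t58 t45 t49 t51 t61 t52 t60 t62 t54 t63 t65 t67 t68 t69 t71 : K), t40 ≠ 0 → UP D (R.RNF (0) (0) (0) (0) (0) (0) (0) (t40) (t43) (t47) (0) (0) (0) (0) (t50) (t58) (t45) (t49) (t51) (0) (t61) (t52) (0) (t60) (t62) (t54) (t63) (0) (0) (t65) (t67) (0) (t68) (t69) (0) (t71))) :
    ∀ (t40 t43 t47 t50 t58 t45 t49 t51 t61 t52 t60 t62 t54 t63 t65 t67 t68 t69 t70 t71 : K), t40 ≠ 0 → UP D (R.RNF (0) (0) (0) (0) (0) (0) (0) (t40) (t43) (t47) (0) (0) (0) (0) (t50) (t58) (t45) (t49) (t51) (0) (t61) (t52) (0) (t60) (t62) (t54) (t63) (0) (0) (t65) (t67) (0) (t68) (t69) (t70) (t71)) := by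
  intro t40 t43 t47 t50 t58 t45 t49 t51 t61 t52 t60 t62 t54 t63 t65 t67 t68 t69 t70 t71 hn40
  have h2 : (2 : K) = 0 := CharTwo.two_eq_zero
  have h4 : (4 : K) = 0 := by linear_combination 2 * h2
  have h6 : (6 : K) = 0 := by linear_combination 3 * h2
  have h8 : (8 : K) = 0 := by linear_combination 4 * h2
  have h10 : (10 : K) = 0 := by linear_combination 5 * h2
  have h12 : (12 : K) = 0 := by linear_combination 6 * h2
  have h14 : (14 : K) = 0 := by linear_combination 7 * h2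
  have h16 : (16 : K) = 0 := by linear_combination 8 * h2
  have h18 : (18 : K) = 0 := by linear_combination 9 * h2
  have h20 : (20 : K) = 0 := by linear_combination 10 * h2
  have h22 : (22 : K) = 0 := by linear_combination 11 * h2
  have h24 : (24 : K) = 0 := by linear_combination 12 * h2
  have h26 : (26 : K) = 0 := by linear_combination 13 * h2
  have h28 : (28 : K) = 0 := by linear_combination 14 * h2
  have h30 : (30 : K) = 0 := by linear_combination 15 * h2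
  have h32 : (32 : K) = 0 := by linear_combination 16 * h2
  obtain ⟨c, rfl⟩ : ∃ c, t70 = c * t40 := ⟨t70 / t40, by field_simp⟩
  have e : R.X68 c * R.RNF (0) (0) (0) (0) (0) (0) (0) (t40) (t43) (t47) (0) (0) (0) (0) (t50) (t58) (t45) (t49) (t51) (0) (t61) (t52) (0) (t60) (t62) (t54) (t63) (0) (0) (t65) (t67) (0) (t68) (t69) (c * t40) (t71) * R.X68 c =
      R.RNF (0) (0) (0) (0) (0) (0) (0) (t40) (t43) (t47) (0) (0) (0) (0) (t50) (t58) (t45) (t49) (t51) (0) (t61) (t52) (0) (t60) (t62) (t54) (t63) (0) (0) (t65) (t67) (0) (t68) (t69) (0) (t71) := by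
    rw [R.ucj68]
    congr 1 <;> (first | rfl | ring1 | (rw [← sub_eq_zero]; ring_nf; simp only [h2, h4, h6, h8, h10, h12, h14, h16, h18, h20, h22, h24, h26, h28, h30, h32, mul_zero, zero_mul, add_zero, zero_add, neg_zero, sub_zero, sub_self]))
  exact UP_cj D (D.xmem68 c) (R.inv68 c) e (ih _ _ _ _ _ _ _ _ _ _ _ _ _ _ _ _ _ _ _ hn40)

theorem e6s7_11 (D : UData R)
    (ih : ∀ (t40 t43 t47 t58 t45 t49 t51 t61 t52 t60 t62 t54 t63 t65 t67 t68 t69 t71 : K), t40 ≠ 0 → UP D (R.RNF (0) (0) (0) (0) (0) (0) (0) (t40) (t43) (t47) (0) (0) (0) (0) (0) (t58) (t45) (t49) (t51) (0) (t61) (t52) (0) (t60) (t62) (t54) (t63) (0) (0) (t65) (t67) (0) (t68) (t69) (0) (t71))) :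
    ∀ (t40 t43 t47 t50 t58 t45 t49 t51 t61 t52 t60 t62 t54 t63 t65 t67 t68 t69 t71 : K), t40 ≠ 0 → UP D (R.RNF (0) (0) (0) (0) (0) (0) (0) (t40) (t43) (t47) (0) (0) (0) (0) (t50) (t58) (t45) (t49) (t51) (0) (t61) (t52) (0) (t60) (t62) (t54) (t63) (0) (0) (t65) (t67) (0) (t68) (t69) (0) (t71)) := by
  intro t40 t43 t47 t50 t58 t45 t49 t51 t61 t52 t60 t62 t54 t63 t65 t67 t68 t69 t71 hn40 hu hne
  have hsq := hu
  rw [R.usq] at hsq
  obtain ⟨e36, e37, e39, e42, e46, e56, e38, e40, e43, e47, e57, e41, e44, e48, e50, e58, e45, e49, e51, e59, e61, e52, e53, e60, e62, e54, e63, e64, e55, e65, e67, e66, e68, e69, e70, e71⟩ := D.inj _ _ _ _ _ _ _ _ _ _ _ _ _ _ _ _ _ _ _ _ _ _ _ _ _ _ _ _ _ _ _ _ _ _ _ _ hsq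
  have hz : t50 = 0 := by
    have h : t40 * t50 = 0 := by linear_combination e53
    exact (mul_eq_zero.mp h).resolve_left hn40
  subst hz
  exact ih _ _ _ _ _ _ _ _ _ _ _ _ _ _ _ _ _ _ hn40 hu hne

theorem e6s7_12 (D : UData R)
    (ih : ∀ (t40 t43 t47 t58 t45 t49 t51 t52 t60 t62 t54 t63 t65 t67 t68 t69 t71 : K), t40 ≠ 0 → UP D (R.RNF (0) (0) (0) (0) (0) (0) (0) (t40) (t43) (t47) (0) (0) (0) (0) (0) (t58) (t45) (t49) (t51) (0) (0) (t52) (0) (t60) (t62) (t54) (t63) (0) (0) (t65) (t67) (0) (t68) (t69) (0) (t71))) :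
    ∀ (t40 t43 t47 t58 t45 t49 t51 t61 t52 t60 t62 t54 t63 t65 t67 t68 t69 t71 : K), t40 ≠ 0 → UP D (R.RNF (0) (0) (0) (0) (0) (0) (0) (t40) (t43) (t47) (0) (0) (0) (0) (0) (t58) (t45) (t49) (t51) (0) (t61) (t52) (0) (t60) (t62) (t54) (t63) (0) (0) (t65) (t67) (0) (t68) (t69) (0) (t71)) := by
  intro t40 t43 t47 t58 t45 t49 t51 t61 t52 t60 t62 t54 t63 t65 t67 t68 t69 t71 hn40 hu hne
  have hsq := hu
  rw [R.usq] at hsq
  obtain ⟨e36, e37, e39, e42, e46, e56, e38, e40, e43, e47, e57, e41, e44, e48, e50, e58, e45, e49, e51, e59, e61, e52, e53, e60, e62, e54, e63, e64, e55, e65, e67, e66, e68, e69, e70, e71⟩ := D.inj _ _ _ _ _ _ _ _ _ _ _ _ _ _ _ _ _ _ _ _ _ _ _ _ _ _ _ _ _ _ _ _ _ _ _ _ hsq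
  have hz : t61 = 0 := by
    have h : t40 * t61 = 0 := by linear_combination e64
    exact (mul_eq_zero.mp h).resolve_left hn40
  subst hz
  exact ih _ _ _ _ _ _ _ _ _ _ _ _ _ _ _ _ _ hn40 hu hne

theorem e6s7_13 (D : UData R)
    (ih : ∀ (t40 t43 t47 t58 t45 t49 t51 t60 t62 t54 t63 t65 t67 t68 t69 t71 : K), t40 ≠ 0 → UP D (R.RNF (0) (0) (0) (0) (0) (0) (0) (t40) (t43) (t47) (0) (0) (0) (0) (0) (t58) (t45) (t49) (t51) (0) (0) (0) (0) (t60) (t62) (t54) (t63) (0) (0) (t65) (t67) (0) (t68) (t69) (0) (t71))) :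
    ∀ (t40 t43 t47 t58 t45 t49 t51 t52 t60 t62 t54 t63 t65 t67 t68 t69 t71 : K), t40 ≠ 0 → UP D (R.RNF (0) (0) (0) (0) (0) (0) (0) (t40) (t43) (t47) (0) (0) (0) (0) (0) (t58) (t45) (t49) (t51) (0) (0) (t52) (0) (t60) (t62) (t54) (t63) (0) (0) (t65) (t67) (0) (t68) (t69) (0) (t71)) := by
  intro t40 t43 t47 t58 t45 t49 t51 t52 t60 t62 t54 t63 t65 t67 t68 t69 t71 hn40 hu hne
  have hsq := hu
  rw [R.usq] at hsq
  obtain ⟨e36, e37, e39, e42, e46, e56, e38, e40, e43, e47, e57, e41, e44, e48, e50, e58, e45, e49, e51, e59, e61, e52, e53, e60, e62, e54, e63, e64, e55, e65, e67, e66, e68, e69, e70, e71⟩ := D.inj _ _ _ _ _ _ _ _ _ _ _ _ _ _ _ _ _ _ _ _ _ _ _ _ _ _ _ _ _ _ _ _ _ _ _ _ hsq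
  have hz : t52 = 0 := by
    have h : t40 * t52 = 0 := by linear_combination e55
    exact (mul_eq_zero.mp h).resolve_left hn40
  subst hz
  exact ih _ _ _ _ _ _ _ _ _ _ _ _ _ _ _ _ hn40 hu hne

theorem e6s7_14 (D : UData R)
    (ih : ∀ (t40 t43 t47 t58 t45 t49 t51 t60 t62 t54 t65 t67 t68 t69 t71 : K), t40 ≠ 0 → UP D (R.RNF (0) (0) (0) (0) (0) (0) (0) (t40) (t43) (t47) (0) (0) (0) (0) (0) (t58) (t45) (t49) (t51) (0) (0) (0) (0) (t60) (t62) (t54) (0) (0) (0) (t65) (t67) (0) (t68) (t69) (0) (t71))) :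
    ∀ (t40 t43 t47 t58 t45 t49 t51 t60 t62 t54 t63 t65 t67 t68 t69 t71 : K), t40 ≠ 0 → UP D (R.RNF (0) (0) (0) (0) (0) (0) (0) (t40) (t43) (t47) (0) (0) (0) (0) (0) (t58) (t45) (t49) (t51) (0) (0) (0) (0) (t60) (t62) (t54) (t63) (0) (0) (t65) (t67) (0) (t68) (t69) (0) (t71)) := by
  intro t40 t43 t47 t58 t45 t49 t51 t60 t62 t54 t63 t65 t67 t68 t69 t71 hn40 hu hne
  have hsq := hu
  rw [R.usq] at hsq
  obtain ⟨e36, e37, e39, e42, e46, e56, e38, e40, e43, e47, e57, e41, e44, e48, e50, e58, e45, e49, e51, e59, e61, e52, e53, e60, e62, e54, e63, e64, e55, e65, e67, e66, e68, e69, e70, e71⟩ := D.inj _ _ _ _ _ _ _ _ _ _ _ _ _ _ _ _ _ _ _ _ _ _ _ _ _ _ _ _ _ _ _ _ _ _ _ _ hsq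
  have hz : t63 = 0 := by
    have h : t40 * t63 = 0 := by linear_combination e66
    exact (mul_eq_zero.mp h).resolve_left hn40
  subst hz
  exact ih _ _ _ _ _ _ _ _ _ _ _ _ _ _ _ hn40 hu hne

theorem e6s7_15 (D : UData R)
    (ih : ∀ (t40 t43 t47 t58 t45 t49 t51 t60 t62 t54 t65 t67 t69 t71 : K), t40 ≠ 0 → UP D (R.RNF (0) (0) (0) (0) (0) (0) (0) (t40) (t43) (t47) (0) (0) (0) (0) (0) (t58) (t45) (t49) (t51) (0) (0) (0) (0) (t60) (t62) (t54) (0) (0) (0) (t65) (t67) (0) (0) (t69) (0) (t71))) :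
    ∀ (t40 t43 t47 t58 t45 t49 t51 t60 t62 t54 t65 t67 t68 t69 t71 : K), t40 ≠ 0 → UP D (R.RNF (0) (0) (0) (0) (0) (0) (0) (t40) (t43) (t47) (0) (0) (0) (0) (0) (t58) (t45) (t49) (t51) (0) (0) (0) (0) (t60) (t62) (t54) (0) (0) (0) (t65) (t67) (0) (t68) (t69) (0) (t71)) := by
  intro t40 t43 t47 t58 t45 t49 t51 t60 t62 t54 t65 t67 t68 t69 t71 hn40 hu hne
  have hsq := hu
  rw [R.usq] at hsq
  obtain ⟨e36, e37, e39, e42, e46, e56, e38, e40, e43, e47, e57, e41, e44, e48, e50, e58, e45, e49, e51, e59, e61, e52, e53, e60, e62, e54, e63, e64, e55, e65, e67, e66, e68, e69, e70, e71⟩ := D.inj _ _ _ _ _ _ _ _ _ _ _ _ _ _ _ _ _ _ _ _ _ _ _ _ _ _ _ _ _ _ _ _ _ _ _ _ hsq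
  have hz : t68 = 0 := by
    have h : t40 * t68 = 0 := by linear_combination e70
    exact (mul_eq_zero.mp h).resolve_left hn40
  subst hz
  exact ih _ _ _ _ _ _ _ _ _ _ _ _ _ _ hn40 hu hne

theorem e6s7_16 (D : UData R)
    (ih : ∀ (t43 t47 t41 t44 t48 t58 t59 t52 t53 t63 t64 t68 t69 t71 : K), t41 ≠ 0 → UP D (R.RNF (0) (0) (0) (0) (0) (0) (0) (0) (t43) (t47) (0) (t41) (t44) (t48) (0) (t58) (0) (0) (0) (t59) (0) (t52) (t53) (0) (0) (0) (t63) (t64) (0) (0) (0) (0) (t68) (t69) (0) (t71))) :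
    ∀ (t40 t43 t47 t58 t45 t49 t51 t60 t62 t54 t65 t67 t69 t71 : K), t40 ≠ 0 → UP D (R.RNF (0) (0) (0) (0) (0) (0) (0) (t40) (t43) (t47) (0) (0) (0) (0) (0) (t58) (t45) (t49) (t51) (0) (0) (0) (0) (t60) (t62) (t54) (0) (0) (0) (t65) (t67) (0) (0) (t69) (0) (t71)) := by
  intro t40 t43 t47 t58 t45 t49 t51 t60 t62 t54 t65 t67 t69 t71 hn40
  have h2 : (2 : K) = 0 := CharTwo.two_eq_zero
  have h4 : (4 : K) = 0 := by linear_combination 2 * h2
  have h6 : (6 : K) = 0 := by linear_combination 3 * h2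
  have h8 : (8 : K) = 0 := by linear_combination 4 * h2
  have h10 : (10 : K) = 0 := by linear_combination 5 * h2
  have h12 : (12 : K) = 0 := by linear_combination 6 * h2
  have h14 : (14 : K) = 0 := by linear_combination 7 * h2
  have h16 : (16 : K) = 0 := by linear_combination 8 * h2
  have h18 : (18 : K) = 0 := by linear_combination 9 * h2
  have h20 : (20 : K) = 0 := by linear_combination 10 * h2
  have h22 : (22 : K) = 0 := by linear_combination 11 * h2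
  have h24 : (24 : K) = 0 := by linear_combination 12 * h2
  have h26 : (26 : K) = 0 := by linear_combination 13 * h2
  have h28 : (28 : K) = 0 := by linear_combination 14 * h2
  have h30 : (30 : K) = 0 := by linear_combination 15 * h2
  have h32 : (32 : K) = 0 := by linear_combination 16 * h2
  have e : D.n6 * R.RNF (0) (0) (0) (0) (0) (0) (0) (t40) (t43) (t47) (0) (0) (0) (0) (0) (t58) (t45) (t49) (t51) (0) (0) (0) (0) (t60) (t62) (t54) (0) (0) (0) (t65) (t67) (0) (0) (t69) (0) (t71) * D.n6⁻¹ =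
      R.RNF (0) (0) (0) (0) (0) (0) (0) (0) (t43) (t47) (0) (t40) (t45) (t49) (0) (t58) (0) (0) (0) (t60) (0) (t51) (t54) (0) (0) (0) (t62) (t49 * t58 + t65) (0) (0) (0) (0) (t67) (t51 * t60 + t69) (0) (t49 * t51 * t58 + t54 * t62 + t71) := by
    rw [D.toWeylE6.conj_n6]
    congr 1 <;> (first | rfl | ring1 | (rw [← sub_eq_zero]; ring_nf; simp only [h2, h4, h6, h8, h10, h12, h14, h16, h18, h20, h22, h24, h26, h28, h30, h32, mul_zero, zero_mul, add_zero, zero_add, neg_zero, sub_zero, sub_self]))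
  exact UP_n D D.n6_mem e (ih _ _ _ _ _ _ _ _ _ _ _ _ _ _ hn40)

theorem upiv7 (D : UData R)
    (ih : ∀ (t43 t47 t57 t41 t44 t48 t50 t58 t45 t49 t51 t59 t61 t52 t53 t60 t62 t54 t63 t64 t55 t65 t67 t66 t68 t69 t70 t71 : K), UP D (R.RNF (0) (0) (0) (0) (0) (0) (0) (0) (t43) (t47) (t57) (t41) (t44) (t48) (t50) (t58) (t45) (t49) (t51) (t59) (t61) (t52) (t53) (t60) (t62) (t54) (t63) (t64) (t55) (t65) (t67) (t66) (t68) (t69) (t70) (t71))) :
    ∀ (t40 t43 t47 t57 t41 t44 t48 t50 t58 t45 t49 t51 t59 t61 t52 t53 t60 t62 t54 t63 t64 t55 t65 t67 t66 t68 t69 t70 t71 : K), UP D (R.RNF (0) (0) (0) (0) (0) (0) (0) (t40) (t43) (t47) (t57) (t41) (t44) (t48) (t50) (t58) (t45) (t49) (t51) (t59) (t61) (t52) (t53) (t60) (t62) (t54) (t63) (t64) (t55) (t65) (t67) (t66) (t68) (t69) (t70) (t71)) := by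
  intro t40 t43 t47 t57 t41 t44 t48 t50 t58 t45 t49 t51 t59 t61 t52 t53 t60 t62 t54 t63 t64 t55 t65 t67 t66 t68 t69 t70 t71
  by_cases h0 : t40 = 0
  · subst h0; exact ih _ _ _ _ _ _ _ _ _ _ _ _ _ _ _ _ _ _ _ _ _ _ _ _ _ _ _ _
  · exact (e6s7_1 D (e6s7_2 D (e6s7_3 D (e6s7_4 D (e6s7_5 D (e6s7_6 D (e6s7_7 D (e6s7_8 D (e6s7_9 D (e6s7_10 D (e6s7_11 D (e6s7_12 D (e6s7_13 D (e6s7_14 D (e6s7_15 D (e6s7_16 D (fun t43 t47 t41 t44 t48 t58 t59 t52 t53 t63 t64 t68 t69 t71 _ => ih t43 t47 0 t41 t44 t48 0 t58 0 0 0 t59 0 t52 t53 0 0 0 t63 t64 0 0 0 0 t68 t69 0 t71))))))))))))))))) t40 t43 t47 t57 t41 t44 t48 t50 t58 t45 t49 t51 t59 t61 t52 t53 t60 t62 t54 t63 t64 t55 t65 t67 t66 t68 t69 t70 t71 h0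

end Cfsg.Agent.Helper4.E6Inv
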