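import Cfsg.Agent.Helper4.E6Inv.UFinT

/-! Generated: steps of the reduction of involutions in the unipotent group of `E₆`
(characteristic two). -/

set_option autoImplicit false
set_option maxHeartbeats 8000000
set_option maxRecDepth 100000
set_option linter.unusedSimpArgs false
set_option linter.unusedVariables false
set_option linter.unusedSectionVars false
set_option linter.unusedTactic false
set_option linter.unreachableTactic false

namespace Cfsg.Agent.Helper4.E6Inv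

variable {K Γ : Type*} [Field K] [Group Γ] {R : RelE6 K Γ} [CharP K 2]

theorem e6s8_1 (D : UData R)
    (ih : ∀ (t43 t47 t57 t41 t48 t50 t58 t45 t49 t51 t59 t61 t52 t53 t60 t62 t54 t63 t64 t55 t65 t67 t66 t68 t69 t70 t71 : K), t43 ≠ 0 → UP D (R.RNF (0) (0) (0) (0) (0) (0) (0) (0) (t43) (t47) (t57) (t41) (0) (t48) (t50) (t58) (t45) (t49) (t51) (t59) (t61) (t52) (t53) (t60) (t62) (t54) (t63) (t64) (t55) (t65) (t67) (t66) (t68) (t69) (t70) (t71))) :
    ∀ (t43 t47 t57 t41 t44 t48 t50 t58 t45 t49 t51 t59 t61 t52 t53 t60 t62 t54 t63 t64 t55 t65 t67 t66 t68 t69 t70 t71 : K), t43 ≠ 0 → UP D (R.RNF (0) (0) (0) (0) (0) (0) (0) (0) (t43) (t47) (t57) (t41) (t44) (t48) (t50) (t58) (t45) (t49) (t51) (t59) (t61) (t52) (t53) (t60) (t62) (t54) (t63) (t64) (t55) (t65) (t67) (t66) (t68) (t69) (t70) (t71)) := by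
  intro t43 t47 t57 t41 t44 t48 t50 t58 t45 t49 t51 t59 t61 t52 t53 t60 t62 t54 t63 t64 t55 t65 t67 t66 t68 t69 t70 t71 hn43
  have h2 : (2 : K) = 0 := CharTwo.two_eq_zero
  have h4 : (4 : K) = 0 := by linear_combination 2 * h2
  have h6 : (6 : K) = 0 := by linear_combination 3 * h2
  have h8 : (8 : K) = 0 := by linear_combination 4 * h2
  have h10 : (10 : K) = 0 := by linear_combination 5 * h2
  have h12 : (12 : K) = 0 := by linear_combination 6 * h2
  have h14 : (14 : K) = 0 := by linear_combination 7 * h2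
  have h16 : (16 : K) = 0 := by linear_combination 8 * h2
  have h18 : (18 : K) = 0 := by linear_combination 9 * h2
  have h20 : (20 : K) = 0 := by linear_combination 10 * h2
  have h22 : (22 : K) = 0 := by linear_combination 11 * h2
  have h24 : (24 : K) = 0 := by linear_combination 12 * h2
  have h26 : (26 : K) = 0 := by linear_combination 13 * h2
  have h28 : (28 : K) = 0 := by linear_combination 14 * h2
  have h30 : (30 : K) = 0 := by linear_combination 15 * h2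
  have h32 : (32 : K) = 0 := by linear_combination 16 * h2
  obtain ⟨c, rfl⟩ : ∃ c, t44 = c * t43 := ⟨t44 / t43, by field_simp⟩
  have e : R.X37 c * R.RNF (0) (0) (0) (0) (0) (0) (0) (0) (t43) (t47) (t57) (t41) (c * t43) (t48) (t50) (t58) (t45) (t49) (t51) (t59) (t61) (t52) (t53) (t60) (t62) (t54) (t63) (t64) (t55) (t65) (t67) (t66) (t68) (t69) (t70) (t71) * R.X37 c =
      R.RNF (0) (0) (0) (0) (0) (0) (0) (0) (t43) (t47) (t57) (t41) (0) (c * t47 + t48) (t50) (t58) (t45) (t49) (c * t50 + t51) (c * t58 + t59) (t61) (t52) (c * t43 * t47 + t53) (t60) (c * t47 * t57 + c * t61 + t62) (t54) (t63) (t64) (c * t54 + t55) (t65) (c * t43 * t47 * t57 + c * t50 * t58 + t67) (c * t41 * t47 * t57 + c * t49 * t58 + c * t65 + t66) (t68) (c * t45 * t47 * t57 + c * t68 + t69) (c * t41 * t43 * t47 * t57 + t70) (c * t41 * t47 * t50 * t57 + c * t43 * t47 * t49 * t57 + c * t49 * t50 * t58 + t71) := by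
    rw [R.ucj37]
    congr 1 <;> (first | rfl | ring1 | (rw [← sub_eq_zero]; ring_nf; simp only [h2, h4, h6, h8, h10, h12, h14, h16, h18, h20, h22, h24, h26, h28, h30, h32, mul_zero, zero_mul, add_zero, zero_add, neg_zero, sub_zero, sub_self]))
  exact UP_cj D (D.xmem37 c) (R.inv37 c) e (ih _ _ _ _ _ _ _ _ _ _ _ _ _ _ _ _ _ _ _ _ _ _ _ _ _ _ _ hn43)

theorem e6s8_2 (D : UData R)
    (ih : ∀ (t43 t47 t57 t41 t48 t58 t45 t49 t51 t59 t61 t52 t53 t60 t62 t54 t63 t64 t55 t65 t67 t66 t68 t69 t70 t71 : K), t43 ≠ 0 → UP D (R.RNF (0) (0) (0) (0) (0) (0) (0) (0) (t43) (t47) (t57) (t41) (0) (t48) (0) (t58) (t45) (t49) (t51) (t59) (t61) (t52) (t53) (t60) (t62) (t54) (t63) (t64) (t55) (t65) (t67) (t66) (t68) (t69) (t70) (t71))) :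
    ∀ (t43 t47 t57 t41 t48 t50 t58 t45 t49 t51 t59 t61 t52 t53 t60 t62 t54 t63 t64 t55 t65 t67 t66 t68 t69 t70 t71 : K), t43 ≠ 0 → UP D (R.RNF (0) (0) (0) (0) (0) (0) (0) (0) (t43) (t47) (t57) (t41) (0) (t48) (t50) (t58) (t45) (t49) (t51) (t59) (t61) (t52) (t53) (t60) (t62) (t54) (t63) (t64) (t55) (t65) (t67) (t66) (t68) (t69) (t70) (t71)) := by
  intro t43 t47 t57 t41 t48 t50 t58 t45 t49 t51 t59 t61 t52 t53 t60 t62 t54 t63 t64 t55 t65 t67 t66 t68 t69 t70 t71 hn43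
  have h2 : (2 : K) = 0 := CharTwo.two_eq_zero
  have h4 : (4 : K) = 0 := by linear_combination 2 * h2
  have h6 : (6 : K) = 0 := by linear_combination 3 * h2
  have h8 : (8 : K) = 0 := by linear_combination 4 * h2
  have h10 : (10 : K) = 0 := by linear_combination 5 * h2
  have h12 : (12 : K) = 0 := by linear_combination 6 * h2
  have h14 : (14 : K) = 0 := by linear_combination 7 * h2
  have h16 : (16 : K) = 0 := by linear_combination 8 * h2
  have h18 : (18 : K) = 0 := by linear_combination 9 * h2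
  have h20 : (20 : K) = 0 := by linear_combination 10 * h2
  have h22 : (22 : K) = 0 := by linear_combination 11 * h2
  have h24 : (24 : K) = 0 := by linear_combination 12 * h2
  have h26 : (26 : K) = 0 := by linear_combination 13 * h2
  have h28 : (28 : K) = 0 := by linear_combination 14 * h2
  have h30 : (30 : K) = 0 := by linear_combination 15 * h2
  have h32 : (32 : K) = 0 := by linear_combination 16 * h2
  obtain ⟨c, rfl⟩ : ∃ c, t50 = c * t43 := ⟨t50 / t43, by field_simp⟩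
  have e : R.X46 c * R.RNF (0) (0) (0) (0) (0) (0) (0) (0) (t43) (t47) (t57) (t41) (0) (t48) (c * t43) (t58) (t45) (t49) (t51) (t59) (t61) (t52) (t53) (t60) (t62) (t54) (t63) (t64) (t55) (t65) (t67) (t66) (t68) (t69) (t70) (t71) * R.X46 c =
      R.RNF (0) (0) (0) (0) (0) (0) (0) (0) (t43) (t47) (t57) (t41) (0) (t48) (0) (t58) (t45) (c * t41 + t49) (t51) (t59) (c * t58 + t61) (c * t45 + t52) (t53) (t60) (c * t59 + t62) (c * t41 * t43 + t54) (c * t60 + t63) (t64) (t55) (c * t41 * t58 + t65) (t67) (t66) (c * t45 * t58 + t68) (c * t45 * t59 + t69) (c * t41 * t43 * t59 + t70) (c * t41 * t43 * t62 + c * t41 * t51 * t58 + c * t70 + c ^ 2 * t41 * t43 * t59 + t71) := by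
    rw [R.ucj46]
    congr 1 <;> (first | rfl | ring1 | (rw [← sub_eq_zero]; ring_nf; simp only [h2, h4, h6, h8, h10, h12, h14, h16, h18, h20, h22, h24, h26, h28, h30, h32, mul_zero, zero_mul, add_zero, zero_add, neg_zero, sub_zero, sub_self]))
  exact UP_cj D (D.xmem46 c) (R.inv46 c) e (ih _ _ _ _ _ _ _ _ _ _ _ _ _ _ _ _ _ _ _ _ _ _ _ _ _ _ hn43)

theorem e6s8_3 (D : UData R)
    (ih : ∀ (t43 t47 t57 t41 t48 t45 t49 t51 t59 t61 t52 t53 t60 t62 t54 t63 t64 t55 t65 t67 t66 t68 t69 t70 t71 : K), t43 ≠ 0 → UP D (R.RNF (0) (0) (0) (0) (0) (0) (0) (0) (t43) (t47) (t57) (t41) (0) (t48) (0) (0) (t45) (t49) (t51) (t59) (t61) (t52) (t53) (t60) (t62) (t54) (t63) (t64) (t55) (t65) (t67) (t66) (t68) (t69) (t70) (t71))) :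
    ∀ (t43 t47 t57 t41 t48 t58 t45 t49 t51 t59 t61 t52 t53 t60 t62 t54 t63 t64 t55 t65 t67 t66 t68 t69 t70 t71 : K), t43 ≠ 0 → UP D (R.RNF (0) (0) (0) (0) (0) (0) (0) (0) (t43) (t47) (t57) (t41) (0) (t48) (0) (t58) (t45) (t49) (t51) (t59) (t61) (t52) (t53) (t60) (t62) (t54) (t63) (t64) (t55) (t65) (t67) (t66) (t68) (t69) (t70) (t71)) := by
  intro t43 t47 t57 t41 t48 t58 t45 t49 t51 t59 t61 t52 t53 t60 t62 t54 t63 t64 t55 t65 t67 t66 t68 t69 t70 t71 hn43
  have h2 : (2 : K) = 0 := CharTwo.two_eq_zero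
  have h4 : (4 : K) = 0 := by linear_combination 2 * h2
  have h6 : (6 : K) = 0 := by linear_combination 3 * h2
  have h8 : (8 : K) = 0 := by linear_combination 4 * h2
  have h10 : (10 : K) = 0 := by linear_combination 5 * h2
  have h12 : (12 : K) = 0 := by linear_combination 6 * h2
  have h14 : (14 : K) = 0 := by linear_combination 7 * h2
  have h16 : (16 : K) = 0 := by linear_combination 8 * h2
  have h18 : (18 : K) = 0 := by linear_combination 9 * h2
  have h20 : (20 : K) = 0 := by linear_combination 10 * h2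
  have h22 : (22 : K) = 0 := by linear_combination 11 * h2
  have h24 : (24 : K) = 0 := by linear_combination 12 * h2
  have h26 : (26 : K) = 0 := by linear_combination 13 * h2
  have h28 : (28 : K) = 0 := by linear_combination 14 * h2
  have h30 : (30 : K) = 0 := by linear_combination 15 * h2
  have h32 : (32 : K) = 0 := by linear_combination 16 * h2
  obtain ⟨c, rfl⟩ : ∃ c, t58 = c * t43 := ⟨t58 / t43, by field_simp⟩
  have e : R.X56 c * R.RNF (0) (0) (0) (0) (0) (0) (0) (0) (t43) (t47) (t57) (t41) (0) (t48) (0) (c * t43) (t45) (t49) (t51) (t59) (t61) (t52) (t53) (t60) (t62) (t54) (t63) (t64) (t55) (t65) (t67) (t66) (t68) (t69) (t70) (t71) * R.X56 c =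
      R.RNF (0) (0) (0) (0) (0) (0) (0) (0) (t43) (t47) (t57) (t41) (0) (t48) (0) (0) (t45) (t49) (t51) (t59) (t61) (t52) (t53) (c * t45 + t60) (c * t51 + t62) (t54) (c * t52 + t63) (c * t43 * t48 + c * t53 + t64) (t55) (c * t54 + t65) (t67) (c * t55 + t66) (t68) (c * t45 * t51 + t69) (c * t43 * t45 * t48 + c * t45 * t53 + t70) (c * t43 * t48 * t52 + c * t52 * t53 + t71) := by
    rw [R.ucj56]
    congr 1 <;> (first | rfl | ring1 | (rw [← sub_eq_zero]; ring_nf; simp only [h2, h4, h6, h8, h10, h12, h14, h16, h18, h20, h22, h24, h26, h28, h30, h32, mul_zero, zero_mul, add_zero, zero_add, neg_zero, sub_zero, sub_self]))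
  exact UP_cj D (D.xmem56 c) (R.inv56 c) e (ih _ _ _ _ _ _ _ _ _ _ _ _ _ _ _ _ _ _ _ _ _ _ _ _ _ hn43)

theorem e6s8_4 (D : UData R)
    (ih : ∀ (t43 t47 t57 t41 t48 t49 t51 t59 t61 t52 t53 t60 t62 t54 t63 t64 t55 t65 t67 t66 t68 t69 t70 t71 : K), t43 ≠ 0 → UP D (R.RNF (0) (0) (0) (0) (0) (0) (0) (0) (t43) (t47) (t57) (t41) (0) (t48) (0) (0) (0) (t49) (t51) (t59) (t61) (t52) (t53) (t60) (t62) (t54) (t63) (t64) (t55) (t65) (t67) (t66) (t68) (t69) (t70) (t71))) :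
    ∀ (t43 t47 t57 t41 t48 t45 t49 t51 t59 t61 t52 t53 t60 t62 t54 t63 t64 t55 t65 t67 t66 t68 t69 t70 t71 : K), t43 ≠ 0 → UP D (R.RNF (0) (0) (0) (0) (0) (0) (0) (0) (t43) (t47) (t57) (t41) (0) (t48) (0) (0) (t45) (t49) (t51) (t59) (t61) (t52) (t53) (t60) (t62) (t54) (t63) (t64) (t55) (t65) (t67) (t66) (t68) (t69) (t70) (t71)) := by
  intro t43 t47 t57 t41 t48 t45 t49 t51 t59 t61 t52 t53 t60 t62 t54 t63 t64 t55 t65 t67 t66 t68 t69 t70 t71 hn43
  have h2 : (2 : K) = 0 := CharTwo.two_eq_zero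
  have h4 : (4 : K) = 0 := by linear_combination 2 * h2
  have h6 : (6 : K) = 0 := by linear_combination 3 * h2
  have h8 : (8 : K) = 0 := by linear_combination 4 * h2
  have h10 : (10 : K) = 0 := by linear_combination 5 * h2
  have h12 : (12 : K) = 0 := by linear_combination 6 * h2
  have h14 : (14 : K) = 0 := by linear_combination 7 * h2
  have h16 : (16 : K) = 0 := by linear_combination 8 * h2
  have h18 : (18 : K) = 0 := by linear_combination 9 * h2
  have h20 : (20 : K) = 0 := by linear_combination 10 * h2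
  have h22 : (22 : K) = 0 := by linear_combination 11 * h2
  have h24 : (24 : K) = 0 := by linear_combination 12 * h2
  have h26 : (26 : K) = 0 := by linear_combination 13 * h2
  have h28 : (28 : K) = 0 := by linear_combination 14 * h2
  have h30 : (30 : K) = 0 := by linear_combination 15 * h2
  have h32 : (32 : K) = 0 := by linear_combination 16 * h2
  obtain ⟨c, rfl⟩ : ∃ c, t45 = c * t43 := ⟨t45 / t43, by field_simp⟩
  have e : R.X38 c * R.RNF (0) (0) (0) (0) (0) (0) (0) (0) (t43) (t47) (t57) (t41) (0) (t48) (0) (0) (c * t43) (t49) (t51) (t59) (t61) (t52) (t53) (t60) (t62) (t54) (t63) (t64) (t55) (t65) (t67) (t66) (t68) (t69) (t70) (t71) * R.X38 c =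
      R.RNF (0) (0) (0) (0) (0) (0) (0) (0) (t43) (t47) (t57) (t41) (0) (t48) (0) (0) (0) (c * t47 + t49) (t51) (t59) (t61) (t52) (t53) (t60) (t62) (c * t43 * t47 + t54) (c * t47 * t57 + c * t61 + t63) (t64) (c * t43 * t48 + c * t53 + t55) (t65) (t67) (c * t64 + t66) (c * t43 * t47 * t57 + t68) (c * t67 + t69) (c * t43 * t47 * t59 + t70) (c * t43 * t47 * t48 * t57 + c * t43 * t47 * t62 + c * t43 * t48 * t61 + c * t47 * t53 * t57 + c * t53 * t61 + t71) := by
    rw [R.ucj38]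
    congr 1 <;> (first | rfl | ring1 | (rw [← sub_eq_zero]; ring_nf; simp only [h2, h4, h6, h8, h10, h12, h14, h16, h18, h20, h22, h24, h26, h28, h30, h32, mul_zero, zero_mul, add_zero, zero_add, neg_zero, sub_zero, sub_self]))
  exact UP_cj D (D.xmem38 c) (R.inv38 c) e (ih _ _ _ _ _ _ _ _ _ _ _ _ _ _ _ _ _ _ _ _ _ _ _ _ hn43)

theorem e6s8_5 (D : UData R)
    (ih : ∀ (t43 t47 t57 t41 t48 t49 t51 t59 t61 t52 t60 t62 t54 t63 t64 t55 t65 t67 t66 t68 t69 t70 t71 : K), t43 ≠ 0 → UP D (R.RNF (0) (0) (0) (0) (0) (0) (0) (0) (t43) (t47) (t57) (t41) (0) (t48) (0) (0) (0) (t49) (t51) (t59) (t61) (t52) (0) (t60) (t62) (t54) (t63) (t64) (t55) (t65) (t67) (t66) (t68) (t69) (t70) (t71))) :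
    ∀ (t43 t47 t57 t41 t48 t49 t51 t59 t61 t52 t53 t60 t62 t54 t63 t64 t55 t65 t67 t66 t68 t69 t70 t71 : K), t43 ≠ 0 → UP D (R.RNF (0) (0) (0) (0) (0) (0) (0) (0) (t43) (t47) (t57) (t41) (0) (t48) (0) (0) (0) (t49) (t51) (t59) (t61) (t52) (t53) (t60) (t62) (t54) (t63) (t64) (t55) (t65) (t67) (t66) (t68) (t69) (t70) (t71)) := by
  intro t43 t47 t57 t41 t48 t49 t51 t59 t61 t52 t53 t60 t62 t54 t63 t64 t55 t65 t67 t66 t68 t69 t70 t71 hn43
  have h2 : (2 : K) = 0 := CharTwo.two_eq_zero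
  have h4 : (4 : K) = 0 := by linear_combination 2 * h2
  have h6 : (6 : K) = 0 := by linear_combination 3 * h2
  have h8 : (8 : K) = 0 := by linear_combination 4 * h2
  have h10 : (10 : K) = 0 := by linear_combination 5 * h2
  have h12 : (12 : K) = 0 := by linear_combination 6 * h2
  have h14 : (14 : K) = 0 := by linear_combination 7 * h2
  have h16 : (16 : K) = 0 := by linear_combination 8 * h2
  have h18 : (18 : K) = 0 := by linear_combination 9 * h2
  have h20 : (20 : K) = 0 := by linear_combination 10 * h2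
  have h22 : (22 : K) = 0 := by linear_combination 11 * h2
  have h24 : (24 : K) = 0 := by linear_combination 12 * h2
  have h26 : (26 : K) = 0 := by linear_combination 13 * h2
  have h28 : (28 : K) = 0 := by linear_combination 14 * h2
  have h30 : (30 : K) = 0 := by linear_combination 15 * h2
  have h32 : (32 : K) = 0 := by linear_combination 16 * h2
  obtain ⟨c, rfl⟩ : ∃ c, t53 = c * t43 := ⟨t53 / t43, by field_simp⟩
  have e : R.X48 c * R.RNF (0) (0) (0) (0) (0) (0) (0) (0) (t43) (t47) (t57) (t41) (0) (t48) (0) (0) (0) (t49) (t51) (t59) (t61) (t52) (c * t43) (t60) (t62) (t54) (t63) (t64) (t55) (t65) (t67) (t66) (t68) (t69) (t70) (t71) * R.X48 c =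
      R.RNF (0) (0) (0) (0) (0) (0) (0) (0) (t43) (t47) (t57) (t41) (0) (t48) (0) (0) (0) (t49) (t51) (t59) (t61) (t52) (0) (t60) (c * t57 + t62) (t54) (t63) (t64) (t55) (t65) (c * t43 * t57 + t67) (c * t41 * t57 + c * t60 + t66) (t68) (t69) (c * t41 * t43 * t57 + t70) (c * t43 * t49 * t57 + c * t68 + t71) := by
    rw [R.ucj48]
    congr 1 <;> (first | rfl | ring1 | (rw [← sub_eq_zero]; ring_nf; simp only [h2, h4, h6, h8, h10, h12, h14, h16, h18, h20, h22, h24, h26, h28, h30, h32, mul_zero, zero_mul, add_zero, zero_add, neg_zero, sub_zero, sub_self]))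
  exact UP_cj D (D.xmem48 c) (R.inv48 c) e (ih _ _ _ _ _ _ _ _ _ _ _ _ _ _ _ _ _ _ _ _ _ _ _ hn43)

theorem e6s8_6 (D : UData R)
    (ih : ∀ (t43 t47 t57 t41 t48 t49 t51 t59 t61 t52 t60 t62 t63 t64 t55 t65 t67 t66 t68 t69 t70 t71 : K), t43 ≠ 0 → UP D (R.RNF (0) (0) (0) (0) (0) (0) (0) (0) (t43) (t47) (t57) (t41) (0) (t48) (0) (0) (0) (t49) (t51) (t59) (t61) (t52) (0) (t60) (t62) (0) (t63) (t64) (t55) (t65) (t67) (t66) (t68) (t69) (t70) (t71))) :
    ∀ (t43 t47 t57 t41 t48 t49 t51 t59 t61 t52 t60 t62 t54 t63 t64 t55 t65 t67 t66 t68 t69 t70 t71 : K), t43 ≠ 0 → UP D (R.RNF (0) (0) (0) (0) (0) (0) (0) (0) (t43) (t47) (t57) (t41) (0) (t48) (0) (0) (0) (t49) (t51) (t59) (t61) (t52) (0) (t60) (t62) (t54) (t63) (t64) (t55) (t65) (t67) (t66) (t68) (t69) (t70) (t71)) := by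
  intro t43 t47 t57 t41 t48 t49 t51 t59 t61 t52 t60 t62 t54 t63 t64 t55 t65 t67 t66 t68 t69 t70 t71 hn43
  have h2 : (2 : K) = 0 := CharTwo.two_eq_zero
  have h4 : (4 : K) = 0 := by linear_combination 2 * h2
  have h6 : (6 : K) = 0 := by linear_combination 3 * h2
  have h8 : (8 : K) = 0 := by linear_combination 4 * h2
  have h10 : (10 : K) = 0 := by linear_combination 5 * h2
  have h12 : (12 : K) = 0 := by linear_combination 6 * h2
  have h14 : (14 : K) = 0 := by linear_combination 7 * h2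
  have h16 : (16 : K) = 0 := by linear_combination 8 * h2
  have h18 : (18 : K) = 0 := by linear_combination 9 * h2
  have h20 : (20 : K) = 0 := by linear_combination 10 * h2
  have h22 : (22 : K) = 0 := by linear_combination 11 * h2
  have h24 : (24 : K) = 0 := by linear_combination 12 * h2
  have h26 : (26 : K) = 0 := by linear_combination 13 * h2
  have h28 : (28 : K) = 0 := by linear_combination 14 * h2
  have h30 : (30 : K) = 0 := by linear_combination 15 * h2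
  have h32 : (32 : K) = 0 := by linear_combination 16 * h2
  obtain ⟨c, rfl⟩ : ∃ c, t54 = c * t43 := ⟨t54 / t43, by field_simp⟩
  have e : R.X49 c * R.RNF (0) (0) (0) (0) (0) (0) (0) (0) (t43) (t47) (t57) (t41) (0) (t48) (0) (0) (0) (t49) (t51) (t59) (t61) (t52) (0) (t60) (t62) (c * t43) (t63) (t64) (t55) (t65) (t67) (t66) (t68) (t69) (t70) (t71) * R.X49 c =
      R.RNF (0) (0) (0) (0) (0) (0) (0) (0) (t43) (t47) (t57) (t41) (0) (t48) (0) (0) (0) (t49) (t51) (t59) (t61) (t52) (0) (t60) (t62) (0) (c * t57 + t63) (t64) (t55) (t65) (t67) (c * t59 + t66) (c * t43 * t57 + t68) (t69) (c * t43 * t59 + t70) (c * t43 * t48 * t57 + c * t43 * t62 + c * t67 + t71) := by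
    rw [R.ucj49]
    congr 1 <;> (first | rfl | ring1 | (rw [← sub_eq_zero]; ring_nf; simp only [h2, h4, h6, h8, h10, h12, h14, h16, h18, h20, h22, h24, h26, h28, h30, h32, mul_zero, zero_mul, add_zero, zero_add, neg_zero, sub_zero, sub_self]))
  exact UP_cj D (D.xmem49 c) (R.inv49 c) e (ih _ _ _ _ _ _ _ _ _ _ _ _ _ _ _ _ _ _ _ _ _ _ hn43)

theorem e6s8_7 (D : UData R)
    (ih : ∀ (t43 t47 t57 t41 t48 t49 t51 t59 t61 t52 t60 t62 t63 t64 t55 t65 t66 t68 t69 t70 t71 : K), t43 ≠ 0 → UP D (R.RNF (0) (0) (0) (0) (0) (0) (0) (0) (t43) (t47) (t57) (t41) (0) (t48) (0) (0) (0) (t49) (t51) (t59) (t61) (t52) (0) (t60) (t62) (0) (t63) (t64) (t55) (t65) (0) (t66) (t68) (t69) (t70) (t71))) :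
    ∀ (t43 t47 t57 t41 t48 t49 t51 t59 t61 t52 t60 t62 t63 t64 t55 t65 t67 t66 t68 t69 t70 t71 : K), t43 ≠ 0 → UP D (R.RNF (0) (0) (0) (0) (0) (0) (0) (0) (t43) (t47) (t57) (t41) (0) (t48) (0) (0) (0) (t49) (t51) (t59) (t61) (t52) (0) (t60) (t62) (0) (t63) (t64) (t55) (t65) (t67) (t66) (t68) (t69) (t70) (t71)) := by
  intro t43 t47 t57 t41 t48 t49 t51 t59 t61 t52 t60 t62 t63 t64 t55 t65 t67 t66 t68 t69 t70 t71 hn43
  have h2 : (2 : K) = 0 := CharTwo.two_eq_zero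
  have h4 : (4 : K) = 0 := by linear_combination 2 * h2
  have h6 : (6 : K) = 0 := by linear_combination 3 * h2
  have h8 : (8 : K) = 0 := by linear_combination 4 * h2
  have h10 : (10 : K) = 0 := by linear_combination 5 * h2
  have h12 : (12 : K) = 0 := by linear_combination 6 * h2
  have h14 : (14 : K) = 0 := by linear_combination 7 * h2
  have h16 : (16 : K) = 0 := by linear_combination 8 * h2
  have h18 : (18 : K) = 0 := by linear_combination 9 * h2
  have h20 : (20 : K) = 0 := by linear_combination 10 * h2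
  have h22 : (22 : K) = 0 := by linear_combination 11 * h2
  have h24 : (24 : K) = 0 := by linear_combination 12 * h2
  have h26 : (26 : K) = 0 := by linear_combination 13 * h2
  have h28 : (28 : K) = 0 := by linear_combination 14 * h2
  have h30 : (30 : K) = 0 := by linear_combination 15 * h2
  have h32 : (32 : K) = 0 := by linear_combination 16 * h2
  obtain ⟨c, rfl⟩ : ∃ c, t67 = c * t43 := ⟨t67 / t43, by field_simp⟩
  have e : R.X62 c * R.RNF (0) (0) (0) (0) (0) (0) (0) (0) (t43) (t47) (t57) (t41) (0) (t48) (0) (0) (0) (t49) (t51) (t59) (t61) (t52) (0) (t60) (t62) (0) (t63) (t64) (t55) (t65) (c * t43) (t66) (t68) (t69) (t70) (t71) * R.X62 c =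
      R.RNF (0) (0) (0) (0) (0) (0) (0) (0) (t43) (t47) (t57) (t41) (0) (t48) (0) (0) (0) (t49) (t51) (t59) (t61) (t52) (0) (t60) (t62) (0) (t63) (t64) (t55) (t65) (0) (c * t41 + t66) (t68) (t69) (c * t41 * t43 + t70) (c * t43 * t49 + t71) := by
    rw [R.ucj62]
    congr 1 <;> (first | rfl | ring1 | (rw [← sub_eq_zero]; ring_nf; simp only [h2, h4, h6, h8, h10, h12, h14, h16, h18, h20, h22, h24, h26, h28, h30, h32, mul_zero, zero_mul, add_zero, zero_add, neg_zero, sub_zero, sub_self]))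
  exact UP_cj D (D.xmem62 c) (R.inv62 c) e (ih _ _ _ _ _ _ _ _ _ _ _ _ _ _ _ _ _ _ _ _ _ hn43)

theorem e6s8_8 (D : UData R)
    (ih : ∀ (t43 t47 t57 t41 t48 t49 t51 t59 t61 t52 t60 t62 t63 t64 t55 t65 t66 t69 t70 t71 : K), t43 ≠ 0 → UP D (R.RNF (0) (0) (0) (0) (0) (0) (0) (0) (t43) (t47) (t57) (t41) (0) (t48) (0) (0) (0) (t49) (t51) (t59) (t61) (t52) (0) (t60) (t62) (0) (t63) (t64) (t55) (t65) (0) (t66) (0) (t69) (t70) (t71))) :
    ∀ (t43 t47 t57 t41 t48 t49 t51 t59 t61 t52 t60 t62 t63 t64 t55 t65 t66 t68 t69 t70 t71 : K), t43 ≠ 0 → UP D (R.RNF (0) (0) (0) (0) (0) (0) (0) (0) (t43) (t47) (t57) (t41) (0) (t48) (0) (0) (0) (t49) (t51) (t59) (t61) (t52) (0) (t60) (t62) (0) (t63) (t64) (t55) (t65) (0) (t66) (t68) (t69) (t70) (t71)) := by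
  intro t43 t47 t57 t41 t48 t49 t51 t59 t61 t52 t60 t62 t63 t64 t55 t65 t66 t68 t69 t70 t71 hn43
  have h2 : (2 : K) = 0 := CharTwo.two_eq_zero
  have h4 : (4 : K) = 0 := by linear_combination 2 * h2
  have h6 : (6 : K) = 0 := by linear_combination 3 * h2
  have h8 : (8 : K) = 0 := by linear_combination 4 * h2
  have h10 : (10 : K) = 0 := by linear_combination 5 * h2
  have h12 : (12 : K) = 0 := by linear_combination 6 * h2
  have h14 : (14 : K) = 0 := by linear_combination 7 * h2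
  have h16 : (16 : K) = 0 := by linear_combination 8 * h2
  have h18 : (18 : K) = 0 := by linear_combination 9 * h2
  have h20 : (20 : K) = 0 := by linear_combination 10 * h2
  have h22 : (22 : K) = 0 := by linear_combination 11 * h2
  have h24 : (24 : K) = 0 := by linear_combination 12 * h2
  have h26 : (26 : K) = 0 := by linear_combination 13 * h2
  have h28 : (28 : K) = 0 := by linear_combination 14 * h2
  have h30 : (30 : K) = 0 := by linear_combination 15 * h2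
  have h32 : (32 : K) = 0 := by linear_combination 16 * h2
  obtain ⟨c, rfl⟩ : ∃ c, t68 = c * t43 := ⟨t68 / t43, by field_simp⟩
  have e : R.X63 c * R.RNF (0) (0) (0) (0) (0) (0) (0) (0) (t43) (t47) (t57) (t41) (0) (t48) (0) (0) (0) (t49) (t51) (t59) (t61) (t52) (0) (t60) (t62) (0) (t63) (t64) (t55) (t65) (0) (t66) (c * t43) (t69) (t70) (t71) * R.X63 c =
      R.RNF (0) (0) (0) (0) (0) (0) (0) (0) (t43) (t47) (t57) (t41) (0) (t48) (0) (0) (0) (t49) (t51) (t59) (t61) (t52) (0) (t60) (t62) (0) (t63) (t64) (t55) (t65) (0) (t66) (0) (t69) (t70) (c * t43 * t48 + t71) := by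
    rw [R.ucj63]
    congr 1 <;> (first | rfl | ring1 | (rw [← sub_eq_zero]; ring_nf; simp only [h2, h4, h6, h8, h10, h12, h14, h16, h18, h20, h22, h24, h26, h28, h30, h32, mul_zero, zero_mul, add_zero, zero_add, neg_zero, sub_zero, sub_self]))
  exact UP_cj D (D.xmem63 c) (R.inv63 c) e (ih _ _ _ _ _ _ _ _ _ _ _ _ _ _ _ _ _ _ _ _ hn43)

theorem e6s8_9 (D : UData R)
    (ih : ∀ (t43 t47 t57 t41 t48 t49 t51 t59 t61 t52 t60 t62 t63 t64 t55 t65 t66 t69 t71 : K), t43 ≠ 0 → UP D (R.RNF (0) (0) (0) (0) (0) (0) (0) (0) (t43) (t47) (t57) (t41) (0) (t48) (0) (0) (0) (t49) (t51) (t59) (t61) (t52) (0) (t60) (t62) (0) (t63) (t64) (t55) (t65) (0) (t66) (0) (t69) (0) (t71))) :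
    ∀ (t43 t47 t57 t41 t48 t49 t51 t59 t61 t52 t60 t62 t63 t64 t55 t65 t66 t69 t70 t71 : K), t43 ≠ 0 → UP D (R.RNF (0) (0) (0) (0) (0) (0) (0) (0) (t43) (t47) (t57) (t41) (0) (t48) (0) (0) (0) (t49) (t51) (t59) (t61) (t52) (0) (t60) (t62) (0) (t63) (t64) (t55) (t65) (0) (t66) (0) (t69) (t70) (t71)) := by
  intro t43 t47 t57 t41 t48 t49 t51 t59 t61 t52 t60 t62 t63 t64 t55 t65 t66 t69 t70 t71 hn43
  have h2 : (2 : K) = 0 := CharTwo.two_eq_zero
  have h4 : (4 : K) = 0 := by linear_combination 2 * h2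
  have h6 : (6 : K) = 0 := by linear_combination 3 * h2
  have h8 : (8 : K) = 0 := by linear_combination 4 * h2
  have h10 : (10 : K) = 0 := by linear_combination 5 * h2
  have h12 : (12 : K) = 0 := by linear_combination 6 * h2
  have h14 : (14 : K) = 0 := by linear_combination 7 * h2
  have h16 : (16 : K) = 0 := by linear_combination 8 * h2
  have h18 : (18 : K) = 0 := by linear_combination 9 * h2
  have h20 : (20 : K) = 0 := by linear_combination 10 * h2
  have h22 : (22 : K) = 0 := by linear_combination 11 * h2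
  have h24 : (24 : K) = 0 := by linear_combination 12 * h2
  have h26 : (26 : K) = 0 := by linear_combination 13 * h2
  have h28 : (28 : K) = 0 := by linear_combination 14 * h2
  have h30 : (30 : K) = 0 := by linear_combination 15 * h2
  have h32 : (32 : K) = 0 := by linear_combination 16 * h2
  obtain ⟨c, rfl⟩ : ∃ c, t70 = c * t43 := ⟨t70 / t43, by field_simp⟩
  have e : R.X66 c * R.RNF (0) (0) (0) (0) (0) (0) (0) (0) (t43) (t47) (t57) (t41) (0) (t48) (0) (0) (0) (t49) (t51) (t59) (t61) (t52) (0) (t60) (t62) (0) (t63) (t64) (t55) (t65) (0) (t66) (0) (t69) (c * t43) (t71) * R.X66 c =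
      R.RNF (0) (0) (0) (0) (0) (0) (0) (0) (t43) (t47) (t57) (t41) (0) (t48) (0) (0) (0) (t49) (t51) (t59) (t61) (t52) (0) (t60) (t62) (0) (t63) (t64) (t55) (t65) (0) (t66) (0) (t69) (0) (t71) := by
    rw [R.ucj66]
    congr 1 <;> (first | rfl | ring1 | (rw [← sub_eq_zero]; ring_nf; simp only [h2, h4, h6, h8, h10, h12, h14, h16, h18, h20, h22, h24, h26, h28, h30, h32, mul_zero, zero_mul, add_zero, zero_add, neg_zero, sub_zero, sub_self]))
  exact UP_cj D (D.xmem66 c) (R.inv66 c) e (ih _ _ _ _ _ _ _ _ _ _ _ _ _ _ _ _ _ _ _ hn43)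

theorem e6s8_10 (D : UData R)
    (ih : ∀ (t43 t47 t57 t41 t49 t51 t59 t61 t52 t60 t62 t63 t64 t55 t65 t66 t69 t71 : K), t43 ≠ 0 → UP D (R.RNF (0) (0) (0) (0) (0) (0) (0) (0) (t43) (t47) (t57) (t41) (0) (0) (0) (0) (0) (t49) (t51) (t59) (t61) (t52) (0) (t60) (t62) (0) (t63) (t64) (t55) (t65) (0) (t66) (0) (t69) (0) (t71))) :
    ∀ (t43 t47 t57 t41 t48 t49 t51 t59 t61 t52 t60 t62 t63 t64 t55 t65 t66 t69 t71 : K), t43 ≠ 0 → UP D (R.RNF (0) (0) (0) (0) (0) (0) (0) (0) (t43) (t47) (t57) (t41) (0) (t48) (0) (0) (0) (t49) (t51) (t59) (t61) (t52) (0) (t60) (t62) (0) (t63) (t64) (t55) (t65) (0) (t66) (0) (t69) (0) (t71)) := by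
  intro t43 t47 t57 t41 t48 t49 t51 t59 t61 t52 t60 t62 t63 t64 t55 t65 t66 t69 t71 hn43 hu hne
  have hsq := hu
  rw [R.usq] at hsq
  obtain ⟨e36, e37, e39, e42, e46, e56, e38, e40, e43, e47, e57, e41, e44, e48, e50, e58, e45, e49, e51, e59, e61, e52, e53, e60, e62, e54, e63, e64, e55, e65, e67, e66, e68, e69, e70, e71⟩ := D.inj _ _ _ _ _ _ _ _ _ _ _ _ _ _ _ _ _ _ _ _ _ _ _ _ _ _ _ _ _ _ _ _ _ _ _ _ hsq
  have hz : t48 = 0 := by
    have h : t43 * t48 = 0 := by linear_combination e53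
    exact (mul_eq_zero.mp h).resolve_left hn43
  subst hz
  exact ih _ _ _ _ _ _ _ _ _ _ _ _ _ _ _ _ _ _ hn43 hu hne

theorem e6s8_11 (D : UData R)
    (ih : ∀ (t43 t47 t57 t41 t51 t59 t61 t52 t60 t62 t63 t64 t55 t65 t66 t69 t71 : K), t43 ≠ 0 → UP D (R.RNF (0) (0) (0) (0) (0) (0) (0) (0) (t43) (t47) (t57) (t41) (0) (0) (0) (0) (0) (0) (t51) (t59) (t61) (t52) (0) (t60) (t62) (0) (t63) (t64) (t55) (t65) (0) (t66) (0) (t69) (0) (t71))) :
    ∀ (t43 t47 t57 t41 t49 t51 t59 t61 t52 t60 t62 t63 t64 t55 t65 t66 t69 t71 : K), t43 ≠ 0 → UP D (R.RNF (0) (0) (0) (0) (0) (0) (0) (0) (t43) (t47) (t57) (t41) (0) (0) (0) (0) (0) (t49) (t51) (t59) (t61) (t52) (0) (t60) (t62) (0) (t63) (t64) (t55) (t65) (0) (t66) (0) (t69) (0) (t71)) := by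
  intro t43 t47 t57 t41 t49 t51 t59 t61 t52 t60 t62 t63 t64 t55 t65 t66 t69 t71 hn43 hu hne
  have hsq := hu
  rw [R.usq] at hsq
  obtain ⟨e36, e37, e39, e42, e46, e56, e38, e40, e43, e47, e57, e41, e44, e48, e50, e58, e45, e49, e51, e59, e61, e52, e53, e60, e62, e54, e63, e64, e55, e65, e67, e66, e68, e69, e70, e71⟩ := D.inj _ _ _ _ _ _ _ _ _ _ _ _ _ _ _ _ _ _ _ _ _ _ _ _ _ _ _ _ _ _ _ _ _ _ _ _ hsq
  have hz : t49 = 0 := by
    have h : t43 * t49 = 0 := by linear_combination e54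
    exact (mul_eq_zero.mp h).resolve_left hn43
  subst hz
  exact ih _ _ _ _ _ _ _ _ _ _ _ _ _ _ _ _ _ hn43 hu hne

theorem e6s8_12 (D : UData R)
    (ih : ∀ (t43 t47 t57 t41 t51 t59 t61 t52 t60 t63 t64 t55 t65 t66 t69 t71 : K), t43 ≠ 0 → UP D (R.RNF (0) (0) (0) (0) (0) (0) (0) (0) (t43) (t47) (t57) (t41) (0) (0) (0) (0) (0) (0) (t51) (t59) (t61) (t52) (0) (t60) (0) (0) (t63) (t64) (t55) (t65) (0) (t66) (0) (t69) (0) (t71))) :
    ∀ (t43 t47 t57 t41 t51 t59 t61 t52 t60 t62 t63 t64 t55 t65 t66 t69 t71 : K), t43 ≠ 0 → UP D (R.RNF (0) (0) (0) (0) (0) (0) (0) (0) (t43) (t47) (t57) (t41) (0) (0) (0) (0) (0) (0) (t51) (t59) (t61) (t52) (0) (t60) (t62) (0) (t63) (t64) (t55) (t65) (0) (t66) (0) (t69) (0) (t71)) := by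
  intro t43 t47 t57 t41 t51 t59 t61 t52 t60 t62 t63 t64 t55 t65 t66 t69 t71 hn43 hu hne
  have hsq := hu
  rw [R.usq] at hsq
  obtain ⟨e36, e37, e39, e42, e46, e56, e38, e40, e43, e47, e57, e41, e44, e48, e50, e58, e45, e49, e51, e59, e61, e52, e53, e60, e62, e54, e63, e64, e55, e65, e67, e66, e68, e69, e70, e71⟩ := D.inj _ _ _ _ _ _ _ _ _ _ _ _ _ _ _ _ _ _ _ _ _ _ _ _ _ _ _ _ _ _ _ _ _ _ _ _ hsq
  have hz : t62 = 0 := by
    have h : t43 * t62 = 0 := by linear_combination e67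
    exact (mul_eq_zero.mp h).resolve_left hn43
  subst hz
  exact ih _ _ _ _ _ _ _ _ _ _ _ _ _ _ _ _ hn43 hu hne

theorem e6s8_13 (D : UData R)
    (ih : ∀ (t43 t47 t57 t41 t51 t59 t61 t52 t60 t64 t55 t65 t66 t69 t71 : K), t43 ≠ 0 → UP D (R.RNF (0) (0) (0) (0) (0) (0) (0) (0) (t43) (t47) (t57) (t41) (0) (0) (0) (0) (0) (0) (t51) (t59) (t61) (t52) (0) (t60) (0) (0) (0) (t64) (t55) (t65) (0) (t66) (0) (t69) (0) (t71))) :
    ∀ (t43 t47 t57 t41 t51 t59 t61 t52 t60 t63 t64 t55 t65 t66 t69 t71 : K), t43 ≠ 0 → UP D (R.RNF (0) (0) (0) (0) (0) (0) (0) (0) (t43) (t47) (t57) (t41) (0) (0) (0) (0) (0) (0) (t51) (t59) (t61) (t52) (0) (t60) (0) (0) (t63) (t64) (t55) (t65) (0) (t66) (0) (t69) (0) (t71)) := by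
  intro t43 t47 t57 t41 t51 t59 t61 t52 t60 t63 t64 t55 t65 t66 t69 t71 hn43 hu hne
  have hsq := hu
  rw [R.usq] at hsq
  obtain ⟨e36, e37, e39, e42, e46, e56, e38, e40, e43, e47, e57, e41, e44, e48, e50, e58, e45, e49, e51, e59, e61, e52, e53, e60, e62, e54, e63, e64, e55, e65, e67, e66, e68, e69, e70, e71⟩ := D.inj _ _ _ _ _ _ _ _ _ _ _ _ _ _ _ _ _ _ _ _ _ _ _ _ _ _ _ _ _ _ _ _ _ _ _ _ hsq
  have hz : t63 = 0 := by
    have h : t43 * t63 = 0 := by linear_combination e68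
    exact (mul_eq_zero.mp h).resolve_left hn43
  subst hz
  exact ih _ _ _ _ _ _ _ _ _ _ _ _ _ _ _ hn43 hu hne

theorem e6s8_14 (D : UData R)
    (ih : ∀ (t43 t47 t57 t41 t51 t59 t61 t52 t60 t64 t55 t65 t69 t71 : K), t43 ≠ 0 → UP D (R.RNF (0) (0) (0) (0) (0) (0) (0) (0) (t43) (t47) (t57) (t41) (0) (0) (0) (0) (0) (0) (t51) (t59) (t61) (t52) (0) (t60) (0) (0) (0) (t64) (t55) (t65) (0) (0) (0) (t69) (0) (t71))) :
    ∀ (t43 t47 t57 t41 t51 t59 t61 t52 t60 t64 t55 t65 t66 t69 t71 : K), t43 ≠ 0 → UP D (R.RNF (0) (0) (0) (0) (0) (0) (0) (0) (t43) (t47) (t57) (t41) (0) (0) (0) (0) (0) (0) (t51) (t59) (t61) (t52) (0) (t60) (0) (0) (0) (t64) (t55) (t65) (0) (t66) (0) (t69) (0) (t71)) := by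
  intro t43 t47 t57 t41 t51 t59 t61 t52 t60 t64 t55 t65 t66 t69 t71 hn43 hu hne
  have hsq := hu
  rw [R.usq] at hsq
  obtain ⟨e36, e37, e39, e42, e46, e56, e38, e40, e43, e47, e57, e41, e44, e48, e50, e58, e45, e49, e51, e59, e61, e52, e53, e60, e62, e54, e63, e64, e55, e65, e67, e66, e68, e69, e70, e71⟩ := D.inj _ _ _ _ _ _ _ _ _ _ _ _ _ _ _ _ _ _ _ _ _ _ _ _ _ _ _ _ _ _ _ _ _ _ _ _ hsq
  have hz : t66 = 0 := by
    have h : t43 * t66 = 0 := by linear_combination e70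
    exact (mul_eq_zero.mp h).resolve_left hn43
  subst hz
  exact ih _ _ _ _ _ _ _ _ _ _ _ _ _ _ hn43 hu hne

theorem e6s8_15 (D : UData R)
    (ih : ∀ (t57 t41 t44 t48 t50 t58 t52 t60 t62 t54 t64 t66 t68 t71 : K), t44 ≠ 0 → UP D (R.RNF (0) (0) (0) (0) (0) (0) (0) (0) (0) (0) (t57) (t41) (t44) (t48) (t50) (t58) (0) (0) (0) (0) (0) (t52) (0) (t60) (t62) (t54) (0) (t64) (0) (0) (0) (t66) (t68) (0) (0) (t71))) :
    ∀ (t43 t47 t57 t41 t51 t59 t61 t52 t60 t64 t55 t65 t69 t71 : K), t43 ≠ 0 → UP D (R.RNF (0) (0) (0) (0) (0) (0) (0) (0) (t43) (t47) (t57) (t41) (0) (0) (0) (0) (0) (0) (t51) (t59) (t61) (t52) (0) (t60) (0) (0) (0) (t64) (t55) (t65) (0) (0) (0) (t69) (0) (t71)) := by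
  intro t43 t47 t57 t41 t51 t59 t61 t52 t60 t64 t55 t65 t69 t71 hn43
  have h2 : (2 : K) = 0 := CharTwo.two_eq_zero
  have h4 : (4 : K) = 0 := by linear_combination 2 * h2
  have h6 : (6 : K) = 0 := by linear_combination 3 * h2
  have h8 : (8 : K) = 0 := by linear_combination 4 * h2
  have h10 : (10 : K) = 0 := by linear_combination 5 * h2
  have h12 : (12 : K) = 0 := by linear_combination 6 * h2
  have h14 : (14 : K) = 0 := by linear_combination 7 * h2
  have h16 : (16 : K) = 0 := by linear_combination 8 * h2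
  have h18 : (18 : K) = 0 := by linear_combination 9 * h2
  have h20 : (20 : K) = 0 := by linear_combination 10 * h2
  have h22 : (22 : K) = 0 := by linear_combination 11 * h2
  have h24 : (24 : K) = 0 := by linear_combination 12 * h2
  have h26 : (26 : K) = 0 := by linear_combination 13 * h2
  have h28 : (28 : K) = 0 := by linear_combination 14 * h2
  have h30 : (30 : K) = 0 := by linear_combination 15 * h2
  have h32 : (32 : K) = 0 := by linear_combination 16 * h2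
  have e : D.n5 * R.RNF (0) (0) (0) (0) (0) (0) (0) (0) (t43) (t47) (t57) (t41) (0) (0) (0) (0) (0) (0) (t51) (t59) (t61) (t52) (0) (t60) (0) (0) (0) (t64) (t55) (t65) (0) (0) (0) (t69) (0) (t71) * D.n5⁻¹ =
      R.RNF (0) (0) (0) (0) (0) (0) (0) (0) (0) (0) (t57) (t41) (t43) (t47) (t51) (t59) (0) (0) (0) (0) (0) (t52) (0) (t60) (t47 * t57 + t61) (t55) (0) (t64) (0) (0) (0) (t41 * t47 * t57 + t65) (t69) (0) (0) (t41 * t47 * t51 * t57 + t71) := by
    rw [D.toWeylE6.conj_n5]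
    congr 1 <;> (first | rfl | ring1 | (rw [← sub_eq_zero]; ring_nf; simp only [h2, h4, h6, h8, h10, h12, h14, h16, h18, h20, h22, h24, h26, h28, h30, h32, mul_zero, zero_mul, add_zero, zero_add, neg_zero, sub_zero, sub_self]))
  exact UP_n D D.n5_mem e (ih _ _ _ _ _ _ _ _ _ _ _ _ _ _ hn43)

theorem upiv8 (D : UData R)
    (ih : ∀ (t47 t57 t41 t44 t48 t50 t58 t45 t49 t51 t59 t61 t52 t53 t60 t62 t54 t63 t64 t55 t65 t67 t66 t68 t69 t70 t71 : K), UP D (R.RNF (0) (0) (0) (0) (0) (0) (0) (0) (0) (t47) (t57) (t41) (t44) (t48) (t50) (t58) (t45) (t49) (t51) (t59) (t61) (t52) (t53) (t60) (t62) (t54) (t63) (t64) (t55) (t65) (t67) (t66) (t68) (t69) (t70) (t71))) :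
    ∀ (t43 t47 t57 t41 t44 t48 t50 t58 t45 t49 t51 t59 t61 t52 t53 t60 t62 t54 t63 t64 t55 t65 t67 t66 t68 t69 t70 t71 : K), UP D (R.RNF (0) (0) (0) (0) (0) (0) (0) (0) (t43) (t47) (t57) (t41) (t44) (t48) (t50) (t58) (t45) (t49) (t51) (t59) (t61) (t52) (t53) (t60) (t62) (t54) (t63) (t64) (t55) (t65) (t67) (t66) (t68) (t69) (t70) (t71)) := by
  intro t43 t47 t57 t41 t44 t48 t50 t58 t45 t49 t51 t59 t61 t52 t53 t60 t62 t54 t63 t64 t55 t65 t67 t66 t68 t69 t70 t71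
  by_cases h0 : t43 = 0
  · subst h0; exact ih _ _ _ _ _ _ _ _ _ _ _ _ _ _ _ _ _ _ _ _ _ _ _ _ _ _ _
  · exact (e6s8_1 D (e6s8_2 D (e6s8_3 D (e6s8_4 D (e6s8_5 D (e6s8_6 D (e6s8_7 D (e6s8_8 D (e6s8_9 D (e6s8_10 D (e6s8_11 D (e6s8_12 D (e6s8_13 D (e6s8_14 D (e6s8_15 D (fun t57 t41 t44 t48 t50 t58 t52 t60 t62 t54 t64 t66 t68 t71 _ => ih 0 t57 t41 t44 t48 t50 t58 0 0 0 0 0 t52 0 t60 t62 t54 0 t64 0 0 0 t66 t68 0 0 t71)))))))))))))))) t43 t47 t57 t41 t44 t48 t50 t58 t45 t49 t51 t59 t61 t52 t53 t60 t62 t54 t63 t64 t55 t65 t67 t66 t68 t69 t70 t71 h0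

end Cfsg.Agent.Helper4.E6Inv
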