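import Cfsg.Agent.Helper4.E6Inv.UFinT

/-! Generated: steps of the reduction of involutions in the unipotent group of `E₆`
(characteristic two). -/

set_option autoImplicit false
set_option maxHeartbeats 8000000
set_option maxRecDepth 100000
set_option linter.unusedSimpArgs false
set_option linter.unusedVariables false
set_option linter.unusedSectionVars false
set_option linter.unusedTactic false
set_option linter.unreachableTactic false

namespace Cfsg.Agent.Helper4.E6Inv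

variable {K Γ : Type*} [Field K] [Group Γ] {R : RelE6 K Γ} [CharP K 2]

theorem e6s9_1 (D : UData R)
    (ih : ∀ (t47 t41 t44 t48 t50 t58 t45 t49 t51 t59 t61 t52 t53 t60 t62 t54 t63 t64 t55 t65 t67 t66 t68 t69 t70 t71 : K), t47 ≠ 0 → UP D (R.RNF (0) (0) (0) (0) (0) (0) (0) (0) (0) (t47) (0) (t41) (t44) (t48) (t50) (t58) (t45) (t49) (t51) (t59) (t61) (t52) (t53) (t60) (t62) (t54) (t63) (t64) (t55) (t65) (t67) (t66) (t68) (t69) (t70) (t71))) :
    ∀ (t47 t57 t41 t44 t48 t50 t58 t45 t49 t51 t59 t61 t52 t53 t60 t62 t54 t63 t64 t55 t65 t67 t66 t68 t69 t70 t71 : K), t47 ≠ 0 → UP D (R.RNF (0) (0) (0) (0) (0) (0) (0) (0) (0) (t47) (t57) (t41) (t44) (t48) (t50) (t58) (t45) (t49) (t51) (t59) (t61) (t52) (t53) (t60) (t62) (t54) (t63) (t64) (t55) (t65) (t67) (t66) (t68) (t69) (t70) (t71)) := by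
  intro t47 t57 t41 t44 t48 t50 t58 t45 t49 t51 t59 t61 t52 t53 t60 t62 t54 t63 t64 t55 t65 t67 t66 t68 t69 t70 t71 hn47 hu hne
  have hsq := hu
  rw [R.usq] at hsq
  obtain ⟨e36, e37, e39, e42, e46, e56, e38, e40, e43, e47, e57, e41, e44, e48, e50, e58, e45, e49, e51, e59, e61, e52, e53, e60, e62, e54, e63, e64, e55, e65, e67, e66, e68, e69, e70, e71⟩ := D.inj _ _ _ _ _ _ _ _ _ _ _ _ _ _ _ _ _ _ _ _ _ _ _ _ _ _ _ _ _ _ _ _ _ _ _ _ hsq
  have hz : t57 = 0 := by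
    have h : t47 * t57 = 0 := by linear_combination e61
    exact (mul_eq_zero.mp h).resolve_left hn47
  subst hz
  exact ih _ _ _ _ _ _ _ _ _ _ _ _ _ _ _ _ _ _ _ _ _ _ _ _ _ _ hn47 hu hne

theorem e6s9_2 (D : UData R)
    (ih : ∀ (t47 t41 t48 t50 t58 t45 t49 t51 t59 t61 t52 t53 t60 t62 t54 t63 t64 t55 t65 t67 t66 t68 t69 t70 t71 : K), t47 ≠ 0 → UP D (R.RNF (0) (0) (0) (0) (0) (0) (0) (0) (0) (t47) (0) (t41) (0) (t48) (t50) (t58) (t45) (t49) (t51) (t59) (t61) (t52) (t53) (t60) (t62) (t54) (t63) (t64) (t55) (t65) (t67) (t66) (t68) (t69) (t70) (t71))) :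
    ∀ (t47 t41 t44 t48 t50 t58 t45 t49 t51 t59 t61 t52 t53 t60 t62 t54 t63 t64 t55 t65 t67 t66 t68 t69 t70 t71 : K), t47 ≠ 0 → UP D (R.RNF (0) (0) (0) (0) (0) (0) (0) (0) (0) (t47) (0) (t41) (t44) (t48) (t50) (t58) (t45) (t49) (t51) (t59) (t61) (t52) (t53) (t60) (t62) (t54) (t63) (t64) (t55) (t65) (t67) (t66) (t68) (t69) (t70) (t71)) := by
  intro t47 t41 t44 t48 t50 t58 t45 t49 t51 t59 t61 t52 t53 t60 t62 t54 t63 t64 t55 t65 t67 t66 t68 t69 t70 t71 hn47 hu hne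
  have hsq := hu
  rw [R.usq] at hsq
  obtain ⟨e36, e37, e39, e42, e46, e56, e38, e40, e43, e47, e57, e41, e44, e48, e50, e58, e45, e49, e51, e59, e61, e52, e53, e60, e62, e54, e63, e64, e55, e65, e67, e66, e68, e69, e70, e71⟩ := D.inj _ _ _ _ _ _ _ _ _ _ _ _ _ _ _ _ _ _ _ _ _ _ _ _ _ _ _ _ _ _ _ _ _ _ _ _ hsq
  have hz : t44 = 0 := by
    have h : t47 * t44 = 0 := by linear_combination e53
    exact (mul_eq_zero.mp h).resolve_left hn47
  subst hz
  exact ih _ _ _ _ _ _ _ _ _ _ _ _ _ _ _ _ _ _ _ _ _ _ _ _ _ hn47 hu hne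

theorem e6s9_3 (D : UData R)
    (ih : ∀ (t47 t41 t50 t58 t45 t49 t51 t59 t61 t52 t53 t60 t62 t54 t63 t64 t55 t65 t67 t66 t68 t69 t70 t71 : K), t47 ≠ 0 → UP D (R.RNF (0) (0) (0) (0) (0) (0) (0) (0) (0) (t47) (0) (t41) (0) (0) (t50) (t58) (t45) (t49) (t51) (t59) (t61) (t52) (t53) (t60) (t62) (t54) (t63) (t64) (t55) (t65) (t67) (t66) (t68) (t69) (t70) (t71))) :
    ∀ (t47 t41 t48 t50 t58 t45 t49 t51 t59 t61 t52 t53 t60 t62 t54 t63 t64 t55 t65 t67 t66 t68 t69 t70 t71 : K), t47 ≠ 0 → UP D (R.RNF (0) (0) (0) (0) (0) (0) (0) (0) (0) (t47) (0) (t41) (0) (t48) (t50) (t58) (t45) (t49) (t51) (t59) (t61) (t52) (t53) (t60) (t62) (t54) (t63) (t64) (t55) (t65) (t67) (t66) (t68) (t69) (t70) (t71)) := by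
  intro t47 t41 t48 t50 t58 t45 t49 t51 t59 t61 t52 t53 t60 t62 t54 t63 t64 t55 t65 t67 t66 t68 t69 t70 t71 hn47
  have h2 : (2 : K) = 0 := CharTwo.two_eq_zero
  have h4 : (4 : K) = 0 := by linear_combination 2 * h2
  have h6 : (6 : K) = 0 := by linear_combination 3 * h2
  have h8 : (8 : K) = 0 := by linear_combination 4 * h2
  have h10 : (10 : K) = 0 := by linear_combination 5 * h2
  have h12 : (12 : K) = 0 := by linear_combination 6 * h2
  have h14 : (14 : K) = 0 := by linear_combination 7 * h2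
  have h16 : (16 : K) = 0 := by linear_combination 8 * h2
  have h18 : (18 : K) = 0 := by linear_combination 9 * h2
  have h20 : (20 : K) = 0 := by linear_combination 10 * h2
  have h22 : (22 : K) = 0 := by linear_combination 11 * h2
  have h24 : (24 : K) = 0 := by linear_combination 12 * h2
  have h26 : (26 : K) = 0 := by linear_combination 13 * h2
  have h28 : (28 : K) = 0 := by linear_combination 14 * h2
  have h30 : (30 : K) = 0 := by linear_combination 15 * h2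
  have h32 : (32 : K) = 0 := by linear_combination 16 * h2
  obtain ⟨c, rfl⟩ : ∃ c, t48 = c * t47 := ⟨t48 / t47, by field_simp⟩
  have e : R.X37 c * R.RNF (0) (0) (0) (0) (0) (0) (0) (0) (0) (t47) (0) (t41) (0) (c * t47) (t50) (t58) (t45) (t49) (t51) (t59) (t61) (t52) (t53) (t60) (t62) (t54) (t63) (t64) (t55) (t65) (t67) (t66) (t68) (t69) (t70) (t71) * R.X37 c =
      R.RNF (0) (0) (0) (0) (0) (0) (0) (0) (0) (t47) (0) (t41) (0) (0) (t50) (t58) (t45) (t49) (c * t50 + t51) (c * t58 + t59) (t61) (t52) (t53) (t60) (c * t61 + t62) (t54) (t63) (t64) (c * t54 + t55) (t65) (c * t50 * t58 + t67) (c * t49 * t58 + c * t65 + t66) (t68) (c * t68 + t69) (t70) (c * t49 * t50 * t58 + t71) := by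
    rw [R.ucj37]
    congr 1 <;> (first | rfl | ring1 | (rw [← sub_eq_zero]; ring_nf; simp only [h2, h4, h6, h8, h10, h12, h14, h16, h18, h20, h22, h24, h26, h28, h30, h32, mul_zero, zero_mul, add_zero, zero_add, neg_zero, sub_zero, sub_self]))
  exact UP_cj D (D.xmem37 c) (R.inv37 c) e (ih _ _ _ _ _ _ _ _ _ _ _ _ _ _ _ _ _ _ _ _ _ _ _ _ hn47)

theorem e6s9_4 (D : UData R)
    (ih : ∀ (t47 t41 t58 t45 t49 t51 t59 t61 t52 t53 t60 t62 t54 t63 t64 t55 t65 t67 t66 t68 t69 t70 t71 : K), t47 ≠ 0 → UP D (R.RNF (0) (0) (0) (0) (0) (0) (0) (0) (0) (t47) (0) (t41) (0) (0) (0) (t58) (t45) (t49) (t51) (t59) (t61) (t52) (t53) (t60) (t62) (t54) (t63) (t64) (t55) (t65) (t67) (t66) (t68) (t69) (t70) (t71))) :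
    ∀ (t47 t41 t50 t58 t45 t49 t51 t59 t61 t52 t53 t60 t62 t54 t63 t64 t55 t65 t67 t66 t68 t69 t70 t71 : K), t47 ≠ 0 → UP D (R.RNF (0) (0) (0) (0) (0) (0) (0) (0) (0) (t47) (0) (t41) (0) (0) (t50) (t58) (t45) (t49) (t51) (t59) (t61) (t52) (t53) (t60) (t62) (t54) (t63) (t64) (t55) (t65) (t67) (t66) (t68) (t69) (t70) (t71)) := by
  intro t47 t41 t50 t58 t45 t49 t51 t59 t61 t52 t53 t60 t62 t54 t63 t64 t55 t65 t67 t66 t68 t69 t70 t71 hn47
  have h2 : (2 : K) = 0 := CharTwo.two_eq_zero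
  have h4 : (4 : K) = 0 := by linear_combination 2 * h2
  have h6 : (6 : K) = 0 := by linear_combination 3 * h2
  have h8 : (8 : K) = 0 := by linear_combination 4 * h2
  have h10 : (10 : K) = 0 := by linear_combination 5 * h2
  have h12 : (12 : K) = 0 := by linear_combination 6 * h2
  have h14 : (14 : K) = 0 := by linear_combination 7 * h2
  have h16 : (16 : K) = 0 := by linear_combination 8 * h2
  have h18 : (18 : K) = 0 := by linear_combination 9 * h2
  have h20 : (20 : K) = 0 := by linear_combination 10 * h2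
  have h22 : (22 : K) = 0 := by linear_combination 11 * h2
  have h24 : (24 : K) = 0 := by linear_combination 12 * h2
  have h26 : (26 : K) = 0 := by linear_combination 13 * h2
  have h28 : (28 : K) = 0 := by linear_combination 14 * h2
  have h30 : (30 : K) = 0 := by linear_combination 15 * h2
  have h32 : (32 : K) = 0 := by linear_combination 16 * h2
  obtain ⟨c, rfl⟩ : ∃ c, t50 = c * t47 := ⟨t50 / t47, by field_simp⟩
  have e : R.X42 c * R.RNF (0) (0) (0) (0) (0) (0) (0) (0) (0) (t47) (0) (t41) (0) (0) (c * t47) (t58) (t45) (t49) (t51) (t59) (t61) (t52) (t53) (t60) (t62) (t54) (t63) (t64) (t55) (t65) (t67) (t66) (t68) (t69) (t70) (t71) * R.X42 c =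
      R.RNF (0) (0) (0) (0) (0) (0) (0) (0) (0) (t47) (0) (t41) (0) (0) (0) (t58) (c * t41 + t45) (t49) (t51) (t59) (t61) (c * t49 + t52) (t53) (t60) (t62) (c * t41 * t47 + t54) (t63) (t64) (t55) (t65) (c * t64 + t67) (t66) (c * t65 + t68) (c * t49 * t59 + c * t66 + t69) (c * t41 * t47 * t59 + t70) (c * t41 * t47 * t62 + t71) := by
    rw [R.ucj42]
    congr 1 <;> (first | rfl | ring1 | (rw [← sub_eq_zero]; ring_nf; simp only [h2, h4, h6, h8, h10, h12, h14, h16, h18, h20, h22, h24, h26, h28, h30, h32, mul_zero, zero_mul, add_zero, zero_add, neg_zero, sub_zero, sub_self]))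
  exact UP_cj D (D.xmem42 c) (R.inv42 c) e (ih _ _ _ _ _ _ _ _ _ _ _ _ _ _ _ _ _ _ _ _ _ _ _ hn47)

theorem e6s9_5 (D : UData R)
    (ih : ∀ (t47 t41 t58 t45 t51 t59 t61 t52 t53 t60 t62 t54 t63 t64 t55 t65 t67 t66 t68 t69 t70 t71 : K), t47 ≠ 0 → UP D (R.RNF (0) (0) (0) (0) (0) (0) (0) (0) (0) (t47) (0) (t41) (0) (0) (0) (t58) (t45) (0) (t51) (t59) (t61) (t52) (t53) (t60) (t62) (t54) (t63) (t64) (t55) (t65) (t67) (t66) (t68) (t69) (t70) (t71))) :
    ∀ (t47 t41 t58 t45 t49 t51 t59 t61 t52 t53 t60 t62 t54 t63 t64 t55 t65 t67 t66 t68 t69 t70 t71 : K), t47 ≠ 0 → UP D (R.RNF (0) (0) (0) (0) (0) (0) (0) (0) (0) (t47) (0) (t41) (0) (0) (0) (t58) (t45) (t49) (t51) (t59) (t61) (t52) (t53) (t60) (t62) (t54) (t63) (t64) (t55) (t65) (t67) (t66) (t68) (t69) (t70) (t71)) := by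
  intro t47 t41 t58 t45 t49 t51 t59 t61 t52 t53 t60 t62 t54 t63 t64 t55 t65 t67 t66 t68 t69 t70 t71 hn47
  have h2 : (2 : K) = 0 := CharTwo.two_eq_zero
  have h4 : (4 : K) = 0 := by linear_combination 2 * h2
  have h6 : (6 : K) = 0 := by linear_combination 3 * h2
  have h8 : (8 : K) = 0 := by linear_combination 4 * h2
  have h10 : (10 : K) = 0 := by linear_combination 5 * h2
  have h12 : (12 : K) = 0 := by linear_combination 6 * h2
  have h14 : (14 : K) = 0 := by linear_combination 7 * h2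
  have h16 : (16 : K) = 0 := by linear_combination 8 * h2
  have h18 : (18 : K) = 0 := by linear_combination 9 * h2
  have h20 : (20 : K) = 0 := by linear_combination 10 * h2
  have h22 : (22 : K) = 0 := by linear_combination 11 * h2
  have h24 : (24 : K) = 0 := by linear_combination 12 * h2
  have h26 : (26 : K) = 0 := by linear_combination 13 * h2
  have h28 : (28 : K) = 0 := by linear_combination 14 * h2
  have h30 : (30 : K) = 0 := by linear_combination 15 * h2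
  have h32 : (32 : K) = 0 := by linear_combination 16 * h2
  obtain ⟨c, rfl⟩ : ∃ c, t49 = c * t47 := ⟨t49 / t47, by field_simp⟩
  have e : R.X38 c * R.RNF (0) (0) (0) (0) (0) (0) (0) (0) (0) (t47) (0) (t41) (0) (0) (0) (t58) (t45) (c * t47) (t51) (t59) (t61) (t52) (t53) (t60) (t62) (t54) (t63) (t64) (t55) (t65) (t67) (t66) (t68) (t69) (t70) (t71) * R.X38 c =
      R.RNF (0) (0) (0) (0) (0) (0) (0) (0) (0) (t47) (0) (t41) (0) (0) (0) (t58) (t45) (0) (t51) (t59) (t61) (t52) (t53) (c * t58 + t60) (t62) (t54) (c * t61 + t63) (t64) (c * t53 + t55) (c * t47 * t58 + t65) (t67) (c * t64 + t66) (t68) (c * t51 * t58 + c * t67 + t69) (c * t53 * t58 + t70) (c * t47 * t51 * t58 + c * t53 * t61 + t71) := by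
    rw [R.ucj38]
    congr 1 <;> (first | rfl | ring1 | (rw [← sub_eq_zero]; ring_nf; simp only [h2, h4, h6, h8, h10, h12, h14, h16, h18, h20, h22, h24, h26, h28, h30, h32, mul_zero, zero_mul, add_zero, zero_add, neg_zero, sub_zero, sub_self]))
  exact UP_cj D (D.xmem38 c) (R.inv38 c) e (ih _ _ _ _ _ _ _ _ _ _ _ _ _ _ _ _ _ _ _ _ _ _ hn47)

theorem e6s9_6 (D : UData R)
    (ih : ∀ (t47 t41 t58 t45 t51 t59 t52 t53 t60 t62 t54 t63 t64 t55 t65 t67 t66 t68 t69 t70 t71 : K), t47 ≠ 0 → UP D (R.RNF (0) (0) (0) (0) (0) (0) (0) (0) (0) (t47) (0) (t41) (0) (0) (0) (t58) (t45) (0) (t51) (t59) (0) (t52) (t53) (t60) (t62) (t54) (t63) (t64) (t55) (t65) (t67) (t66) (t68) (t69) (t70) (t71))) :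
    ∀ (t47 t41 t58 t45 t51 t59 t61 t52 t53 t60 t62 t54 t63 t64 t55 t65 t67 t66 t68 t69 t70 t71 : K), t47 ≠ 0 → UP D (R.RNF (0) (0) (0) (0) (0) (0) (0) (0) (0) (t47) (0) (t41) (0) (0) (0) (t58) (t45) (0) (t51) (t59) (t61) (t52) (t53) (t60) (t62) (t54) (t63) (t64) (t55) (t65) (t67) (t66) (t68) (t69) (t70) (t71)) := by
  intro t47 t41 t58 t45 t51 t59 t61 t52 t53 t60 t62 t54 t63 t64 t55 t65 t67 t66 t68 t69 t70 t71 hn47
  have h2 : (2 : K) = 0 := CharTwo.two_eq_zero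
  have h4 : (4 : K) = 0 := by linear_combination 2 * h2
  have h6 : (6 : K) = 0 := by linear_combination 3 * h2
  have h8 : (8 : K) = 0 := by linear_combination 4 * h2
  have h10 : (10 : K) = 0 := by linear_combination 5 * h2
  have h12 : (12 : K) = 0 := by linear_combination 6 * h2
  have h14 : (14 : K) = 0 := by linear_combination 7 * h2
  have h16 : (16 : K) = 0 := by linear_combination 8 * h2
  have h18 : (18 : K) = 0 := by linear_combination 9 * h2
  have h20 : (20 : K) = 0 := by linear_combination 10 * h2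
  have h22 : (22 : K) = 0 := by linear_combination 11 * h2
  have h24 : (24 : K) = 0 := by linear_combination 12 * h2
  have h26 : (26 : K) = 0 := by linear_combination 13 * h2
  have h28 : (28 : K) = 0 := by linear_combination 14 * h2
  have h30 : (30 : K) = 0 := by linear_combination 15 * h2
  have h32 : (32 : K) = 0 := by linear_combination 16 * h2
  obtain ⟨c, rfl⟩ : ∃ c, t61 = c * t47 := ⟨t61 / t47, by field_simp⟩
  have e : R.X57 c * R.RNF (0) (0) (0) (0) (0) (0) (0) (0) (0) (t47) (0) (t41) (0) (0) (0) (t58) (t45) (0) (t51) (t59) (c * t47) (t52) (t53) (t60) (t62) (t54) (t63) (t64) (t55) (t65) (t67) (t66) (t68) (t69) (t70) (t71) * R.X57 c =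
      R.RNF (0) (0) (0) (0) (0) (0) (0) (0) (0) (t47) (0) (t41) (0) (0) (0) (t58) (t45) (0) (t51) (t59) (0) (t52) (t53) (c * t41 + t60) (t62) (t54) (t63) (t64) (t55) (c * t41 * t47 + t65) (c * t53 + t67) (t66) (c * t45 * t47 + c * t54 + t68) (c * t41 * t51 + c * t55 + t69) (c * t41 * t53 + t70) (c * t41 * t47 * t51 + t71) := by
    rw [R.ucj57]
    congr 1 <;> (first | rfl | ring1 | (rw [← sub_eq_zero]; ring_nf; simp only [h2, h4, h6, h8, h10, h12, h14, h16, h18, h20, h22, h24, h26, h28, h30, h32, mul_zero, zero_mul, add_zero, zero_add, neg_zero, sub_zero, sub_self]))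
  exact UP_cj D (D.xmem57 c) (R.inv57 c) e (ih _ _ _ _ _ _ _ _ _ _ _ _ _ _ _ _ _ _ _ _ _ hn47)

theorem e6s9_7 (D : UData R)
    (ih : ∀ (t47 t41 t58 t45 t51 t59 t52 t60 t62 t54 t63 t64 t55 t65 t67 t66 t68 t69 t70 t71 : K), t47 ≠ 0 → UP D (R.RNF (0) (0) (0) (0) (0) (0) (0) (0) (0) (t47) (0) (t41) (0) (0) (0) (t58) (t45) (0) (t51) (t59) (0) (t52) (0) (t60) (t62) (t54) (t63) (t64) (t55) (t65) (t67) (t66) (t68) (t69) (t70) (t71))) :
    ∀ (t47 t41 t58 t45 t51 t59 t52 t53 t60 t62 t54 t63 t64 t55 t65 t67 t66 t68 t69 t70 t71 : K), t47 ≠ 0 → UP D (R.RNF (0) (0) (0) (0) (0) (0) (0) (0) (0) (t47) (0) (t41) (0) (0) (0) (t58) (t45) (0) (t51) (t59) (0) (t52) (t53) (t60) (t62) (t54) (t63) (t64) (t55) (t65) (t67) (t66) (t68) (t69) (t70) (t71)) := by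
  intro t47 t41 t58 t45 t51 t59 t52 t53 t60 t62 t54 t63 t64 t55 t65 t67 t66 t68 t69 t70 t71 hn47
  have h2 : (2 : K) = 0 := CharTwo.two_eq_zero
  have h4 : (4 : K) = 0 := by linear_combination 2 * h2
  have h6 : (6 : K) = 0 := by linear_combination 3 * h2
  have h8 : (8 : K) = 0 := by linear_combination 4 * h2
  have h10 : (10 : K) = 0 := by linear_combination 5 * h2
  have h12 : (12 : K) = 0 := by linear_combination 6 * h2
  have h14 : (14 : K) = 0 := by linear_combination 7 * h2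
  have h16 : (16 : K) = 0 := by linear_combination 8 * h2
  have h18 : (18 : K) = 0 := by linear_combination 9 * h2
  have h20 : (20 : K) = 0 := by linear_combination 10 * h2
  have h22 : (22 : K) = 0 := by linear_combination 11 * h2
  have h24 : (24 : K) = 0 := by linear_combination 12 * h2
  have h26 : (26 : K) = 0 := by linear_combination 13 * h2
  have h28 : (28 : K) = 0 := by linear_combination 14 * h2
  have h30 : (30 : K) = 0 := by linear_combination 15 * h2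
  have h32 : (32 : K) = 0 := by linear_combination 16 * h2
  obtain ⟨c, rfl⟩ : ∃ c, t53 = c * t47 := ⟨t53 / t47, by field_simp⟩
  have e : R.X44 c * R.RNF (0) (0) (0) (0) (0) (0) (0) (0) (0) (t47) (0) (t41) (0) (0) (0) (t58) (t45) (0) (t51) (t59) (0) (t52) (c * t47) (t60) (t62) (t54) (t63) (t64) (t55) (t65) (t67) (t66) (t68) (t69) (t70) (t71) * R.X44 c =
      R.RNF (0) (0) (0) (0) (0) (0) (0) (0) (0) (t47) (0) (t41) (0) (0) (0) (t58) (t45) (0) (t51) (t59) (0) (t52) (0) (t60) (t62) (t54) (t63) (t64) (t55) (t65) (t67) (t66) (t68) (c * t63 + t69) (c * t65 + t70) (t71) := by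
    rw [R.ucj44]
    congr 1 <;> (first | rfl | ring1 | (rw [← sub_eq_zero]; ring_nf; simp only [h2, h4, h6, h8, h10, h12, h14, h16, h18, h20, h22, h24, h26, h28, h30, h32, mul_zero, zero_mul, add_zero, zero_add, neg_zero, sub_zero, sub_self]))
  exact UP_cj D (D.xmem44 c) (R.inv44 c) e (ih _ _ _ _ _ _ _ _ _ _ _ _ _ _ _ _ _ _ _ _ hn47)

theorem e6s9_8 (D : UData R)
    (ih : ∀ (t47 t41 t58 t45 t51 t59 t52 t60 t62 t63 t64 t55 t65 t67 t66 t68 t69 t70 t71 : K), t47 ≠ 0 → UP D (R.RNF (0) (0) (0) (0) (0) (0) (0) (0) (0) (t47) (0) (t41) (0) (0) (0) (t58) (t45) (0) (t51) (t59) (0) (t52) (0) (t60) (t62) (0) (t63) (t64) (t55) (t65) (t67) (t66) (t68) (t69) (t70) (t71))) :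
    ∀ (t47 t41 t58 t45 t51 t59 t52 t60 t62 t54 t63 t64 t55 t65 t67 t66 t68 t69 t70 t71 : K), t47 ≠ 0 → UP D (R.RNF (0) (0) (0) (0) (0) (0) (0) (0) (0) (t47) (0) (t41) (0) (0) (0) (t58) (t45) (0) (t51) (t59) (0) (t52) (0) (t60) (t62) (t54) (t63) (t64) (t55) (t65) (t67) (t66) (t68) (t69) (t70) (t71)) := by
  intro t47 t41 t58 t45 t51 t59 t52 t60 t62 t54 t63 t64 t55 t65 t67 t66 t68 t69 t70 t71 hn47
  have h2 : (2 : K) = 0 := CharTwo.two_eq_zero
  have h4 : (4 : K) = 0 := by linear_combination 2 * h2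
  have h6 : (6 : K) = 0 := by linear_combination 3 * h2
  have h8 : (8 : K) = 0 := by linear_combination 4 * h2
  have h10 : (10 : K) = 0 := by linear_combination 5 * h2
  have h12 : (12 : K) = 0 := by linear_combination 6 * h2
  have h14 : (14 : K) = 0 := by linear_combination 7 * h2
  have h16 : (16 : K) = 0 := by linear_combination 8 * h2
  have h18 : (18 : K) = 0 := by linear_combination 9 * h2
  have h20 : (20 : K) = 0 := by linear_combination 10 * h2
  have h22 : (22 : K) = 0 := by linear_combination 11 * h2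
  have h24 : (24 : K) = 0 := by linear_combination 12 * h2
  have h26 : (26 : K) = 0 := by linear_combination 13 * h2
  have h28 : (28 : K) = 0 := by linear_combination 14 * h2
  have h30 : (30 : K) = 0 := by linear_combination 15 * h2
  have h32 : (32 : K) = 0 := by linear_combination 16 * h2
  obtain ⟨c, rfl⟩ : ∃ c, t54 = c * t47 := ⟨t54 / t47, by field_simp⟩
  have e : R.X45 c * R.RNF (0) (0) (0) (0) (0) (0) (0) (0) (0) (t47) (0) (t41) (0) (0) (0) (t58) (t45) (0) (t51) (t59) (0) (t52) (0) (t60) (t62) (c * t47) (t63) (t64) (t55) (t65) (t67) (t66) (t68) (t69) (t70) (t71) * R.X45 c =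
      R.RNF (0) (0) (0) (0) (0) (0) (0) (0) (0) (t47) (0) (t41) (0) (0) (0) (t58) (t45) (0) (t51) (t59) (0) (t52) (0) (t60) (t62) (0) (t63) (t64) (t55) (t65) (t67) (t66) (t68) (c * t62 + t69) (c * t47 * t59 + c * t64 + t70) (c * t47 * t62 + t71) := by
    rw [R.ucj45]
    congr 1 <;> (first | rfl | ring1 | (rw [← sub_eq_zero]; ring_nf; simp only [h2, h4, h6, h8, h10, h12, h14, h16, h18, h20, h22, h24, h26, h28, h30, h32, mul_zero, zero_mul, add_zero, zero_add, neg_zero, sub_zero, sub_self]))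
  exact UP_cj D (D.xmem45 c) (R.inv45 c) e (ih _ _ _ _ _ _ _ _ _ _ _ _ _ _ _ _ _ _ _ hn47)

theorem e6s9_9 (D : UData R)
    (ih : ∀ (t47 t41 t58 t45 t51 t59 t52 t60 t62 t63 t55 t65 t67 t66 t68 t69 t70 t71 : K), t47 ≠ 0 → UP D (R.RNF (0) (0) (0) (0) (0) (0) (0) (0) (0) (t47) (0) (t41) (0) (0) (0) (t58) (t45) (0) (t51) (t59) (0) (t52) (0) (t60) (t62) (0) (t63) (0) (t55) (t65) (t67) (t66) (t68) (t69) (t70) (t71))) :
    ∀ (t47 t41 t58 t45 t51 t59 t52 t60 t62 t63 t64 t55 t65 t67 t66 t68 t69 t70 t71 : K), t47 ≠ 0 → UP D (R.RNF (0) (0) (0) (0) (0) (0) (0) (0) (0) (t47) (0) (t41) (0) (0) (0) (t58) (t45) (0) (t51) (t59) (0) (t52) (0) (t60) (t62) (0) (t63) (t64) (t55) (t65) (t67) (t66) (t68) (t69) (t70) (t71)) := by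
  intro t47 t41 t58 t45 t51 t59 t52 t60 t62 t63 t64 t55 t65 t67 t66 t68 t69 t70 t71 hn47
  have h2 : (2 : K) = 0 := CharTwo.two_eq_zero
  have h4 : (4 : K) = 0 := by linear_combination 2 * h2
  have h6 : (6 : K) = 0 := by linear_combination 3 * h2
  have h8 : (8 : K) = 0 := by linear_combination 4 * h2
  have h10 : (10 : K) = 0 := by linear_combination 5 * h2
  have h12 : (12 : K) = 0 := by linear_combination 6 * h2
  have h14 : (14 : K) = 0 := by linear_combination 7 * h2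
  have h16 : (16 : K) = 0 := by linear_combination 8 * h2
  have h18 : (18 : K) = 0 := by linear_combination 9 * h2
  have h20 : (20 : K) = 0 := by linear_combination 10 * h2
  have h22 : (22 : K) = 0 := by linear_combination 11 * h2
  have h24 : (24 : K) = 0 := by linear_combination 12 * h2
  have h26 : (26 : K) = 0 := by linear_combination 13 * h2
  have h28 : (28 : K) = 0 := by linear_combination 14 * h2
  have h30 : (30 : K) = 0 := by linear_combination 15 * h2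
  have h32 : (32 : K) = 0 := by linear_combination 16 * h2
  obtain ⟨c, rfl⟩ : ∃ c, t64 = c * t47 := ⟨t64 / t47, by field_simp⟩
  have e : R.X59 c * R.RNF (0) (0) (0) (0) (0) (0) (0) (0) (0) (t47) (0) (t41) (0) (0) (0) (t58) (t45) (0) (t51) (t59) (0) (t52) (0) (t60) (t62) (0) (t63) (c * t47) (t55) (t65) (t67) (t66) (t68) (t69) (t70) (t71) * R.X59 c =
      R.RNF (0) (0) (0) (0) (0) (0) (0) (0) (0) (t47) (0) (t41) (0) (0) (0) (t58) (t45) (0) (t51) (t59) (0) (t52) (0) (t60) (t62) (0) (t63) (0) (t55) (t65) (t67) (t66) (t68) (c * t52 + t69) (c * t45 * t47 + t70) (c * t47 * t52 + t71) := by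
    rw [R.ucj59]
    congr 1 <;> (first | rfl | ring1 | (rw [← sub_eq_zero]; ring_nf; simp only [h2, h4, h6, h8, h10, h12, h14, h16, h18, h20, h22, h24, h26, h28, h30, h32, mul_zero, zero_mul, add_zero, zero_add, neg_zero, sub_zero, sub_self]))
  exact UP_cj D (D.xmem59 c) (R.inv59 c) e (ih _ _ _ _ _ _ _ _ _ _ _ _ _ _ _ _ _ _ hn47)

theorem e6s9_10 (D : UData R)
    (ih : ∀ (t47 t41 t58 t45 t51 t59 t52 t60 t62 t63 t55 t67 t66 t68 t69 t70 t71 : K), t47 ≠ 0 → UP D (R.RNF (0) (0) (0) (0) (0) (0) (0) (0) (0) (t47) (0) (t41) (0) (0) (0) (t58) (t45) (0) (t51) (t59) (0) (t52) (0) (t60) (t62) (0) (t63) (0) (t55) (0) (t67) (t66) (t68) (t69) (t70) (t71))) :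
    ∀ (t47 t41 t58 t45 t51 t59 t52 t60 t62 t63 t55 t65 t67 t66 t68 t69 t70 t71 : K), t47 ≠ 0 → UP D (R.RNF (0) (0) (0) (0) (0) (0) (0) (0) (0) (t47) (0) (t41) (0) (0) (0) (t58) (t45) (0) (t51) (t59) (0) (t52) (0) (t60) (t62) (0) (t63) (0) (t55) (t65) (t67) (t66) (t68) (t69) (t70) (t71)) := by
  intro t47 t41 t58 t45 t51 t59 t52 t60 t62 t63 t55 t65 t67 t66 t68 t69 t70 t71 hn47
  have h2 : (2 : K) = 0 := CharTwo.two_eq_zero
  have h4 : (4 : K) = 0 := by linear_combination 2 * h2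
  have h6 : (6 : K) = 0 := by linear_combination 3 * h2
  have h8 : (8 : K) = 0 := by linear_combination 4 * h2
  have h10 : (10 : K) = 0 := by linear_combination 5 * h2
  have h12 : (12 : K) = 0 := by linear_combination 6 * h2
  have h14 : (14 : K) = 0 := by linear_combination 7 * h2
  have h16 : (16 : K) = 0 := by linear_combination 8 * h2
  have h18 : (18 : K) = 0 := by linear_combination 9 * h2
  have h20 : (20 : K) = 0 := by linear_combination 10 * h2
  have h22 : (22 : K) = 0 := by linear_combination 11 * h2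
  have h24 : (24 : K) = 0 := by linear_combination 12 * h2
  have h26 : (26 : K) = 0 := by linear_combination 13 * h2
  have h28 : (28 : K) = 0 := by linear_combination 14 * h2
  have h30 : (30 : K) = 0 := by linear_combination 15 * h2
  have h32 : (32 : K) = 0 := by linear_combination 16 * h2
  obtain ⟨c, rfl⟩ : ∃ c, t65 = c * t47 := ⟨t65 / t47, by field_simp⟩
  have e : R.X60 c * R.RNF (0) (0) (0) (0) (0) (0) (0) (0) (0) (t47) (0) (t41) (0) (0) (0) (t58) (t45) (0) (t51) (t59) (0) (t52) (0) (t60) (t62) (0) (t63) (0) (t55) (c * t47) (t67) (t66) (t68) (t69) (t70) (t71) * R.X60 c =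
      R.RNF (0) (0) (0) (0) (0) (0) (0) (0) (0) (t47) (0) (t41) (0) (0) (0) (t58) (t45) (0) (t51) (t59) (0) (t52) (0) (t60) (t62) (0) (t63) (0) (t55) (0) (t67) (t66) (t68) (c * t51 + t69) (t70) (c * t47 * t51 + t71) := by
    rw [R.ucj60]
    congr 1 <;> (first | rfl | ring1 | (rw [← sub_eq_zero]; ring_nf; simp only [h2, h4, h6, h8, h10, h12, h14, h16, h18, h20, h22, h24, h26, h28, h30, h32, mul_zero, zero_mul, add_zero, zero_add, neg_zero, sub_zero, sub_self]))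
  exact UP_cj D (D.xmem60 c) (R.inv60 c) e (ih _ _ _ _ _ _ _ _ _ _ _ _ _ _ _ _ _ hn47)

theorem e6s9_11 (D : UData R)
    (ih : ∀ (t47 t41 t58 t45 t51 t59 t52 t60 t62 t63 t55 t67 t66 t68 t69 t70 : K), t47 ≠ 0 → UP D (R.RNF (0) (0) (0) (0) (0) (0) (0) (0) (0) (t47) (0) (t41) (0) (0) (0) (t58) (t45) (0) (t51) (t59) (0) (t52) (0) (t60) (t62) (0) (t63) (0) (t55) (0) (t67) (t66) (t68) (t69) (t70) (0))) :
    ∀ (t47 t41 t58 t45 t51 t59 t52 t60 t62 t63 t55 t67 t66 t68 t69 t70 t71 : K), t47 ≠ 0 → UP D (R.RNF (0) (0) (0) (0) (0) (0) (0) (0) (0) (t47) (0) (t41) (0) (0) (0) (t58) (t45) (0) (t51) (t59) (0) (t52) (0) (t60) (t62) (0) (t63) (0) (t55) (0) (t67) (t66) (t68) (t69) (t70) (t71)) := by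
  intro t47 t41 t58 t45 t51 t59 t52 t60 t62 t63 t55 t67 t66 t68 t69 t70 t71 hn47
  have h2 : (2 : K) = 0 := CharTwo.two_eq_zero
  have h4 : (4 : K) = 0 := by linear_combination 2 * h2
  have h6 : (6 : K) = 0 := by linear_combination 3 * h2
  have h8 : (8 : K) = 0 := by linear_combination 4 * h2
  have h10 : (10 : K) = 0 := by linear_combination 5 * h2
  have h12 : (12 : K) = 0 := by linear_combination 6 * h2
  have h14 : (14 : K) = 0 := by linear_combination 7 * h2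
  have h16 : (16 : K) = 0 := by linear_combination 8 * h2
  have h18 : (18 : K) = 0 := by linear_combination 9 * h2
  have h20 : (20 : K) = 0 := by linear_combination 10 * h2
  have h22 : (22 : K) = 0 := by linear_combination 11 * h2
  have h24 : (24 : K) = 0 := by linear_combination 12 * h2
  have h26 : (26 : K) = 0 := by linear_combination 13 * h2
  have h28 : (28 : K) = 0 := by linear_combination 14 * h2
  have h30 : (30 : K) = 0 := by linear_combination 15 * h2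
  have h32 : (32 : K) = 0 := by linear_combination 16 * h2
  obtain ⟨c, rfl⟩ : ∃ c, t71 = c * t47 := ⟨t71 / t47, by field_simp⟩
  have e : R.X69 c * R.RNF (0) (0) (0) (0) (0) (0) (0) (0) (0) (t47) (0) (t41) (0) (0) (0) (t58) (t45) (0) (t51) (t59) (0) (t52) (0) (t60) (t62) (0) (t63) (0) (t55) (0) (t67) (t66) (t68) (t69) (t70) (c * t47) * R.X69 c =
      R.RNF (0) (0) (0) (0) (0) (0) (0) (0) (0) (t47) (0) (t41) (0) (0) (0) (t58) (t45) (0) (t51) (t59) (0) (t52) (0) (t60) (t62) (0) (t63) (0) (t55) (0) (t67) (t66) (t68) (t69) (t70) (0) := by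
    rw [R.ucj69]
    congr 1 <;> (first | rfl | ring1 | (rw [← sub_eq_zero]; ring_nf; simp only [h2, h4, h6, h8, h10, h12, h14, h16, h18, h20, h22, h24, h26, h28, h30, h32, mul_zero, zero_mul, add_zero, zero_add, neg_zero, sub_zero, sub_self]))
  exact UP_cj D (D.xmem69 c) (R.inv69 c) e (ih _ _ _ _ _ _ _ _ _ _ _ _ _ _ _ _ hn47)

theorem e6s9_12 (D : UData R)
    (ih : ∀ (t47 t41 t58 t51 t59 t52 t60 t62 t63 t55 t67 t66 t68 t69 t70 : K), t47 ≠ 0 → UP D (R.RNF (0) (0) (0) (0) (0) (0) (0) (0) (0) (t47) (0) (t41) (0) (0) (0) (t58) (0) (0) (t51) (t59) (0) (t52) (0) (t60) (t62) (0) (t63) (0) (t55) (0) (t67) (t66) (t68) (t69) (t70) (0))) :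
    ∀ (t47 t41 t58 t45 t51 t59 t52 t60 t62 t63 t55 t67 t66 t68 t69 t70 : K), t47 ≠ 0 → UP D (R.RNF (0) (0) (0) (0) (0) (0) (0) (0) (0) (t47) (0) (t41) (0) (0) (0) (t58) (t45) (0) (t51) (t59) (0) (t52) (0) (t60) (t62) (0) (t63) (0) (t55) (0) (t67) (t66) (t68) (t69) (t70) (0)) := by
  intro t47 t41 t58 t45 t51 t59 t52 t60 t62 t63 t55 t67 t66 t68 t69 t70 hn47 hu hne
  have hsq := hu
  rw [R.usq] at hsq
  obtain ⟨e36, e37, e39, e42, e46, e56, e38, e40, e43, e47, e57, e41, e44, e48, e50, e58, e45, e49, e51, e59, e61, e52, e53, e60, e62, e54, e63, e64, e55, e65, e67, e66, e68, e69, e70, e71⟩ := D.inj _ _ _ _ _ _ _ _ _ _ _ _ _ _ _ _ _ _ _ _ _ _ _ _ _ _ _ _ _ _ _ _ _ _ _ _ hsq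
  have hz : t45 = 0 := by
    have h : t47 * t45 = 0 := by linear_combination e54
    exact (mul_eq_zero.mp h).resolve_left hn47
  subst hz
  exact ih _ _ _ _ _ _ _ _ _ _ _ _ _ _ _ hn47 hu hne

theorem e6s9_13 (D : UData R)
    (ih : ∀ (t47 t41 t58 t51 t52 t60 t62 t63 t55 t67 t66 t68 t69 t70 : K), t47 ≠ 0 → UP D (R.RNF (0) (0) (0) (0) (0) (0) (0) (0) (0) (t47) (0) (t41) (0) (0) (0) (t58) (0) (0) (t51) (0) (0) (t52) (0) (t60) (t62) (0) (t63) (0) (t55) (0) (t67) (t66) (t68) (t69) (t70) (0))) :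
    ∀ (t47 t41 t58 t51 t59 t52 t60 t62 t63 t55 t67 t66 t68 t69 t70 : K), t47 ≠ 0 → UP D (R.RNF (0) (0) (0) (0) (0) (0) (0) (0) (0) (t47) (0) (t41) (0) (0) (0) (t58) (0) (0) (t51) (t59) (0) (t52) (0) (t60) (t62) (0) (t63) (0) (t55) (0) (t67) (t66) (t68) (t69) (t70) (0)) := by
  intro t47 t41 t58 t51 t59 t52 t60 t62 t63 t55 t67 t66 t68 t69 t70 hn47 hu hne
  have hsq := hu
  rw [R.usq] at hsq
  obtain ⟨e36, e37, e39, e42, e46, e56, e38, e40, e43, e47, e57, e41, e44, e48, e50, e58, e45, e49, e51, e59, e61, e52, e53, e60, e62, e54, e63, e64, e55, e65, e67, e66, e68, e69, e70, e71⟩ := D.inj _ _ _ _ _ _ _ _ _ _ _ _ _ _ _ _ _ _ _ _ _ _ _ _ _ _ _ _ _ _ _ _ _ _ _ _ hsq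
  have hz : t59 = 0 := by
    have h : t47 * t59 = 0 := by linear_combination e64
    exact (mul_eq_zero.mp h).resolve_left hn47
  subst hz
  exact ih _ _ _ _ _ _ _ _ _ _ _ _ _ _ hn47 hu hne

theorem e6s9_14 (D : UData R)
    (ih : ∀ (t47 t41 t58 t51 t52 t62 t63 t55 t67 t66 t68 t69 t70 : K), t47 ≠ 0 → UP D (R.RNF (0) (0) (0) (0) (0) (0) (0) (0) (0) (t47) (0) (t41) (0) (0) (0) (t58) (0) (0) (t51) (0) (0) (t52) (0) (0) (t62) (0) (t63) (0) (t55) (0) (t67) (t66) (t68) (t69) (t70) (0))) :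
    ∀ (t47 t41 t58 t51 t52 t60 t62 t63 t55 t67 t66 t68 t69 t70 : K), t47 ≠ 0 → UP D (R.RNF (0) (0) (0) (0) (0) (0) (0) (0) (0) (t47) (0) (t41) (0) (0) (0) (t58) (0) (0) (t51) (0) (0) (t52) (0) (t60) (t62) (0) (t63) (0) (t55) (0) (t67) (t66) (t68) (t69) (t70) (0)) := by
  intro t47 t41 t58 t51 t52 t60 t62 t63 t55 t67 t66 t68 t69 t70 hn47 hu hne
  have hsq := hu
  rw [R.usq] at hsq
  obtain ⟨e36, e37, e39, e42, e46, e56, e38, e40, e43, e47, e57, e41, e44, e48, e50, e58, e45, e49, e51, e59, e61, e52, e53, e60, e62, e54, e63, e64, e55, e65, e67, e66, e68, e69, e70, e71⟩ := D.inj _ _ _ _ _ _ _ _ _ _ _ _ _ _ _ _ _ _ _ _ _ _ _ _ _ _ _ _ _ _ _ _ _ _ _ _ hsq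
  have hz : t60 = 0 := by
    have h : t47 * t60 = 0 := by linear_combination e65
    exact (mul_eq_zero.mp h).resolve_left hn47
  subst hz
  exact ih _ _ _ _ _ _ _ _ _ _ _ _ _ hn47 hu hne

theorem e6s9_15 (D : UData R)
    (ih : ∀ (t47 t41 t58 t51 t52 t62 t63 t55 t67 t66 t68 t70 : K), t47 ≠ 0 → UP D (R.RNF (0) (0) (0) (0) (0) (0) (0) (0) (0) (t47) (0) (t41) (0) (0) (0) (t58) (0) (0) (t51) (0) (0) (t52) (0) (0) (t62) (0) (t63) (0) (t55) (0) (t67) (t66) (t68) (0) (t70) (0))) :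
    ∀ (t47 t41 t58 t51 t52 t62 t63 t55 t67 t66 t68 t69 t70 : K), t47 ≠ 0 → UP D (R.RNF (0) (0) (0) (0) (0) (0) (0) (0) (0) (t47) (0) (t41) (0) (0) (0) (t58) (0) (0) (t51) (0) (0) (t52) (0) (0) (t62) (0) (t63) (0) (t55) (0) (t67) (t66) (t68) (t69) (t70) (0)) := by
  intro t47 t41 t58 t51 t52 t62 t63 t55 t67 t66 t68 t69 t70 hn47 hu hne
  have hsq := hu
  rw [R.usq] at hsq
  obtain ⟨e36, e37, e39, e42, e46, e56, e38, e40, e43, e47, e57, e41, e44, e48, e50, e58, e45, e49, e51, e59, e61, e52, e53, e60, e62, e54, e63, e64, e55, e65, e67, e66, e68, e69, e70, e71⟩ := D.inj _ _ _ _ _ _ _ _ _ _ _ _ _ _ _ _ _ _ _ _ _ _ _ _ _ _ _ _ _ _ _ _ _ _ _ _ hsq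
  have hz : t69 = 0 := by
    have h : t47 * t69 = 0 := by linear_combination e71
    exact (mul_eq_zero.mp h).resolve_left hn47
  subst hz
  exact ih _ _ _ _ _ _ _ _ _ _ _ _ hn47 hu hne

theorem e6s9_16 (D : UData R)
    (ih : ∀ (t48 t50 t58 t45 t49 t62 t63 t64 t55 t65 t69 t70 : K), t50 ≠ 0 → UP D (R.RNF (0) (0) (0) (0) (0) (0) (0) (0) (0) (0) (0) (0) (0) (t48) (t50) (t58) (t45) (t49) (0) (0) (0) (0) (0) (0) (t62) (0) (t63) (t64) (t55) (t65) (0) (0) (0) (t69) (t70) (0))) :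
    ∀ (t47 t41 t58 t51 t52 t62 t63 t55 t67 t66 t68 t70 : K), t47 ≠ 0 → UP D (R.RNF (0) (0) (0) (0) (0) (0) (0) (0) (0) (t47) (0) (t41) (0) (0) (0) (t58) (0) (0) (t51) (0) (0) (t52) (0) (0) (t62) (0) (t63) (0) (t55) (0) (t67) (t66) (t68) (0) (t70) (0)) := by
  intro t47 t41 t58 t51 t52 t62 t63 t55 t67 t66 t68 t70 hn47
  have h2 : (2 : K) = 0 := CharTwo.two_eq_zero
  have h4 : (4 : K) = 0 := by linear_combination 2 * h2
  have h6 : (6 : K) = 0 := by linear_combination 3 * h2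
  have h8 : (8 : K) = 0 := by linear_combination 4 * h2
  have h10 : (10 : K) = 0 := by linear_combination 5 * h2
  have h12 : (12 : K) = 0 := by linear_combination 6 * h2
  have h14 : (14 : K) = 0 := by linear_combination 7 * h2
  have h16 : (16 : K) = 0 := by linear_combination 8 * h2
  have h18 : (18 : K) = 0 := by linear_combination 9 * h2
  have h20 : (20 : K) = 0 := by linear_combination 10 * h2
  have h22 : (22 : K) = 0 := by linear_combination 11 * h2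
  have h24 : (24 : K) = 0 := by linear_combination 12 * h2
  have h26 : (26 : K) = 0 := by linear_combination 13 * h2
  have h28 : (28 : K) = 0 := by linear_combination 14 * h2
  have h30 : (30 : K) = 0 := by linear_combination 15 * h2
  have h32 : (32 : K) = 0 := by linear_combination 16 * h2
  have e : D.n3 * R.RNF (0) (0) (0) (0) (0) (0) (0) (0) (0) (t47) (0) (t41) (0) (0) (0) (t58) (0) (0) (t51) (0) (0) (t52) (0) (0) (t62) (0) (t63) (0) (t55) (0) (t67) (t66) (t68) (0) (t70) (0) * D.n3⁻¹ =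
      R.RNF (0) (0) (0) (0) (0) (0) (0) (0) (0) (0) (0) (0) (0) (t51) (t47) (t58) (t41) (t52) (0) (0) (0) (0) (0) (0) (t62) (0) (t63) (t51 * t58 + t67) (t41 * t51 + t55) (t68) (0) (0) (0) (t66) (t41 * t51 * t58 + t70) (0) := by
    rw [D.toWeylE6.conj_n3]
    congr 1 <;> (first | rfl | ring1 | (rw [← sub_eq_zero]; ring_nf; simp only [h2, h4, h6, h8, h10, h12, h14, h16, h18, h20, h22, h24, h26, h28, h30, h32, mul_zero, zero_mul, add_zero, zero_add, neg_zero, sub_zero, sub_self]))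
  exact UP_n D D.n3_mem e (ih _ _ _ _ _ _ _ _ _ _ _ _ hn47)

theorem upiv9 (D : UData R)
    (ih : ∀ (t57 t41 t44 t48 t50 t58 t45 t49 t51 t59 t61 t52 t53 t60 t62 t54 t63 t64 t55 t65 t67 t66 t68 t69 t70 t71 : K), UP D (R.RNF (0) (0) (0) (0) (0) (0) (0) (0) (0) (0) (t57) (t41) (t44) (t48) (t50) (t58) (t45) (t49) (t51) (t59) (t61) (t52) (t53) (t60) (t62) (t54) (t63) (t64) (t55) (t65) (t67) (t66) (t68) (t69) (t70) (t71))) :
    ∀ (t47 t57 t41 t44 t48 t50 t58 t45 t49 t51 t59 t61 t52 t53 t60 t62 t54 t63 t64 t55 t65 t67 t66 t68 t69 t70 t71 : K), UP D (R.RNF (0) (0) (0) (0) (0) (0) (0) (0) (0) (t47) (t57) (t41) (t44) (t48) (t50) (t58) (t45) (t49) (t51) (t59) (t61) (t52) (t53) (t60) (t62) (t54) (t63) (t64) (t55) (t65) (t67) (t66) (t68) (t69) (t70) (t71)) := by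
  intro t47 t57 t41 t44 t48 t50 t58 t45 t49 t51 t59 t61 t52 t53 t60 t62 t54 t63 t64 t55 t65 t67 t66 t68 t69 t70 t71
  by_cases h0 : t47 = 0
  · subst h0; exact ih _ _ _ _ _ _ _ _ _ _ _ _ _ _ _ _ _ _ _ _ _ _ _ _ _ _
  · exact (e6s9_1 D (e6s9_2 D (e6s9_3 D (e6s9_4 D (e6s9_5 D (e6s9_6 D (e6s9_7 D (e6s9_8 D (e6s9_9 D (e6s9_10 D (e6s9_11 D (e6s9_12 D (e6s9_13 D (e6s9_14 D (e6s9_15 D (e6s9_16 D (fun t48 t50 t58 t45 t49 t62 t63 t64 t55 t65 t69 t70 _ => ih 0 0 0 t48 t50 t58 t45 t49 0 0 0 0 0 0 t62 0 t63 t64 t55 t65 0 0 0 t69 t70 0))))))))))))))))) t47 t57 t41 t44 t48 t50 t58 t45 t49 t51 t59 t61 t52 t53 t60 t62 t54 t63 t64 t55 t65 t67 t66 t68 t69 t70 t71 h0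

end Cfsg.Agent.Helper4.E6Inv
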