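import Cfsg.Agent.Helper4.E6Inv.UPiv0
import Cfsg.Agent.Helper4.E6Inv.UPiv1
import Cfsg.Agent.Helper4.E6Inv.UPiv2
import Cfsg.Agent.Helper4.E6Inv.UPiv3
import Cfsg.Agent.Helper4.E6Inv.UPiv4
import Cfsg.Agent.Helper4.E6Inv.UPiv5
import Cfsg.Agent.Helper4.E6Inv.UPiv6
import Cfsg.Agent.Helper4.E6Inv.UPiv7
import Cfsg.Agent.Helper4.E6Inv.UPiv8
import Cfsg.Agent.Helper4.E6Inv.UPiv9
import Cfsg.Agent.Helper4.E6Inv.UPiv10
import Cfsg.Agent.Helper4.E6Inv.UPiv11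
import Cfsg.Agent.Helper4.E6Inv.UPiv12
import Cfsg.Agent.Helper4.E6Inv.UPiv13
import Cfsg.Agent.Helper4.E6Inv.UPiv14
import Cfsg.Agent.Helper4.E6Inv.UPiv15
import Cfsg.Agent.Helper4.E6Inv.UPiv16
import Cfsg.Agent.Helper4.E6Inv.UPiv17
import Cfsg.Agent.Helper4.E6Inv.UPiv18
import Cfsg.Agent.Helper4.E6Inv.UPiv19
import Cfsg.Agent.Helper4.E6Inv.UPiv20
import Cfsg.Agent.Helper4.E6Inv.UPiv21
import Cfsg.Agent.Helper4.E6Inv.UPiv22
import Cfsg.Agent.Helper4.E6Inv.UPiv23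
import Cfsg.Agent.Helper4.E6Inv.UPiv24
import Cfsg.Agent.Helper4.E6Inv.UPiv25
import Cfsg.Agent.Helper4.E6Inv.UPiv26
import Cfsg.Agent.Helper4.E6Inv.UPiv27
import Cfsg.Agent.Helper4.E6Inv.UPiv28
import Cfsg.Agent.Helper4.E6Inv.UPiv29
import Cfsg.Agent.Helper4.E6Inv.UPiv30
import Cfsg.Agent.Helper4.E6Inv.UPiv31
import Cfsg.Agent.Helper4.E6Inv.UPiv32
import Cfsg.Agent.Helper4.E6Inv.UPiv33
import Cfsg.Agent.Helper4.E6Inv.UPiv34

/-!
# Involutions of the unipotent subgroup of `E₆` in characteristic two (abstract reduction)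

Every involution which is an ordered product `R.RNF …` of root elements is conjugate, under the
subgroup `D.H`, to one of `X71 1`, `X68 1 * X66 1`, `X55 1 * X65 1 * X67 1` (`umain`). (Generated.)
-/

set_option autoImplicit false
set_option maxRecDepth 100000

namespace Cfsg.Agent.Helper4.E6Inv

variable {K Γ : Type*} [Field K] [Group Γ] {R : RelE6 K Γ} [CharP K 2]

/-- **Reduction of involutions.** -/
theorem umain (D : UData R) :
    ∀ (t36 t37 t39 t42 t46 t56 t38 t40 t43 t47 t57 t41 t44 t48 t50 t58 t45 t49 t51 t59 t61 t52 t53 t60 t62 t54 t63 t64 t55 t65 t67 t66 t68 t69 t70 t71 : K), UP D (R.RNF (t36) (t37) (t39) (t42) (t46) (t56) (t38) (t40) (t43) (t47) (t57) (t41) (t44) (t48) (t50) (t58) (t45) (t49) (t51) (t59) (t61) (t52) (t53) (t60) (t62) (t54) (t63) (t64) (t55) (t65) (t67) (t66) (t68) (t69) (t70) (t71)) :=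
  (upiv0 D (upiv1 D (upiv2 D (upiv3 D (upiv4 D (upiv5 D (upiv6 D (upiv7 D (upiv8 D (upiv9 D (upiv10 D (upiv11 D (upiv12 D (upiv13 D (upiv14 D (upiv15 D (upiv16 D (upiv17 D (upiv18 D (upiv19 D (upiv20 D (upiv21 D (upiv22 D (upiv23 D (upiv24 D (upiv25 D (upiv26 D (upiv27 D (upiv28 D (upiv29 D (upiv30 D (upiv31 D (upiv32 D (upiv33 D (upiv34 D (upiv35 D))))))))))))))))))))))))))))))))))))

end Cfsg.Agent.Helper4.E6Inv
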