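import Cfsg.Agent.Helper4.E6Inv.UConcB
import Cfsg.Agent.Helper4.E6Inv.UMain

/-!
# Involutions of `E₆(K)`, `K` finite of characteristic two: the involutions of `U`

The data `uData : UData e6Rel` and the consequence of `umain`: every involution of the unipotent
subgroup `U` of `E₆(K)` is conjugate in `E₆(K)` to one of `x₇₁(1)`, `x₆₈(1) x₆₆(1)`,
`x₅₅(1) x₆₅(1) x₆₇(1)`.
-/

set_option autoImplicit false
set_option maxRecDepth 100000
set_option maxHeartbeats 4000000
set_option linter.unusedSimpArgs false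
set_option linter.unusedVariables false
set_option linter.unusedSectionVars false

namespace Cfsg.Agent.Helper4.E6Inv

open Cfsg Cfsg.Lie Cfsg.Agent.Helper18

variable {K : Type*} [Field K] [CharP K 2] [Fintype K]

set_option maxHeartbeats 20000000 in
/-- the data for the reduction of involutions in `E₆(K)` -/
noncomputable def uData : UData (e6Rel (K := K)) where
  toWeylE6 := weylE6
  H := chevE6.group K
  n1_mem := nE6_mem 0
  n2_mem := nE6_mem 1
  n3_mem := nE6_mem 2
  n4_mem := nE6_mem 3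
  n5_mem := nE6_mem 4
  n6_mem := nE6_mem 5
  xmem36 := fun t => xGL_mem_group' chevE6 hE6 36 t
  xmem37 := fun t => xGL_mem_group' chevE6 hE6 37 t
  xmem39 := fun t => xGL_mem_group' chevE6 hE6 39 t
  xmem42 := fun t => xGL_mem_group' chevE6 hE6 42 t
  xmem46 := fun t => xGL_mem_group' chevE6 hE6 46 t
  xmem56 := fun t => xGL_mem_group' chevE6 hE6 56 t
  xmem38 := fun t => xGL_mem_group' chevE6 hE6 38 t
  xmem40 := fun t => xGL_mem_group' chevE6 hE6 40 t
  xmem43 := fun t => xGL_mem_group' chevE6 hE6 43 t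
  xmem47 := fun t => xGL_mem_group' chevE6 hE6 47 t
  xmem57 := fun t => xGL_mem_group' chevE6 hE6 57 t
  xmem41 := fun t => xGL_mem_group' chevE6 hE6 41 t
  xmem44 := fun t => xGL_mem_group' chevE6 hE6 44 t
  xmem48 := fun t => xGL_mem_group' chevE6 hE6 48 t
  xmem50 := fun t => xGL_mem_group' chevE6 hE6 50 t
  xmem58 := fun t => xGL_mem_group' chevE6 hE6 58 t
  xmem45 := fun t => xGL_mem_group' chevE6 hE6 45 t
  xmem49 := fun t => xGL_mem_group' chevE6 hE6 49 t
  xmem51 := fun t => xGL_mem_group' chevE6 hE6 51 t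
  xmem59 := fun t => xGL_mem_group' chevE6 hE6 59 t
  xmem61 := fun t => xGL_mem_group' chevE6 hE6 61 t
  xmem52 := fun t => xGL_mem_group' chevE6 hE6 52 t
  xmem53 := fun t => xGL_mem_group' chevE6 hE6 53 t
  xmem60 := fun t => xGL_mem_group' chevE6 hE6 60 t
  xmem62 := fun t => xGL_mem_group' chevE6 hE6 62 t
  xmem54 := fun t => xGL_mem_group' chevE6 hE6 54 t
  xmem63 := fun t => xGL_mem_group' chevE6 hE6 63 t
  xmem64 := fun t => xGL_mem_group' chevE6 hE6 64 t
  xmem55 := fun t => xGL_mem_group' chevE6 hE6 55 t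
  xmem65 := fun t => xGL_mem_group' chevE6 hE6 65 t
  xmem67 := fun t => xGL_mem_group' chevE6 hE6 67 t
  xmem66 := fun t => xGL_mem_group' chevE6 hE6 66 t
  xmem68 := fun t => xGL_mem_group' chevE6 hE6 68 t
  xmem69 := fun t => xGL_mem_group' chevE6 hE6 69 t
  xmem70 := fun t => xGL_mem_group' chevE6 hE6 70 t
  xmem71 := fun t => xGL_mem_group' chevE6 hE6 71 t
  inj := RNF_inj_one
  sqrt := fun y => by
    have : Fact (Nat.Prime 2) := ⟨Nat.prime_two⟩
    obtain ⟨s, hs⟩ := surjective_frobenius K 2 y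
    exact ⟨s, hs⟩
  tor1 := tor1_E6
  tor2 := tor2_E6
  tor3 := tor3_E6

/-- every involution of `U` is conjugate in `E₆(K)` to one of the three representatives -/
theorem invol_U (g : GL chevE6.Idx K) (hg : g ∈ chevE6.posUnipotent K) (h2 : orderOf g = 2) :
    ConjIn (chevE6.group K) g (xGL chevE6 K 71 1) ∨
      ConjIn (chevE6.group K) g (xGL chevE6 K 68 1 * xGL chevE6 K 66 1) ∨
      ConjIn (chevE6.group K) g (xGL chevE6 K 55 1 * xGL chevE6 K 65 1 * xGL chevE6 K 67 1) := by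
  obtain ⟨t36, t37, t39, t42, t46, t56, t38, t40, t43, t47, t57, t41, t44, t48, t50, t58, t45, t49, t51, t59, t61, t52, t53, t60, t62, t54, t63, t64, t55, t65, t67, t66, t68, t69, t70, t71, rfl⟩ :=
    mem_rnfSet_of_mem_U g hg
  have hu := pow_orderOf_eq_one ((e6Rel (K := K)).RNF t36 t37 t39 t42 t46 t56 t38 t40 t43 t47 t57 t41 t44 t48 t50 t58 t45 t49 t51 t59 t61 t52 t53 t60 t62 t54 t63 t64 t55 t65 t67 t66 t68 t69 t70 t71)
  rw [h2, pow_two] at hu
  have hne : (e6Rel (K := K)).RNF t36 t37 t39 t42 t46 t56 t38 t40 t43 t47 t57 t41 t44 t48 t50 t58 t45 t49 t51 t59 t61 t52 t53 t60 t62 t54 t63 t64 t55 t65 t67 t66 t68 t69 t70 t71 ≠ 1 := by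
    intro h
    rw [h, orderOf_one] at h2
    norm_num at h2
  exact umain (uData (K := K)) _ _ _ _ _ _ _ _ _ _ _ _ _ _ _ _ _ _ _ _ _ _ _ _ _ _ _ _ _ _ _ _ _ _ _ _ hu hne

end Cfsg.Agent.Helper4.E6Inv
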