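import Cfsg.Agent.Helper4.E6Inv.UFinT

/-! Generated: steps of the reduction of involutions in the unipotent group of `E₆`
(characteristic two). -/

set_option autoImplicit false
set_option maxHeartbeats 8000000
set_option maxRecDepth 100000
set_option linter.unusedSimpArgs false
set_option linter.unusedVariables false
set_option linter.unusedSectionVars false
set_option linter.unusedTactic false
set_option linter.unreachableTactic false

namespace Cfsg.Agent.Helper4.E6Inv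

variable {K Γ : Type*} [Field K] [Group Γ] {R : RelE6 K Γ} [CharP K 2]

theorem e6s0_1 (D : UData R)
    (ih : ∀ (t36 t39 t42 t46 t56 t38 t40 t43 t47 t57 t41 t44 t48 t50 t58 t45 t49 t51 t59 t61 t52 t53 t60 t62 t54 t63 t64 t55 t65 t67 t66 t68 t69 t70 t71 : K), t36 ≠ 0 → UP D (R.RNF (t36) (0) (t39) (t42) (t46) (t56) (t38) (t40) (t43) (t47) (t57) (t41) (t44) (t48) (t50) (t58) (t45) (t49) (t51) (t59) (t61) (t52) (t53) (t60) (t62) (t54) (t63) (t64) (t55) (t65) (t67) (t66) (t68) (t69) (t70) (t71))) :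
    ∀ (t36 t37 t39 t42 t46 t56 t38 t40 t43 t47 t57 t41 t44 t48 t50 t58 t45 t49 t51 t59 t61 t52 t53 t60 t62 t54 t63 t64 t55 t65 t67 t66 t68 t69 t70 t71 : K), t36 ≠ 0 → UP D (R.RNF (t36) (t37) (t39) (t42) (t46) (t56) (t38) (t40) (t43) (t47) (t57) (t41) (t44) (t48) (t50) (t58) (t45) (t49) (t51) (t59) (t61) (t52) (t53) (t60) (t62) (t54) (t63) (t64) (t55) (t65) (t67) (t66) (t68) (t69) (t70) (t71)) := by
  intro t36 t37 t39 t42 t46 t56 t38 t40 t43 t47 t57 t41 t44 t48 t50 t58 t45 t49 t51 t59 t61 t52 t53 t60 t62 t54 t63 t64 t55 t65 t67 t66 t68 t69 t70 t71 hn36 hu hne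
  have hsq := hu
  rw [R.usq] at hsq
  obtain ⟨e36, e37, e39, e42, e46, e56, e38, e40, e43, e47, e57, e41, e44, e48, e50, e58, e45, e49, e51, e59, e61, e52, e53, e60, e62, e54, e63, e64, e55, e65, e67, e66, e68, e69, e70, e71⟩ := D.inj _ _ _ _ _ _ _ _ _ _ _ _ _ _ _ _ _ _ _ _ _ _ _ _ _ _ _ _ _ _ _ _ _ _ _ _ hsq
  have hz : t37 = 0 := by
    have h : t36 * t37 = 0 := by linear_combination e38
    exact (mul_eq_zero.mp h).resolve_left hn36
  subst hz
  exact ih _ _ _ _ _ _ _ _ _ _ _ _ _ _ _ _ _ _ _ _ _ _ _ _ _ _ _ _ _ _ _ _ _ _ _ hn36 hu hne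

theorem e6s0_2 (D : UData R)
    (ih : ∀ (t36 t39 t42 t46 t56 t40 t43 t47 t57 t41 t44 t48 t50 t58 t45 t49 t51 t59 t61 t52 t53 t60 t62 t54 t63 t64 t55 t65 t67 t66 t68 t69 t70 t71 : K), t36 ≠ 0 → UP D (R.RNF (t36) (0) (t39) (t42) (t46) (t56) (0) (t40) (t43) (t47) (t57) (t41) (t44) (t48) (t50) (t58) (t45) (t49) (t51) (t59) (t61) (t52) (t53) (t60) (t62) (t54) (t63) (t64) (t55) (t65) (t67) (t66) (t68) (t69) (t70) (t71))) :
    ∀ (t36 t39 t42 t46 t56 t38 t40 t43 t47 t57 t41 t44 t48 t50 t58 t45 t49 t51 t59 t61 t52 t53 t60 t62 t54 t63 t64 t55 t65 t67 t66 t68 t69 t70 t71 : K), t36 ≠ 0 → UP D (R.RNF (t36) (0) (t39) (t42) (t46) (t56) (t38) (t40) (t43) (t47) (t57) (t41) (t44) (t48) (t50) (t58) (t45) (t49) (t51) (t59) (t61) (t52) (t53) (t60) (t62) (t54) (t63) (t64) (t55) (t65) (t67) (t66) (t68) (t69) (t70) (t71)) := by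
  intro t36 t39 t42 t46 t56 t38 t40 t43 t47 t57 t41 t44 t48 t50 t58 t45 t49 t51 t59 t61 t52 t53 t60 t62 t54 t63 t64 t55 t65 t67 t66 t68 t69 t70 t71 hn36
  have h2 : (2 : K) = 0 := CharTwo.two_eq_zero
  have h4 : (4 : K) = 0 := by linear_combination 2 * h2
  have h6 : (6 : K) = 0 := by linear_combination 3 * h2
  have h8 : (8 : K) = 0 := by linear_combination 4 * h2
  have h10 : (10 : K) = 0 := by linear_combination 5 * h2
  have h12 : (12 : K) = 0 := by linear_combination 6 * h2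
  have h14 : (14 : K) = 0 := by linear_combination 7 * h2
  have h16 : (16 : K) = 0 := by linear_combination 8 * h2
  have h18 : (18 : K) = 0 := by linear_combination 9 * h2
  have h20 : (20 : K) = 0 := by linear_combination 10 * h2
  have h22 : (22 : K) = 0 := by linear_combination 11 * h2
  have h24 : (24 : K) = 0 := by linear_combination 12 * h2
  have h26 : (26 : K) = 0 := by linear_combination 13 * h2
  have h28 : (28 : K) = 0 := by linear_combination 14 * h2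
  have h30 : (30 : K) = 0 := by linear_combination 15 * h2
  have h32 : (32 : K) = 0 := by linear_combination 16 * h2
  obtain ⟨c, rfl⟩ : ∃ c, t38 = c * t36 := ⟨t38 / t36, by field_simp⟩
  have e : R.X37 c * R.RNF (t36) (0) (t39) (t42) (t46) (t56) (c * t36) (t40) (t43) (t47) (t57) (t41) (t44) (t48) (t50) (t58) (t45) (t49) (t51) (t59) (t61) (t52) (t53) (t60) (t62) (t54) (t63) (t64) (t55) (t65) (t67) (t66) (t68) (t69) (t70) (t71) * R.X37 c =
      R.RNF (t36) (0) (t39) (t42) (t46) (t56) (0) (c * t39 + t40) (t43) (t47) (t57) (c * t36 * t39 + t41) (c * t39 * t42 + c * t43 + t44) (c * t39 * t46 + c * t47 + t48) (t50) (t58) (c * t36 * t39 * t42 + t45) (c * t36 * t39 * t46 + t49) (c * t39 * t42 * t46 + c * t50 + t51) (c * t39 * t42 * t56 + c * t58 + t59) (t61) (c * t36 * t39 * t42 * t46 + t52) (c * t39 * t42 * t47 + c * t39 * t43 * t46 + c * t43 * t47 + t53) (c * t36 * t39 * t42 * t56 + c * t36 * t39 * t57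 + t60) (c * t39 * t42 * t46 * t56 + c * t39 * t46 * t57 + c * t47 * t57 + c * t61 + t62) (c * t36 * t39 * t42 * t47 + c * t36 * t39 * t43 * t46 + t54) (c * t36 * t39 * t42 * t46 * t56 + c * t36 * t39 * t46 * t57 + t63) (c * t39 * t42 * t47 * t56 + t64) (c * t36 * t39 * t40 * t42 * t46 + c * t36 * t39 * t42 * t48 + c * t36 * t39 * t44 * t46 + c * t39 * t41 * t42 * t46 + c * t54 + c ^ 2 * t36 * t39 * t42 * t47 + c ^ 2 * t36 * t39 * t43 * t46 + c ^ 2 * t36 * t39 ^ 2 * t42 * t46 + t55) (c * t36 * t39 * t42 * t47 * t56 + c * t36 * t39 * t46 * t58 + t65) (c * t39 * t42 * t43 * t46 * t56 + c * t39 * t42 * t46 * t58 + c * t39 * t42 * t47 * t57 + c * t39 * t42 * t50 * t56 + c * t39 * t43 * t46 * t57 + c * t43 * t47 * t57 + c * t50 * t58 + t67) (c * t36 * t39 * t40 * t42 * t46 * t56 + c * t36 * t39 * t42 * t48 * t56 + c * t36 * t39 * t48 * t57 + c * t39 * t41 * t42 * t46 * t56 + c * t39 * t41 * t46 * t57 +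 c * t39 * t42 * t49 * t56 + c * t41 * t47 * t57 + c * t49 * t58 + c * t65 + c ^ 2 * t36 * t39 * t42 * t47 * t56 + c ^ 2 * t36 * t39 * t47 * t57 + c ^ 2 * t36 * t39 ^ 2 * t46 * t57 + t66) (c * t36 * t39 * t42 * t43 * t46 * t56 + c * t36 * t39 * t42 * t46 * t58 + c * t36 * t39 * t42 * t47 * t57 + c * t36 * t39 * t42 * t50 * t56 + c * t36 * t39 * t43 * t46 * t57 + c * t36 * t39 * t50 * t57 + t68) (c * t36 * t39 * t40 * t42 * t46 * t57 + c * t36 * t39 * t42 * t44 * t46 * t56 + c * t36 * t39 * t42 * t46 * t59 + c * t36 * t39 * t42 * t51 * t56 + c * t36 * t39 * t44 * t46 * t57 + c * t36 * t39 * t51 * t57 + c * t39 * t42 * t45 * t46 * t56 + c * t39 * t45 * t46 * t57 + c * t45 * t47 * t57 + c * t68 + c ^ 2 * t36 * t39 * t42 * t43 * t46 * t56 + c ^ 2 * t36 * t39 * t42 * t46 * t58 + c ^ 2 * t36 * t39 * t42 * t50 * t56 + c ^ 2 * t36 * t39 * t43 * t46 * t57 + c ^ 2 * t36 * t39 * t50 * t57 + c ^ 2 * t36 * t39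 ^ 2 * t42 * t46 * t57 + c ^ 2 * t36 * t39 ^ 2 * t42 ^ 2 * t46 * t56 + t69) (c * t36 * t39 * t40 * t42 * t43 * t46 * t56 + c * t36 * t39 * t40 * t42 * t46 * t58 + c * t36 * t39 * t42 * t44 * t47 * t56 + c * t36 * t39 * t42 * t47 * t59 + c * t36 * t39 * t42 * t48 * t58 + c * t36 * t39 * t42 * t53 * t56 + c * t36 * t39 * t43 * t46 * t59 + c * t36 * t39 * t44 * t46 * t58 + c * t36 * t39 * t53 * t57 + c * t39 * t41 * t42 * t43 * t46 * t56 + c * t39 * t41 * t42 * t46 * t58 + c * t39 * t41 * t42 * t47 * t57 + c * t39 * t41 * t43 * t46 * t57 + c * t39 * t42 * t45 * t47 * t56 + c * t41 * t43 * t47 * t57 + c ^ 2 * t36 * t39 * t43 * t47 * t57 + c ^ 2 * t36 * t39 ^ 2 * t42 * t43 * t46 * t56 + c ^ 2 * t36 * t39 ^ 2 * t42 * t46 * t58 + c ^ 2 * t36 * t39 ^ 2 * t42 * t47 * t57 + c ^ 2 * t36 * t39 ^ 2 * t42 ^ 2 * t47 * t56 + c ^ 2 * t36 * t39 ^ 2 * t43 * t46 * t57 + t70) (c * t36 * t39 * t40 * t42 * t46 * t50 * t56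 + c * t36 * t39 * t40 * t42 * t46 * t61 + c * t36 * t39 * t42 * t43 * t46 * t48 * t56 + c * t36 * t39 * t42 * t46 * t53 * t56 + c * t36 * t39 * t42 * t47 * t48 * t57 + c * t36 * t39 * t42 * t47 * t51 * t56 + c * t36 * t39 * t42 * t47 * t62 + c * t36 * t39 * t42 * t48 * t50 * t56 + c * t36 * t39 * t42 * t48 * t61 + c * t36 * t39 * t43 * t46 * t48 * t57 + c * t36 * t39 * t43 * t46 * t62 + c * t36 * t39 * t44 * t46 * t61 + c * t36 * t39 * t46 * t51 * t58 + c * t36 * t39 * t46 * t53 * t57 + c * t36 * t39 * t48 * t50 * t57 + c * t39 * t41 * t42 * t46 * t50 * t56 + c * t39 * t41 * t42 * t46 * t61 + c * t39 * t41 * t46 * t50 * t57 + c * t39 * t42 * t43 * t46 * t49 * t56 + c * t39 * t42 * t46 * t49 * t58 + c * t39 * t42 * t47 * t49 * t57 + c * t39 * t42 * t47 * t52 * t56 + c * t39 * t42 * t49 * t50 * t56 + c * t39 * t43 * t46 * t49 * t57 + c * t41 * t47 * t50 * t57 + c * t43 * t47 * t49 * t57 + c * t49 *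 t50 * t58 + c ^ 2 * t36 * t39 * t43 * t46 * t47 * t57 + c ^ 2 * t36 * t39 * t46 * t50 * t58 + c ^ 2 * t36 * t39 * t47 * t50 * t57 + c ^ 2 * t36 * t39 ^ 2 * t42 * t43 * t46 ^ 2 * t56 + c ^ 2 * t36 * t39 ^ 2 * t42 * t46 * t47 * t57 + c ^ 2 * t36 * t39 ^ 2 * t42 * t46 * t61 + c ^ 2 * t36 * t39 ^ 2 * t42 * t46 ^ 2 * t58 + c ^ 2 * t36 * t39 ^ 2 * t42 ^ 2 * t46 * t47 * t56 + c ^ 2 * t36 * t39 ^ 2 * t43 * t46 ^ 2 * t57 + c ^ 2 * t36 * t39 ^ 2 * t46 * t50 * t57 + t71) := by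
    rw [R.ucj37]
    congr 1 <;> (first | rfl | ring1 | (rw [← sub_eq_zero]; ring_nf; simp only [h2, h4, h6, h8, h10, h12, h14, h16, h18, h20, h22, h24, h26, h28, h30, h32, mul_zero, zero_mul, add_zero, zero_add, neg_zero, sub_zero, sub_self]))
  exact UP_cj D (D.xmem37 c) (R.inv37 c) e (ih _ _ _ _ _ _ _ _ _ _ _ _ _ _ _ _ _ _ _ _ _ _ _ _ _ _ _ _ _ _ _ _ _ _ hn36)

theorem e6s0_3 (D : UData R)
    (ih : ∀ (t36 t39 t42 t46 t56 t40 t43 t47 t57 t44 t48 t50 t58 t45 t49 t51 t59 t61 t52 t53 t60 t62 t54 t63 t64 t55 t65 t67 t66 t68 t69 t70 t71 : K), t36 ≠ 0 → UP D (R.RNF (t36) (0) (t39) (t42) (t46) (t56) (0) (t40) (t43) (t47) (t57) (0) (t44) (t48) (t50) (t58) (t45) (t49) (t51) (t59) (t61) (t52) (t53) (t60) (t62) (t54) (t63) (t64) (t55) (t65) (t67) (t66) (t68) (t69) (t70) (t71))) :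
    ∀ (t36 t39 t42 t46 t56 t40 t43 t47 t57 t41 t44 t48 t50 t58 t45 t49 t51 t59 t61 t52 t53 t60 t62 t54 t63 t64 t55 t65 t67 t66 t68 t69 t70 t71 : K), t36 ≠ 0 → UP D (R.RNF (t36) (0) (t39) (t42) (t46) (t56) (0) (t40) (t43) (t47) (t57) (t41) (t44) (t48) (t50) (t58) (t45) (t49) (t51) (t59) (t61) (t52) (t53) (t60) (t62) (t54) (t63) (t64) (t55) (t65) (t67) (t66) (t68) (t69) (t70) (t71)) := by
  intro t36 t39 t42 t46 t56 t40 t43 t47 t57 t41 t44 t48 t50 t58 t45 t49 t51 t59 t61 t52 t53 t60 t62 t54 t63 t64 t55 t65 t67 t66 t68 t69 t70 t71 hn36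
  have h2 : (2 : K) = 0 := CharTwo.two_eq_zero
  have h4 : (4 : K) = 0 := by linear_combination 2 * h2
  have h6 : (6 : K) = 0 := by linear_combination 3 * h2
  have h8 : (8 : K) = 0 := by linear_combination 4 * h2
  have h10 : (10 : K) = 0 := by linear_combination 5 * h2
  have h12 : (12 : K) = 0 := by linear_combination 6 * h2
  have h14 : (14 : K) = 0 := by linear_combination 7 * h2
  have h16 : (16 : K) = 0 := by linear_combination 8 * h2
  have h18 : (18 : K) = 0 := by linear_combination 9 * h2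
  have h20 : (20 : K) = 0 := by linear_combination 10 * h2
  have h22 : (22 : K) = 0 := by linear_combination 11 * h2
  have h24 : (24 : K) = 0 := by linear_combination 12 * h2
  have h26 : (26 : K) = 0 := by linear_combination 13 * h2
  have h28 : (28 : K) = 0 := by linear_combination 14 * h2
  have h30 : (30 : K) = 0 := by linear_combination 15 * h2
  have h32 : (32 : K) = 0 := by linear_combination 16 * h2
  obtain ⟨c, rfl⟩ : ∃ c, t41 = c * t36 := ⟨t41 / t36, by field_simp⟩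
  have e : R.X40 c * R.RNF (t36) (0) (t39) (t42) (t46) (t56) (0) (t40) (t43) (t47) (t57) (c * t36) (t44) (t48) (t50) (t58) (t45) (t49) (t51) (t59) (t61) (t52) (t53) (t60) (t62) (t54) (t63) (t64) (t55) (t65) (t67) (t66) (t68) (t69) (t70) (t71) * R.X40 c =
      R.RNF (t36) (0) (t39) (t42) (t46) (t56) (0) (t40) (t43) (t47) (t57) (0) (c * t42 + t44) (c * t46 + t48) (t50) (t58) (c * t36 * t42 + t45) (c * t36 * t46 + t49) (c * t42 * t46 + t51) (c * t42 * t56 + c * t57 + t59) (t61) (c * t36 * t42 * t46 + t52) (c * t42 * t47 + c * t43 * t46 + c * t50 + t53) (c * t36 * t42 * t56 + c * t36 * t57 + t60) (c * t42 * t46 * t56 + c * t46 * t57 + t62) (c * t36 * t42 * t47 + c * t36 * t43 * t46 + t54) (c * t36 * t42 * t46 * t56 + c * t36 * t46 * t57 + t63) (c * t42 * t47 * t56 + c * t61 + t64) (c * t36 * t40 * t42 * t46 + c * t36 * t42 * t48 + c * t36 * t44 * t46 + c * t52 + c ^ 2 * t36 * t42 * t46 + t55) (c * t36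 * t42 * t47 * t56 + c * t36 * t46 * t58 + t65) (c * t42 * t43 * t46 * t56 + c * t42 * t46 * t58 + c * t42 * t47 * t57 + c * t42 * t50 * t56 + c * t43 * t46 * t57 + c * t50 * t57 + t67) (c * t36 * t40 * t42 * t46 * t56 + c * t36 * t42 * t48 * t56 + c * t36 * t48 * t57 + c * t42 * t49 * t56 + c * t49 * t57 + c * t63 + t66) (c * t36 * t42 * t43 * t46 * t56 + c * t36 * t42 * t46 * t58 + c * t36 * t42 * t47 * t57 + c * t36 * t42 * t50 * t56 + c * t36 * t43 * t46 * t57 + c * t36 * t50 * t57 + t68) (c * t36 * t40 * t42 * t46 * t57 + c * t36 * t42 * t44 * t46 * t56 + c * t36 * t42 * t46 * t59 + c * t36 * t42 * t51 * t56 + c * t36 * t44 * t46 * t57 + c * t36 * t51 * t57 + c * t42 * t45 * t46 * t56 + c * t45 * t46 * t57 + c ^ 2 * t36 * t42 * t46 * t57 + c ^ 2 * t36 * t42 ^ 2 * t46 * t56 + t69) (c * t36 * t40 * t42 * t43 * t46 * t56 + c * t36 * t40 * t42 * t46 * t58 + c * t36 * t42 * t44 * t47 * t56 + c * t36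 * t42 * t47 * t59 + c * t36 * t42 * t48 * t58 + c * t36 * t42 * t53 * t56 + c * t36 * t43 * t46 * t59 + c * t36 * t44 * t46 * t58 + c * t36 * t53 * t57 + c * t42 * t45 * t47 * t56 + c * t68 + c ^ 2 * t36 * t42 * t43 * t46 * t56 + c ^ 2 * t36 * t42 * t46 * t58 + c ^ 2 * t36 * t42 * t47 * t57 + c ^ 2 * t36 * t42 * t50 * t56 + c ^ 2 * t36 * t42 ^ 2 * t47 * t56 + c ^ 2 * t36 * t43 * t46 * t57 + c ^ 2 * t36 * t50 * t57 + t70) (c * t36 * t40 * t42 * t46 * t50 * t56 + c * t36 * t40 * t42 * t46 * t61 + c * t36 * t42 * t43 * t46 * t48 * t56 + c * t36 * t42 * t46 * t53 * t56 + c * t36 * t42 * t47 * t48 * t57 + c * t36 * t42 * t47 * t51 * t56 + c * t36 * t42 * t47 * t62 + c * t36 * t42 * t48 * t50 * t56 + c * t36 * t42 * t48 * t61 + c * t36 * t43 * t46 * t48 * t57 + c * t36 * t43 * t46 * t62 + c * t36 * t44 * t46 * t61 + c * t36 * t46 * t51 * t58 + c * t36 * t46 * t53 * t57 + c * t36 * t48 * t50 * t57 + c *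 t42 * t43 * t46 * t49 * t56 + c * t42 * t46 * t49 * t58 + c * t42 * t47 * t49 * t57 + c * t42 * t47 * t52 * t56 + c * t42 * t49 * t50 * t56 + c * t43 * t46 * t49 * t57 + c * t49 * t50 * t57 + c * t52 * t61 + c ^ 2 * t36 * t42 * t43 * t46 ^ 2 * t56 + c ^ 2 * t36 * t42 * t46 * t47 * t57 + c ^ 2 * t36 * t42 * t46 * t50 * t56 + c ^ 2 * t36 * t42 * t46 * t61 + c ^ 2 * t36 * t42 * t46 ^ 2 * t58 + c ^ 2 * t36 * t42 ^ 2 * t46 * t47 * t56 + c ^ 2 * t36 * t43 * t46 ^ 2 * t57 + c ^ 2 * t36 * t46 * t50 * t57 + t71) := by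
    rw [R.ucj40]
    congr 1 <;> (first | rfl | ring1 | (rw [← sub_eq_zero]; ring_nf; simp only [h2, h4, h6, h8, h10, h12, h14, h16, h18, h20, h22, h24, h26, h28, h30, h32, mul_zero, zero_mul, add_zero, zero_add, neg_zero, sub_zero, sub_self]))
  exact UP_cj D (D.xmem40 c) (R.inv40 c) e (ih _ _ _ _ _ _ _ _ _ _ _ _ _ _ _ _ _ _ _ _ _ _ _ _ _ _ _ _ _ _ _ _ _ hn36)

theorem e6s0_4 (D : UData R)
    (ih : ∀ (t36 t39 t42 t46 t56 t40 t43 t47 t57 t44 t48 t50 t58 t49 t51 t59 t61 t52 t53 t60 t62 t54 t63 t64 t55 t65 t67 t66 t68 t69 t70 t71 : K), t36 ≠ 0 → UP D (R.RNF (t36) (0) (t39) (t42) (t46) (t56) (0) (t40) (t43) (t47) (t57) (0) (t44) (t48) (t50) (t58) (0) (t49) (t51) (t59) (t61) (t52) (t53) (t60) (t62) (t54) (t63) (t64) (t55) (t65) (t67) (t66) (t68) (t69) (t70) (t71))) :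
    ∀ (t36 t39 t42 t46 t56 t40 t43 t47 t57 t44 t48 t50 t58 t45 t49 t51 t59 t61 t52 t53 t60 t62 t54 t63 t64 t55 t65 t67 t66 t68 t69 t70 t71 : K), t36 ≠ 0 → UP D (R.RNF (t36) (0) (t39) (t42) (t46) (t56) (0) (t40) (t43) (t47) (t57) (0) (t44) (t48) (t50) (t58) (t45) (t49) (t51) (t59) (t61) (t52) (t53) (t60) (t62) (t54) (t63) (t64) (t55) (t65) (t67) (t66) (t68) (t69) (t70) (t71)) := by
  intro t36 t39 t42 t46 t56 t40 t43 t47 t57 t44 t48 t50 t58 t45 t49 t51 t59 t61 t52 t53 t60 t62 t54 t63 t64 t55 t65 t67 t66 t68 t69 t70 t71 hn36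
  have h2 : (2 : K) = 0 := CharTwo.two_eq_zero
  have h4 : (4 : K) = 0 := by linear_combination 2 * h2
  have h6 : (6 : K) = 0 := by linear_combination 3 * h2
  have h8 : (8 : K) = 0 := by linear_combination 4 * h2
  have h10 : (10 : K) = 0 := by linear_combination 5 * h2
  have h12 : (12 : K) = 0 := by linear_combination 6 * h2
  have h14 : (14 : K) = 0 := by linear_combination 7 * h2
  have h16 : (16 : K) = 0 := by linear_combination 8 * h2
  have h18 : (18 : K) = 0 := by linear_combination 9 * h2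
  have h20 : (20 : K) = 0 := by linear_combination 10 * h2
  have h22 : (22 : K) = 0 := by linear_combination 11 * h2
  have h24 : (24 : K) = 0 := by linear_combination 12 * h2
  have h26 : (26 : K) = 0 := by linear_combination 13 * h2
  have h28 : (28 : K) = 0 := by linear_combination 14 * h2
  have h30 : (30 : K) = 0 := by linear_combination 15 * h2
  have h32 : (32 : K) = 0 := by linear_combination 16 * h2
  obtain ⟨c, rfl⟩ : ∃ c, t45 = c * t36 := ⟨t45 / t36, by field_simp⟩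
  have e : R.X44 c * R.RNF (t36) (0) (t39) (t42) (t46) (t56) (0) (t40) (t43) (t47) (t57) (0) (t44) (t48) (t50) (t58) (c * t36) (t49) (t51) (t59) (t61) (t52) (t53) (t60) (t62) (t54) (t63) (t64) (t55) (t65) (t67) (t66) (t68) (t69) (t70) (t71) * R.X44 c =
      R.RNF (t36) (0) (t39) (t42) (t46) (t56) (0) (t40) (t43) (t47) (t57) (0) (t44) (t48) (t50) (t58) (0) (t49) (c * t46 + t51) (c * t56 + t59) (t61) (c * t36 * t46 + t52) (c * t47 + t53) (c * t36 * t56 + t60) (c * t46 * t56 + t62) (c * t36 * t47 + t54) (c * t36 * t46 * t56 + t63) (c * t47 * t56 + t64) (c * t36 * t40 * t46 + c * t36 * t48 + c * t49 + t55) (c * t36 * t47 * t56 + t65) (c * t43 * t46 * t56 + c * t46 * t58 + c * t47 * t57 + c * t50 * t56 + c * t61 + t67) (c * t36 * t40 * t46 * t56 + c * t36 * t48 * t56 + c * t49 * t56 + t66) (c * t36 * t43 * t46 * t56 + c * t36 * t46 * t58 + c * t36 * t47 * t57 + c * t36 * t50 * t56 + t68) (c * t36 * t40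 * t46 * t57 + c * t36 * t44 * t46 * t56 + c * t36 * t46 * t59 + c * t36 * t51 * t56 + c * t63 + c ^ 2 * t36 * t46 * t56 + t69) (c * t36 * t40 * t43 * t46 * t56 + c * t36 * t40 * t46 * t58 + c * t36 * t44 * t47 * t56 + c * t36 * t47 * t59 + c * t36 * t48 * t58 + c * t36 * t53 * t56 + c * t65 + c ^ 2 * t36 * t47 * t56 + t70) (c * t36 * t40 * t46 * t50 * t56 + c * t36 * t40 * t46 * t61 + c * t36 * t43 * t46 * t48 * t56 + c * t36 * t46 * t53 * t56 + c * t36 * t47 * t48 * t57 + c * t36 * t47 * t51 * t56 + c * t36 * t47 * t62 + c * t36 * t48 * t50 * t56 + c * t36 * t48 * t61 + c * t43 * t46 * t49 * t56 + c * t46 * t49 * t58 + c * t47 * t49 * t57 + c * t47 * t52 * t56 + c * t49 * t50 * t56 + c * t49 * t61 + c ^ 2 * t36 * t46 * t47 * t56 + t71) := by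
    rw [R.ucj44]
    congr 1 <;> (first | rfl | ring1 | (rw [← sub_eq_zero]; ring_nf; simp only [h2, h4, h6, h8, h10, h12, h14, h16, h18, h20, h22, h24, h26, h28, h30, h32, mul_zero, zero_mul, add_zero, zero_add, neg_zero, sub_zero, sub_self]))
  exact UP_cj D (D.xmem44 c) (R.inv44 c) e (ih _ _ _ _ _ _ _ _ _ _ _ _ _ _ _ _ _ _ _ _ _ _ _ _ _ _ _ _ _ _ _ _ hn36)

theorem e6s0_5 (D : UData R)
    (ih : ∀ (t36 t39 t42 t46 t56 t40 t43 t47 t57 t44 t48 t50 t58 t51 t59 t61 t52 t53 t60 t62 t54 t63 t64 t55 t65 t67 t66 t68 t69 t70 t71 : K), t36 ≠ 0 → UP D (R.RNF (t36) (0) (t39) (t42) (t46) (t56) (0) (t40) (t43) (t47) (t57) (0) (t44) (t48) (t50) (t58) (0) (0) (t51) (t59) (t61) (t52) (t53) (t60) (t62) (t54) (t63) (t64) (t55) (t65) (t67) (t66) (t68) (t69) (t70) (t71))) :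
    ∀ (t36 t39 t42 t46 t56 t40 t43 t47 t57 t44 t48 t50 t58 t49 t51 t59 t61 t52 t53 t60 t62 t54 t63 t64 t55 t65 t67 t66 t68 t69 t70 t71 : K), t36 ≠ 0 → UP D (R.RNF (t36) (0) (t39) (t42) (t46) (t56) (0) (t40) (t43) (t47) (t57) (0) (t44) (t48) (t50) (t58) (0) (t49) (t51) (t59) (t61) (t52) (t53) (t60) (t62) (t54) (t63) (t64) (t55) (t65) (t67) (t66) (t68) (t69) (t70) (t71)) := by
  intro t36 t39 t42 t46 t56 t40 t43 t47 t57 t44 t48 t50 t58 t49 t51 t59 t61 t52 t53 t60 t62 t54 t63 t64 t55 t65 t67 t66 t68 t69 t70 t71 hn36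
  have h2 : (2 : K) = 0 := CharTwo.two_eq_zero
  have h4 : (4 : K) = 0 := by linear_combination 2 * h2
  have h6 : (6 : K) = 0 := by linear_combination 3 * h2
  have h8 : (8 : K) = 0 := by linear_combination 4 * h2
  have h10 : (10 : K) = 0 := by linear_combination 5 * h2
  have h12 : (12 : K) = 0 := by linear_combination 6 * h2
  have h14 : (14 : K) = 0 := by linear_combination 7 * h2
  have h16 : (16 : K) = 0 := by linear_combination 8 * h2
  have h18 : (18 : K) = 0 := by linear_combination 9 * h2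
  have h20 : (20 : K) = 0 := by linear_combination 10 * h2
  have h22 : (22 : K) = 0 := by linear_combination 11 * h2
  have h24 : (24 : K) = 0 := by linear_combination 12 * h2
  have h26 : (26 : K) = 0 := by linear_combination 13 * h2
  have h28 : (28 : K) = 0 := by linear_combination 14 * h2
  have h30 : (30 : K) = 0 := by linear_combination 15 * h2
  have h32 : (32 : K) = 0 := by linear_combination 16 * h2
  obtain ⟨c, rfl⟩ : ∃ c, t49 = c * t36 := ⟨t49 / t36, by field_simp⟩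
  have e : R.X48 c * R.RNF (t36) (0) (t39) (t42) (t46) (t56) (0) (t40) (t43) (t47) (t57) (0) (t44) (t48) (t50) (t58) (0) (c * t36) (t51) (t59) (t61) (t52) (t53) (t60) (t62) (t54) (t63) (t64) (t55) (t65) (t67) (t66) (t68) (t69) (t70) (t71) * R.X48 c =
      R.RNF (t36) (0) (t39) (t42) (t46) (t56) (0) (t40) (t43) (t47) (t57) (0) (t44) (t48) (t50) (t58) (0) (0) (c * t42 + t51) (t59) (t61) (c * t36 * t42 + t52) (c * t43 + t53) (t60) (c * t42 * t56 + c * t57 + t62) (c * t36 * t43 + t54) (c * t36 * t42 * t56 + c * t36 * t57 + t63) (c * t58 + t64) (c * t36 * t40 * t42 + c * t36 * t44 + t55) (c * t36 * t58 + t65) (c * t42 * t43 * t56 + c * t42 * t58 + c * t43 * t57 + t67) (c * t36 * t40 * t42 * t56 + c * t60 + t66) (c * t36 * t42 * t43 * t56 + c * t36 * t42 * t58 + c * t36 * t43 * t57 + t68) (c * t36 * t40 * t42 * t57 + c * t36 * t42 * t44 * t56 + c * t36 * t42 * t59 + c * t36 * t44 * t57 + t69) (c * t36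 * t40 * t42 * t43 * t56 + c * t36 * t40 * t42 * t58 + c * t36 * t43 * t59 + c * t36 * t44 * t58 + t70) (c * t36 * t40 * t42 * t50 * t56 + c * t36 * t40 * t42 * t61 + c * t36 * t42 * t43 * t48 * t56 + c * t36 * t42 * t53 * t56 + c * t36 * t43 * t48 * t57 + c * t36 * t43 * t62 + c * t36 * t44 * t61 + c * t36 * t51 * t58 + c * t36 * t53 * t57 + c * t52 * t58 + c * t68 + c ^ 2 * t36 * t42 * t43 * t56 + c ^ 2 * t36 * t43 * t57 + t71) := by
    rw [R.ucj48]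
    congr 1 <;> (first | rfl | ring1 | (rw [← sub_eq_zero]; ring_nf; simp only [h2, h4, h6, h8, h10, h12, h14, h16, h18, h20, h22, h24, h26, h28, h30, h32, mul_zero, zero_mul, add_zero, zero_add, neg_zero, sub_zero, sub_self]))
  exact UP_cj D (D.xmem48 c) (R.inv48 c) e (ih _ _ _ _ _ _ _ _ _ _ _ _ _ _ _ _ _ _ _ _ _ _ _ _ _ _ _ _ _ _ _ hn36)

theorem e6s0_6 (D : UData R)
    (ih : ∀ (t36 t39 t42 t46 t56 t40 t43 t47 t57 t44 t48 t50 t58 t51 t59 t61 t53 t60 t62 t54 t63 t64 t55 t65 t67 t66 t68 t69 t70 t71 : K), t36 ≠ 0 → UP D (R.RNF (t36) (0) (t39) (t42) (t46) (t56) (0) (t40) (t43) (t47) (t57) (0) (t44) (t48) (t50) (t58) (0) (0) (t51) (t59) (t61) (0) (t53) (t60) (t62) (t54) (t63) (t64) (t55) (t65) (t67) (t66) (t68) (t69) (t70) (t71))) :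
    ∀ (t36 t39 t42 t46 t56 t40 t43 t47 t57 t44 t48 t50 t58 t51 t59 t61 t52 t53 t60 t62 t54 t63 t64 t55 t65 t67 t66 t68 t69 t70 t71 : K), t36 ≠ 0 → UP D (R.RNF (t36) (0) (t39) (t42) (t46) (t56) (0) (t40) (t43) (t47) (t57) (0) (t44) (t48) (t50) (t58) (0) (0) (t51) (t59) (t61) (t52) (t53) (t60) (t62) (t54) (t63) (t64) (t55) (t65) (t67) (t66) (t68) (t69) (t70) (t71)) := by
  intro t36 t39 t42 t46 t56 t40 t43 t47 t57 t44 t48 t50 t58 t51 t59 t61 t52 t53 t60 t62 t54 t63 t64 t55 t65 t67 t66 t68 t69 t70 t71 hn36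
  have h2 : (2 : K) = 0 := CharTwo.two_eq_zero
  have h4 : (4 : K) = 0 := by linear_combination 2 * h2
  have h6 : (6 : K) = 0 := by linear_combination 3 * h2
  have h8 : (8 : K) = 0 := by linear_combination 4 * h2
  have h10 : (10 : K) = 0 := by linear_combination 5 * h2
  have h12 : (12 : K) = 0 := by linear_combination 6 * h2
  have h14 : (14 : K) = 0 := by linear_combination 7 * h2
  have h16 : (16 : K) = 0 := by linear_combination 8 * h2
  have h18 : (18 : K) = 0 := by linear_combination 9 * h2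
  have h20 : (20 : K) = 0 := by linear_combination 10 * h2
  have h22 : (22 : K) = 0 := by linear_combination 11 * h2
  have h24 : (24 : K) = 0 := by linear_combination 12 * h2
  have h26 : (26 : K) = 0 := by linear_combination 13 * h2
  have h28 : (28 : K) = 0 := by linear_combination 14 * h2
  have h30 : (30 : K) = 0 := by linear_combination 15 * h2
  have h32 : (32 : K) = 0 := by linear_combination 16 * h2
  obtain ⟨c, rfl⟩ : ∃ c, t52 = c * t36 := ⟨t52 / t36, by field_simp⟩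
  have e : R.X51 c * R.RNF (t36) (0) (t39) (t42) (t46) (t56) (0) (t40) (t43) (t47) (t57) (0) (t44) (t48) (t50) (t58) (0) (0) (t51) (t59) (t61) (c * t36) (t53) (t60) (t62) (t54) (t63) (t64) (t55) (t65) (t67) (t66) (t68) (t69) (t70) (t71) * R.X51 c =
      R.RNF (t36) (0) (t39) (t42) (t46) (t56) (0) (t40) (t43) (t47) (t57) (0) (t44) (t48) (t50) (t58) (0) (0) (t51) (t59) (t61) (0) (c * t39 + t53) (t60) (c * t56 + t62) (c * t36 * t39 + t54) (c * t36 * t56 + t63) (c * t39 * t56 + t64) (c * t36 * t40 + t55) (c * t36 * t39 * t56 + t65) (c * t39 * t57 + c * t43 * t56 + c * t58 + t67) (c * t36 * t40 * t56 + t66) (c * t36 * t39 * t57 + c * t36 * t43 * t56 + c * t36 * t58 + t68) (c * t36 * t40 * t57 + c * t36 * t44 * t56 + c * t36 * t59 + c * t60 + t69) (c * t36 * t39 * t44 * t56 + c * t36 * t39 * t59 + c * t36 * t40 * t43 * t56 + c * t36 * t40 * t58 + t70) (c * t36 * t39 * t48 * t57 + c * t36 * t39 * t51 *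 t56 + c * t36 * t39 * t62 + c * t36 * t40 * t50 * t56 + c * t36 * t40 * t61 + c * t36 * t43 * t48 * t56 + c * t36 * t53 * t56 + c * t65 + c ^ 2 * t36 * t39 * t56 + t71) := by
    rw [R.ucj51]
    congr 1 <;> (first | rfl | ring1 | (rw [← sub_eq_zero]; ring_nf; simp only [h2, h4, h6, h8, h10, h12, h14, h16, h18, h20, h22, h24, h26, h28, h30, h32, mul_zero, zero_mul, add_zero, zero_add, neg_zero, sub_zero, sub_self]))
  exact UP_cj D (D.xmem51 c) (R.inv51 c) e (ih _ _ _ _ _ _ _ _ _ _ _ _ _ _ _ _ _ _ _ _ _ _ _ _ _ _ _ _ _ _ hn36)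

theorem e6s0_7 (D : UData R)
    (ih : ∀ (t36 t39 t42 t46 t56 t40 t43 t47 t57 t44 t48 t50 t58 t51 t59 t61 t53 t62 t54 t63 t64 t55 t65 t67 t66 t68 t69 t70 t71 : K), t36 ≠ 0 → UP D (R.RNF (t36) (0) (t39) (t42) (t46) (t56) (0) (t40) (t43) (t47) (t57) (0) (t44) (t48) (t50) (t58) (0) (0) (t51) (t59) (t61) (0) (t53) (0) (t62) (t54) (t63) (t64) (t55) (t65) (t67) (t66) (t68) (t69) (t70) (t71))) :
    ∀ (t36 t39 t42 t46 t56 t40 t43 t47 t57 t44 t48 t50 t58 t51 t59 t61 t53 t60 t62 t54 t63 t64 t55 t65 t67 t66 t68 t69 t70 t71 : K), t36 ≠ 0 → UP D (R.RNF (t36) (0) (t39) (t42) (t46) (t56) (0) (t40) (t43) (t47) (t57) (0) (t44) (t48) (t50) (t58) (0) (0) (t51) (t59) (t61) (0) (t53) (t60) (t62) (t54) (t63) (t64) (t55) (t65) (t67) (t66) (t68) (t69) (t70) (t71)) := by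
  intro t36 t39 t42 t46 t56 t40 t43 t47 t57 t44 t48 t50 t58 t51 t59 t61 t53 t60 t62 t54 t63 t64 t55 t65 t67 t66 t68 t69 t70 t71 hn36
  have h2 : (2 : K) = 0 := CharTwo.two_eq_zero
  have h4 : (4 : K) = 0 := by linear_combination 2 * h2
  have h6 : (6 : K) = 0 := by linear_combination 3 * h2
  have h8 : (8 : K) = 0 := by linear_combination 4 * h2
  have h10 : (10 : K) = 0 := by linear_combination 5 * h2
  have h12 : (12 : K) = 0 := by linear_combination 6 * h2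
  have h14 : (14 : K) = 0 := by linear_combination 7 * h2
  have h16 : (16 : K) = 0 := by linear_combination 8 * h2
  have h18 : (18 : K) = 0 := by linear_combination 9 * h2
  have h20 : (20 : K) = 0 := by linear_combination 10 * h2
  have h22 : (22 : K) = 0 := by linear_combination 11 * h2
  have h24 : (24 : K) = 0 := by linear_combination 12 * h2
  have h26 : (26 : K) = 0 := by linear_combination 13 * h2
  have h28 : (28 : K) = 0 := by linear_combination 14 * h2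
  have h30 : (30 : K) = 0 := by linear_combination 15 * h2
  have h32 : (32 : K) = 0 := by linear_combination 16 * h2
  obtain ⟨c, rfl⟩ : ∃ c, t60 = c * t36 := ⟨t60 / t36, by field_simp⟩
  have e : R.X59 c * R.RNF (t36) (0) (t39) (t42) (t46) (t56) (0) (t40) (t43) (t47) (t57) (0) (t44) (t48) (t50) (t58) (0) (0) (t51) (t59) (t61) (0) (t53) (c * t36) (t62) (t54) (t63) (t64) (t55) (t65) (t67) (t66) (t68) (t69) (t70) (t71) * R.X59 c =
      R.RNF (t36) (0) (t39) (t42) (t46) (t56) (0) (t40) (t43) (t47) (t57) (0) (t44) (t48) (t50) (t58) (0) (0) (t51) (t59) (t61) (0) (t53) (0) (c * t46 + t62) (t54) (c * t36 * t46 + t63) (c * t47 + t64) (t55) (c * t36 * t47 + t65) (c * t43 * t46 + c * t50 + t67) (c * t36 * t40 * t46 + c * t36 * t48 + t66) (c * t36 * t43 * t46 + c * t36 * t50 + t68) (c * t36 * t44 * t46 + c * t36 * t51 + t69) (c * t36 * t40 * t43 * t46 + c * t36 * t44 * t47 + c * t36 * t53 + c * t54 + t70)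 (c * t36 * t40 * t46 * t50 + c * t36 * t43 * t46 * t48 + c * t36 * t46 * t53 + c * t36 * t47 * t51 + c * t36 * t48 * t50 + t71) := by
    rw [R.ucj59]
    congr 1 <;> (first | rfl | ring1 | (rw [← sub_eq_zero]; ring_nf; simp only [h2, h4, h6, h8, h10, h12, h14, h16, h18, h20, h22, h24, h26, h28, h30, h32, mul_zero, zero_mul, add_zero, zero_add, neg_zero, sub_zero, sub_self]))
  exact UP_cj D (D.xmem59 c) (R.inv59 c) e (ih _ _ _ _ _ _ _ _ _ _ _ _ _ _ _ _ _ _ _ _ _ _ _ _ _ _ _ _ _ hn36)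

theorem e6s0_8 (D : UData R)
    (ih : ∀ (t36 t39 t42 t46 t56 t40 t43 t47 t57 t44 t48 t50 t58 t51 t59 t61 t53 t62 t63 t64 t55 t65 t67 t66 t68 t69 t70 t71 : K), t36 ≠ 0 → UP D (R.RNF (t36) (0) (t39) (t42) (t46) (t56) (0) (t40) (t43) (t47) (t57) (0) (t44) (t48) (t50) (t58) (0) (0) (t51) (t59) (t61) (0) (t53) (0) (t62) (0) (t63) (t64) (t55) (t65) (t67) (t66) (t68) (t69) (t70) (t71))) :
    ∀ (t36 t39 t42 t46 t56 t40 t43 t47 t57 t44 t48 t50 t58 t51 t59 t61 t53 t62 t54 t63 t64 t55 t65 t67 t66 t68 t69 t70 t71 : K), t36 ≠ 0 → UP D (R.RNF (t36) (0) (t39) (t42) (t46) (t56) (0) (t40) (t43) (t47) (t57) (0) (t44) (t48) (t50) (t58) (0) (0) (t51) (t59) (t61) (0) (t53) (0) (t62) (t54) (t63) (t64) (t55) (t65) (t67) (t66) (t68) (t69) (t70) (t71)) := by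
  intro t36 t39 t42 t46 t56 t40 t43 t47 t57 t44 t48 t50 t58 t51 t59 t61 t53 t62 t54 t63 t64 t55 t65 t67 t66 t68 t69 t70 t71 hn36
  have h2 : (2 : K) = 0 := CharTwo.two_eq_zero
  have h4 : (4 : K) = 0 := by linear_combination 2 * h2
  have h6 : (6 : K) = 0 := by linear_combination 3 * h2
  have h8 : (8 : K) = 0 := by linear_combination 4 * h2
  have h10 : (10 : K) = 0 := by linear_combination 5 * h2
  have h12 : (12 : K) = 0 := by linear_combination 6 * h2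
  have h14 : (14 : K) = 0 := by linear_combination 7 * h2
  have h16 : (16 : K) = 0 := by linear_combination 8 * h2
  have h18 : (18 : K) = 0 := by linear_combination 9 * h2
  have h20 : (20 : K) = 0 := by linear_combination 10 * h2
  have h22 : (22 : K) = 0 := by linear_combination 11 * h2
  have h24 : (24 : K) = 0 := by linear_combination 12 * h2
  have h26 : (26 : K) = 0 := by linear_combination 13 * h2
  have h28 : (28 : K) = 0 := by linear_combination 14 * h2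
  have h30 : (30 : K) = 0 := by linear_combination 15 * h2
  have h32 : (32 : K) = 0 := by linear_combination 16 * h2
  obtain ⟨c, rfl⟩ : ∃ c, t54 = c * t36 := ⟨t54 / t36, by field_simp⟩
  have e : R.X53 c * R.RNF (t36) (0) (t39) (t42) (t46) (t56) (0) (t40) (t43) (t47) (t57) (0) (t44) (t48) (t50) (t58) (0) (0) (t51) (t59) (t61) (0) (t53) (0) (t62) (c * t36) (t63) (t64) (t55) (t65) (t67) (t66) (t68) (t69) (t70) (t71) * R.X53 c =
      R.RNF (t36) (0) (t39) (t42) (t46) (t56) (0) (t40) (t43) (t47) (t57) (0) (t44) (t48) (t50) (t58) (0) (0) (t51) (t59) (t61) (0) (t53) (0) (t62) (0) (t63) (c * t56 + t64) (t55) (c * t36 * t56 + t65) (c * t57 + t67) (t66) (c * t36 * t57 + t68) (t69) (c * t36 * t44 * t56 + c * t36 * t59 + t70) (c * t36 * t48 * t57 + c * t36 * t51 * t56 + c * t36 * t62 + c * t63 + t71) := by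
    rw [R.ucj53]
    congr 1 <;> (first | rfl | ring1 | (rw [← sub_eq_zero]; ring_nf; simp only [h2, h4, h6, h8, h10, h12, h14, h16, h18, h20, h22, h24, h26, h28, h30, h32, mul_zero, zero_mul, add_zero, zero_add, neg_zero, sub_zero, sub_self]))
  exact UP_cj D (D.xmem53 c) (R.inv53 c) e (ih _ _ _ _ _ _ _ _ _ _ _ _ _ _ _ _ _ _ _ _ _ _ _ _ _ _ _ _ hn36)

theorem e6s0_9 (D : UData R)
    (ih : ∀ (t36 t39 t42 t46 t56 t40 t43 t47 t57 t44 t48 t50 t58 t51 t59 t61 t53 t62 t64 t55 t65 t67 t66 t68 t69 t70 t71 : K), t36 ≠ 0 → UP D (R.RNF (t36) (0) (t39) (t42) (t46) (t56) (0) (t40) (t43) (t47) (t57) (0) (t44) (t48) (t50) (t58) (0) (0) (t51) (t59) (t61) (0) (t53) (0) (t62) (0) (0) (t64) (t55) (t65) (t67) (t66) (t68) (t69) (t70) (t71))) :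
    ∀ (t36 t39 t42 t46 t56 t40 t43 t47 t57 t44 t48 t50 t58 t51 t59 t61 t53 t62 t63 t64 t55 t65 t67 t66 t68 t69 t70 t71 : K), t36 ≠ 0 → UP D (R.RNF (t36) (0) (t39) (t42) (t46) (t56) (0) (t40) (t43) (t47) (t57) (0) (t44) (t48) (t50) (t58) (0) (0) (t51) (t59) (t61) (0) (t53) (0) (t62) (0) (t63) (t64) (t55) (t65) (t67) (t66) (t68) (t69) (t70) (t71)) := by
  intro t36 t39 t42 t46 t56 t40 t43 t47 t57 t44 t48 t50 t58 t51 t59 t61 t53 t62 t63 t64 t55 t65 t67 t66 t68 t69 t70 t71 hn36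
  have h2 : (2 : K) = 0 := CharTwo.two_eq_zero
  have h4 : (4 : K) = 0 := by linear_combination 2 * h2
  have h6 : (6 : K) = 0 := by linear_combination 3 * h2
  have h8 : (8 : K) = 0 := by linear_combination 4 * h2
  have h10 : (10 : K) = 0 := by linear_combination 5 * h2
  have h12 : (12 : K) = 0 := by linear_combination 6 * h2
  have h14 : (14 : K) = 0 := by linear_combination 7 * h2
  have h16 : (16 : K) = 0 := by linear_combination 8 * h2
  have h18 : (18 : K) = 0 := by linear_combination 9 * h2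
  have h20 : (20 : K) = 0 := by linear_combination 10 * h2
  have h22 : (22 : K) = 0 := by linear_combination 11 * h2
  have h24 : (24 : K) = 0 := by linear_combination 12 * h2
  have h26 : (26 : K) = 0 := by linear_combination 13 * h2
  have h28 : (28 : K) = 0 := by linear_combination 14 * h2
  have h30 : (30 : K) = 0 := by linear_combination 15 * h2
  have h32 : (32 : K) = 0 := by linear_combination 16 * h2
  obtain ⟨c, rfl⟩ : ∃ c, t63 = c * t36 := ⟨t63 / t36, by field_simp⟩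
  have e : R.X62 c * R.RNF (t36) (0) (t39) (t42) (t46) (t56) (0) (t40) (t43) (t47) (t57) (0) (t44) (t48) (t50) (t58) (0) (0) (t51) (t59) (t61) (0) (t53) (0) (t62) (0) (c * t36) (t64) (t55) (t65) (t67) (t66) (t68) (t69) (t70) (t71) * R.X62 c =
      R.RNF (t36) (0) (t39) (t42) (t46) (t56) (0) (t40) (t43) (t47) (t57) (0) (t44) (t48) (t50) (t58) (0) (0) (t51) (t59) (t61) (0) (t53) (0) (t62) (0) (0) (c * t39 + t64) (t55) (c * t36 * t39 + t65) (c * t39 * t42 + c * t43 + t67) (c * t36 * t40 + t66) (c * t36 * t39 * t42 + c * t36 * t43 + t68) (c * t36 * t44 + t69) (c * t36 * t39 * t40 * t42 + c * t36 * t39 * t44 + c * t36 * t40 * t43 + t70) (c * t36 * t39 * t42 * t48 + c * t36 * t39 * t51 + c * t36 * t40 * t50 + c * t36 * t43 * t48 + c * t36 * t53 + t71) := by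
    rw [R.ucj62]
    congr 1 <;> (first | rfl | ring1 | (rw [← sub_eq_zero]; ring_nf; simp only [h2, h4, h6, h8, h10, h12, h14, h16, h18, h20, h22, h24, h26, h28, h30, h32, mul_zero, zero_mul, add_zero, zero_add, neg_zero, sub_zero, sub_self]))
  exact UP_cj D (D.xmem62 c) (R.inv62 c) e (ih _ _ _ _ _ _ _ _ _ _ _ _ _ _ _ _ _ _ _ _ _ _ _ _ _ _ _ hn36)

theorem e6s0_10 (D : UData R)
    (ih : ∀ (t36 t39 t42 t46 t56 t40 t43 t47 t57 t44 t48 t50 t58 t51 t59 t61 t53 t62 t64 t55 t67 t66 t68 t69 t70 t71 : K), t36 ≠ 0 → UP D (R.RNF (t36) (0) (t39) (t42) (t46) (t56) (0) (t40) (t43) (t47) (t57) (0) (t44) (t48) (t50) (t58) (0) (0) (t51) (t59) (t61) (0) (t53) (0) (t62) (0) (0) (t64) (t55) (0) (t67) (t66) (t68) (t69) (t70) (t71))) :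
    ∀ (t36 t39 t42 t46 t56 t40 t43 t47 t57 t44 t48 t50 t58 t51 t59 t61 t53 t62 t64 t55 t65 t67 t66 t68 t69 t70 t71 : K), t36 ≠ 0 → UP D (R.RNF (t36) (0) (t39) (t42) (t46) (t56) (0) (t40) (t43) (t47) (t57) (0) (t44) (t48) (t50) (t58) (0) (0) (t51) (t59) (t61) (0) (t53) (0) (t62) (0) (0) (t64) (t55) (t65) (t67) (t66) (t68) (t69) (t70) (t71)) := by
  intro t36 t39 t42 t46 t56 t40 t43 t47 t57 t44 t48 t50 t58 t51 t59 t61 t53 t62 t64 t55 t65 t67 t66 t68 t69 t70 t71 hn36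
  have h2 : (2 : K) = 0 := CharTwo.two_eq_zero
  have h4 : (4 : K) = 0 := by linear_combination 2 * h2
  have h6 : (6 : K) = 0 := by linear_combination 3 * h2
  have h8 : (8 : K) = 0 := by linear_combination 4 * h2
  have h10 : (10 : K) = 0 := by linear_combination 5 * h2
  have h12 : (12 : K) = 0 := by linear_combination 6 * h2
  have h14 : (14 : K) = 0 := by linear_combination 7 * h2
  have h16 : (16 : K) = 0 := by linear_combination 8 * h2
  have h18 : (18 : K) = 0 := by linear_combination 9 * h2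
  have h20 : (20 : K) = 0 := by linear_combination 10 * h2
  have h22 : (22 : K) = 0 := by linear_combination 11 * h2
  have h24 : (24 : K) = 0 := by linear_combination 12 * h2
  have h26 : (26 : K) = 0 := by linear_combination 13 * h2
  have h28 : (28 : K) = 0 := by linear_combination 14 * h2
  have h30 : (30 : K) = 0 := by linear_combination 15 * h2
  have h32 : (32 : K) = 0 := by linear_combination 16 * h2
  obtain ⟨c, rfl⟩ : ∃ c, t65 = c * t36 := ⟨t65 / t36, by field_simp⟩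
  have e : R.X64 c * R.RNF (t36) (0) (t39) (t42) (t46) (t56) (0) (t40) (t43) (t47) (t57) (0) (t44) (t48) (t50) (t58) (0) (0) (t51) (t59) (t61) (0) (t53) (0) (t62) (0) (0) (t64) (t55) (c * t36) (t67) (t66) (t68) (t69) (t70) (t71) * R.X64 c =
      R.RNF (t36) (0) (t39) (t42) (t46) (t56) (0) (t40) (t43) (t47) (t57) (0) (t44) (t48) (t50) (t58) (0) (0) (t51) (t59) (t61) (0) (t53) (0) (t62) (0) (0) (t64) (t55) (0) (c * t42 + t67) (t66) (c * t36 * t42 + t68) (t69) (c * t36 * t40 * t42 + c * t36 * t44 + t70) (c * t36 * t42 * t48 + c * t36 * t51 + t71) := by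
    rw [R.ucj64]
    congr 1 <;> (first | rfl | ring1 | (rw [← sub_eq_zero]; ring_nf; simp only [h2, h4, h6, h8, h10, h12, h14, h16, h18, h20, h22, h24, h26, h28, h30, h32, mul_zero, zero_mul, add_zero, zero_add, neg_zero, sub_zero, sub_self]))
  exact UP_cj D (D.xmem64 c) (R.inv64 c) e (ih _ _ _ _ _ _ _ _ _ _ _ _ _ _ _ _ _ _ _ _ _ _ _ _ _ _ hn36)

theorem e6s0_11 (D : UData R)
    (ih : ∀ (t36 t39 t42 t46 t56 t40 t43 t47 t57 t44 t48 t50 t58 t51 t59 t61 t53 t62 t64 t55 t67 t66 t69 t70 t71 : K), t36 ≠ 0 → UP D (R.RNF (t36) (0) (t39) (t42) (t46) (t56) (0) (t40) (t43) (t47) (t57) (0) (t44) (t48) (t50) (t58) (0) (0) (t51) (t59) (t61) (0) (t53) (0) (t62) (0) (0) (t64) (t55) (0) (t67) (t66) (0) (t69) (t70) (t71))) :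
    ∀ (t36 t39 t42 t46 t56 t40 t43 t47 t57 t44 t48 t50 t58 t51 t59 t61 t53 t62 t64 t55 t67 t66 t68 t69 t70 t71 : K), t36 ≠ 0 → UP D (R.RNF (t36) (0) (t39) (t42) (t46) (t56) (0) (t40) (t43) (t47) (t57) (0) (t44) (t48) (t50) (t58) (0) (0) (t51) (t59) (t61) (0) (t53) (0) (t62) (0) (0) (t64) (t55) (0) (t67) (t66) (t68) (t69) (t70) (t71)) := by
  intro t36 t39 t42 t46 t56 t40 t43 t47 t57 t44 t48 t50 t58 t51 t59 t61 t53 t62 t64 t55 t67 t66 t68 t69 t70 t71 hn36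
  have h2 : (2 : K) = 0 := CharTwo.two_eq_zero
  have h4 : (4 : K) = 0 := by linear_combination 2 * h2
  have h6 : (6 : K) = 0 := by linear_combination 3 * h2
  have h8 : (8 : K) = 0 := by linear_combination 4 * h2
  have h10 : (10 : K) = 0 := by linear_combination 5 * h2
  have h12 : (12 : K) = 0 := by linear_combination 6 * h2
  have h14 : (14 : K) = 0 := by linear_combination 7 * h2
  have h16 : (16 : K) = 0 := by linear_combination 8 * h2
  have h18 : (18 : K) = 0 := by linear_combination 9 * h2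
  have h20 : (20 : K) = 0 := by linear_combination 10 * h2
  have h22 : (22 : K) = 0 := by linear_combination 11 * h2
  have h24 : (24 : K) = 0 := by linear_combination 12 * h2
  have h26 : (26 : K) = 0 := by linear_combination 13 * h2
  have h28 : (28 : K) = 0 := by linear_combination 14 * h2
  have h30 : (30 : K) = 0 := by linear_combination 15 * h2
  have h32 : (32 : K) = 0 := by linear_combination 16 * h2
  obtain ⟨c, rfl⟩ : ∃ c, t68 = c * t36 := ⟨t68 / t36, by field_simp⟩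
  have e : R.X67 c * R.RNF (t36) (0) (t39) (t42) (t46) (t56) (0) (t40) (t43) (t47) (t57) (0) (t44) (t48) (t50) (t58) (0) (0) (t51) (t59) (t61) (0) (t53) (0) (t62) (0) (0) (t64) (t55) (0) (t67) (t66) (c * t36) (t69) (t70) (t71) * R.X67 c =
      R.RNF (t36) (0) (t39) (t42) (t46) (t56) (0) (t40) (t43) (t47) (t57) (0) (t44) (t48) (t50) (t58) (0) (0) (t51) (t59) (t61) (0) (t53) (0) (t62) (0) (0) (t64) (t55) (0) (t67) (t66) (0) (t69) (c * t36 * t40 + t70) (c * t36 * t48 + t71) := by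
    rw [R.ucj67]
    congr 1 <;> (first | rfl | ring1 | (rw [← sub_eq_zero]; ring_nf; simp only [h2, h4, h6, h8, h10, h12, h14, h16, h18, h20, h22, h24, h26, h28, h30, h32, mul_zero, zero_mul, add_zero, zero_add, neg_zero, sub_zero, sub_self]))
  exact UP_cj D (D.xmem67 c) (R.inv67 c) e (ih _ _ _ _ _ _ _ _ _ _ _ _ _ _ _ _ _ _ _ _ _ _ _ _ _ hn36)

theorem e6s0_12 (D : UData R)
    (ih : ∀ (t36 t39 t42 t46 t56 t43 t47 t57 t44 t48 t50 t58 t51 t59 t61 t53 t62 t64 t55 t67 t66 t69 t70 t71 : K), t36 ≠ 0 → UP D (R.RNF (t36) (0) (t39) (t42) (t46) (t56) (0) (0) (t43) (t47) (t57) (0) (t44) (t48) (t50) (t58) (0) (0) (t51) (t59) (t61) (0) (t53) (0) (t62) (0) (0) (t64) (t55) (0) (t67) (t66) (0) (t69) (t70) (t71))) :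
    ∀ (t36 t39 t42 t46 t56 t40 t43 t47 t57 t44 t48 t50 t58 t51 t59 t61 t53 t62 t64 t55 t67 t66 t69 t70 t71 : K), t36 ≠ 0 → UP D (R.RNF (t36) (0) (t39) (t42) (t46) (t56) (0) (t40) (t43) (t47) (t57) (0) (t44) (t48) (t50) (t58) (0) (0) (t51) (t59) (t61) (0) (t53) (0) (t62) (0) (0) (t64) (t55) (0) (t67) (t66) (0) (t69) (t70) (t71)) := by
  intro t36 t39 t42 t46 t56 t40 t43 t47 t57 t44 t48 t50 t58 t51 t59 t61 t53 t62 t64 t55 t67 t66 t69 t70 t71 hn36 hu hne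
  have hsq := hu
  rw [R.usq] at hsq
  obtain ⟨e36, e37, e39, e42, e46, e56, e38, e40, e43, e47, e57, e41, e44, e48, e50, e58, e45, e49, e51, e59, e61, e52, e53, e60, e62, e54, e63, e64, e55, e65, e67, e66, e68, e69, e70, e71⟩ := D.inj _ _ _ _ _ _ _ _ _ _ _ _ _ _ _ _ _ _ _ _ _ _ _ _ _ _ _ _ _ _ _ _ _ _ _ _ hsq
  have hz : t40 = 0 := by
    have h : t36 * t40 = 0 := by linear_combination e41
    exact (mul_eq_zero.mp h).resolve_left hn36
  subst hz
  exact ih _ _ _ _ _ _ _ _ _ _ _ _ _ _ _ _ _ _ _ _ _ _ _ _ hn36 hu hne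

theorem e6s0_13 (D : UData R)
    (ih : ∀ (t36 t39 t42 t46 t56 t43 t47 t57 t48 t50 t58 t51 t59 t61 t53 t62 t64 t55 t67 t66 t69 t70 t71 : K), t36 ≠ 0 → UP D (R.RNF (t36) (0) (t39) (t42) (t46) (t56) (0) (0) (t43) (t47) (t57) (0) (0) (t48) (t50) (t58) (0) (0) (t51) (t59) (t61) (0) (t53) (0) (t62) (0) (0) (t64) (t55) (0) (t67) (t66) (0) (t69) (t70) (t71))) :
    ∀ (t36 t39 t42 t46 t56 t43 t47 t57 t44 t48 t50 t58 t51 t59 t61 t53 t62 t64 t55 t67 t66 t69 t70 t71 : K), t36 ≠ 0 → UP D (R.RNF (t36) (0) (t39) (t42) (t46) (t56) (0) (0) (t43) (t47) (t57) (0) (t44) (t48) (t50) (t58) (0) (0) (t51) (t59) (t61) (0) (t53) (0) (t62) (0) (0) (t64) (t55) (0) (t67) (t66) (0) (t69) (t70) (t71)) := by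
  intro t36 t39 t42 t46 t56 t43 t47 t57 t44 t48 t50 t58 t51 t59 t61 t53 t62 t64 t55 t67 t66 t69 t70 t71 hn36 hu hne
  have hsq := hu
  rw [R.usq] at hsq
  obtain ⟨e36, e37, e39, e42, e46, e56, e38, e40, e43, e47, e57, e41, e44, e48, e50, e58, e45, e49, e51, e59, e61, e52, e53, e60, e62, e54, e63, e64, e55, e65, e67, e66, e68, e69, e70, e71⟩ := D.inj _ _ _ _ _ _ _ _ _ _ _ _ _ _ _ _ _ _ _ _ _ _ _ _ _ _ _ _ _ _ _ _ _ _ _ _ hsq
  have hz : t44 = 0 := by
    have h : t36 * t44 = 0 := by linear_combination e45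
    exact (mul_eq_zero.mp h).resolve_left hn36
  subst hz
  exact ih _ _ _ _ _ _ _ _ _ _ _ _ _ _ _ _ _ _ _ _ _ _ _ hn36 hu hne

theorem e6s0_14 (D : UData R)
    (ih : ∀ (t36 t39 t42 t46 t56 t43 t47 t57 t50 t58 t51 t59 t61 t53 t62 t64 t55 t67 t66 t69 t70 t71 : K), t36 ≠ 0 → UP D (R.RNF (t36) (0) (t39) (t42) (t46) (t56) (0) (0) (t43) (t47) (t57) (0) (0) (0) (t50) (t58) (0) (0) (t51) (t59) (t61) (0) (t53) (0) (t62) (0) (0) (t64) (t55) (0) (t67) (t66) (0) (t69) (t70) (t71))) :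
    ∀ (t36 t39 t42 t46 t56 t43 t47 t57 t48 t50 t58 t51 t59 t61 t53 t62 t64 t55 t67 t66 t69 t70 t71 : K), t36 ≠ 0 → UP D (R.RNF (t36) (0) (t39) (t42) (t46) (t56) (0) (0) (t43) (t47) (t57) (0) (0) (t48) (t50) (t58) (0) (0) (t51) (t59) (t61) (0) (t53) (0) (t62) (0) (0) (t64) (t55) (0) (t67) (t66) (0) (t69) (t70) (t71)) := by
  intro t36 t39 t42 t46 t56 t43 t47 t57 t48 t50 t58 t51 t59 t61 t53 t62 t64 t55 t67 t66 t69 t70 t71 hn36 hu hne
  have hsq := hu
  rw [R.usq] at hsq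
  obtain ⟨e36, e37, e39, e42, e46, e56, e38, e40, e43, e47, e57, e41, e44, e48, e50, e58, e45, e49, e51, e59, e61, e52, e53, e60, e62, e54, e63, e64, e55, e65, e67, e66, e68, e69, e70, e71⟩ := D.inj _ _ _ _ _ _ _ _ _ _ _ _ _ _ _ _ _ _ _ _ _ _ _ _ _ _ _ _ _ _ _ _ _ _ _ _ hsq
  have hz : t48 = 0 := by
    have h : t36 * t48 = 0 := by linear_combination e49
    exact (mul_eq_zero.mp h).resolve_left hn36
  subst hz
  exact ih _ _ _ _ _ _ _ _ _ _ _ _ _ _ _ _ _ _ _ _ _ _ hn36 hu hne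

theorem e6s0_15 (D : UData R)
    (ih : ∀ (t36 t39 t42 t46 t56 t43 t47 t57 t50 t58 t59 t61 t53 t62 t64 t55 t67 t66 t69 t70 t71 : K), t36 ≠ 0 → UP D (R.RNF (t36) (0) (t39) (t42) (t46) (t56) (0) (0) (t43) (t47) (t57) (0) (0) (0) (t50) (t58) (0) (0) (0) (t59) (t61) (0) (t53) (0) (t62) (0) (0) (t64) (t55) (0) (t67) (t66) (0) (t69) (t70) (t71))) :
    ∀ (t36 t39 t42 t46 t56 t43 t47 t57 t50 t58 t51 t59 t61 t53 t62 t64 t55 t67 t66 t69 t70 t71 : K), t36 ≠ 0 → UP D (R.RNF (t36) (0) (t39) (t42) (t46) (t56) (0) (0) (t43) (t47) (t57) (0) (0) (0) (t50) (t58) (0) (0) (t51) (t59) (t61) (0) (t53) (0) (t62) (0) (0) (t64) (t55) (0) (t67) (t66) (0) (t69) (t70) (t71)) := by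
  intro t36 t39 t42 t46 t56 t43 t47 t57 t50 t58 t51 t59 t61 t53 t62 t64 t55 t67 t66 t69 t70 t71 hn36 hu hne
  have hsq := hu
  rw [R.usq] at hsq
  obtain ⟨e36, e37, e39, e42, e46, e56, e38, e40, e43, e47, e57, e41, e44, e48, e50, e58, e45, e49, e51, e59, e61, e52, e53, e60, e62, e54, e63, e64, e55, e65, e67, e66, e68, e69, e70, e71⟩ := D.inj _ _ _ _ _ _ _ _ _ _ _ _ _ _ _ _ _ _ _ _ _ _ _ _ _ _ _ _ _ _ _ _ _ _ _ _ hsq
  have hz : t51 = 0 := by
    have h : t36 * t51 = 0 := by linear_combination e52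
    exact (mul_eq_zero.mp h).resolve_left hn36
  subst hz
  exact ih _ _ _ _ _ _ _ _ _ _ _ _ _ _ _ _ _ _ _ _ _ hn36 hu hne

theorem e6s0_16 (D : UData R)
    (ih : ∀ (t36 t39 t42 t46 t56 t43 t47 t57 t50 t58 t61 t53 t62 t64 t55 t67 t66 t69 t70 t71 : K), t36 ≠ 0 → UP D (R.RNF (t36) (0) (t39) (t42) (t46) (t56) (0) (0) (t43) (t47) (t57) (0) (0) (0) (t50) (t58) (0) (0) (0) (0) (t61) (0) (t53) (0) (t62) (0) (0) (t64) (t55) (0) (t67) (t66) (0) (t69) (t70) (t71))) :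
    ∀ (t36 t39 t42 t46 t56 t43 t47 t57 t50 t58 t59 t61 t53 t62 t64 t55 t67 t66 t69 t70 t71 : K), t36 ≠ 0 → UP D (R.RNF (t36) (0) (t39) (t42) (t46) (t56) (0) (0) (t43) (t47) (t57) (0) (0) (0) (t50) (t58) (0) (0) (0) (t59) (t61) (0) (t53) (0) (t62) (0) (0) (t64) (t55) (0) (t67) (t66) (0) (t69) (t70) (t71)) := by
  intro t36 t39 t42 t46 t56 t43 t47 t57 t50 t58 t59 t61 t53 t62 t64 t55 t67 t66 t69 t70 t71 hn36 hu hne
  have hsq := hu
  rw [R.usq] at hsq
  obtain ⟨e36, e37, e39, e42, e46, e56, e38, e40, e43, e47, e57, e41, e44, e48, e50, e58, e45, e49, e51, e59, e61, e52, e53, e60, e62, e54, e63, e64, e55, e65, e67, e66, e68, e69, e70, e71⟩ := D.inj _ _ _ _ _ _ _ _ _ _ _ _ _ _ _ _ _ _ _ _ _ _ _ _ _ _ _ _ _ _ _ _ _ _ _ _ hsq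
  have hz : t59 = 0 := by
    have h : t36 * t59 = 0 := by linear_combination e60
    exact (mul_eq_zero.mp h).resolve_left hn36
  subst hz
  exact ih _ _ _ _ _ _ _ _ _ _ _ _ _ _ _ _ _ _ _ _ hn36 hu hne

theorem e6s0_17 (D : UData R)
    (ih : ∀ (t36 t39 t42 t46 t56 t43 t47 t57 t50 t58 t61 t62 t64 t55 t67 t66 t69 t70 t71 : K), t36 ≠ 0 → UP D (R.RNF (t36) (0) (t39) (t42) (t46) (t56) (0) (0) (t43) (t47) (t57) (0) (0) (0) (t50) (t58) (0) (0) (0) (0) (t61) (0) (0) (0) (t62) (0) (0) (t64) (t55) (0) (t67) (t66) (0) (t69) (t70) (t71))) :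
    ∀ (t36 t39 t42 t46 t56 t43 t47 t57 t50 t58 t61 t53 t62 t64 t55 t67 t66 t69 t70 t71 : K), t36 ≠ 0 → UP D (R.RNF (t36) (0) (t39) (t42) (t46) (t56) (0) (0) (t43) (t47) (t57) (0) (0) (0) (t50) (t58) (0) (0) (0) (0) (t61) (0) (t53) (0) (t62) (0) (0) (t64) (t55) (0) (t67) (t66) (0) (t69) (t70) (t71)) := by
  intro t36 t39 t42 t46 t56 t43 t47 t57 t50 t58 t61 t53 t62 t64 t55 t67 t66 t69 t70 t71 hn36 hu hne
  have hsq := hu
  rw [R.usq] at hsq
  obtain ⟨e36, e37, e39, e42, e46, e56, e38, e40, e43, e47, e57, e41, e44, e48, e50, e58, e45, e49, e51, e59, e61, e52, e53, e60, e62, e54, e63, e64, e55, e65, e67, e66, e68, e69, e70, e71⟩ := D.inj _ _ _ _ _ _ _ _ _ _ _ _ _ _ _ _ _ _ _ _ _ _ _ _ _ _ _ _ _ _ _ _ _ _ _ _ hsq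
  have hz : t53 = 0 := by
    have h : t36 * t53 = 0 := by linear_combination e54
    exact (mul_eq_zero.mp h).resolve_left hn36
  subst hz
  exact ih _ _ _ _ _ _ _ _ _ _ _ _ _ _ _ _ _ _ _ hn36 hu hne

theorem e6s0_18 (D : UData R)
    (ih : ∀ (t36 t39 t42 t46 t56 t43 t47 t57 t50 t58 t61 t64 t55 t67 t66 t69 t70 t71 : K), t36 ≠ 0 → UP D (R.RNF (t36) (0) (t39) (t42) (t46) (t56) (0) (0) (t43) (t47) (t57) (0) (0) (0) (t50) (t58) (0) (0) (0) (0) (t61) (0) (0) (0) (0) (0) (0) (t64) (t55) (0) (t67) (t66) (0) (t69) (t70) (t71))) :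
    ∀ (t36 t39 t42 t46 t56 t43 t47 t57 t50 t58 t61 t62 t64 t55 t67 t66 t69 t70 t71 : K), t36 ≠ 0 → UP D (R.RNF (t36) (0) (t39) (t42) (t46) (t56) (0) (0) (t43) (t47) (t57) (0) (0) (0) (t50) (t58) (0) (0) (0) (0) (t61) (0) (0) (0) (t62) (0) (0) (t64) (t55) (0) (t67) (t66) (0) (t69) (t70) (t71)) := by
  intro t36 t39 t42 t46 t56 t43 t47 t57 t50 t58 t61 t62 t64 t55 t67 t66 t69 t70 t71 hn36 hu hne
  have hsq := hu
  rw [R.usq] at hsq
  obtain ⟨e36, e37, e39, e42, e46, e56, e38, e40, e43, e47, e57, e41, e44, e48, e50, e58, e45, e49, e51, e59, e61, e52, e53, e60, e62, e54, e63, e64, e55, e65, e67, e66, e68, e69, e70, e71⟩ := D.inj _ _ _ _ _ _ _ _ _ _ _ _ _ _ _ _ _ _ _ _ _ _ _ _ _ _ _ _ _ _ _ _ _ _ _ _ hsq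
  have hz : t62 = 0 := by
    have h : t36 * t62 = 0 := by linear_combination e63
    exact (mul_eq_zero.mp h).resolve_left hn36
  subst hz
  exact ih _ _ _ _ _ _ _ _ _ _ _ _ _ _ _ _ _ _ hn36 hu hne

theorem e6s0_19 (D : UData R)
    (ih : ∀ (t36 t39 t42 t46 t56 t43 t47 t57 t50 t58 t61 t55 t67 t66 t69 t70 t71 : K), t36 ≠ 0 → UP D (R.RNF (t36) (0) (t39) (t42) (t46) (t56) (0) (0) (t43) (t47) (t57) (0) (0) (0) (t50) (t58) (0) (0) (0) (0) (t61) (0) (0) (0) (0) (0) (0) (0) (t55) (0) (t67) (t66) (0) (t69) (t70) (t71))) :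
    ∀ (t36 t39 t42 t46 t56 t43 t47 t57 t50 t58 t61 t64 t55 t67 t66 t69 t70 t71 : K), t36 ≠ 0 → UP D (R.RNF (t36) (0) (t39) (t42) (t46) (t56) (0) (0) (t43) (t47) (t57) (0) (0) (0) (t50) (t58) (0) (0) (0) (0) (t61) (0) (0) (0) (0) (0) (0) (t64) (t55) (0) (t67) (t66) (0) (t69) (t70) (t71)) := by
  intro t36 t39 t42 t46 t56 t43 t47 t57 t50 t58 t61 t64 t55 t67 t66 t69 t70 t71 hn36 hu hne
  have hsq := hu
  rw [R.usq] at hsq
  obtain ⟨e36, e37, e39, e42, e46, e56, e38, e40, e43, e47, e57, e41, e44, e48, e50, e58, e45, e49, e51, e59, e61, e52, e53, e60, e62, e54, e63, e64, e55, e65, e67, e66, e68, e69, e70, e71⟩ := D.inj _ _ _ _ _ _ _ _ _ _ _ _ _ _ _ _ _ _ _ _ _ _ _ _ _ _ _ _ _ _ _ _ _ _ _ _ hsq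
  have hz : t64 = 0 := by
    have h : t36 * t64 = 0 := by linear_combination e65
    exact (mul_eq_zero.mp h).resolve_left hn36
  subst hz
  exact ih _ _ _ _ _ _ _ _ _ _ _ _ _ _ _ _ _ hn36 hu hne

theorem e6s0_20 (D : UData R)
    (ih : ∀ (t36 t39 t42 t46 t56 t43 t47 t57 t50 t58 t61 t55 t66 t69 t70 t71 : K), t36 ≠ 0 → UP D (R.RNF (t36) (0) (t39) (t42) (t46) (t56) (0) (0) (t43) (t47) (t57) (0) (0) (0) (t50) (t58) (0) (0) (0) (0) (t61) (0) (0) (0) (0) (0) (0) (0) (t55) (0) (0) (t66) (0) (t69) (t70) (t71))) :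
    ∀ (t36 t39 t42 t46 t56 t43 t47 t57 t50 t58 t61 t55 t67 t66 t69 t70 t71 : K), t36 ≠ 0 → UP D (R.RNF (t36) (0) (t39) (t42) (t46) (t56) (0) (0) (t43) (t47) (t57) (0) (0) (0) (t50) (t58) (0) (0) (0) (0) (t61) (0) (0) (0) (0) (0) (0) (0) (t55) (0) (t67) (t66) (0) (t69) (t70) (t71)) := by
  intro t36 t39 t42 t46 t56 t43 t47 t57 t50 t58 t61 t55 t67 t66 t69 t70 t71 hn36 hu hne
  have hsq := hu
  rw [R.usq] at hsq
  obtain ⟨e36, e37, e39, e42, e46, e56, e38, e40, e43, e47, e57, e41, e44, e48, e50, e58, e45, e49, e51, e59, e61, e52, e53, e60, e62, e54, e63, e64, e55, e65, e67, e66, e68, e69, e70, e71⟩ := D.inj _ _ _ _ _ _ _ _ _ _ _ _ _ _ _ _ _ _ _ _ _ _ _ _ _ _ _ _ _ _ _ _ _ _ _ _ hsq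
  have hz : t67 = 0 := by
    have h : t36 * t67 = 0 := by linear_combination e68
    exact (mul_eq_zero.mp h).resolve_left hn36
  subst hz
  exact ih _ _ _ _ _ _ _ _ _ _ _ _ _ _ _ _ hn36 hu hne

theorem e6s0_21 (D : UData R)
    (ih : ∀ (t42 t46 t56 t38 t40 t57 t44 t48 t51 t59 t62 t54 t65 t68 t70 t71 : K), t38 ≠ 0 → UP D (R.RNF (0) (0) (0) (t42) (t46) (t56) (t38) (t40) (0) (0) (t57) (0) (t44) (t48) (0) (0) (0) (0) (t51) (t59) (0) (0) (0) (0) (t62) (t54) (0) (0) (0) (t65) (0) (0) (t68) (0) (t70) (t71))) :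
    ∀ (t36 t39 t42 t46 t56 t43 t47 t57 t50 t58 t61 t55 t66 t69 t70 t71 : K), t36 ≠ 0 → UP D (R.RNF (t36) (0) (t39) (t42) (t46) (t56) (0) (0) (t43) (t47) (t57) (0) (0) (0) (t50) (t58) (0) (0) (0) (0) (t61) (0) (0) (0) (0) (0) (0) (0) (t55) (0) (0) (t66) (0) (t69) (t70) (t71)) := by
  intro t36 t39 t42 t46 t56 t43 t47 t57 t50 t58 t61 t55 t66 t69 t70 t71 hn36
  have h2 : (2 : K) = 0 := CharTwo.two_eq_zero
  have h4 : (4 : K) = 0 := by linear_combination 2 * h2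
  have h6 : (6 : K) = 0 := by linear_combination 3 * h2
  have h8 : (8 : K) = 0 := by linear_combination 4 * h2
  have h10 : (10 : K) = 0 := by linear_combination 5 * h2
  have h12 : (12 : K) = 0 := by linear_combination 6 * h2
  have h14 : (14 : K) = 0 := by linear_combination 7 * h2
  have h16 : (16 : K) = 0 := by linear_combination 8 * h2
  have h18 : (18 : K) = 0 := by linear_combination 9 * h2
  have h20 : (20 : K) = 0 := by linear_combination 10 * h2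
  have h22 : (22 : K) = 0 := by linear_combination 11 * h2
  have h24 : (24 : K) = 0 := by linear_combination 12 * h2
  have h26 : (26 : K) = 0 := by linear_combination 13 * h2
  have h28 : (28 : K) = 0 := by linear_combination 14 * h2
  have h30 : (30 : K) = 0 := by linear_combination 15 * h2
  have h32 : (32 : K) = 0 := by linear_combination 16 * h2
  have e : D.n5 * R.RNF (t36) (0) (t39) (t42) (t46) (t56) (0) (0) (t43) (t47) (t57) (0) (0) (0) (t50) (t58) (0) (0) (0) (0) (t61) (0) (0) (0) (0) (0) (0) (0) (t55) (0) (0) (t66) (0) (t69) (t70) (t71) * D.n5⁻¹ =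
      R.RNF (0) (0) (0) (t42) (t46) (t56) (t36) (t39) (0) (0) (t57) (0) (t39 * t42 + t43) (t39 * t46 + t47) (0) (0) (0) (0) (t39 * t42 * t46 + t50) (t39 * t42 * t56 + t58) (0) (0) (0) (0) (t39 * t42 * t46 * t56 + t39 * t46 * t57 + t47 * t57 + t61) (t55) (0) (0) (0) (t66) (0) (0) (t69) (0) (t70) (t71) := by
    rw [D.toWeylE6.conj_n5]
    congr 1 <;> (first | rfl | ring1 | (rw [← sub_eq_zero]; ring_nf; simp only [h2, h4, h6, h8, h10, h12, h14, h16, h18, h20, h22, h24, h26, h28, h30, h32, mul_zero, zero_mul, add_zero, zero_add, neg_zero, sub_zero, sub_self]))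
  exact UP_n D D.n5_mem e (ih _ _ _ _ _ _ _ _ _ _ _ _ _ _ _ _ hn36)

theorem upiv0 (D : UData R)
    (ih : ∀ (t37 t39 t42 t46 t56 t38 t40 t43 t47 t57 t41 t44 t48 t50 t58 t45 t49 t51 t59 t61 t52 t53 t60 t62 t54 t63 t64 t55 t65 t67 t66 t68 t69 t70 t71 : K), UP D (R.RNF (0) (t37) (t39) (t42) (t46) (t56) (t38) (t40) (t43) (t47) (t57) (t41) (t44) (t48) (t50) (t58) (t45) (t49) (t51) (t59) (t61) (t52) (t53) (t60) (t62) (t54) (t63) (t64) (t55) (t65) (t67) (t66) (t68) (t69) (t70) (t71))) :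
    ∀ (t36 t37 t39 t42 t46 t56 t38 t40 t43 t47 t57 t41 t44 t48 t50 t58 t45 t49 t51 t59 t61 t52 t53 t60 t62 t54 t63 t64 t55 t65 t67 t66 t68 t69 t70 t71 : K), UP D (R.RNF (t36) (t37) (t39) (t42) (t46) (t56) (t38) (t40) (t43) (t47) (t57) (t41) (t44) (t48) (t50) (t58) (t45) (t49) (t51) (t59) (t61) (t52) (t53) (t60) (t62) (t54) (t63) (t64) (t55) (t65) (t67) (t66) (t68) (t69) (t70) (t71)) := by
  intro t36 t37 t39 t42 t46 t56 t38 t40 t43 t47 t57 t41 t44 t48 t50 t58 t45 t49 t51 t59 t61 t52 t53 t60 t62 t54 t63 t64 t55 t65 t67 t66 t68 t69 t70 t71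
  by_cases h0 : t36 = 0
  · subst h0; exact ih _ _ _ _ _ _ _ _ _ _ _ _ _ _ _ _ _ _ _ _ _ _ _ _ _ _ _ _ _ _ _ _ _ _ _
  · exact (e6s0_1 D (e6s0_2 D (e6s0_3 D (e6s0_4 D (e6s0_5 D (e6s0_6 D (e6s0_7 D (e6s0_8 D (e6s0_9 D (e6s0_10 D (e6s0_11 D (e6s0_12 D (e6s0_13 D (e6s0_14 D (e6s0_15 D (e6s0_16 D (e6s0_17 D (e6s0_18 D (e6s0_19 D (e6s0_20 D (e6s0_21 D (fun t42 t46 t56 t38 t40 t57 t44 t48 t51 t59 t62 t54 t65 t68 t70 t71 _ => ih 0 0 t42 t46 t56 t38 t40 0 0 t57 0 t44 t48 0 0 0 0 t51 t59 0 0 0 0 t62 t54 0 0 0 t65 0 0 t68 0 t70 t71)))))))))))))))))))))) t36 t37 t39 t42 t46 t56 t38 t40 t43 t47 t57 t41 t44 t48 t50 t58 t45 t49 t51 t59 t61 t52 t53 t60 t62 t54 t63 t64 t55 t65 t67 t66 t68 t69 t70 t71 h0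

end Cfsg.Agent.Helper4.E6Inv
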