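import Cfsg.Agent.Helper4.E6Inv.UFinT

/-! Generated: steps of the reduction of involutions in the unipotent group of `E₆`
(characteristic two). -/

set_option autoImplicit false
set_option maxHeartbeats 8000000
set_option maxRecDepth 100000
set_option linter.unusedSimpArgs false
set_option linter.unusedVariables false
set_option linter.unusedSectionVars false
set_option linter.unusedTactic false
set_option linter.unreachableTactic false

namespace Cfsg.Agent.Helper4.E6Inv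

variable {K Γ : Type*} [Field K] [Group Γ] {R : RelE6 K Γ} [CharP K 2]

theorem e6s11_1 (D : UData R)
    (ih : ∀ (t41 t44 t48 t58 t45 t49 t51 t59 t61 t52 t53 t60 t62 t54 t63 t64 t55 t65 t67 t66 t68 t69 t70 t71 : K), t41 ≠ 0 → UP D (R.RNF (0) (0) (0) (0) (0) (0) (0) (0) (0) (0) (0) (t41) (t44) (t48) (0) (t58) (t45) (t49) (t51) (t59) (t61) (t52) (t53) (t60) (t62) (t54) (t63) (t64) (t55) (t65) (t67) (t66) (t68) (t69) (t70) (t71))) :
    ∀ (t41 t44 t48 t50 t58 t45 t49 t51 t59 t61 t52 t53 t60 t62 t54 t63 t64 t55 t65 t67 t66 t68 t69 t70 t71 : K), t41 ≠ 0 → UP D (R.RNF (0) (0) (0) (0) (0) (0) (0) (0) (0) (0) (0) (t41) (t44) (t48) (t50) (t58) (t45) (t49) (t51) (t59) (t61) (t52) (t53) (t60) (t62) (t54) (t63) (t64) (t55) (t65) (t67) (t66) (t68) (t69) (t70) (t71)) := by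
  intro t41 t44 t48 t50 t58 t45 t49 t51 t59 t61 t52 t53 t60 t62 t54 t63 t64 t55 t65 t67 t66 t68 t69 t70 t71 hn41 hu hne
  have hsq := hu
  rw [R.usq] at hsq
  obtain ⟨e36, e37, e39, e42, e46, e56, e38, e40, e43, e47, e57, e41, e44, e48, e50, e58, e45, e49, e51, e59, e61, e52, e53, e60, e62, e54, e63, e64, e55, e65, e67, e66, e68, e69, e70, e71⟩ := D.inj _ _ _ _ _ _ _ _ _ _ _ _ _ _ _ _ _ _ _ _ _ _ _ _ _ _ _ _ _ _ _ _ _ _ _ _ hsq
  have hz : t50 = 0 := by
    have h : t41 * t50 = 0 := by linear_combination e54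
    exact (mul_eq_zero.mp h).resolve_left hn41
  subst hz
  exact ih _ _ _ _ _ _ _ _ _ _ _ _ _ _ _ _ _ _ _ _ _ _ _ _ hn41 hu hne

theorem e6s11_2 (D : UData R)
    (ih : ∀ (t41 t44 t48 t58 t49 t51 t59 t61 t52 t53 t60 t62 t54 t63 t64 t55 t65 t67 t66 t68 t69 t70 t71 : K), t41 ≠ 0 → UP D (R.RNF (0) (0) (0) (0) (0) (0) (0) (0) (0) (0) (0) (t41) (t44) (t48) (0) (t58) (0) (t49) (t51) (t59) (t61) (t52) (t53) (t60) (t62) (t54) (t63) (t64) (t55) (t65) (t67) (t66) (t68) (t69) (t70) (t71))) :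
    ∀ (t41 t44 t48 t58 t45 t49 t51 t59 t61 t52 t53 t60 t62 t54 t63 t64 t55 t65 t67 t66 t68 t69 t70 t71 : K), t41 ≠ 0 → UP D (R.RNF (0) (0) (0) (0) (0) (0) (0) (0) (0) (0) (0) (t41) (t44) (t48) (0) (t58) (t45) (t49) (t51) (t59) (t61) (t52) (t53) (t60) (t62) (t54) (t63) (t64) (t55) (t65) (t67) (t66) (t68) (t69) (t70) (t71)) := by
  intro t41 t44 t48 t58 t45 t49 t51 t59 t61 t52 t53 t60 t62 t54 t63 t64 t55 t65 t67 t66 t68 t69 t70 t71 hn41
  have h2 : (2 : K) = 0 := CharTwo.two_eq_zero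
  have h4 : (4 : K) = 0 := by linear_combination 2 * h2
  have h6 : (6 : K) = 0 := by linear_combination 3 * h2
  have h8 : (8 : K) = 0 := by linear_combination 4 * h2
  have h10 : (10 : K) = 0 := by linear_combination 5 * h2
  have h12 : (12 : K) = 0 := by linear_combination 6 * h2
  have h14 : (14 : K) = 0 := by linear_combination 7 * h2
  have h16 : (16 : K) = 0 := by linear_combination 8 * h2
  have h18 : (18 : K) = 0 := by linear_combination 9 * h2
  have h20 : (20 : K) = 0 := by linear_combination 10 * h2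
  have h22 : (22 : K) = 0 := by linear_combination 11 * h2
  have h24 : (24 : K) = 0 := by linear_combination 12 * h2
  have h26 : (26 : K) = 0 := by linear_combination 13 * h2
  have h28 : (28 : K) = 0 := by linear_combination 14 * h2
  have h30 : (30 : K) = 0 := by linear_combination 15 * h2
  have h32 : (32 : K) = 0 := by linear_combination 16 * h2
  obtain ⟨c, rfl⟩ : ∃ c, t45 = c * t41 := ⟨t45 / t41, by field_simp⟩
  have e : R.X42 c * R.RNF (0) (0) (0) (0) (0) (0) (0) (0) (0) (0) (0) (t41) (t44) (t48) (0) (t58) (c * t41) (t49) (t51) (t59) (t61) (t52) (t53) (t60) (t62) (t54) (t63) (t64) (t55) (t65) (t67) (t66) (t68) (t69) (t70) (t71) * R.X42 c =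
      R.RNF (0) (0) (0) (0) (0) (0) (0) (0) (0) (0) (0) (t41) (t44) (t48) (0) (t58) (0) (t49) (c * t48 + t51) (t59) (t61) (c * t49 + t52) (t53) (t60) (t62) (t54) (t63) (t64) (c * t41 * t48 + t55) (t65) (c * t48 * t58 + c * t64 + t67) (t66) (c * t65 + t68) (c * t49 * t59 + c * t66 + t69) (c * t41 * t48 * t58 + t70) (c * t41 * t48 * t61 + c * t48 * t49 * t58 + t71) := by
    rw [R.ucj42]
    congr 1 <;> (first | rfl | ring1 | (rw [← sub_eq_zero]; ring_nf; simp only [h2, h4, h6, h8, h10, h12, h14, h16, h18, h20, h22, h24, h26, h28, h30, h32, mul_zero, zero_mul, add_zero, zero_add, neg_zero, sub_zero, sub_self]))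
  exact UP_cj D (D.xmem42 c) (R.inv42 c) e (ih _ _ _ _ _ _ _ _ _ _ _ _ _ _ _ _ _ _ _ _ _ _ _ hn41)

theorem e6s11_3 (D : UData R)
    (ih : ∀ (t41 t44 t48 t58 t51 t59 t61 t52 t53 t60 t62 t54 t63 t64 t55 t65 t67 t66 t68 t69 t70 t71 : K), t41 ≠ 0 → UP D (R.RNF (0) (0) (0) (0) (0) (0) (0) (0) (0) (0) (0) (t41) (t44) (t48) (0) (t58) (0) (0) (t51) (t59) (t61) (t52) (t53) (t60) (t62) (t54) (t63) (t64) (t55) (t65) (t67) (t66) (t68) (t69) (t70) (t71))) :
    ∀ (t41 t44 t48 t58 t49 t51 t59 t61 t52 t53 t60 t62 t54 t63 t64 t55 t65 t67 t66 t68 t69 t70 t71 : K), t41 ≠ 0 → UP D (R.RNF (0) (0) (0) (0) (0) (0) (0) (0) (0) (0) (0) (t41) (t44) (t48) (0) (t58) (0) (t49) (t51) (t59) (t61) (t52) (t53) (t60) (t62) (t54) (t63) (t64) (t55) (t65) (t67) (t66) (t68) (t69) (t70) (t71)) := by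
  intro t41 t44 t48 t58 t49 t51 t59 t61 t52 t53 t60 t62 t54 t63 t64 t55 t65 t67 t66 t68 t69 t70 t71 hn41
  have h2 : (2 : K) = 0 := CharTwo.two_eq_zero
  have h4 : (4 : K) = 0 := by linear_combination 2 * h2
  have h6 : (6 : K) = 0 := by linear_combination 3 * h2
  have h8 : (8 : K) = 0 := by linear_combination 4 * h2
  have h10 : (10 : K) = 0 := by linear_combination 5 * h2
  have h12 : (12 : K) = 0 := by linear_combination 6 * h2
  have h14 : (14 : K) = 0 := by linear_combination 7 * h2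
  have h16 : (16 : K) = 0 := by linear_combination 8 * h2
  have h18 : (18 : K) = 0 := by linear_combination 9 * h2
  have h20 : (20 : K) = 0 := by linear_combination 10 * h2
  have h22 : (22 : K) = 0 := by linear_combination 11 * h2
  have h24 : (24 : K) = 0 := by linear_combination 12 * h2
  have h26 : (26 : K) = 0 := by linear_combination 13 * h2
  have h28 : (28 : K) = 0 := by linear_combination 14 * h2
  have h30 : (30 : K) = 0 := by linear_combination 15 * h2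
  have h32 : (32 : K) = 0 := by linear_combination 16 * h2
  obtain ⟨c, rfl⟩ : ∃ c, t49 = c * t41 := ⟨t49 / t41, by field_simp⟩
  have e : R.X46 c * R.RNF (0) (0) (0) (0) (0) (0) (0) (0) (0) (0) (0) (t41) (t44) (t48) (0) (t58) (0) (c * t41) (t51) (t59) (t61) (t52) (t53) (t60) (t62) (t54) (t63) (t64) (t55) (t65) (t67) (t66) (t68) (t69) (t70) (t71) * R.X46 c =
      R.RNF (0) (0) (0) (0) (0) (0) (0) (0) (0) (0) (0) (t41) (t44) (t48) (0) (t58) (0) (0) (c * t44 + t51) (t59) (c * t58 + t61) (t52) (t53) (t60) (c * t59 + t62) (t54) (c * t60 + t63) (t64) (c * t41 * t44 + t55) (c * t41 * t58 + t65) (c * t44 * t58 + t67) (t66) (t68) (t69) (c * t41 * t44 * t58 + t70) (c * t41 * t44 * t61 + c * t41 * t51 * t58 + c * t70 + c ^ 2 * t41 * t44 * t58 + t71) := by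
    rw [R.ucj46]
    congr 1 <;> (first | rfl | ring1 | (rw [← sub_eq_zero]; ring_nf; simp only [h2, h4, h6, h8, h10, h12, h14, h16, h18, h20, h22, h24, h26, h28, h30, h32, mul_zero, zero_mul, add_zero, zero_add, neg_zero, sub_zero, sub_self]))
  exact UP_cj D (D.xmem46 c) (R.inv46 c) e (ih _ _ _ _ _ _ _ _ _ _ _ _ _ _ _ _ _ _ _ _ _ _ hn41)

theorem e6s11_4 (D : UData R)
    (ih : ∀ (t41 t44 t48 t58 t51 t59 t61 t52 t53 t62 t54 t63 t64 t55 t65 t67 t66 t68 t69 t70 t71 : K), t41 ≠ 0 → UP D (R.RNF (0) (0) (0) (0) (0) (0) (0) (0) (0) (0) (0) (t41) (t44) (t48) (0) (t58) (0) (0) (t51) (t59) (t61) (t52) (t53) (0) (t62) (t54) (t63) (t64) (t55) (t65) (t67) (t66) (t68) (t69) (t70) (t71))) :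
    ∀ (t41 t44 t48 t58 t51 t59 t61 t52 t53 t60 t62 t54 t63 t64 t55 t65 t67 t66 t68 t69 t70 t71 : K), t41 ≠ 0 → UP D (R.RNF (0) (0) (0) (0) (0) (0) (0) (0) (0) (0) (0) (t41) (t44) (t48) (0) (t58) (0) (0) (t51) (t59) (t61) (t52) (t53) (t60) (t62) (t54) (t63) (t64) (t55) (t65) (t67) (t66) (t68) (t69) (t70) (t71)) := by
  intro t41 t44 t48 t58 t51 t59 t61 t52 t53 t60 t62 t54 t63 t64 t55 t65 t67 t66 t68 t69 t70 t71 hn41
  have h2 : (2 : K) = 0 := CharTwo.two_eq_zero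
  have h4 : (4 : K) = 0 := by linear_combination 2 * h2
  have h6 : (6 : K) = 0 := by linear_combination 3 * h2
  have h8 : (8 : K) = 0 := by linear_combination 4 * h2
  have h10 : (10 : K) = 0 := by linear_combination 5 * h2
  have h12 : (12 : K) = 0 := by linear_combination 6 * h2
  have h14 : (14 : K) = 0 := by linear_combination 7 * h2
  have h16 : (16 : K) = 0 := by linear_combination 8 * h2
  have h18 : (18 : K) = 0 := by linear_combination 9 * h2
  have h20 : (20 : K) = 0 := by linear_combination 10 * h2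
  have h22 : (22 : K) = 0 := by linear_combination 11 * h2
  have h24 : (24 : K) = 0 := by linear_combination 12 * h2
  have h26 : (26 : K) = 0 := by linear_combination 13 * h2
  have h28 : (28 : K) = 0 := by linear_combination 14 * h2
  have h30 : (30 : K) = 0 := by linear_combination 15 * h2
  have h32 : (32 : K) = 0 := by linear_combination 16 * h2
  obtain ⟨c, rfl⟩ : ∃ c, t60 = c * t41 := ⟨t60 / t41, by field_simp⟩
  have e : R.X57 c * R.RNF (0) (0) (0) (0) (0) (0) (0) (0) (0) (0) (0) (t41) (t44) (t48) (0) (t58) (0) (0) (t51) (t59) (t61) (t52) (t53) (c * t41) (t62) (t54) (t63) (t64) (t55) (t65) (t67) (t66) (t68) (t69) (t70) (t71) * R.X57 c =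
      R.RNF (0) (0) (0) (0) (0) (0) (0) (0) (0) (0) (0) (t41) (t44) (t48) (0) (t58) (0) (0) (t51) (t59) (t61) (t52) (t53) (0) (c * t48 + t62) (t54) (t63) (t64) (t55) (t65) (c * t53 + t67) (c * t41 * t48 + t66) (c * t54 + t68) (c * t41 * t51 + c * t55 + t69) (c * t41 * t53 + t70) (t71) := by
    rw [R.ucj57]
    congr 1 <;> (first | rfl | ring1 | (rw [← sub_eq_zero]; ring_nf; simp only [h2, h4, h6, h8, h10, h12, h14, h16, h18, h20, h22, h24, h26, h28, h30, h32, mul_zero, zero_mul, add_zero, zero_add, neg_zero, sub_zero, sub_self]))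
  exact UP_cj D (D.xmem57 c) (R.inv57 c) e (ih _ _ _ _ _ _ _ _ _ _ _ _ _ _ _ _ _ _ _ _ _ hn41)

theorem e6s11_5 (D : UData R)
    (ih : ∀ (t41 t44 t48 t58 t51 t59 t61 t52 t53 t62 t63 t64 t55 t65 t67 t66 t68 t69 t70 t71 : K), t41 ≠ 0 → UP D (R.RNF (0) (0) (0) (0) (0) (0) (0) (0) (0) (0) (0) (t41) (t44) (t48) (0) (t58) (0) (0) (t51) (t59) (t61) (t52) (t53) (0) (t62) (0) (t63) (t64) (t55) (t65) (t67) (t66) (t68) (t69) (t70) (t71))) :
    ∀ (t41 t44 t48 t58 t51 t59 t61 t52 t53 t62 t54 t63 t64 t55 t65 t67 t66 t68 t69 t70 t71 : K), t41 ≠ 0 → UP D (R.RNF (0) (0) (0) (0) (0) (0) (0) (0) (0) (0) (0) (t41) (t44) (t48) (0) (t58) (0) (0) (t51) (t59) (t61) (t52) (t53) (0) (t62) (t54) (t63) (t64) (t55) (t65) (t67) (t66) (t68) (t69) (t70) (t71)) := by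
  intro t41 t44 t48 t58 t51 t59 t61 t52 t53 t62 t54 t63 t64 t55 t65 t67 t66 t68 t69 t70 t71 hn41
  have h2 : (2 : K) = 0 := CharTwo.two_eq_zero
  have h4 : (4 : K) = 0 := by linear_combination 2 * h2
  have h6 : (6 : K) = 0 := by linear_combination 3 * h2
  have h8 : (8 : K) = 0 := by linear_combination 4 * h2
  have h10 : (10 : K) = 0 := by linear_combination 5 * h2
  have h12 : (12 : K) = 0 := by linear_combination 6 * h2
  have h14 : (14 : K) = 0 := by linear_combination 7 * h2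
  have h16 : (16 : K) = 0 := by linear_combination 8 * h2
  have h18 : (18 : K) = 0 := by linear_combination 9 * h2
  have h20 : (20 : K) = 0 := by linear_combination 10 * h2
  have h22 : (22 : K) = 0 := by linear_combination 11 * h2
  have h24 : (24 : K) = 0 := by linear_combination 12 * h2
  have h26 : (26 : K) = 0 := by linear_combination 13 * h2
  have h28 : (28 : K) = 0 := by linear_combination 14 * h2
  have h30 : (30 : K) = 0 := by linear_combination 15 * h2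
  have h32 : (32 : K) = 0 := by linear_combination 16 * h2
  obtain ⟨c, rfl⟩ : ∃ c, t54 = c * t41 := ⟨t54 / t41, by field_simp⟩
  have e : R.X50 c * R.RNF (0) (0) (0) (0) (0) (0) (0) (0) (0) (0) (0) (t41) (t44) (t48) (0) (t58) (0) (0) (t51) (t59) (t61) (t52) (t53) (0) (t62) (c * t41) (t63) (t64) (t55) (t65) (t67) (t66) (t68) (t69) (t70) (t71) * R.X50 c =
      R.RNF (0) (0) (0) (0) (0) (0) (0) (0) (0) (0) (0) (t41) (t44) (t48) (0) (t58) (0) (0) (t51) (t59) (t61) (t52) (t53) (0) (t62) (0) (t63) (t64) (t55) (t65) (c * t59 + t67) (t66) (t68) (t69) (c * t41 * t59 + t70) (c * t41 * t62 + c * t66 + t71) := by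
    rw [R.ucj50]
    congr 1 <;> (first | rfl | ring1 | (rw [← sub_eq_zero]; ring_nf; simp only [h2, h4, h6, h8, h10, h12, h14, h16, h18, h20, h22, h24, h26, h28, h30, h32, mul_zero, zero_mul, add_zero, zero_add, neg_zero, sub_zero, sub_self]))
  exact UP_cj D (D.xmem50 c) (R.inv50 c) e (ih _ _ _ _ _ _ _ _ _ _ _ _ _ _ _ _ _ _ _ _ hn41)

theorem e6s11_6 (D : UData R)
    (ih : ∀ (t41 t44 t48 t58 t51 t59 t61 t52 t53 t62 t63 t64 t65 t67 t66 t68 t69 t70 t71 : K), t41 ≠ 0 → UP D (R.RNF (0) (0) (0) (0) (0) (0) (0) (0) (0) (0) (0) (t41) (t44) (t48) (0) (t58) (0) (0) (t51) (t59) (t61) (t52) (t53) (0) (t62) (0) (t63) (t64) (0) (t65) (t67) (t66) (t68) (t69) (t70) (t71))) :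
    ∀ (t41 t44 t48 t58 t51 t59 t61 t52 t53 t62 t63 t64 t55 t65 t67 t66 t68 t69 t70 t71 : K), t41 ≠ 0 → UP D (R.RNF (0) (0) (0) (0) (0) (0) (0) (0) (0) (0) (0) (t41) (t44) (t48) (0) (t58) (0) (0) (t51) (t59) (t61) (t52) (t53) (0) (t62) (0) (t63) (t64) (t55) (t65) (t67) (t66) (t68) (t69) (t70) (t71)) := by
  intro t41 t44 t48 t58 t51 t59 t61 t52 t53 t62 t63 t64 t55 t65 t67 t66 t68 t69 t70 t71 hn41
  have h2 : (2 : K) = 0 := CharTwo.two_eq_zero
  have h4 : (4 : K) = 0 := by linear_combination 2 * h2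
  have h6 : (6 : K) = 0 := by linear_combination 3 * h2
  have h8 : (8 : K) = 0 := by linear_combination 4 * h2
  have h10 : (10 : K) = 0 := by linear_combination 5 * h2
  have h12 : (12 : K) = 0 := by linear_combination 6 * h2
  have h14 : (14 : K) = 0 := by linear_combination 7 * h2
  have h16 : (16 : K) = 0 := by linear_combination 8 * h2
  have h18 : (18 : K) = 0 := by linear_combination 9 * h2
  have h20 : (20 : K) = 0 := by linear_combination 10 * h2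
  have h22 : (22 : K) = 0 := by linear_combination 11 * h2
  have h24 : (24 : K) = 0 := by linear_combination 12 * h2
  have h26 : (26 : K) = 0 := by linear_combination 13 * h2
  have h28 : (28 : K) = 0 := by linear_combination 14 * h2
  have h30 : (30 : K) = 0 := by linear_combination 15 * h2
  have h32 : (32 : K) = 0 := by linear_combination 16 * h2
  obtain ⟨c, rfl⟩ : ∃ c, t55 = c * t41 := ⟨t55 / t41, by field_simp⟩
  have e : R.X51 c * R.RNF (0) (0) (0) (0) (0) (0) (0) (0) (0) (0) (0) (t41) (t44) (t48) (0) (t58) (0) (0) (t51) (t59) (t61) (t52) (t53) (0) (t62) (0) (t63) (t64) (c * t41) (t65) (t67) (t66) (t68) (t69) (t70) (t71) * R.X51 c =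
      R.RNF (0) (0) (0) (0) (0) (0) (0) (0) (0) (0) (0) (t41) (t44) (t48) (0) (t58) (0) (0) (t51) (t59) (t61) (t52) (t53) (0) (t62) (0) (t63) (t64) (0) (t65) (c * t58 + t67) (t66) (t68) (t69) (c * t41 * t58 + t70) (c * t41 * t61 + c * t65 + t71) := by
    rw [R.ucj51]
    congr 1 <;> (first | rfl | ring1 | (rw [← sub_eq_zero]; ring_nf; simp only [h2, h4, h6, h8, h10, h12, h14, h16, h18, h20, h22, h24, h26, h28, h30, h32, mul_zero, zero_mul, add_zero, zero_add, neg_zero, sub_zero, sub_self]))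
  exact UP_cj D (D.xmem51 c) (R.inv51 c) e (ih _ _ _ _ _ _ _ _ _ _ _ _ _ _ _ _ _ _ _ hn41)

theorem e6s11_7 (D : UData R)
    (ih : ∀ (t41 t44 t48 t58 t51 t59 t61 t52 t53 t62 t63 t64 t67 t66 t68 t69 t70 t71 : K), t41 ≠ 0 → UP D (R.RNF (0) (0) (0) (0) (0) (0) (0) (0) (0) (0) (0) (t41) (t44) (t48) (0) (t58) (0) (0) (t51) (t59) (t61) (t52) (t53) (0) (t62) (0) (t63) (t64) (0) (0) (t67) (t66) (t68) (t69) (t70) (t71))) :
    ∀ (t41 t44 t48 t58 t51 t59 t61 t52 t53 t62 t63 t64 t65 t67 t66 t68 t69 t70 t71 : K), t41 ≠ 0 → UP D (R.RNF (0) (0) (0) (0) (0) (0) (0) (0) (0) (0) (0) (t41) (t44) (t48) (0) (t58) (0) (0) (t51) (t59) (t61) (t52) (t53) (0) (t62) (0) (t63) (t64) (0) (t65) (t67) (t66) (t68) (t69) (t70) (t71)) := by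
  intro t41 t44 t48 t58 t51 t59 t61 t52 t53 t62 t63 t64 t65 t67 t66 t68 t69 t70 t71 hn41
  have h2 : (2 : K) = 0 := CharTwo.two_eq_zero
  have h4 : (4 : K) = 0 := by linear_combination 2 * h2
  have h6 : (6 : K) = 0 := by linear_combination 3 * h2
  have h8 : (8 : K) = 0 := by linear_combination 4 * h2
  have h10 : (10 : K) = 0 := by linear_combination 5 * h2
  have h12 : (12 : K) = 0 := by linear_combination 6 * h2
  have h14 : (14 : K) = 0 := by linear_combination 7 * h2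
  have h16 : (16 : K) = 0 := by linear_combination 8 * h2
  have h18 : (18 : K) = 0 := by linear_combination 9 * h2
  have h20 : (20 : K) = 0 := by linear_combination 10 * h2
  have h22 : (22 : K) = 0 := by linear_combination 11 * h2
  have h24 : (24 : K) = 0 := by linear_combination 12 * h2
  have h26 : (26 : K) = 0 := by linear_combination 13 * h2
  have h28 : (28 : K) = 0 := by linear_combination 14 * h2
  have h30 : (30 : K) = 0 := by linear_combination 15 * h2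
  have h32 : (32 : K) = 0 := by linear_combination 16 * h2
  obtain ⟨c, rfl⟩ : ∃ c, t65 = c * t41 := ⟨t65 / t41, by field_simp⟩
  have e : R.X61 c * R.RNF (0) (0) (0) (0) (0) (0) (0) (0) (0) (0) (0) (t41) (t44) (t48) (0) (t58) (0) (0) (t51) (t59) (t61) (t52) (t53) (0) (t62) (0) (t63) (t64) (0) (c * t41) (t67) (t66) (t68) (t69) (t70) (t71) * R.X61 c =
      R.RNF (0) (0) (0) (0) (0) (0) (0) (0) (0) (0) (0) (t41) (t44) (t48) (0) (t58) (0) (0) (t51) (t59) (t61) (t52) (t53) (0) (t62) (0) (t63) (t64) (0) (0) (c * t44 + t67) (t66) (t68) (t69) (c * t41 * t44 + t70) (c * t41 * t51 + t71) := by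
    rw [R.ucj61]
    congr 1 <;> (first | rfl | ring1 | (rw [← sub_eq_zero]; ring_nf; simp only [h2, h4, h6, h8, h10, h12, h14, h16, h18, h20, h22, h24, h26, h28, h30, h32, mul_zero, zero_mul, add_zero, zero_add, neg_zero, sub_zero, sub_self]))
  exact UP_cj D (D.xmem61 c) (R.inv61 c) e (ih _ _ _ _ _ _ _ _ _ _ _ _ _ _ _ _ _ _ hn41)

theorem e6s11_8 (D : UData R)
    (ih : ∀ (t41 t44 t48 t58 t51 t59 t61 t52 t53 t62 t63 t64 t67 t68 t69 t70 t71 : K), t41 ≠ 0 → UP D (R.RNF (0) (0) (0) (0) (0) (0) (0) (0) (0) (0) (0) (t41) (t44) (t48) (0) (t58) (0) (0) (t51) (t59) (t61) (t52) (t53) (0) (t62) (0) (t63) (t64) (0) (0) (t67) (0) (t68) (t69) (t70) (t71))) :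
    ∀ (t41 t44 t48 t58 t51 t59 t61 t52 t53 t62 t63 t64 t67 t66 t68 t69 t70 t71 : K), t41 ≠ 0 → UP D (R.RNF (0) (0) (0) (0) (0) (0) (0) (0) (0) (0) (0) (t41) (t44) (t48) (0) (t58) (0) (0) (t51) (t59) (t61) (t52) (t53) (0) (t62) (0) (t63) (t64) (0) (0) (t67) (t66) (t68) (t69) (t70) (t71)) := by
  intro t41 t44 t48 t58 t51 t59 t61 t52 t53 t62 t63 t64 t67 t66 t68 t69 t70 t71 hn41
  have h2 : (2 : K) = 0 := CharTwo.two_eq_zero
  have h4 : (4 : K) = 0 := by linear_combination 2 * h2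
  have h6 : (6 : K) = 0 := by linear_combination 3 * h2
  have h8 : (8 : K) = 0 := by linear_combination 4 * h2
  have h10 : (10 : K) = 0 := by linear_combination 5 * h2
  have h12 : (12 : K) = 0 := by linear_combination 6 * h2
  have h14 : (14 : K) = 0 := by linear_combination 7 * h2
  have h16 : (16 : K) = 0 := by linear_combination 8 * h2
  have h18 : (18 : K) = 0 := by linear_combination 9 * h2
  have h20 : (20 : K) = 0 := by linear_combination 10 * h2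
  have h22 : (22 : K) = 0 := by linear_combination 11 * h2
  have h24 : (24 : K) = 0 := by linear_combination 12 * h2
  have h26 : (26 : K) = 0 := by linear_combination 13 * h2
  have h28 : (28 : K) = 0 := by linear_combination 14 * h2
  have h30 : (30 : K) = 0 := by linear_combination 15 * h2
  have h32 : (32 : K) = 0 := by linear_combination 16 * h2
  obtain ⟨c, rfl⟩ : ∃ c, t66 = c * t41 := ⟨t66 / t41, by field_simp⟩
  have e : R.X62 c * R.RNF (0) (0) (0) (0) (0) (0) (0) (0) (0) (0) (0) (t41) (t44) (t48) (0) (t58) (0) (0) (t51) (t59) (t61) (t52) (t53) (0) (t62) (0) (t63) (t64) (0) (0) (t67) (c * t41) (t68) (t69) (t70) (t71) * R.X62 c =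
      R.RNF (0) (0) (0) (0) (0) (0) (0) (0) (0) (0) (0) (t41) (t44) (t48) (0) (t58) (0) (0) (t51) (t59) (t61) (t52) (t53) (0) (t62) (0) (t63) (t64) (0) (0) (t67) (0) (t68) (t69) (t70) (t71) := by
    rw [R.ucj62]
    congr 1 <;> (first | rfl | ring1 | (rw [← sub_eq_zero]; ring_nf; simp only [h2, h4, h6, h8, h10, h12, h14, h16, h18, h20, h22, h24, h26, h28, h30, h32, mul_zero, zero_mul, add_zero, zero_add, neg_zero, sub_zero, sub_self]))
  exact UP_cj D (D.xmem62 c) (R.inv62 c) e (ih _ _ _ _ _ _ _ _ _ _ _ _ _ _ _ _ _ hn41)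

theorem e6s11_9 (D : UData R)
    (ih : ∀ (t41 t44 t48 t58 t51 t59 t61 t52 t53 t62 t63 t64 t67 t68 t69 t71 : K), t41 ≠ 0 → UP D (R.RNF (0) (0) (0) (0) (0) (0) (0) (0) (0) (0) (0) (t41) (t44) (t48) (0) (t58) (0) (0) (t51) (t59) (t61) (t52) (t53) (0) (t62) (0) (t63) (t64) (0) (0) (t67) (0) (t68) (t69) (0) (t71))) :
    ∀ (t41 t44 t48 t58 t51 t59 t61 t52 t53 t62 t63 t64 t67 t68 t69 t70 t71 : K), t41 ≠ 0 → UP D (R.RNF (0) (0) (0) (0) (0) (0) (0) (0) (0) (0) (0) (t41) (t44) (t48) (0) (t58) (0) (0) (t51) (t59) (t61) (t52) (t53) (0) (t62) (0) (t63) (t64) (0) (0) (t67) (0) (t68) (t69) (t70) (t71)) := by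
  intro t41 t44 t48 t58 t51 t59 t61 t52 t53 t62 t63 t64 t67 t68 t69 t70 t71 hn41
  have h2 : (2 : K) = 0 := CharTwo.two_eq_zero
  have h4 : (4 : K) = 0 := by linear_combination 2 * h2
  have h6 : (6 : K) = 0 := by linear_combination 3 * h2
  have h8 : (8 : K) = 0 := by linear_combination 4 * h2
  have h10 : (10 : K) = 0 := by linear_combination 5 * h2
  have h12 : (12 : K) = 0 := by linear_combination 6 * h2
  have h14 : (14 : K) = 0 := by linear_combination 7 * h2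
  have h16 : (16 : K) = 0 := by linear_combination 8 * h2
  have h18 : (18 : K) = 0 := by linear_combination 9 * h2
  have h20 : (20 : K) = 0 := by linear_combination 10 * h2
  have h22 : (22 : K) = 0 := by linear_combination 11 * h2
  have h24 : (24 : K) = 0 := by linear_combination 12 * h2
  have h26 : (26 : K) = 0 := by linear_combination 13 * h2
  have h28 : (28 : K) = 0 := by linear_combination 14 * h2
  have h30 : (30 : K) = 0 := by linear_combination 15 * h2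
  have h32 : (32 : K) = 0 := by linear_combination 16 * h2
  obtain ⟨c, rfl⟩ : ∃ c, t70 = c * t41 := ⟨t70 / t41, by field_simp⟩
  have e : R.X67 c * R.RNF (0) (0) (0) (0) (0) (0) (0) (0) (0) (0) (0) (t41) (t44) (t48) (0) (t58) (0) (0) (t51) (t59) (t61) (t52) (t53) (0) (t62) (0) (t63) (t64) (0) (0) (t67) (0) (t68) (t69) (c * t41) (t71) * R.X67 c =
      R.RNF (0) (0) (0) (0) (0) (0) (0) (0) (0) (0) (0) (t41) (t44) (t48) (0) (t58) (0) (0) (t51) (t59) (t61) (t52) (t53) (0) (t62) (0) (t63) (t64) (0) (0) (t67) (0) (t68) (t69) (0) (t71) := by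
    rw [R.ucj67]
    congr 1 <;> (first | rfl | ring1 | (rw [← sub_eq_zero]; ring_nf; simp only [h2, h4, h6, h8, h10, h12, h14, h16, h18, h20, h22, h24, h26, h28, h30, h32, mul_zero, zero_mul, add_zero, zero_add, neg_zero, sub_zero, sub_self]))
  exact UP_cj D (D.xmem67 c) (R.inv67 c) e (ih _ _ _ _ _ _ _ _ _ _ _ _ _ _ _ _ hn41)

theorem e6s11_10 (D : UData R)
    (ih : ∀ (t41 t44 t48 t58 t59 t61 t52 t53 t62 t63 t64 t67 t68 t69 t71 : K), t41 ≠ 0 → UP D (R.RNF (0) (0) (0) (0) (0) (0) (0) (0) (0) (0) (0) (t41) (t44) (t48) (0) (t58) (0) (0) (0) (t59) (t61) (t52) (t53) (0) (t62) (0) (t63) (t64) (0) (0) (t67) (0) (t68) (t69) (0) (t71))) :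
    ∀ (t41 t44 t48 t58 t51 t59 t61 t52 t53 t62 t63 t64 t67 t68 t69 t71 : K), t41 ≠ 0 → UP D (R.RNF (0) (0) (0) (0) (0) (0) (0) (0) (0) (0) (0) (t41) (t44) (t48) (0) (t58) (0) (0) (t51) (t59) (t61) (t52) (t53) (0) (t62) (0) (t63) (t64) (0) (0) (t67) (0) (t68) (t69) (0) (t71)) := by
  intro t41 t44 t48 t58 t51 t59 t61 t52 t53 t62 t63 t64 t67 t68 t69 t71 hn41 hu hne
  have hsq := hu
  rw [R.usq] at hsq
  obtain ⟨e36, e37, e39, e42, e46, e56, e38, e40, e43, e47, e57, e41, e44, e48, e50, e58, e45, e49, e51, e59, e61, e52, e53, e60, e62, e54, e63, e64, e55, e65, e67, e66, e68, e69, e70, e71⟩ := D.inj _ _ _ _ _ _ _ _ _ _ _ _ _ _ _ _ _ _ _ _ _ _ _ _ _ _ _ _ _ _ _ _ _ _ _ _ hsq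
  have hz : t51 = 0 := by
    have h : t41 * t51 = 0 := by linear_combination e55
    exact (mul_eq_zero.mp h).resolve_left hn41
  subst hz
  exact ih _ _ _ _ _ _ _ _ _ _ _ _ _ _ _ hn41 hu hne

theorem e6s11_11 (D : UData R)
    (ih : ∀ (t41 t44 t48 t58 t59 t52 t53 t62 t63 t64 t67 t68 t69 t71 : K), t41 ≠ 0 → UP D (R.RNF (0) (0) (0) (0) (0) (0) (0) (0) (0) (0) (0) (t41) (t44) (t48) (0) (t58) (0) (0) (0) (t59) (0) (t52) (t53) (0) (t62) (0) (t63) (t64) (0) (0) (t67) (0) (t68) (t69) (0) (t71))) :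
    ∀ (t41 t44 t48 t58 t59 t61 t52 t53 t62 t63 t64 t67 t68 t69 t71 : K), t41 ≠ 0 → UP D (R.RNF (0) (0) (0) (0) (0) (0) (0) (0) (0) (0) (0) (t41) (t44) (t48) (0) (t58) (0) (0) (0) (t59) (t61) (t52) (t53) (0) (t62) (0) (t63) (t64) (0) (0) (t67) (0) (t68) (t69) (0) (t71)) := by
  intro t41 t44 t48 t58 t59 t61 t52 t53 t62 t63 t64 t67 t68 t69 t71 hn41 hu hne
  have hsq := hu
  rw [R.usq] at hsq
  obtain ⟨e36, e37, e39, e42, e46, e56, e38, e40, e43, e47, e57, e41, e44, e48, e50, e58, e45, e49, e51, e59, e61, e52, e53, e60, e62, e54, e63, e64, e55, e65, e67, e66, e68, e69, e70, e71⟩ := D.inj _ _ _ _ _ _ _ _ _ _ _ _ _ _ _ _ _ _ _ _ _ _ _ _ _ _ _ _ _ _ _ _ _ _ _ _ hsq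
  have hz : t61 = 0 := by
    have h : t41 * t61 = 0 := by linear_combination e65
    exact (mul_eq_zero.mp h).resolve_left hn41
  subst hz
  exact ih _ _ _ _ _ _ _ _ _ _ _ _ _ _ hn41 hu hne

theorem e6s11_12 (D : UData R)
    (ih : ∀ (t41 t44 t48 t58 t59 t52 t53 t63 t64 t67 t68 t69 t71 : K), t41 ≠ 0 → UP D (R.RNF (0) (0) (0) (0) (0) (0) (0) (0) (0) (0) (0) (t41) (t44) (t48) (0) (t58) (0) (0) (0) (t59) (0) (t52) (t53) (0) (0) (0) (t63) (t64) (0) (0) (t67) (0) (t68) (t69) (0) (t71))) :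
    ∀ (t41 t44 t48 t58 t59 t52 t53 t62 t63 t64 t67 t68 t69 t71 : K), t41 ≠ 0 → UP D (R.RNF (0) (0) (0) (0) (0) (0) (0) (0) (0) (0) (0) (t41) (t44) (t48) (0) (t58) (0) (0) (0) (t59) (0) (t52) (t53) (0) (t62) (0) (t63) (t64) (0) (0) (t67) (0) (t68) (t69) (0) (t71)) := by
  intro t41 t44 t48 t58 t59 t52 t53 t62 t63 t64 t67 t68 t69 t71 hn41 hu hne
  have hsq := hu
  rw [R.usq] at hsq
  obtain ⟨e36, e37, e39, e42, e46, e56, e38, e40, e43, e47, e57, e41, e44, e48, e50, e58, e45, e49, e51, e59, e61, e52, e53, e60, e62, e54, e63, e64, e55, e65, e67, e66, e68, e69, e70, e71⟩ := D.inj _ _ _ _ _ _ _ _ _ _ _ _ _ _ _ _ _ _ _ _ _ _ _ _ _ _ _ _ _ _ _ _ _ _ _ _ hsq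
  have hz : t62 = 0 := by
    have h : t41 * t62 = 0 := by linear_combination e66
    exact (mul_eq_zero.mp h).resolve_left hn41
  subst hz
  exact ih _ _ _ _ _ _ _ _ _ _ _ _ _ hn41 hu hne

theorem e6s11_13 (D : UData R)
    (ih : ∀ (t41 t44 t48 t58 t59 t52 t53 t63 t64 t68 t69 t71 : K), t41 ≠ 0 → UP D (R.RNF (0) (0) (0) (0) (0) (0) (0) (0) (0) (0) (0) (t41) (t44) (t48) (0) (t58) (0) (0) (0) (t59) (0) (t52) (t53) (0) (0) (0) (t63) (t64) (0) (0) (0) (0) (t68) (t69) (0) (t71))) :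
    ∀ (t41 t44 t48 t58 t59 t52 t53 t63 t64 t67 t68 t69 t71 : K), t41 ≠ 0 → UP D (R.RNF (0) (0) (0) (0) (0) (0) (0) (0) (0) (0) (0) (t41) (t44) (t48) (0) (t58) (0) (0) (0) (t59) (0) (t52) (t53) (0) (0) (0) (t63) (t64) (0) (0) (t67) (0) (t68) (t69) (0) (t71)) := by
  intro t41 t44 t48 t58 t59 t52 t53 t63 t64 t67 t68 t69 t71 hn41 hu hne
  have hsq := hu
  rw [R.usq] at hsq
  obtain ⟨e36, e37, e39, e42, e46, e56, e38, e40, e43, e47, e57, e41, e44, e48, e50, e58, e45, e49, e51, e59, e61, e52, e53, e60, e62, e54, e63, e64, e55, e65, e67, e66, e68, e69, e70, e71⟩ := D.inj _ _ _ _ _ _ _ _ _ _ _ _ _ _ _ _ _ _ _ _ _ _ _ _ _ _ _ _ _ _ _ _ _ _ _ _ hsq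
  have hz : t67 = 0 := by
    have h : t41 * t67 = 0 := by linear_combination e70
    exact (mul_eq_zero.mp h).resolve_left hn41
  subst hz
  exact ih _ _ _ _ _ _ _ _ _ _ _ _ hn41 hu hne

theorem e6s11_14 (D : UData R)
    (ihz : ∀ (t41 t48 t58 t59 t52 t53 t63 t64 t68 t69 t71 : K), t41 ≠ 0 → UP D (R.RNF (0) (0) (0) (0) (0) (0) (0) (0) (0) (0) (0) (t41) (0) (t48) (0) (t58) (0) (0) (0) (t59) (0) (t52) (t53) (0) (0) (0) (t63) (t64) (0) (0) (0) (0) (t68) (t69) (0) (t71)))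
    (ihn : ∀ (t41 t44 t48 t58 t59 t52 t53 t63 t64 t68 t69 t71 : K), t41 ≠ 0 → t44 ≠ 0 → UP D (R.RNF (0) (0) (0) (0) (0) (0) (0) (0) (0) (0) (0) (t41) (t44) (t48) (0) (t58) (0) (0) (0) (t59) (0) (t52) (t53) (0) (0) (0) (t63) (t64) (0) (0) (0) (0) (t68) (t69) (0) (t71))) :
    ∀ (t41 t44 t48 t58 t59 t52 t53 t63 t64 t68 t69 t71 : K), t41 ≠ 0 → UP D (R.RNF (0) (0) (0) (0) (0) (0) (0) (0) (0) (0) (0) (t41) (t44) (t48) (0) (t58) (0) (0) (0) (t59) (0) (t52) (t53) (0) (0) (0) (t63) (t64) (0) (0) (0) (0) (t68) (t69) (0) (t71)) := by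
  intro t41 t44 t48 t58 t59 t52 t53 t63 t64 t68 t69 t71 hn41
  by_cases hn44 : t44 = 0
  · subst hn44; exact ihz _ _ _ _ _ _ _ _ _ _ _ hn41
  · exact ihn _ _ _ _ _ _ _ _ _ _ _ _ hn41 hn44

theorem e6s11_15 (D : UData R)
    (ih : ∀ (t58 t45 t49 t51 t59 t53 t63 t65 t67 t66 t71 : K), t45 ≠ 0 → UP D (R.RNF (0) (0) (0) (0) (0) (0) (0) (0) (0) (0) (0) (0) (0) (0) (0) (t58) (t45) (t49) (t51) (t59) (0) (0) (t53) (0) (0) (0) (t63) (0) (0) (t65) (t67) (t66) (0) (0) (0) (t71))) :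
    ∀ (t41 t48 t58 t59 t52 t53 t63 t64 t68 t69 t71 : K), t41 ≠ 0 → UP D (R.RNF (0) (0) (0) (0) (0) (0) (0) (0) (0) (0) (0) (t41) (0) (t48) (0) (t58) (0) (0) (0) (t59) (0) (t52) (t53) (0) (0) (0) (t63) (t64) (0) (0) (0) (0) (t68) (t69) (0) (t71)) := by
  intro t41 t48 t58 t59 t52 t53 t63 t64 t68 t69 t71 hn41
  have h2 : (2 : K) = 0 := CharTwo.two_eq_zero
  have h4 : (4 : K) = 0 := by linear_combination 2 * h2
  have h6 : (6 : K) = 0 := by linear_combination 3 * h2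
  have h8 : (8 : K) = 0 := by linear_combination 4 * h2
  have h10 : (10 : K) = 0 := by linear_combination 5 * h2
  have h12 : (12 : K) = 0 := by linear_combination 6 * h2
  have h14 : (14 : K) = 0 := by linear_combination 7 * h2
  have h16 : (16 : K) = 0 := by linear_combination 8 * h2
  have h18 : (18 : K) = 0 := by linear_combination 9 * h2
  have h20 : (20 : K) = 0 := by linear_combination 10 * h2
  have h22 : (22 : K) = 0 := by linear_combination 11 * h2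
  have h24 : (24 : K) = 0 := by linear_combination 12 * h2
  have h26 : (26 : K) = 0 := by linear_combination 13 * h2
  have h28 : (28 : K) = 0 := by linear_combination 14 * h2
  have h30 : (30 : K) = 0 := by linear_combination 15 * h2
  have h32 : (32 : K) = 0 := by linear_combination 16 * h2
  have e : D.n3 * R.RNF (0) (0) (0) (0) (0) (0) (0) (0) (0) (0) (0) (t41) (0) (t48) (0) (t58) (0) (0) (0) (t59) (0) (t52) (t53) (0) (0) (0) (t63) (t64) (0) (0) (0) (0) (t68) (t69) (0) (t71) * D.n3⁻¹ =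
      R.RNF (0) (0) (0) (0) (0) (0) (0) (0) (0) (0) (0) (0) (0) (0) (0) (t58) (t41) (t52) (t48) (t59) (0) (0) (t53) (0) (0) (0) (t63) (0) (0) (t68) (t48 * t58 + t64) (t52 * t59 + t69) (0) (0) (0) (t48 * t52 * t58 + t71) := by
    rw [D.toWeylE6.conj_n3]
    congr 1 <;> (first | rfl | ring1 | (rw [← sub_eq_zero]; ring_nf; simp only [h2, h4, h6, h8, h10, h12, h14, h16, h18, h20, h22, h24, h26, h28, h30, h32, mul_zero, zero_mul, add_zero, zero_add, neg_zero, sub_zero, sub_self]))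
  exact UP_n D D.n3_mem e (ih _ _ _ _ _ _ _ _ _ _ _ hn41)

theorem e6s11_16 (D : UData R)
    (ih : ∀ (t41 t44 t48 t58 t52 t53 t63 t64 t68 t69 t71 : K), t41 ≠ 0 → t44 ≠ 0 → UP D (R.RNF (0) (0) (0) (0) (0) (0) (0) (0) (0) (0) (0) (t41) (t44) (t48) (0) (t58) (0) (0) (0) (0) (0) (t52) (t53) (0) (0) (0) (t63) (t64) (0) (0) (0) (0) (t68) (t69) (0) (t71))) :
    ∀ (t41 t44 t48 t58 t59 t52 t53 t63 t64 t68 t69 t71 : K), t41 ≠ 0 → t44 ≠ 0 → UP D (R.RNF (0) (0) (0) (0) (0) (0) (0) (0) (0) (0) (0) (t41) (t44) (t48) (0) (t58) (0) (0) (0) (t59) (0) (t52) (t53) (0) (0) (0) (t63) (t64) (0) (0) (0) (0) (t68) (t69) (0) (t71)) := by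
  intro t41 t44 t48 t58 t59 t52 t53 t63 t64 t68 t69 t71 hn41 hn44
  have h2 : (2 : K) = 0 := CharTwo.two_eq_zero
  have h4 : (4 : K) = 0 := by linear_combination 2 * h2
  have h6 : (6 : K) = 0 := by linear_combination 3 * h2
  have h8 : (8 : K) = 0 := by linear_combination 4 * h2
  have h10 : (10 : K) = 0 := by linear_combination 5 * h2
  have h12 : (12 : K) = 0 := by linear_combination 6 * h2
  have h14 : (14 : K) = 0 := by linear_combination 7 * h2
  have h16 : (16 : K) = 0 := by linear_combination 8 * h2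
  have h18 : (18 : K) = 0 := by linear_combination 9 * h2
  have h20 : (20 : K) = 0 := by linear_combination 10 * h2
  have h22 : (22 : K) = 0 := by linear_combination 11 * h2
  have h24 : (24 : K) = 0 := by linear_combination 12 * h2
  have h26 : (26 : K) = 0 := by linear_combination 13 * h2
  have h28 : (28 : K) = 0 := by linear_combination 14 * h2
  have h30 : (30 : K) = 0 := by linear_combination 15 * h2
  have h32 : (32 : K) = 0 := by linear_combination 16 * h2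
  obtain ⟨c, rfl⟩ : ∃ c, t59 = c * t44 := ⟨t59 / t44, by field_simp⟩
  have e : R.X56 c * R.RNF (0) (0) (0) (0) (0) (0) (0) (0) (0) (0) (0) (t41) (t44) (t48) (0) (t58) (0) (0) (0) (c * t44) (0) (t52) (t53) (0) (0) (0) (t63) (t64) (0) (0) (0) (0) (t68) (t69) (0) (t71) * R.X56 c =
      R.RNF (0) (0) (0) (0) (0) (0) (0) (0) (0) (0) (0) (t41) (t44) (t48) (0) (t58) (0) (0) (0) (0) (0) (t52) (t53) (0) (0) (0) (c * t52 + t63) (c * t53 + t64) (0) (0) (0) (0) (t68) (t69) (0) (c * t52 * t53 + t71) := by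
    rw [R.ucj56]
    congr 1 <;> (first | rfl | ring1 | (rw [← sub_eq_zero]; ring_nf; simp only [h2, h4, h6, h8, h10, h12, h14, h16, h18, h20, h22, h24, h26, h28, h30, h32, mul_zero, zero_mul, add_zero, zero_add, neg_zero, sub_zero, sub_self]))
  exact UP_cj D (D.xmem56 c) (R.inv56 c) e (ih _ _ _ _ _ _ _ _ _ _ _ hn41 hn44)

theorem e6s11_17 (D : UData R)
    (ih : ∀ (t41 t44 t48 t58 t52 t63 t64 t68 t69 t71 : K), t41 ≠ 0 → t44 ≠ 0 → UP D (R.RNF (0) (0) (0) (0) (0) (0) (0) (0) (0) (0) (0) (t41) (t44) (t48) (0) (t58) (0) (0) (0) (0) (0) (t52) (0) (0) (0) (0) (t63) (t64) (0) (0) (0) (0) (t68) (t69) (0) (t71))) :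
    ∀ (t41 t44 t48 t58 t52 t53 t63 t64 t68 t69 t71 : K), t41 ≠ 0 → t44 ≠ 0 → UP D (R.RNF (0) (0) (0) (0) (0) (0) (0) (0) (0) (0) (0) (t41) (t44) (t48) (0) (t58) (0) (0) (0) (0) (0) (t52) (t53) (0) (0) (0) (t63) (t64) (0) (0) (0) (0) (t68) (t69) (0) (t71)) := by
  intro t41 t44 t48 t58 t52 t53 t63 t64 t68 t69 t71 hn41 hn44
  have h2 : (2 : K) = 0 := CharTwo.two_eq_zero
  have h4 : (4 : K) = 0 := by linear_combination 2 * h2
  have h6 : (6 : K) = 0 := by linear_combination 3 * h2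
  have h8 : (8 : K) = 0 := by linear_combination 4 * h2
  have h10 : (10 : K) = 0 := by linear_combination 5 * h2
  have h12 : (12 : K) = 0 := by linear_combination 6 * h2
  have h14 : (14 : K) = 0 := by linear_combination 7 * h2
  have h16 : (16 : K) = 0 := by linear_combination 8 * h2
  have h18 : (18 : K) = 0 := by linear_combination 9 * h2
  have h20 : (20 : K) = 0 := by linear_combination 10 * h2
  have h22 : (22 : K) = 0 := by linear_combination 11 * h2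
  have h24 : (24 : K) = 0 := by linear_combination 12 * h2
  have h26 : (26 : K) = 0 := by linear_combination 13 * h2
  have h28 : (28 : K) = 0 := by linear_combination 14 * h2
  have h30 : (30 : K) = 0 := by linear_combination 15 * h2
  have h32 : (32 : K) = 0 := by linear_combination 16 * h2
  obtain ⟨c, rfl⟩ : ∃ c, t53 = c * t44 := ⟨t53 / t44, by field_simp⟩
  have e : R.X47 c * R.RNF (0) (0) (0) (0) (0) (0) (0) (0) (0) (0) (0) (t41) (t44) (t48) (0) (t58) (0) (0) (0) (0) (0) (t52) (c * t44) (0) (0) (0) (t63) (t64) (0) (0) (0) (0) (t68) (t69) (0) (t71) * R.X47 c =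
      R.RNF (0) (0) (0) (0) (0) (0) (0) (0) (0) (0) (0) (t41) (t44) (t48) (0) (t58) (0) (0) (0) (0) (0) (t52) (0) (0) (0) (0) (t63) (t64) (0) (0) (0) (0) (t68) (t69) (0) (c * t69 + t71) := by
    rw [R.ucj47]
    congr 1 <;> (first | rfl | ring1 | (rw [← sub_eq_zero]; ring_nf; simp only [h2, h4, h6, h8, h10, h12, h14, h16, h18, h20, h22, h24, h26, h28, h30, h32, mul_zero, zero_mul, add_zero, zero_add, neg_zero, sub_zero, sub_self]))
  exact UP_cj D (D.xmem47 c) (R.inv47 c) e (ih _ _ _ _ _ _ _ _ _ _ hn41 hn44)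

theorem e6s11_18 (D : UData R)
    (ih : ∀ (t41 t44 t48 t58 t52 t63 t64 t68 t71 : K), t41 ≠ 0 → t44 ≠ 0 → UP D (R.RNF (0) (0) (0) (0) (0) (0) (0) (0) (0) (0) (0) (t41) (t44) (t48) (0) (t58) (0) (0) (0) (0) (0) (t52) (0) (0) (0) (0) (t63) (t64) (0) (0) (0) (0) (t68) (0) (0) (t71))) :
    ∀ (t41 t44 t48 t58 t52 t63 t64 t68 t69 t71 : K), t41 ≠ 0 → t44 ≠ 0 → UP D (R.RNF (0) (0) (0) (0) (0) (0) (0) (0) (0) (0) (0) (t41) (t44) (t48) (0) (t58) (0) (0) (0) (0) (0) (t52) (0) (0) (0) (0) (t63) (t64) (0) (0) (0) (0) (t68) (t69) (0) (t71)) := by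
  intro t41 t44 t48 t58 t52 t63 t64 t68 t69 t71 hn41 hn44
  have h2 : (2 : K) = 0 := CharTwo.two_eq_zero
  have h4 : (4 : K) = 0 := by linear_combination 2 * h2
  have h6 : (6 : K) = 0 := by linear_combination 3 * h2
  have h8 : (8 : K) = 0 := by linear_combination 4 * h2
  have h10 : (10 : K) = 0 := by linear_combination 5 * h2
  have h12 : (12 : K) = 0 := by linear_combination 6 * h2
  have h14 : (14 : K) = 0 := by linear_combination 7 * h2
  have h16 : (16 : K) = 0 := by linear_combination 8 * h2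
  have h18 : (18 : K) = 0 := by linear_combination 9 * h2
  have h20 : (20 : K) = 0 := by linear_combination 10 * h2
  have h22 : (22 : K) = 0 := by linear_combination 11 * h2
  have h24 : (24 : K) = 0 := by linear_combination 12 * h2
  have h26 : (26 : K) = 0 := by linear_combination 13 * h2
  have h28 : (28 : K) = 0 := by linear_combination 14 * h2
  have h30 : (30 : K) = 0 := by linear_combination 15 * h2
  have h32 : (32 : K) = 0 := by linear_combination 16 * h2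
  obtain ⟨c, rfl⟩ : ∃ c, t69 = c * t44 := ⟨t69 / t44, by field_simp⟩
  have e : R.X63 c * R.RNF (0) (0) (0) (0) (0) (0) (0) (0) (0) (0) (0) (t41) (t44) (t48) (0) (t58) (0) (0) (0) (0) (0) (t52) (0) (0) (0) (0) (t63) (t64) (0) (0) (0) (0) (t68) (c * t44) (0) (t71) * R.X63 c =
      R.RNF (0) (0) (0) (0) (0) (0) (0) (0) (0) (0) (0) (t41) (t44) (t48) (0) (t58) (0) (0) (0) (0) (0) (t52) (0) (0) (0) (0) (t63) (t64) (0) (0) (0) (0) (t68) (0) (0) (t71) := by
    rw [R.ucj63]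
    congr 1 <;> (first | rfl | ring1 | (rw [← sub_eq_zero]; ring_nf; simp only [h2, h4, h6, h8, h10, h12, h14, h16, h18, h20, h22, h24, h26, h28, h30, h32, mul_zero, zero_mul, add_zero, zero_add, neg_zero, sub_zero, sub_self]))
  exact UP_cj D (D.xmem63 c) (R.inv63 c) e (ih _ _ _ _ _ _ _ _ _ hn41 hn44)

theorem e6s11_19 (D : UData R)
    (ih : ∀ (t41 t44 t48 t58 t52 t64 t68 t71 : K), t41 ≠ 0 → t44 ≠ 0 → UP D (R.RNF (0) (0) (0) (0) (0) (0) (0) (0) (0) (0) (0) (t41) (t44) (t48) (0) (t58) (0) (0) (0) (0) (0) (t52) (0) (0) (0) (0) (0) (t64) (0) (0) (0) (0) (t68) (0) (0) (t71))) :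
    ∀ (t41 t44 t48 t58 t52 t63 t64 t68 t71 : K), t41 ≠ 0 → t44 ≠ 0 → UP D (R.RNF (0) (0) (0) (0) (0) (0) (0) (0) (0) (0) (0) (t41) (t44) (t48) (0) (t58) (0) (0) (0) (0) (0) (t52) (0) (0) (0) (0) (t63) (t64) (0) (0) (0) (0) (t68) (0) (0) (t71)) := by
  intro t41 t44 t48 t58 t52 t63 t64 t68 t71 hn41 hn44 hu hne
  have hsq := hu
  rw [R.usq] at hsq
  obtain ⟨e36, e37, e39, e42, e46, e56, e38, e40, e43, e47, e57, e41, e44, e48, e50, e58, e45, e49, e51, e59, e61, e52, e53, e60, e62, e54, e63, e64, e55, e65, e67, e66, e68, e69, e70, e71⟩ := D.inj _ _ _ _ _ _ _ _ _ _ _ _ _ _ _ _ _ _ _ _ _ _ _ _ _ _ _ _ _ _ _ _ _ _ _ _ hsq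
  have hz : t63 = 0 := by
    have h : t44 * t63 = 0 := by linear_combination e69
    exact (mul_eq_zero.mp h).resolve_left hn44
  subst hz
  exact ih _ _ _ _ _ _ _ _ hn41 hn44 hu hne

theorem e6s11_20 (D : UData R)
    (ihz : ∀ (t41 t44 t58 t52 t64 t68 t71 : K), t41 ≠ 0 → t44 ≠ 0 → UP D (R.RNF (0) (0) (0) (0) (0) (0) (0) (0) (0) (0) (0) (t41) (t44) (0) (0) (t58) (0) (0) (0) (0) (0) (t52) (0) (0) (0) (0) (0) (t64) (0) (0) (0) (0) (t68) (0) (0) (t71)))
    (ihn : ∀ (t41 t44 t48 t58 t52 t64 t68 t71 : K), t41 ≠ 0 → t44 ≠ 0 → t48 ≠ 0 → UP D (R.RNF (0) (0) (0) (0) (0) (0) (0) (0) (0) (0) (0) (t41) (t44) (t48) (0) (t58) (0) (0) (0) (0) (0) (t52) (0) (0) (0) (0) (0) (t64) (0) (0) (0) (0) (t68) (0) (0) (t71))) :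
    ∀ (t41 t44 t48 t58 t52 t64 t68 t71 : K), t41 ≠ 0 → t44 ≠ 0 → UP D (R.RNF (0) (0) (0) (0) (0) (0) (0) (0) (0) (0) (0) (t41) (t44) (t48) (0) (t58) (0) (0) (0) (0) (0) (t52) (0) (0) (0) (0) (0) (t64) (0) (0) (0) (0) (t68) (0) (0) (t71)) := by
  intro t41 t44 t48 t58 t52 t64 t68 t71 hn41 hn44
  by_cases hn48 : t48 = 0
  · subst hn48; exact ihz _ _ _ _ _ _ _ hn41 hn44
  · exact ihn _ _ _ _ _ _ _ _ hn41 hn44 hn48

theorem e6s11_21 (D : UData R)
    (ih : ∀ (t45 t49 t51 t61 t64 t68 t70 : K), t49 ≠ 0 → t51 ≠ 0 → UP D (R.RNF (0) (0) (0) (0) (0) (0) (0) (0) (0) (0) (0) (0) (0) (0) (0) (0) (t45) (t49) (t51) (0) (t61) (0) (0) (0) (0) (0) (0) (t64) (0) (0) (0) (0) (t68) (0) (t70) (0))) :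
    ∀ (t41 t44 t58 t52 t64 t68 t71 : K), t41 ≠ 0 → t44 ≠ 0 → UP D (R.RNF (0) (0) (0) (0) (0) (0) (0) (0) (0) (0) (0) (t41) (t44) (0) (0) (t58) (0) (0) (0) (0) (0) (t52) (0) (0) (0) (0) (0) (t64) (0) (0) (0) (0) (t68) (0) (0) (t71)) := by
  intro t41 t44 t58 t52 t64 t68 t71 hn41 hn44
  have h2 : (2 : K) = 0 := CharTwo.two_eq_zero
  have h4 : (4 : K) = 0 := by linear_combination 2 * h2
  have h6 : (6 : K) = 0 := by linear_combination 3 * h2
  have h8 : (8 : K) = 0 := by linear_combination 4 * h2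
  have h10 : (10 : K) = 0 := by linear_combination 5 * h2
  have h12 : (12 : K) = 0 := by linear_combination 6 * h2
  have h14 : (14 : K) = 0 := by linear_combination 7 * h2
  have h16 : (16 : K) = 0 := by linear_combination 8 * h2
  have h18 : (18 : K) = 0 := by linear_combination 9 * h2
  have h20 : (20 : K) = 0 := by linear_combination 10 * h2
  have h22 : (22 : K) = 0 := by linear_combination 11 * h2
  have h24 : (24 : K) = 0 := by linear_combination 12 * h2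
  have h26 : (26 : K) = 0 := by linear_combination 13 * h2
  have h28 : (28 : K) = 0 := by linear_combination 14 * h2
  have h30 : (30 : K) = 0 := by linear_combination 15 * h2
  have h32 : (32 : K) = 0 := by linear_combination 16 * h2
  have e : D.n2 * R.RNF (0) (0) (0) (0) (0) (0) (0) (0) (0) (0) (0) (t41) (t44) (0) (0) (t58) (0) (0) (0) (0) (0) (t52) (0) (0) (0) (0) (0) (t64) (0) (0) (0) (0) (t68) (0) (0) (t71) * D.n2⁻¹ =
      R.RNF (0) (0) (0) (0) (0) (0) (0) (0) (0) (0) (0) (0) (0) (0) (0) (0) (t52) (t41) (t44) (0) (t58) (0) (0) (0) (0) (0) (0) (t64) (0) (0) (0) (0) (t52 * t58 + t68) (0) (t71) (0) := by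
    rw [D.toWeylE6.conj_n2]
    congr 1 <;> (first | rfl | ring1 | (rw [← sub_eq_zero]; ring_nf; simp only [h2, h4, h6, h8, h10, h12, h14, h16, h18, h20, h22, h24, h26, h28, h30, h32, mul_zero, zero_mul, add_zero, zero_add, neg_zero, sub_zero, sub_self]))
  exact UP_n D D.n2_mem e (ih _ _ _ _ _ _ _ hn41 hn44)

theorem e6s11_22 (D : UData R)
    (ih : ∀ (t41 t44 t48 t52 t64 t68 t71 : K), t41 ≠ 0 → t44 ≠ 0 → t48 ≠ 0 → UP D (R.RNF (0) (0) (0) (0) (0) (0) (0) (0) (0) (0) (0) (t41) (t44) (t48) (0) (0) (0) (0) (0) (0) (0) (t52) (0) (0) (0) (0) (0) (t64) (0) (0) (0) (0) (t68) (0) (0) (t71))) :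
    ∀ (t41 t44 t48 t58 t52 t64 t68 t71 : K), t41 ≠ 0 → t44 ≠ 0 → t48 ≠ 0 → UP D (R.RNF (0) (0) (0) (0) (0) (0) (0) (0) (0) (0) (0) (t41) (t44) (t48) (0) (t58) (0) (0) (0) (0) (0) (t52) (0) (0) (0) (0) (0) (t64) (0) (0) (0) (0) (t68) (0) (0) (t71)) := by
  intro t41 t44 t48 t58 t52 t64 t68 t71 hn41 hn44 hn48 hu hne
  have hsq := hu
  rw [R.usq] at hsq
  obtain ⟨e36, e37, e39, e42, e46, e56, e38, e40, e43, e47, e57, e41, e44, e48, e50, e58, e45, e49, e51, e59, e61, e52, e53, e60, e62, e54, e63, e64, e55, e65, e67, e66, e68, e69, e70, e71⟩ := D.inj _ _ _ _ _ _ _ _ _ _ _ _ _ _ _ _ _ _ _ _ _ _ _ _ _ _ _ _ _ _ _ _ _ _ _ _ hsq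
  have hz : t58 = 0 := by
    have h : t48 * t58 = 0 := by linear_combination e64
    exact (mul_eq_zero.mp h).resolve_left hn48
  subst hz
  exact ih _ _ _ _ _ _ _ hn41 hn44 hn48 hu hne

theorem e6s11_23 (D : UData R)
    (ih : ∀ (t41 t44 t48 t52 t68 t71 : K), t41 ≠ 0 → t44 ≠ 0 → t48 ≠ 0 → UP D (R.RNF (0) (0) (0) (0) (0) (0) (0) (0) (0) (0) (0) (t41) (t44) (t48) (0) (0) (0) (0) (0) (0) (0) (t52) (0) (0) (0) (0) (0) (0) (0) (0) (0) (0) (t68) (0) (0) (t71))) :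
    ∀ (t41 t44 t48 t52 t64 t68 t71 : K), t41 ≠ 0 → t44 ≠ 0 → t48 ≠ 0 → UP D (R.RNF (0) (0) (0) (0) (0) (0) (0) (0) (0) (0) (0) (t41) (t44) (t48) (0) (0) (0) (0) (0) (0) (0) (t52) (0) (0) (0) (0) (0) (t64) (0) (0) (0) (0) (t68) (0) (0) (t71)) := by
  intro t41 t44 t48 t52 t64 t68 t71 hn41 hn44 hn48
  have h2 : (2 : K) = 0 := CharTwo.two_eq_zero
  have h4 : (4 : K) = 0 := by linear_combination 2 * h2
  have h6 : (6 : K) = 0 := by linear_combination 3 * h2
  have h8 : (8 : K) = 0 := by linear_combination 4 * h2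
  have h10 : (10 : K) = 0 := by linear_combination 5 * h2
  have h12 : (12 : K) = 0 := by linear_combination 6 * h2
  have h14 : (14 : K) = 0 := by linear_combination 7 * h2
  have h16 : (16 : K) = 0 := by linear_combination 8 * h2
  have h18 : (18 : K) = 0 := by linear_combination 9 * h2
  have h20 : (20 : K) = 0 := by linear_combination 10 * h2
  have h22 : (22 : K) = 0 := by linear_combination 11 * h2
  have h24 : (24 : K) = 0 := by linear_combination 12 * h2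
  have h26 : (26 : K) = 0 := by linear_combination 13 * h2
  have h28 : (28 : K) = 0 := by linear_combination 14 * h2
  have h30 : (30 : K) = 0 := by linear_combination 15 * h2
  have h32 : (32 : K) = 0 := by linear_combination 16 * h2
  obtain ⟨c, rfl⟩ : ∃ c, t64 = c * t48 := ⟨t64 / t48, by field_simp⟩
  have e : R.X58 c * R.RNF (0) (0) (0) (0) (0) (0) (0) (0) (0) (0) (0) (t41) (t44) (t48) (0) (0) (0) (0) (0) (0) (0) (t52) (0) (0) (0) (0) (0) (c * t48) (0) (0) (0) (0) (t68) (0) (0) (t71) * R.X58 c =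
      R.RNF (0) (0) (0) (0) (0) (0) (0) (0) (0) (0) (0) (t41) (t44) (t48) (0) (0) (0) (0) (0) (0) (0) (t52) (0) (0) (0) (0) (0) (0) (0) (0) (0) (0) (c * t52 + t68) (0) (0) (c * t48 * t52 + t71) := by
    rw [R.ucj58]
    congr 1 <;> (first | rfl | ring1 | (rw [← sub_eq_zero]; ring_nf; simp only [h2, h4, h6, h8, h10, h12, h14, h16, h18, h20, h22, h24, h26, h28, h30, h32, mul_zero, zero_mul, add_zero, zero_add, neg_zero, sub_zero, sub_self]))
  exact UP_cj D (D.xmem58 c) (R.inv58 c) e (ih _ _ _ _ _ _ hn41 hn44 hn48)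

theorem e6s11_24 (D : UData R)
    (ih : ∀ (t41 t44 t48 t52 t68 : K), t41 ≠ 0 → t44 ≠ 0 → t48 ≠ 0 → UP D (R.RNF (0) (0) (0) (0) (0) (0) (0) (0) (0) (0) (0) (t41) (t44) (t48) (0) (0) (0) (0) (0) (0) (0) (t52) (0) (0) (0) (0) (0) (0) (0) (0) (0) (0) (t68) (0) (0) (0))) :
    ∀ (t41 t44 t48 t52 t68 t71 : K), t41 ≠ 0 → t44 ≠ 0 → t48 ≠ 0 → UP D (R.RNF (0) (0) (0) (0) (0) (0) (0) (0) (0) (0) (0) (t41) (t44) (t48) (0) (0) (0) (0) (0) (0) (0) (t52) (0) (0) (0) (0) (0) (0) (0) (0) (0) (0) (t68) (0) (0) (t71)) := by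
  intro t41 t44 t48 t52 t68 t71 hn41 hn44 hn48
  have h2 : (2 : K) = 0 := CharTwo.two_eq_zero
  have h4 : (4 : K) = 0 := by linear_combination 2 * h2
  have h6 : (6 : K) = 0 := by linear_combination 3 * h2
  have h8 : (8 : K) = 0 := by linear_combination 4 * h2
  have h10 : (10 : K) = 0 := by linear_combination 5 * h2
  have h12 : (12 : K) = 0 := by linear_combination 6 * h2
  have h14 : (14 : K) = 0 := by linear_combination 7 * h2
  have h16 : (16 : K) = 0 := by linear_combination 8 * h2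
  have h18 : (18 : K) = 0 := by linear_combination 9 * h2
  have h20 : (20 : K) = 0 := by linear_combination 10 * h2
  have h22 : (22 : K) = 0 := by linear_combination 11 * h2
  have h24 : (24 : K) = 0 := by linear_combination 12 * h2
  have h26 : (26 : K) = 0 := by linear_combination 13 * h2
  have h28 : (28 : K) = 0 := by linear_combination 14 * h2
  have h30 : (30 : K) = 0 := by linear_combination 15 * h2
  have h32 : (32 : K) = 0 := by linear_combination 16 * h2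
  obtain ⟨c, rfl⟩ : ∃ c, t71 = c * t48 := ⟨t71 / t48, by field_simp⟩
  have e : R.X68 c * R.RNF (0) (0) (0) (0) (0) (0) (0) (0) (0) (0) (0) (t41) (t44) (t48) (0) (0) (0) (0) (0) (0) (0) (t52) (0) (0) (0) (0) (0) (0) (0) (0) (0) (0) (t68) (0) (0) (c * t48) * R.X68 c =
      R.RNF (0) (0) (0) (0) (0) (0) (0) (0) (0) (0) (0) (t41) (t44) (t48) (0) (0) (0) (0) (0) (0) (0) (t52) (0) (0) (0) (0) (0) (0) (0) (0) (0) (0) (t68) (0) (0) (0) := by
    rw [R.ucj68]
    congr 1 <;> (first | rfl | ring1 | (rw [← sub_eq_zero]; ring_nf; simp only [h2, h4, h6, h8, h10, h12, h14, h16, h18, h20, h22, h24, h26, h28, h30, h32, mul_zero, zero_mul, add_zero, zero_add, neg_zero, sub_zero, sub_self]))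
  exact UP_cj D (D.xmem68 c) (R.inv68 c) e (ih _ _ _ _ _ hn41 hn44 hn48)

theorem e6s11_25 (D : UData R)
    (ih : ∀ (t41 t44 t48 t52 : K), t41 ≠ 0 → t44 ≠ 0 → t48 ≠ 0 → UP D (R.RNF (0) (0) (0) (0) (0) (0) (0) (0) (0) (0) (0) (t41) (t44) (t48) (0) (0) (0) (0) (0) (0) (0) (t52) (0) (0) (0) (0) (0) (0) (0) (0) (0) (0) (0) (0) (0) (0))) :
    ∀ (t41 t44 t48 t52 t68 : K), t41 ≠ 0 → t44 ≠ 0 → t48 ≠ 0 → UP D (R.RNF (0) (0) (0) (0) (0) (0) (0) (0) (0) (0) (0) (t41) (t44) (t48) (0) (0) (0) (0) (0) (0) (0) (t52) (0) (0) (0) (0) (0) (0) (0) (0) (0) (0) (t68) (0) (0) (0)) := by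
  intro t41 t44 t48 t52 t68 hn41 hn44 hn48 hu hne
  have hsq := hu
  rw [R.usq] at hsq
  obtain ⟨e36, e37, e39, e42, e46, e56, e38, e40, e43, e47, e57, e41, e44, e48, e50, e58, e45, e49, e51, e59, e61, e52, e53, e60, e62, e54, e63, e64, e55, e65, e67, e66, e68, e69, e70, e71⟩ := D.inj _ _ _ _ _ _ _ _ _ _ _ _ _ _ _ _ _ _ _ _ _ _ _ _ _ _ _ _ _ _ _ _ _ _ _ _ hsq
  have hz : t68 = 0 := by
    have h : t48 * t68 = 0 := by linear_combination e71
    exact (mul_eq_zero.mp h).resolve_left hn48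
  subst hz
  exact ih _ _ _ _ hn41 hn44 hn48 hu hne

theorem e6s11_26 (D : UData R)
    (ih : ∀ (t41 t48 t59 t63 : K), t41 ≠ 0 → t48 ≠ 0 → t59 ≠ 0 → UP D (R.RNF (0) (0) (0) (0) (0) (0) (0) (0) (0) (0) (0) (t41) (0) (t48) (0) (0) (0) (0) (0) (t59) (0) (0) (0) (0) (0) (0) (t63) (0) (0) (0) (0) (0) (0) (0) (0) (0))) :
    ∀ (t41 t44 t48 t52 : K), t41 ≠ 0 → t44 ≠ 0 → t48 ≠ 0 → UP D (R.RNF (0) (0) (0) (0) (0) (0) (0) (0) (0) (0) (0) (t41) (t44) (t48) (0) (0) (0) (0) (0) (0) (0) (t52) (0) (0) (0) (0) (0) (0) (0) (0) (0) (0) (0) (0) (0) (0)) := by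
  intro t41 t44 t48 t52 hn41 hn44 hn48
  have h2 : (2 : K) = 0 := CharTwo.two_eq_zero
  have h4 : (4 : K) = 0 := by linear_combination 2 * h2
  have h6 : (6 : K) = 0 := by linear_combination 3 * h2
  have h8 : (8 : K) = 0 := by linear_combination 4 * h2
  have h10 : (10 : K) = 0 := by linear_combination 5 * h2
  have h12 : (12 : K) = 0 := by linear_combination 6 * h2
  have h14 : (14 : K) = 0 := by linear_combination 7 * h2
  have h16 : (16 : K) = 0 := by linear_combination 8 * h2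
  have h18 : (18 : K) = 0 := by linear_combination 9 * h2
  have h20 : (20 : K) = 0 := by linear_combination 10 * h2
  have h22 : (22 : K) = 0 := by linear_combination 11 * h2
  have h24 : (24 : K) = 0 := by linear_combination 12 * h2
  have h26 : (26 : K) = 0 := by linear_combination 13 * h2
  have h28 : (28 : K) = 0 := by linear_combination 14 * h2
  have h30 : (30 : K) = 0 := by linear_combination 15 * h2
  have h32 : (32 : K) = 0 := by linear_combination 16 * h2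
  have e : D.n1 * R.RNF (0) (0) (0) (0) (0) (0) (0) (0) (0) (0) (0) (t41) (t44) (t48) (0) (0) (0) (0) (0) (0) (0) (t52) (0) (0) (0) (0) (0) (0) (0) (0) (0) (0) (0) (0) (0) (0) * D.n1⁻¹ =
      R.RNF (0) (0) (0) (0) (0) (0) (0) (0) (0) (0) (0) (t41) (0) (t48) (0) (0) (0) (0) (0) (t44) (0) (0) (0) (0) (0) (0) (t52) (0) (0) (0) (0) (0) (0) (0) (0) (0) := by
    rw [D.toWeylE6.conj_n1]
    congr 1 <;> (first | rfl | ring1 | (rw [← sub_eq_zero]; ring_nf; simp only [h2, h4, h6, h8, h10, h12, h14, h16, h18, h20, h22, h24, h26, h28, h30, h32, mul_zero, zero_mul, add_zero, zero_add, neg_zero, sub_zero, sub_self]))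
  exact UP_n D D.n1_mem e (ih _ _ _ _ hn41 hn48 hn44)

theorem e6s11_27 (D : UData R)
    (ih : ∀ (t45 t51 t59 t63 : K), t45 ≠ 0 → t51 ≠ 0 → t59 ≠ 0 → UP D (R.RNF (0) (0) (0) (0) (0) (0) (0) (0) (0) (0) (0) (0) (0) (0) (0) (0) (t45) (0) (t51) (t59) (0) (0) (0) (0) (0) (0) (t63) (0) (0) (0) (0) (0) (0) (0) (0) (0))) :
    ∀ (t41 t48 t59 t63 : K), t41 ≠ 0 → t48 ≠ 0 → t59 ≠ 0 → UP D (R.RNF (0) (0) (0) (0) (0) (0) (0) (0) (0) (0) (0) (t41) (0) (t48) (0) (0) (0) (0) (0) (t59) (0) (0) (0) (0) (0) (0) (t63) (0) (0) (0) (0) (0) (0) (0) (0) (0)) := by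
  intro t41 t48 t59 t63 hn41 hn48 hn59
  have h2 : (2 : K) = 0 := CharTwo.two_eq_zero
  have h4 : (4 : K) = 0 := by linear_combination 2 * h2
  have h6 : (6 : K) = 0 := by linear_combination 3 * h2
  have h8 : (8 : K) = 0 := by linear_combination 4 * h2
  have h10 : (10 : K) = 0 := by linear_combination 5 * h2
  have h12 : (12 : K) = 0 := by linear_combination 6 * h2
  have h14 : (14 : K) = 0 := by linear_combination 7 * h2
  have h16 : (16 : K) = 0 := by linear_combination 8 * h2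
  have h18 : (18 : K) = 0 := by linear_combination 9 * h2
  have h20 : (20 : K) = 0 := by linear_combination 10 * h2
  have h22 : (22 : K) = 0 := by linear_combination 11 * h2
  have h24 : (24 : K) = 0 := by linear_combination 12 * h2
  have h26 : (26 : K) = 0 := by linear_combination 13 * h2
  have h28 : (28 : K) = 0 := by linear_combination 14 * h2
  have h30 : (30 : K) = 0 := by linear_combination 15 * h2
  have h32 : (32 : K) = 0 := by linear_combination 16 * h2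
  have e : D.n3 * R.RNF (0) (0) (0) (0) (0) (0) (0) (0) (0) (0) (0) (t41) (0) (t48) (0) (0) (0) (0) (0) (t59) (0) (0) (0) (0) (0) (0) (t63) (0) (0) (0) (0) (0) (0) (0) (0) (0) * D.n3⁻¹ =
      R.RNF (0) (0) (0) (0) (0) (0) (0) (0) (0) (0) (0) (0) (0) (0) (0) (0) (t41) (0) (t48) (t59) (0) (0) (0) (0) (0) (0) (t63) (0) (0) (0) (0) (0) (0) (0) (0) (0) := by
    rw [D.toWeylE6.conj_n3]
    congr 1 <;> (first | rfl | ring1 | (rw [← sub_eq_zero]; ring_nf; simp only [h2, h4, h6, h8, h10, h12, h14, h16, h18, h20, h22, h24, h26, h28, h30, h32, mul_zero, zero_mul, add_zero, zero_add, neg_zero, sub_zero, sub_self]))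
  exact UP_n D D.n3_mem e (ih _ _ _ _ hn41 hn48 hn59)

theorem upiv11 (D : UData R)
    (ih : ∀ (t44 t48 t50 t58 t45 t49 t51 t59 t61 t52 t53 t60 t62 t54 t63 t64 t55 t65 t67 t66 t68 t69 t70 t71 : K), UP D (R.RNF (0) (0) (0) (0) (0) (0) (0) (0) (0) (0) (0) (0) (t44) (t48) (t50) (t58) (t45) (t49) (t51) (t59) (t61) (t52) (t53) (t60) (t62) (t54) (t63) (t64) (t55) (t65) (t67) (t66) (t68) (t69) (t70) (t71))) :
    ∀ (t41 t44 t48 t50 t58 t45 t49 t51 t59 t61 t52 t53 t60 t62 t54 t63 t64 t55 t65 t67 t66 t68 t69 t70 t71 : K), UP D (R.RNF (0) (0) (0) (0) (0) (0) (0) (0) (0) (0) (0) (t41) (t44) (t48) (t50) (t58) (t45) (t49) (t51) (t59) (t61) (t52) (t53) (t60) (t62) (t54) (t63) (t64) (t55) (t65) (t67) (t66) (t68) (t69) (t70) (t71)) := by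
  intro t41 t44 t48 t50 t58 t45 t49 t51 t59 t61 t52 t53 t60 t62 t54 t63 t64 t55 t65 t67 t66 t68 t69 t70 t71
  by_cases h0 : t41 = 0
  · subst h0; exact ih _ _ _ _ _ _ _ _ _ _ _ _ _ _ _ _ _ _ _ _ _ _ _ _
  · exact (e6s11_1 D (e6s11_2 D (e6s11_3 D (e6s11_4 D (e6s11_5 D (e6s11_6 D (e6s11_7 D (e6s11_8 D (e6s11_9 D (e6s11_10 D (e6s11_11 D (e6s11_12 D (e6s11_13 D (e6s11_14 D (e6s11_15 D (fun t58 t45 t49 t51 t59 t53 t63 t65 t67 t66 t71 _ => ih 0 0 0 t58 t45 t49 t51 t59 0 0 t53 0 0 0 t63 0 0 t65 t67 t66 0 0 0 t71)) (e6s11_16 D (e6s11_17 D (e6s11_18 D (e6s11_19 D (e6s11_20 D (e6s11_21 D (fun t45 t49 t51 t61 t64 t68 t70 _ _ => ih 0 0 0 0 t45 t49 t51 0 t61 0 0 0 0 0 0 t64 0 0 0 0 t68 0 t70 0)) (e6s11_22 D (e6s11_23 D (e6s11_24 D (e6s11_25 D (e6s11_26 D (e6s11_27 D (fun t45 t51 t59 t63 _ _ _ => ih 0 0 0 0 t45 0 t51 t59 0 0 0 0 0 0 t63 0 0 0 0 0 0 0 0 0)))))))))))))))))))))))))) t41 t44 t48 t50 t58 t45 t49 t51 t59 t61 t52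 t53 t60 t62 t54 t63 t64 t55 t65 t67 t66 t68 t69 t70 t71 h0

end Cfsg.Agent.Helper4.E6Inv
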