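import Cfsg.Agent.Helper4.E6Inv.AbsZ
import Cfsg.Agent.Helper4.E6Inv.ULm0
import Cfsg.Agent.Helper4.E6Inv.ULm1
import Cfsg.Agent.Helper4.E6Inv.ULm2
import Cfsg.Agent.Helper4.E6Inv.ULm3
import Cfsg.Agent.Helper4.E6Inv.ULm4
import Cfsg.Agent.Helper4.E6Inv.ULm5
import Cfsg.Agent.Helper4.E6Inv.ULm6
import Cfsg.Agent.Helper4.E6Inv.ULm7
import Cfsg.Agent.Helper4.E6Inv.ULm8

/-! Generated: the square of an ordered product of root elements of `E₆` (characteristic two). -/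

set_option autoImplicit false
set_option maxHeartbeats 8000000
set_option maxRecDepth 100000
set_option linter.unusedSimpArgs false
set_option linter.unusedVariables false
set_option linter.unusedTactic false
set_option linter.unreachableTactic false

namespace Cfsg.Agent.Helper4.E6Inv

variable {K Γ : Type*} [Field K] [Group Γ] (R : RelE6 K Γ) [CharP K 2]

namespace RelE6
theorem usq (t36 t37 t39 t42 t46 t56 t38 t40 t43 t47 t57 t41 t44 t48 t50 t58 t45 t49 t51 t59 t61 t52 t53 t60 t62 t54 t63 t64 t55 t65 t67 t66 t68 t69 t70 t71 : K) :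
    R.RNF t36 t37 t39 t42 t46 t56 t38 t40 t43 t47 t57 t41 t44 t48 t50 t58 t45 t49 t51 t59 t61 t52 t53 t60 t62 t54 t63 t64 t55 t65 t67 t66 t68 t69 t70 t71 * R.RNF t36 t37 t39 t42 t46 t56 t38 t40 t43 t47 t57 t41 t44 t48 t50 t58 t45 t49 t51 t59 t61 t52 t53 t60 t62 t54 t63 t64 t55 t65 t67 t66 t68 t69 t70 t71 =
      R.RNF (0) (0) (0) (0) (0) (0) (t36 * t37) (t37 * t39) (t39 * t42) (t39 * t46) (t42 * t56) (t36 * t40 + t38 * t39) (t37 * t43 + t40 * t42) (t37 * t47 + t40 * t46) (t39 * t42 * t46 + t42 * t47 + t43 * t46) (t39 * t57 + t43 * t56) (t36 * t40 * t42 + t36 * t44 + t38 * t39 * t42 + t38 * t43 + t41 * t42) (t36 * t40 * t46 + t36 * t48 + t38 * t39 * t46 + t38 * t47 + t41 * t46) (t37 * t42 * t47 + t37 * t43 * t46 + t37 * t50 + t40 * t42 * t46 + t42 * t48 + t44 * t46) (t37 * t43 * t56 + t37 * t58 + t40 * t42 * t56 + t40 * t57 + t44 * t56) (t39 *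 t46 * t57 + t42 * t47 * t56 + t43 * t46 * t56 + t46 * t58 + t47 * t57 + t50 * t56) (t36 * t40 * t42 * t46 + t36 * t42 * t48 + t36 * t44 * t46 + t36 * t51 + t38 * t39 * t42 * t46 + t38 * t42 * t47 + t38 * t43 * t46 + t38 * t50 + t41 * t42 * t46 + t42 * t49 + t45 * t46) (t37 * t39 * t50 + t37 * t43 * t47 + t39 * t51 + t40 * t42 * t47 + t40 * t43 * t46 + t40 * t50 + t43 * t48 + t44 * t47) (t36 * t40 * t42 * t56 + t36 * t44 * t56 + t36 * t59 + t38 * t39 * t42 * t56 + t38 * t39 * t57 + t38 * t43 * t56 + t38 * t58 + t41 * t42 * t56 + t41 * t57 + t45 * t56) (t37 * t42 * t47 * t56 + t37 * t43 * t46 * t56 + t37 * t46 * t58 + t37 * t50 * t56 + t37 * t61 + t40 * t42 * t46 * t56 + t42 * t48 * t56 + t44 * t46 * t56 + t46 * t59 + t48 * t57 + t51 * t56) (t36 * t39 * t40 * t42 * t46 + t36 * t39 * t51 + t36 * t43 * t48 + t36 * t44 * t47 + t36 * t53 + t38 * t39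 ^ 2 * t42 * t46 + t38 * t43 * t47 + t39 * t52 + t41 * t42 * t47 + t41 * t43 * t46 + t41 * t50 + t43 * t49 + t45 * t47) (t36 * t40 * t42 * t46 * t56 + t36 * t42 * t48 * t56 + t36 * t44 * t46 * t56 + t36 * t46 * t59 + t36 * t48 * t57 + t36 * t51 * t56 + t36 * t62 + t38 * t39 * t42 * t46 * t56 + t38 * t39 * t46 * t57 + t38 * t42 * t47 * t56 + t38 * t43 * t46 * t56 + t38 * t46 * t58 + t38 * t50 * t56 + t38 * t61 + t41 * t42 * t46 * t56 + t41 * t46 * t57 + t42 * t49 * t56 + t45 * t46 * t56 + t46 * t60 + t49 * t57 + t52 * t56) (t37 * t39 * t50 * t56 + t37 * t39 * t61 + t37 * t43 * t47 * t56 + t37 * t47 * t58 + t39 * t40 * t46 * t57 + t39 * t51 * t56 + t39 * t62 + t40 * t42 * t47 * t56 + t40 * t43 * t46 * t56 + t40 * t46 * t58 + t40 * t47 * t57 + t40 * t50 * t56 + t40 * t61 + t44 * t47 * t56 + t47 * t59 + t48 * t58 + t53 * t56) (t36 * t37 * t40 * t42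 * t47 + t36 * t37 * t40 * t43 * t46 + t36 * t37 * t53 + t36 * t40 * t42 * t48 + t36 * t40 * t44 * t46 + t36 * t40 * t51 + t36 * t44 * t48 + t37 * t38 * t39 * t42 * t47 + t37 * t38 * t39 * t43 * t46 + t37 * t38 * t39 * t50 + t37 * t38 * t43 * t47 + t37 * t41 * t50 + t37 * t54 + t38 * t39 * t51 + t38 * t40 * t42 * t47 + t38 * t40 * t43 * t46 + t38 * t40 * t50 + t38 * t53 + t40 * t41 * t42 * t46 + t40 * t42 * t49 + t40 * t45 * t46 + t40 * t52 + t41 * t42 * t48 + t41 * t44 * t46 + t41 * t51 + t44 * t49 + t45 * t48) (t36 * t39 * t40 * t46 * t57 + t36 * t39 * t51 * t56 + t36 * t39 * t62 + t36 * t40 * t43 * t46 * t56 + t36 * t44 * t47 * t56 + t36 * t47 * t59 + t36 * t53 * t56 + t36 * t64 + t38 * t39 * t43 * t46 * t56 + t38 * t39 ^ 2 * t46 * t57 + t38 * t47 * t58 + t39 * t52 * t56 + t39 * t63 + t41 * t42 * t47 * t56 + t41 * t46 * t58 + t41 * t50 * t56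 + t41 * t61 + t45 * t47 * t56 + t47 * t60 + t49 * t58 + t54 * t56) (t37 * t39 * t42 * t47 * t57 + t37 * t39 * t42 * t61 + t37 * t39 * t43 * t46 * t57 + t37 * t39 * t50 * t57 + t37 * t43 * t46 * t58 + t37 * t43 * t50 * t56 + t37 * t43 * t61 + t37 * t50 * t58 + t39 * t40 * t42 * t46 * t57 + t39 * t42 * t62 + t39 * t51 * t57 + t40 * t42 ^ 2 * t47 * t56 + t40 * t50 * t57 + t42 * t43 * t48 * t56 + t42 * t64 + t43 * t44 * t46 * t56 + t43 * t46 * t59 + t43 * t48 * t57 + t43 * t51 * t56 + t43 * t62 + t44 * t46 * t58 + t44 * t47 * t57 + t44 * t50 * t56 + t44 * t61 + t50 * t59 + t51 * t58 + t53 * t57) (t36 * t37 * t40 * t42 * t47 * t56 + t36 * t37 * t43 * t48 * t56 + t36 * t37 * t53 * t56 + t36 * t37 * t64 + t36 * t40 * t44 * t46 * t56 + t36 * t40 * t46 * t59 + t36 * t40 * t48 * t57 + t36 * t40 * t51 * t56 + t36 * t40 * t62 + t36 * t40 ^ 2 * t42 * t46 *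 t56 + t36 * t44 * t48 * t56 + t36 * t48 * t59 + t37 * t38 * t39 * t42 * t47 * t56 + t37 * t38 * t39 * t50 * t56 + t37 * t38 * t39 * t61 + t37 * t41 * t43 * t46 * t56 + t37 * t41 * t46 * t58 + t37 * t41 * t50 * t56 + t37 * t41 * t61 + t37 * t54 * t56 + t37 * t65 + t38 * t39 * t40 * t42 * t46 * t56 + t38 * t39 * t40 * t46 * t57 + t38 * t39 * t51 * t56 + t38 * t39 * t62 + t38 * t40 * t43 * t46 * t56 + t38 * t40 * t46 * t58 + t38 * t40 * t50 * t56 + t38 * t40 * t61 + t38 * t48 * t58 + t38 * t53 * t56 + t38 * t64 + t40 * t41 * t46 * t57 + t40 * t42 * t49 * t56 + t40 * t45 * t46 * t56 + t40 * t46 * t60 + t40 * t52 * t56 + t40 * t63 + t41 * t42 * t48 * t56 + t41 * t44 * t46 * t56 + t41 * t46 * t59 + t41 * t48 * t57 + t41 * t51 * t56 + t41 * t62 + t45 * t48 * t56 + t48 * t60 + t49 * t59 + t55 * t56) (t36 * t39 * t40 * t42 * t46 * t57 + t36 * t39 * t42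 * t62 + t36 * t39 * t44 * t46 * t57 + t36 * t39 * t51 * t57 + t36 * t40 * t42 ^ 2 * t47 * t56 + t36 * t42 * t43 * t48 * t56 + t36 * t42 * t44 * t47 * t56 + t36 * t42 * t64 + t36 * t43 * t46 * t59 + t36 * t43 * t48 * t57 + t36 * t43 * t51 * t56 + t36 * t43 * t62 + t36 * t50 * t59 + t36 * t51 * t58 + t36 * t53 * t57 + t36 * t67 + t38 * t39 * t42 * t47 * t57 + t38 * t39 * t42 ^ 2 * t47 * t56 + t38 * t39 ^ 2 * t42 * t46 * t57 + t38 * t43 * t46 * t58 + t38 * t43 * t50 * t56 + t38 * t43 * t61 + t38 * t50 * t58 + t39 * t41 * t42 * t46 * t57 + t39 * t42 * t63 + t39 * t52 * t57 + t41 * t42 ^ 2 * t47 * t56 + t41 * t43 * t46 * t57 + t42 * t43 * t49 * t56 + t42 * t49 * t58 + t42 * t65 + t43 * t45 * t46 * t56 + t43 * t46 * t60 + t43 * t49 * t57 + t43 * t52 * t56 + t43 * t63 + t45 * t46 * t58 + t45 * t47 * t57 + t45 * t50 * t56 + t45 * t61 + t50 * t60 + t52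 * t58 + t54 * t57) (t36 * t37 * t40 * t42 * t43 * t46 * t56 + t36 * t37 * t40 * t42 * t46 * t58 + t36 * t37 * t40 * t42 * t50 * t56 + t36 * t37 * t40 * t42 ^ 2 * t47 * t56 + t36 * t37 * t42 * t44 * t47 * t56 + t36 * t37 * t42 * t48 * t58 + t36 * t37 * t42 * t64 + t36 * t37 * t43 * t44 * t46 * t56 + t36 * t37 * t44 * t46 * t58 + t36 * t37 * t44 * t50 * t56 + t36 * t37 * t53 * t57 + t36 * t37 * t67 + t36 * t40 * t42 * t44 * t46 * t56 + t36 * t40 * t42 * t48 * t57 + t36 * t40 * t42 ^ 2 * t48 * t56 + t36 * t40 * t44 * t46 * t57 + t36 * t40 * t51 * t57 + t36 * t40 ^ 2 * t42 * t46 * t57 + t36 * t40 ^ 2 * t42 ^ 2 * t46 * t56 + t36 * t44 * t46 * t59 + t36 * t44 * t48 * t57 + t36 * t44 * t51 * t56 + t36 * t44 * t62 + t36 * t51 * t59 + t37 * t38 * t39 * t42 * t43 * t46 * t56 + t37 * t38 * t39 * t42 * t46 * t58 + t37 * t38 * t39 * t42 * t50 * t56 + t37 *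 t38 * t39 * t42 * t61 + t37 * t38 * t39 * t42 ^ 2 * t47 * t56 + t37 * t38 * t42 * t43 * t47 * t56 + t37 * t38 * t42 * t47 * t58 + t37 * t38 * t43 * t46 * t58 + t37 * t38 * t43 * t50 * t56 + t37 * t38 * t43 ^ 2 * t46 * t56 + t37 * t38 * t50 * t58 + t37 * t41 * t42 * t43 * t46 * t56 + t37 * t41 * t42 * t46 * t58 + t37 * t41 * t42 * t50 * t56 + t37 * t41 * t42 ^ 2 * t47 * t56 + t37 * t41 * t50 * t57 + t37 * t42 * t65 + t37 * t45 * t61 + t37 * t54 * t57 + t37 * t68 + t38 * t39 * t40 * t42 * t46 * t57 + t38 * t39 * t40 * t42 ^ 2 * t46 * t56 + t38 * t39 * t42 * t48 * t57 + t38 * t39 * t42 * t62 + t38 * t39 * t42 ^ 2 * t48 * t56 + t38 * t39 * t44 * t46 * t57 + t38 * t39 * t51 * t57 + t38 * t40 * t42 * t43 * t46 * t56 + t38 * t40 * t42 * t47 * t57 + t38 * t40 * t43 * t46 * t57 + t38 * t40 * t50 * t57 + t38 * t42 * t43 * t48 * t56 + t38 * t42 * t44 * t47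 * t56 + t38 * t42 * t64 + t38 * t44 * t46 * t58 + t38 * t44 * t50 * t56 + t38 * t44 * t61 + t38 * t53 * t57 + t38 * t67 + t40 * t41 * t42 * t46 * t57 + t40 * t41 * t42 ^ 2 * t46 * t56 + t40 * t42 * t49 * t57 + t40 * t45 * t46 * t57 + t40 * t52 * t57 + t41 * t42 * t48 * t57 + t41 * t42 ^ 2 * t48 * t56 + t41 * t44 * t46 * t57 + t42 * t44 * t49 * t56 + t42 * t66 + t44 * t45 * t46 * t56 + t44 * t46 * t60 + t44 * t49 * t57 + t44 * t52 * t56 + t44 * t63 + t45 * t46 * t59 + t45 * t51 * t56 + t45 * t62 + t51 * t60 + t52 * t59 + t55 * t57) (t36 * t37 * t39 * t40 * t42 * t43 * t46 * t56 + t36 * t37 * t39 * t40 * t42 * t46 * t58 + t36 * t37 * t39 * t40 * t42 * t47 * t57 + t36 * t37 * t39 * t40 * t42 * t50 * t56 + t36 * t37 * t39 * t40 * t43 * t46 * t57 + t36 * t37 * t39 * t44 * t50 * t56 + t36 * t37 * t39 * t67 + t36 * t37 * t40 * t43 ^ 2 * t46 * t56 + t36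 * t37 * t43 * t44 * t47 * t56 + t36 * t37 * t43 * t48 * t58 + t36 * t37 * t43 * t53 * t56 + t36 * t37 * t43 * t64 + t36 * t37 * t44 * t47 * t58 + t36 * t37 * t53 * t58 + t36 * t39 * t40 * t42 * t44 * t46 * t56 + t36 * t39 * t40 * t42 * t51 * t56 + t36 * t39 * t40 * t42 * t62 + t36 * t39 * t40 * t44 * t46 * t57 + t36 * t39 * t40 ^ 2 * t42 * t46 * t57 + t36 * t39 * t40 ^ 2 * t42 ^ 2 * t46 * t56 + t36 * t39 * t44 * t62 + t36 * t40 * t42 * t64 + t36 * t40 * t43 * t46 * t59 + t36 * t40 * t43 * t51 * t56 + t36 * t40 * t43 * t62 + t36 * t40 * t44 * t47 * t57 + t36 * t40 * t44 * t50 * t56 + t36 * t40 * t51 * t58 + t36 * t40 * t67 + t36 * t40 ^ 2 * t42 * t43 * t46 * t56 + t36 * t40 ^ 2 * t42 * t50 * t56 + t36 * t40 ^ 2 * t42 ^ 2 * t47 * t56 + t36 * t43 * t44 * t48 * t56 + t36 * t44 * t47 * t59 + t36 * t44 * t53 * t56 + t36 * t44 * t64 + t36 * t53 * t59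 + t37 * t38 * t39 * t43 * t47 * t57 + t37 * t38 * t39 * t43 * t61 + t37 * t38 * t39 * t43 ^ 2 * t46 * t56 + t37 * t38 * t39 ^ 2 * t42 * t43 * t46 * t56 + t37 * t38 * t39 ^ 2 * t42 * t46 * t58 + t37 * t38 * t39 ^ 2 * t42 * t47 * t57 + t37 * t38 * t39 ^ 2 * t42 * t50 * t56 + t37 * t38 * t39 ^ 2 * t43 * t46 * t57 + t37 * t38 * t39 ^ 2 * t50 * t57 + t37 * t38 * t43 * t47 * t58 + t37 * t39 * t41 * t42 * t50 * t56 + t37 * t39 * t41 * t42 * t61 + t37 * t39 * t45 * t61 + t37 * t39 * t68 + t37 * t41 * t42 * t43 * t47 * t56 + t37 * t41 * t42 * t47 * t58 + t37 * t41 * t43 * t50 * t56 + t37 * t41 * t43 * t61 + t37 * t41 * t50 * t58 + t37 * t43 * t54 * t56 + t37 * t43 * t65 + t37 * t54 * t58 + t38 * t39 * t40 * t42 * t43 * t46 * t56 + t38 * t39 * t40 * t42 * t47 * t57 + t38 * t39 * t40 * t42 * t50 * t56 + t38 * t39 * t40 * t42 ^ 2 * t47 * t56 + t38 * t39 *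 t40 * t50 * t57 + t38 * t39 * t42 * t43 * t48 * t56 + t38 * t39 * t42 * t44 * t47 * t56 + t38 * t39 * t43 * t48 * t57 + t38 * t39 * t43 * t62 + t38 * t39 * t44 * t47 * t57 + t38 * t39 ^ 2 * t40 * t42 * t46 * t57 + t38 * t39 ^ 2 * t40 * t42 ^ 2 * t46 * t56 + t38 * t39 ^ 2 * t42 * t44 * t46 * t56 + t38 * t39 ^ 2 * t42 * t51 * t56 + t38 * t39 ^ 2 * t51 * t57 + t38 * t40 * t43 * t46 * t58 + t38 * t40 * t43 * t47 * t57 + t38 * t40 * t43 * t61 + t38 * t43 * t53 * t56 + t38 * t43 * t64 + t38 * t43 ^ 2 * t48 * t56 + t38 * t44 * t47 * t58 + t38 * t53 * t58 + t39 * t40 * t41 * t42 * t46 * t57 + t39 * t40 * t42 * t63 + t39 * t41 * t42 * t51 * t56 + t39 * t41 * t42 * t62 + t39 * t44 * t52 * t56 + t39 * t44 * t63 + t39 * t45 * t62 + t39 * t52 * t59 + t39 * t69 + t40 * t41 * t42 * t47 * t57 + t40 * t41 * t42 * t50 * t56 + t40 * t41 * t42 ^ 2 * t47 * t56 + t40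 * t42 * t43 * t49 * t56 + t40 * t42 * t49 * t58 + t40 * t42 * t65 + t40 * t43 * t45 * t46 * t56 + t40 * t43 * t46 * t60 + t40 * t43 * t52 * t56 + t40 * t43 * t63 + t40 * t45 * t46 * t58 + t40 * t45 * t61 + t40 * t52 * t58 + t40 * t68 + t41 * t42 * t64 + t41 * t43 * t46 * t59 + t41 * t43 * t51 * t56 + t41 * t43 * t62 + t41 * t44 * t46 * t58 + t41 * t44 * t50 * t56 + t41 * t44 * t61 + t41 * t51 * t58 + t41 * t53 * t57 + t41 * t67 + t43 * t55 * t56 + t43 * t66 + t44 * t45 * t47 * t56 + t44 * t47 * t60 + t44 * t49 * t58 + t44 * t54 * t56 + t44 * t65 + t45 * t47 * t59 + t45 * t48 * t58 + t45 * t53 * t56 + t45 * t64 + t53 * t60 + t54 * t59 + t55 * t58) (t36 * t37 * t39 * t40 * t42 * t43 * t46 ^ 2 * t56 + t36 * t37 * t39 * t40 * t42 * t46 * t61 + t36 * t37 * t39 * t40 * t42 * t46 ^ 2 * t58 + t36 * t37 * t39 * t40 * t42 ^ 2 * t46 * t47 * t56 + t36 * t37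 * t39 * t40 * t46 * t50 * t57 + t36 * t37 * t39 * t42 * t47 * t48 * t57 + t36 * t37 * t39 * t42 * t48 * t50 * t56 + t36 * t37 * t39 * t43 * t46 * t48 * t57 + t36 * t37 * t39 * t44 * t46 * t50 * t56 + t36 * t37 * t39 * t46 * t67 + t36 * t37 * t39 * t48 * t50 * t57 + t36 * t37 * t39 * t50 * t51 * t56 + t36 * t37 * t39 * t51 * t61 + t36 * t37 * t40 * t42 * t43 * t46 * t47 * t56 + t36 * t37 * t40 * t42 * t46 * t47 * t58 + t36 * t37 * t40 * t42 * t47 * t50 * t56 + t36 * t37 * t40 * t42 * t47 ^ 2 * t57 + t36 * t37 * t40 * t43 * t46 * t47 * t57 + t36 * t37 * t40 * t43 * t46 ^ 2 * t58 + t36 * t37 * t42 * t43 * t47 * t48 * t56 + t36 * t37 * t42 * t47 * t64 + t36 * t37 * t43 * t44 * t46 * t47 * t56 + t36 * t37 * t43 * t46 * t48 * t58 + t36 * t37 * t43 * t47 * t51 * t56 + t36 * t37 * t43 * t48 * t50 * t56 + t36 * t37 * t43 * t48 * t61 + t36 * t37 * t44 *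 t46 * t47 * t58 + t36 * t37 * t44 * t47 * t61 + t36 * t37 * t47 * t51 * t58 + t36 * t37 * t47 * t67 + t36 * t37 * t50 * t53 * t56 + t36 * t37 * t50 * t64 + t36 * t37 * t53 * t61 + t36 * t39 * t40 * t42 * t44 * t46 ^ 2 * t56 + t36 * t39 * t40 * t42 * t46 ^ 2 * t59 + t36 * t39 * t40 * t42 ^ 2 * t46 * t48 * t56 + t36 * t39 * t40 * t46 * t51 * t57 + t36 * t39 * t40 ^ 2 * t42 * t46 ^ 2 * t57 + t36 * t39 * t40 ^ 2 * t42 ^ 2 * t46 ^ 2 * t56 + t36 * t39 * t42 * t48 * t51 * t56 + t36 * t39 * t42 * t48 * t62 + t36 * t39 * t44 * t46 * t51 * t56 + t36 * t39 * t46 * t51 * t59 + t36 * t39 * t51 * t62 + t36 * t40 * t42 * t43 * t46 * t48 * t56 + t36 * t40 * t42 * t46 * t48 * t58 + t36 * t40 * t42 * t47 * t48 * t57 + t36 * t40 * t42 * t47 * t51 * t56 + t36 * t40 * t43 * t46 * t51 * t56 + t36 * t40 * t44 * t46 * t47 * t57 + t36 * t40 * t44 * t46 ^ 2 * t58 + t36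 * t40 * t46 * t50 * t59 + t36 * t40 * t46 * t51 * t58 + t36 * t40 * t47 * t51 * t57 + t36 * t40 * t48 * t50 * t57 + t36 * t40 * t50 * t62 + t36 * t40 ^ 2 * t42 * t43 * t46 ^ 2 * t56 + t36 * t40 ^ 2 * t42 * t46 * t50 * t56 + t36 * t42 * t44 * t47 * t48 * t56 + t36 * t42 * t48 * t64 + t36 * t43 * t48 * t62 + t36 * t44 * t46 * t47 * t59 + t36 * t44 * t46 * t48 * t58 + t36 * t44 * t48 * t50 * t56 + t36 * t44 ^ 2 * t46 * t47 * t56 + t36 * t47 * t51 * t59 + t36 * t48 * t50 * t59 + t36 * t48 * t51 * t58 + t36 * t48 * t53 * t57 + t36 * t48 * t67 + t36 * t51 * t53 * t56 + t36 * t51 * t64 + t36 * t53 * t62 + t37 * t38 * t39 * t42 * t43 * t46 * t47 * t56 + t37 * t38 * t39 * t42 * t46 * t47 * t58 + t37 * t38 * t39 * t42 * t47 * t61 + t37 * t38 * t39 * t43 * t46 * t47 * t57 + t37 * t38 * t39 * t43 * t46 * t50 * t56 + t37 * t38 * t39 * t43 * t46 ^ 2 * t58 +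 t37 * t38 * t39 * t46 * t50 * t58 + t37 * t38 * t39 * t50 * t61 + t37 * t38 * t39 ^ 2 * t42 * t43 * t46 ^ 2 * t56 + t37 * t38 * t39 ^ 2 * t42 * t46 * t61 + t37 * t38 * t39 ^ 2 * t42 * t46 ^ 2 * t58 + t37 * t38 * t39 ^ 2 * t42 ^ 2 * t46 * t47 * t56 + t37 * t38 * t42 * t43 * t47 ^ 2 * t56 + t37 * t38 * t43 * t47 * t50 * t56 + t37 * t38 * t43 * t47 * t61 + t37 * t38 * t43 * t47 ^ 2 * t57 + t37 * t38 * t43 ^ 2 * t46 * t47 * t56 + t37 * t39 * t41 * t42 * t46 * t47 * t57 + t37 * t39 * t41 * t42 * t46 * t50 * t56 + t37 * t39 * t41 * t43 * t46 ^ 2 * t57 + t37 * t39 * t41 * t46 * t50 * t57 + t37 * t39 * t42 * t49 * t50 * t56 + t37 * t39 * t42 * t49 * t61 + t37 * t39 * t45 * t46 * t50 * t56 + t37 * t39 * t46 * t68 + t37 * t41 * t42 * t43 * t46 * t47 * t56 + t37 * t41 * t42 * t46 * t47 * t58 + t37 * t41 * t42 * t47 * t61 + t37 * t41 * t43 * t46 * t50 * t56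 + t37 * t41 * t43 * t46 * t61 + t37 * t41 * t43 * t46 ^ 2 * t58 + t37 * t41 * t46 * t50 * t58 + t37 * t41 * t50 ^ 2 * t56 + t37 * t42 * t43 * t47 * t49 * t56 + t37 * t42 * t47 * t49 * t58 + t37 * t42 * t47 * t65 + t37 * t43 * t45 * t46 * t47 * t56 + t37 * t45 * t46 * t47 * t58 + t37 * t45 * t47 * t61 + t37 * t47 * t68 + t37 * t50 * t54 * t56 + t37 * t50 * t65 + t37 * t54 * t61 + t38 * t39 * t40 * t42 * t43 * t46 ^ 2 * t56 + t38 * t39 * t40 * t42 * t46 * t50 * t56 + t38 * t39 * t40 * t43 * t46 ^ 2 * t57 + t38 * t39 * t42 * t44 * t46 * t47 * t56 + t38 * t39 * t42 * t47 * t51 * t56 + t38 * t39 * t42 * t47 * t62 + t38 * t39 * t43 * t44 * t46 ^ 2 * t56 + t38 * t39 * t43 * t46 * t48 * t57 + t38 * t39 * t43 * t46 * t51 * t56 + t38 * t39 * t44 * t46 * t47 * t57 + t38 * t39 * t46 * t51 * t58 + t38 * t39 * t50 * t62 + t38 * t39 ^ 2 * t40 * t42 * t46 ^ 2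 * t57 + t38 * t39 ^ 2 * t40 * t42 ^ 2 * t46 ^ 2 * t56 + t38 * t39 ^ 2 * t42 * t44 * t46 ^ 2 * t56 + t38 * t39 ^ 2 * t42 * t46 ^ 2 * t59 + t38 * t39 ^ 2 * t42 ^ 2 * t46 * t48 * t56 + t38 * t39 ^ 2 * t44 * t46 ^ 2 * t57 + t38 * t39 ^ 2 * t46 * t51 * t57 + t38 * t40 * t42 * t46 * t47 * t58 + t38 * t40 * t42 * t47 * t50 * t56 + t38 * t40 * t42 * t47 ^ 2 * t57 + t38 * t40 * t43 * t46 * t47 * t57 + t38 * t40 * t43 * t46 * t50 * t56 + t38 * t40 * t43 * t46 ^ 2 * t58 + t38 * t40 * t43 ^ 2 * t46 ^ 2 * t56 + t38 * t40 * t47 * t50 * t57 + t38 * t40 * t50 * t61 + t38 * t42 * t44 * t47 ^ 2 * t56 + t38 * t42 * t47 * t64 + t38 * t43 * t46 * t47 * t59 + t38 * t43 * t46 * t48 * t58 + t38 * t43 * t47 * t48 * t57 + t38 * t43 * t47 * t51 * t56 + t38 * t43 * t48 * t50 * t56 + t38 * t43 * t48 * t61 + t38 * t43 ^ 2 * t46 * t48 * t56 + t38 * t44 * t47 * t50 * t56 + t38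 * t47 * t67 + t38 * t48 * t50 * t58 + t38 * t50 * t53 * t56 + t38 * t50 * t64 + t38 * t53 * t61 + t39 * t40 * t42 * t46 * t49 * t57 + t39 * t40 * t45 * t46 ^ 2 * t57 + t39 * t41 * t42 * t46 * t51 * t56 + t39 * t41 * t46 * t51 * t57 + t39 * t42 * t48 * t63 + t39 * t42 * t49 * t51 * t56 + t39 * t42 * t49 * t62 + t39 * t45 * t46 * t51 * t56 + t39 * t46 * t69 + t39 * t48 * t52 * t57 + t39 * t51 * t52 * t56 + t39 * t51 * t63 + t39 * t52 * t62 + t40 * t41 * t42 * t43 * t46 ^ 2 * t56 + t40 * t41 * t42 * t46 * t47 * t57 + t40 * t41 * t42 * t46 ^ 2 * t58 + t40 * t41 * t46 * t50 * t57 + t40 * t42 * t43 * t46 * t49 * t56 + t40 * t42 * t45 * t46 * t47 * t56 + t40 * t42 * t46 * t49 * t58 + t40 * t42 * t47 * t49 * t57 + t40 * t42 ^ 2 * t47 * t49 * t56 + t40 * t43 * t45 * t46 ^ 2 * t56 + t40 * t45 * t46 * t47 * t57 + t40 * t45 * t46 ^ 2 * t58 + t40 * t46 * t50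 * t60 + t40 * t50 * t52 * t56 + t40 * t50 * t63 + t40 * t52 * t61 + t41 * t42 * t44 * t46 * t47 * t56 + t41 * t42 * t46 * t47 * t59 + t41 * t42 * t46 * t48 * t58 + t41 * t42 * t47 * t48 * t57 + t41 * t42 * t47 * t51 * t56 + t41 * t42 * t48 * t50 * t56 + t41 * t43 * t44 * t46 ^ 2 * t56 + t41 * t43 * t46 * t51 * t56 + t41 * t43 * t46 ^ 2 * t59 + t41 * t44 * t46 * t47 * t57 + t41 * t44 * t46 * t50 * t56 + t41 * t44 * t46 ^ 2 * t58 + t41 * t50 * t62 + t41 * t51 * t61 + t42 * t43 * t48 * t49 * t56 + t42 * t44 * t47 * t49 * t56 + t42 * t47 * t66 + t42 * t48 * t49 * t58 + t42 * t48 * t65 + t42 * t49 * t64 + t43 * t45 * t46 * t48 * t56 + t43 * t46 * t48 * t60 + t43 * t48 * t49 * t57 + t43 * t48 * t52 * t56 + t43 * t48 * t63 + t43 * t49 * t62 + t44 * t45 * t46 * t47 * t56 + t44 * t49 * t61 + t45 * t46 * t47 * t59 + t45 * t46 * t48 * t58 + t45 * t47 * t48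 * t57 + t45 * t47 * t51 * t56 + t45 * t48 * t50 * t56 + t46 * t53 * t60 + t46 * t70 + t47 * t51 * t60 + t47 * t69 + t48 * t50 * t60 + t48 * t54 * t57 + t48 * t68 + t49 * t50 * t59 + t49 * t51 * t58 + t49 * t53 * t57 + t49 * t67 + t50 * t55 * t56 + t50 * t66 + t51 * t54 * t56 + t51 * t65 + t52 * t53 * t56 + t52 * t64 + t53 * t63 + t54 * t62 + t55 * t61) := by
  have h2 : (2 : K) = 0 := CharTwo.two_eq_zero
  have h : R.RNF t36 t37 t39 t42 t46 t56 t38 t40 t43 t47 t57 t41 t44 t48 t50 t58 t45 t49 t51 t59 t61 t52 t53 t60 t62 t54 t63 t64 t55 t65 t67 t66 t68 t69 t70 t71 * R.RNF t36 t37 t39 t42 t46 t56 t38 t40 t43 t47 t57 t41 t44 t48 t50 t58 t45 t49 t51 t59 t61 t52 t53 t60 t62 t54 t63 t64 t55 t65 t67 t66 t68 t69 t70 t71 =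
      R.X36 t36 * (R.X37 t37 * (R.X39 t39 * (R.X42 t42 * (R.X46 t46 * (R.X56 t56 * (R.X38 t38 * (R.X40 t40 * (R.X43 t43 * (R.X47 t47 * (R.X57 t57 * (R.X41 t41 * (R.X44 t44 * (R.X48 t48 * (R.X50 t50 * (R.X58 t58 * (R.X45 t45 * (R.X49 t49 * (R.X51 t51 * (R.X59 t59 * (R.X61 t61 * (R.X52 t52 * (R.X53 t53 * (R.X60 t60 * (R.X62 t62 * (R.X54 t54 * (R.X63 t63 * (R.X64 t64 * (R.X55 t55 * (R.X65 t65 * (R.X67 t67 * (R.X66 t66 * (R.X68 t68 * (R.X69 t69 * (R.X70 t70 * (R.X71 t71 * (R.RNF t36 t37 t39 t42 t46 t56 t38 t40 t43 t47 t57 t41 t44 t48 t50 t58 t45 t49 t51 t59 t61 t52 t53 t60 t62 t54 t63 t64 t55 t65 t67 t66 t68 t69 t70 t71)))))))))))))))))))))))))))))))))))) := by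
    conv_lhs => lhs; unfold RNF
    simp only [mul_assoc]
  rw [h]
  simp only [R.ulm36, R.ulm37, R.ulm39, R.ulm42, R.ulm46, R.ulm56, R.ulm38, R.ulm40, R.ulm43, R.ulm47, R.ulm57, R.ulm41, R.ulm44, R.ulm48, R.ulm50, R.ulm58, R.ulm45, R.ulm49, R.ulm51, R.ulm59, R.ulm61, R.ulm52, R.ulm53, R.ulm60, R.ulm62, R.ulm54, R.ulm63, R.ulm64, R.ulm55, R.ulm65, R.ulm67, R.ulm66, R.ulm68, R.ulm69, R.ulm70, R.ulm71,
    zero_mul, mul_zero, add_zero, zero_add]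
  refine R.RNF_congr ?_ ?_ ?_ ?_ ?_ ?_ ?_ ?_ ?_ ?_ ?_ ?_ ?_ ?_ ?_ ?_ ?_ ?_ ?_ ?_ ?_ ?_ ?_ ?_ ?_ ?_ ?_ ?_ ?_ ?_ ?_ ?_ ?_ ?_ ?_ ?_
  · first | rfl | linear_combination (t36) * h2
  · first | rfl | linear_combination (t37) * h2
  · first | rfl | linear_combination (t39) * h2
  · first | rfl | linear_combination (t42) * h2
  · first | rfl | linear_combination (t46) * h2
  · first | rfl | linear_combination (t56) * h2
  · first | rfl | linear_combination (t38) * h2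
  · first | rfl | linear_combination (t40) * h2
  · first | rfl | linear_combination (t43) * h2
  · first | rfl | linear_combination (t47) * h2
  · first | rfl | linear_combination (t57) * h2
  · first | rfl | linear_combination (t36 * t37 * t39 + t41) * h2
  · first | rfl | linear_combination (t37 * t39 * t42 + t44) * h2
  · first | rfl | linear_combination (t37 * t39 * t46 + t48) * h2
  · first | rfl | linear_combination (t39 * t42 * t46 + t50) * h2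
  · first | rfl | linear_combination (t39 * t42 * t56 + t58) * h2
  · first | rfl | linear_combination (2 * t36 * t37 * t39 * t42 + t38 * t39 * t42 + t45) * h2
  · first | rfl | linear_combination (2 * t36 * t37 * t39 * t46 + t38 * t39 * t46 + t49) * h2
  · first | rfl | linear_combination (2 * t37 * t39 * t42 * t46 + t51) * h2
  · first | rfl | linear_combination (2 * t37 * t39 * t42 * t56 + t40 * t42 * t56 + t59) * h2
  · first | rfl | linear_combination (3 * t39 * t42 * t46 * t56 + t42 * t47 * t56 + t61) * h2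
  · first | rfl | linear_combination (4 * t36 * t37 * t39 * t42 * t46 + 3 * t38 * t39 * t42 * t46 + t52) * h2
  · first | rfl | linear_combination (2 * t37 * t39 * t42 * t47 + 2 * t37 * t39 * t43 * t46 + 2 * t37 * t39 ^ 2 * t42 * t46 + t37 * t43 * t47 + 3 * t39 * t40 * t42 * t46 + t40 * t42 * t47 + t40 * t43 * t46 + t53) * h2
  · first | rfl | linear_combination (5 * t36 * t37 * t39 * t42 * t56 + 2 * t36 * t37 * t39 * t57 + t36 * t40 * t57 + 2 * t38 * t39 * t42 * t56 + t38 * t39 * t57 + t60) * h2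
  · first | rfl | linear_combination (5 * t37 * t39 * t42 * t46 * t56 + 2 * t37 * t39 * t46 * t57 + t37 * t47 * t57 + t40 * t46 * t57 + t62) * h2
  · first | rfl | linear_combination (4 * t36 * t37 * t39 * t42 * t47 + 4 * t36 * t37 * t39 * t43 * t46 + 4 * t36 * t37 * t39 ^ 2 * t42 * t46 + t36 * t39 * t40 * t42 * t46 + t36 * t40 * t42 * t47 + t36 * t40 * t43 * t46 + 3 * t38 * t39 * t42 * t47 + 3 * t38 * t39 * t43 * t46 + 2 * t38 * t39 ^ 2 * t42 * t46 + t38 * t43 * t47 + 3 * t39 * t41 * t42 * t46 + t41 * t42 * t47 + t41 * t43 * t46 + t54) * h2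
  · first | rfl | linear_combination (10 * t36 * t37 * t39 * t42 * t46 * t56 + 4 * t36 * t37 * t39 * t46 * t57 + t36 * t40 * t46 * t57 + 7 * t38 * t39 * t42 * t46 * t56 + 3 * t38 * t39 * t46 * t57 + t38 * t47 * t57 + t63) * h2
  · first | rfl | linear_combination (5 * t37 * t39 * t42 * t47 * t56 + 2 * t37 * t39 ^ 2 * t42 * t46 * t56 + t37 * t43 * t47 * t56 + 7 * t39 * t40 * t42 * t46 * t56 + 2 * t39 * t42 * t48 * t56 + t39 * t48 * t57 + 3 * t40 * t42 * t47 * t56 + t43 * t48 * t56 + t64) * h2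
  · first | rfl | linear_combination (14 * t36 * t37 * t39 * t40 * t42 * t46 + 4 * t36 * t37 * t39 * t42 * t48 + 4 * t36 * t37 * t39 * t44 * t46 + 2 * t36 * t37 ^ 2 * t39 * t42 * t47 + 2 * t36 * t37 ^ 2 * t39 * t43 * t46 + 12 * t36 * t37 ^ 2 * t39 ^ 2 * t42 * t46 + t36 * t40 * t42 * t48 + t36 * t40 * t44 * t46 + t36 * t40 ^ 2 * t42 * t46 + t36 * t44 * t48 + t37 * t38 * t39 * t42 * t47 + t37 * t38 * t39 * t43 * t46 + 2 * t37 * t38 * t39 ^ 2 * t42 * t46 + 4 * t37 * t39 * t41 * t42 * t46 + t37 * t41 * t42 * t47 + t37 * t41 * t43 * t46 + 10 * t38 * t39 * t40 * t42 * t46 + 3 * t38 * t39 * t42 * t48 + 3 * t38 * t39 * t44 * t46 + t38 * t43 * t48 + t38 * t44 * t47 + t40 * t41 * t42 * t46 + t41 * t42 * t48 + t41 * t44 * t46 + t55) * h2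
  · first | rfl | linear_combination (8 * t36 * t37 * t39 * t42 * t47 * t56 + 2 * t36 * t37 * t39 * t43 * t46 * t56 + 4 * t36 * t37 * t39 * t46 * t58 + 8 * t36 * t37 * t39 ^ 2 * t42 * t46 * t56 + 2 * t36 * t37 * t39 ^ 2 * t46 * t57 + 3 * t36 * t39 * t40 * t42 * t46 * t56 + 2 * t36 * t40 * t42 * t47 * t56 + t36 * t40 * t46 * t58 + t36 * t48 * t58 + 6 * t38 * t39 * t42 * t47 * t56 + t38 * t39 * t43 * t46 * t56 + 3 * t38 * t39 * t46 * t58 + t38 * t39 * t47 * t57 + 5 * t38 * t39 ^ 2 * t42 * t46 * t56 + t38 * t39 ^ 2 * t46 * t57 + t38 * t43 * t47 * t56 + t38 * t47 * t58 + 6 * t39 * t41 * t42 * t46 * t56 + t39 * t41 * t46 * t57 + 3 * t41 * t42 * t47 * t56 + t41 * t43 * t46 * t56 + t41 * t46 * t58 + t41 * t47 * t57 + t65) * h2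
  · first | rfl | linear_combination (17 * t37 * t39 * t42 * t43 * t46 * t56 + 4 * t37 * t39 * t42 * t46 * t58 + 4 * t37 * t39 * t42 * t47 * t57 + 4 * t37 * t39 * t42 * t50 * t56 + 4 * t37 * t39 * t42 ^ 2 * t47 * t56 + 4 * t37 * t39 * t43 * t46 * t57 + 6 * t37 * t39 ^ 2 * t42 * t46 * t57 + 16 * t37 * t39 ^ 2 * t42 ^ 2 * t46 * t56 + 2 * t37 * t42 * t43 * t47 * t56 + t37 * t42 * t47 * t58 + t37 * t43 * t46 * t58 + 3 * t37 * t43 * t47 * t57 + t37 * t43 * t50 * t56 + t37 * t43 ^ 2 * t46 * t56 + t37 * t50 * t58 + 6 * t39 * t40 * t42 * t46 * t57 + 6 * t39 * t40 * t42 ^ 2 * t46 * t56 + 6 * t39 * t42 * t44 * t46 * t56 + t39 * t44 * t46 * t57 + 3 * t40 * t42 * t43 * t46 * t56 + t40 * t42 * t46 * t58 + 3 * t40 * t42 * t47 * t57 + 3 * t40 * t42 * t50 * t56 + 2 * t40 * t42 ^ 2 * t47 * t56 + 3 * t40 * t43 * t46 * t57 + t40 * t50 * t57 + 3 * t42 * t44 * t47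 * t56 + t42 * t48 * t58 + t43 * t44 * t46 * t56 + t44 * t46 * t58 + t44 * t47 * t57 + t44 * t50 * t56 + t67) * h2
  · first | rfl | linear_combination (28 * t36 * t37 * t39 * t40 * t42 * t46 * t56 + 4 * t36 * t37 * t39 * t40 * t46 * t57 + 12 * t36 * t37 * t39 * t42 * t48 * t56 + 4 * t36 * t37 * t39 * t48 * t57 + t36 * t37 * t40 * t47 * t57 + 5 * t36 * t37 ^ 2 * t39 * t42 * t47 * t56 + 2 * t36 * t37 ^ 2 * t39 * t47 * t57 + 18 * t36 * t37 ^ 2 * t39 ^ 2 * t42 * t46 * t56 + 4 * t36 * t37 ^ 2 * t39 ^ 2 * t46 * t57 + 3 * t36 * t40 * t42 * t48 * t56 + 2 * t36 * t40 * t48 * t57 + t36 * t40 ^ 2 * t42 * t46 * t56 + t36 * t40 ^ 2 * t46 * t57 + t36 * t44 * t48 * t56 + 4 * t37 * t38 * t39 * t42 * t47 * t56 + t37 * t38 * t39 * t47 * t57 + 11 * t37 * t38 * t39 ^ 2 * t42 * t46 * t56 + 2 * t37 * t38 * t39 ^ 2 * t46 * t57 + t37 * t38 * t43 * t47 * t56 + 12 * t37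 * t39 * t41 * t42 * t46 * t56 + 4 * t37 * t39 * t41 * t46 * t57 + 4 * t37 * t39 * t42 * t49 * t56 + t37 * t41 * t42 * t47 * t56 + t37 * t41 * t43 * t46 * t56 + 2 * t37 * t41 * t47 * t57 + t37 * t43 * t49 * t56 + t37 * t49 * t58 + 16 * t38 * t39 * t40 * t42 * t46 * t56 + t38 * t39 * t40 * t46 * t57 + 5 * t38 * t39 * t42 * t48 * t56 + 3 * t38 * t39 * t48 * t57 + 2 * t38 * t40 * t42 * t47 * t56 + t38 * t43 * t48 * t56 + 3 * t40 * t41 * t42 * t46 * t56 + 2 * t40 * t41 * t46 * t57 + 3 * t40 * t42 * t49 * t56 + t40 * t49 * t57 + t41 * t42 * t48 * t56 + t41 * t48 * t57 + t44 * t49 * t56 + t66) * h2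
  · first | rfl | linear_combination (29 * t36 * t37 * t39 * t42 * t43 * t46 * t56 + 8 * t36 * t37 * t39 * t42 * t46 * t58 + 10 * t36 * t37 * t39 * t42 * t47 * t57 + 10 * t36 * t37 * t39 * t42 * t50 * t56 + 9 * t36 * t37 * t39 * t42 ^ 2 * t47 * t56 + 10 * t36 * t37 * t39 * t43 * t46 * t57 + 4 * t36 * t37 * t39 * t50 * t57 + 18 * t36 * t37 * t39 ^ 2 * t42 * t46 * t57 + 35 * t36 * t37 * t39 ^ 2 * t42 ^ 2 * t46 * t56 + 3 * t36 * t39 * t40 * t42 ^ 2 * t46 * t56 + 3 * t36 * t39 * t42 * t44 * t46 * t56 + 2 * t36 * t40 * t42 * t43 * t46 * t56 + t36 * t40 * t42 * t46 * t58 + 3 * t36 * t40 * t42 * t47 * t57 + t36 * t40 * t42 * t50 * t56 + t36 * t40 * t42 ^ 2 * t47 * t56 + 3 * t36 * t40 * t43 * t46 * t57 + 2 * t36 * t40 * t50 * t57 + t36 * t42 * t44 * t47 * t56 + t36 * t42 * t48 * t58 + t36 * t43 * t44 * t46 * t56 + t36 * t44 * t46 * t58 + t36 * t44 * t47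 * t57 + t36 * t44 * t50 * t56 + 24 * t38 * t39 * t42 * t43 * t46 * t56 + 7 * t38 * t39 * t42 * t46 * t58 + 7 * t38 * t39 * t42 * t47 * t57 + 5 * t38 * t39 * t42 * t50 * t56 + 5 * t38 * t39 * t42 ^ 2 * t47 * t56 + 8 * t38 * t39 * t43 * t46 * t57 + 3 * t38 * t39 * t50 * t57 + 5 * t38 * t39 ^ 2 * t42 * t46 * t57 + 10 * t38 * t39 ^ 2 * t42 ^ 2 * t46 * t56 + 2 * t38 * t42 * t43 * t47 * t56 + t38 * t42 * t47 * t58 + t38 * t43 * t46 * t58 + 3 * t38 * t43 * t47 * t57 + t38 * t43 * t50 * t56 + t38 * t43 ^ 2 * t46 * t56 + t38 * t50 * t58 + 3 * t39 * t41 * t42 ^ 2 * t46 * t56 + 6 * t39 * t42 * t45 * t46 * t56 + t39 * t45 * t46 * t57 + t41 * t42 * t43 * t46 * t56 + t41 * t42 * t46 * t58 + t41 * t42 * t47 * t57 + t41 * t42 * t50 * t56 + t41 * t42 ^ 2 * t47 * t56 + t41 * t50 * t57 + 3 * t42 * t45 * t47 * t56 + t43 * t45 * t46 * t56 + t45 * t46 * t58 + t45 *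 t47 * t57 + t45 * t50 * t56 + t68) * h2
  · first | rfl | linear_combination (28 * t36 * t37 * t39 * t40 * t42 * t46 * t57 + 40 * t36 * t37 * t39 * t40 * t42 ^ 2 * t46 * t56 + 34 * t36 * t37 * t39 * t42 * t44 * t46 * t56 + 8 * t36 * t37 * t39 * t42 * t46 * t59 + 2 * t36 * t37 * t39 * t42 * t48 * t57 + 10 * t36 * t37 * t39 * t42 * t51 * t56 + 5 * t36 * t37 * t39 * t42 ^ 2 * t48 * t56 + 12 * t36 * t37 * t39 * t44 * t46 * t57 + 4 * t36 * t37 * t39 * t51 * t57 + t36 * t37 * t40 * t42 * t43 * t46 * t56 + t36 * t37 * t40 * t42 * t47 * t57 + 2 * t36 * t37 * t40 * t43 * t46 * t57 + t36 * t37 * t40 * t50 * t57 + t36 * t37 * t44 * t47 * t57 + 19 * t36 * t37 ^ 2 * t39 * t42 * t43 * t46 * t56 + 4 * t36 * t37 ^ 2 * t39 * t42 * t46 * t58 + 2 * t36 * t37 ^ 2 * t39 * t42 * t47 * t57 + 5 * t36 * t37 ^ 2 * t39 * t42 * t50 * t56 + 5 * t36 * t37 ^ 2 * t39 * t42 ^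 2 * t47 * t56 + 6 * t36 * t37 ^ 2 * t39 * t43 * t46 * t57 + 2 * t36 * t37 ^ 2 * t39 * t50 * t57 + 24 * t36 * t37 ^ 2 * t39 ^ 2 * t42 * t46 * t57 + 60 * t36 * t37 ^ 2 * t39 ^ 2 * t42 ^ 2 * t46 * t56 + 2 * t36 * t40 * t42 * t44 * t46 * t56 + t36 * t40 * t42 * t46 * t59 + t36 * t40 * t42 * t48 * t57 + t36 * t40 * t42 * t51 * t56 + 4 * t36 * t40 * t44 * t46 * t57 + 2 * t36 * t40 * t51 * t57 + 2 * t36 * t40 ^ 2 * t42 * t46 * t57 + t36 * t42 * t44 * t48 * t56 + t36 * t42 * t48 * t59 + t36 * t44 * t46 * t59 + t36 * t44 * t51 * t56 + t36 * t44 ^ 2 * t46 * t56 + t36 * t51 * t59 + 18 * t37 * t38 * t39 * t42 * t43 * t46 * t56 + 3 * t37 * t38 * t39 * t42 * t46 * t58 + t37 * t38 * t39 * t42 * t47 * t57 + 2 * t37 * t38 * t39 * t42 * t50 * t56 + 2 * t37 * t38 * t39 * t42 ^ 2 * t47 * t56 + 6 * t37 * t38 * t39 * t43 * t46 * t57 + 2 * t37 * t38 * t39 * t50 * t57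 + 6 * t37 * t38 * t39 ^ 2 * t42 * t46 * t57 + 15 * t37 * t38 * t39 ^ 2 * t42 ^ 2 * t46 * t56 + 2 * t37 * t39 * t41 * t42 * t46 * t57 + 5 * t37 * t39 * t41 * t42 ^ 2 * t46 * t56 + 10 * t37 * t39 * t42 * t45 * t46 * t56 + 4 * t37 * t39 * t45 * t46 * t57 + t37 * t41 * t42 * t47 * t57 + t37 * t42 * t45 * t47 * t56 + t37 * t43 * t45 * t46 * t56 + t37 * t45 * t46 * t58 + 2 * t37 * t45 * t47 * t57 + t37 * t45 * t50 * t56 + 21 * t38 * t39 * t40 * t42 * t46 * t57 + 25 * t38 * t39 * t40 * t42 ^ 2 * t46 * t56 + 21 * t38 * t39 * t42 * t44 * t46 * t56 + 7 * t38 * t39 * t42 * t46 * t59 + t38 * t39 * t42 * t48 * t57 + 5 * t38 * t39 * t42 * t51 * t56 + 2 * t38 * t39 * t42 ^ 2 * t48 * t56 + 8 * t38 * t39 * t44 * t46 * t57 + 3 * t38 * t39 * t51 * t57 + t38 * t40 * t42 * t47 * t57 + 2 * t38 * t40 * t43 * t46 * t57 + t38 * t42 * t44 * t47 * t56 + t38 * t42 * t47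 * t59 + 2 * t38 * t43 * t44 * t46 * t56 + t38 * t43 * t46 * t59 + t38 * t43 * t51 * t56 + 2 * t38 * t44 * t47 * t57 + t38 * t50 * t59 + t38 * t51 * t58 + t40 * t41 * t42 * t46 * t57 + t40 * t42 * t45 * t46 * t56 + 2 * t40 * t45 * t46 * t57 + 2 * t41 * t42 * t44 * t46 * t56 + t41 * t42 * t46 * t59 + t41 * t42 * t51 * t56 + t41 * t44 * t46 * t57 + t41 * t51 * t57 + t42 * t45 * t48 * t56 + t42 * t49 * t59 + t44 * t45 * t46 * t56 + t45 * t46 * t59 + t45 * t48 * t57 + t45 * t51 * t56 + t69) * h2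
  · first | rfl | linear_combination (87 * t36 * t37 * t39 * t40 * t42 * t43 * t46 * t56 + 29 * t36 * t37 * t39 * t40 * t42 * t46 * t58 + 14 * t36 * t37 * t39 * t40 * t42 * t47 * t57 + 5 * t36 * t37 * t39 * t40 * t42 * t50 * t56 + 42 * t36 * t37 * t39 * t40 * t42 ^ 2 * t47 * t56 + 14 * t36 * t37 * t39 * t40 * t43 * t46 * t57 + 3 * t36 * t37 * t39 * t40 * t50 * t57 + 9 * t36 * t37 * t39 * t42 * t43 * t48 * t56 + 30 * t36 * t37 * t39 * t42 * t44 * t47 * t56 + 8 * t36 * t37 * t39 * t42 * t47 * t59 + 8 * t36 * t37 * t39 * t42 * t48 * t58 + 10 * t36 * t37 * t39 * t42 * t53 * t56 + 8 * t36 * t37 * t39 * t43 * t44 * t46 * t56 + 8 * t36 * t37 * t39 * t43 * t46 * t59 + 2 * t36 * t37 * t39 * t43 * t48 * t57 + 8 * t36 * t37 * t39 * t44 * t46 * t58 + 2 * t36 * t37 * t39 * t44 * t47 * t57 + 4 * t36 * t37 * t39 * t53 * t57 + 34 * t36 * t37 * t39 ^ 2 * t40 *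 t42 * t46 * t57 + 98 * t36 * t37 * t39 ^ 2 * t40 * t42 ^ 2 * t46 * t56 + 22 * t36 * t37 * t39 ^ 2 * t42 * t44 * t46 * t56 + 8 * t36 * t37 * t39 ^ 2 * t42 * t46 * t59 + 4 * t36 * t37 * t39 ^ 2 * t42 * t48 * t57 + 5 * t36 * t37 * t39 ^ 2 * t42 * t51 * t56 + 8 * t36 * t37 * t39 ^ 2 * t42 ^ 2 * t48 * t56 + 4 * t36 * t37 * t39 ^ 2 * t44 * t46 * t57 + 2 * t36 * t37 * t39 ^ 2 * t51 * t57 + 5 * t36 * t37 * t40 * t42 * t43 * t47 * t56 + 2 * t36 * t37 * t40 * t42 * t47 * t58 + 2 * t36 * t37 * t40 * t43 * t46 * t58 + 3 * t36 * t37 * t40 * t43 * t47 * t57 + t36 * t37 * t40 * t43 ^ 2 * t46 * t56 + t36 * t37 * t43 * t44 * t47 * t56 + 29 * t36 * t37 ^ 2 * t39 * t42 * t43 * t47 * t56 + 8 * t36 * t37 ^ 2 * t39 * t42 * t47 * t58 + 8 * t36 * t37 ^ 2 * t39 * t43 * t46 * t58 + 6 * t36 * t37 ^ 2 * t39 * t43 * t47 * t57 + 6 * t36 * t37 ^ 2 * t39 * t43 ^ 2 * t46 * t56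 + 76 * t36 * t37 ^ 2 * t39 ^ 2 * t42 * t43 * t46 * t56 + 28 * t36 * t37 ^ 2 * t39 ^ 2 * t42 * t46 * t58 + 10 * t36 * t37 ^ 2 * t39 ^ 2 * t42 * t47 * t57 + 5 * t36 * t37 ^ 2 * t39 ^ 2 * t42 * t50 * t56 + 56 * t36 * t37 ^ 2 * t39 ^ 2 * t42 ^ 2 * t47 * t56 + 10 * t36 * t37 ^ 2 * t39 ^ 2 * t43 * t46 * t57 + 2 * t36 * t37 ^ 2 * t39 ^ 2 * t50 * t57 + 20 * t36 * t37 ^ 2 * t39 ^ 3 * t42 * t46 * t57 + 76 * t36 * t37 ^ 2 * t39 ^ 3 * t42 ^ 2 * t46 * t56 + 14 * t36 * t39 * t40 * t42 * t44 * t46 * t56 + 3 * t36 * t39 * t40 * t42 * t46 * t59 + t36 * t39 * t40 * t42 * t48 * t57 + 2 * t36 * t39 * t40 * t42 ^ 2 * t48 * t56 + t36 * t39 * t40 * t44 * t46 * t57 + t36 * t39 * t40 * t51 * t57 + 8 * t36 * t39 * t40 ^ 2 * t42 * t46 * t57 + 17 * t36 * t39 * t40 ^ 2 * t42 ^ 2 * t46 * t56 + 2 * t36 * t39 * t42 * t44 * t48 * t56 + t36 * t39 * t44 * t48 * t57 + t36 * t39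 * t44 * t51 * t56 + t36 * t39 * t51 * t59 + 2 * t36 * t40 * t42 * t43 * t48 * t56 + 9 * t36 * t40 * t42 * t44 * t47 * t56 + 2 * t36 * t40 * t42 * t47 * t59 + 3 * t36 * t40 * t42 * t48 * t58 + t36 * t40 * t42 * t53 * t56 + 3 * t36 * t40 * t43 * t44 * t46 * t56 + 2 * t36 * t40 * t43 * t46 * t59 + t36 * t40 * t43 * t48 * t57 + 3 * t36 * t40 * t44 * t46 * t58 + t36 * t40 * t44 * t47 * t57 + 2 * t36 * t40 * t53 * t57 + 3 * t36 * t40 ^ 2 * t42 * t43 * t46 * t56 + 2 * t36 * t40 ^ 2 * t42 * t46 * t58 + 4 * t36 * t40 ^ 2 * t42 * t47 * t57 + 4 * t36 * t40 ^ 2 * t42 ^ 2 * t47 * t56 + 4 * t36 * t40 ^ 2 * t43 * t46 * t57 + t36 * t40 ^ 2 * t50 * t57 + t36 * t43 * t44 * t48 * t56 + t36 * t43 * t48 * t59 + t36 * t44 * t47 * t59 + 3 * t36 * t44 * t48 * t58 + t36 * t44 * t53 * t56 + t36 * t44 ^ 2 * t47 * t56 + t36 * t53 * t59 + 23 * t37 * t38 * t39 * t42 * t43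 * t47 * t56 + 6 * t37 * t38 * t39 * t42 * t47 * t58 + 6 * t37 * t38 * t39 * t43 * t46 * t58 + 3 * t37 * t38 * t39 * t43 * t47 * t57 + t37 * t38 * t39 * t43 * t50 * t56 + 4 * t37 * t38 * t39 * t43 ^ 2 * t46 * t56 + t37 * t38 * t39 * t50 * t58 + 21 * t37 * t38 * t39 ^ 2 * t42 * t43 * t46 * t56 + 6 * t37 * t38 * t39 ^ 2 * t42 * t46 * t58 + 5 * t37 * t38 * t39 ^ 2 * t42 * t47 * t57 + 2 * t37 * t38 * t39 ^ 2 * t42 * t50 * t56 + 17 * t37 * t38 * t39 ^ 2 * t42 ^ 2 * t47 * t56 + 5 * t37 * t38 * t39 ^ 2 * t43 * t46 * t57 + t37 * t38 * t39 ^ 2 * t50 * t57 + 6 * t37 * t38 * t39 ^ 3 * t42 * t46 * t57 + 16 * t37 * t38 * t39 ^ 3 * t42 ^ 2 * t46 * t56 + 2 * t37 * t38 * t43 * t47 * t58 + 2 * t37 * t38 * t43 ^ 2 * t47 * t56 + 33 * t37 * t39 * t41 * t42 * t43 * t46 * t56 + 11 * t37 * t39 * t41 * t42 * t46 * t58 + 9 * t37 * t39 * t41 * t42 * t47 * t57 + 9 * t37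 * t39 * t41 * t42 ^ 2 * t47 * t56 + 9 * t37 * t39 * t41 * t43 * t46 * t57 + t37 * t39 * t41 * t50 * t57 + 10 * t37 * t39 * t42 * t45 * t47 * t56 + t37 * t39 * t45 * t50 * t56 + 12 * t37 * t39 ^ 2 * t41 * t42 * t46 * t57 + 22 * t37 * t39 ^ 2 * t41 * t42 ^ 2 * t46 * t56 + 4 * t37 * t39 ^ 2 * t42 * t45 * t46 * t56 + 4 * t37 * t41 * t42 * t43 * t47 * t56 + 3 * t37 * t41 * t42 * t47 * t58 + 4 * t37 * t41 * t43 * t46 * t58 + 6 * t37 * t41 * t43 * t47 * t57 + t37 * t41 * t43 ^ 2 * t46 * t56 + t37 * t41 * t50 * t58 + 3 * t37 * t43 * t45 * t47 * t56 + t37 * t45 * t47 * t58 + 57 * t38 * t39 * t40 * t42 * t43 * t46 * t56 + 20 * t38 * t39 * t40 * t42 * t46 * t58 + 6 * t38 * t39 * t40 * t42 * t47 * t57 + 2 * t38 * t39 * t40 * t42 * t50 * t56 + 22 * t38 * t39 * t40 * t42 ^ 2 * t47 * t56 + 7 * t38 * t39 * t40 * t43 * t46 * t57 + t38 * t39 * t40 * t50 * t57 +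 7 * t38 * t39 * t42 * t43 * t48 * t56 + 17 * t38 * t39 * t42 * t44 * t47 * t56 + 6 * t38 * t39 * t42 * t47 * t59 + 6 * t38 * t39 * t42 * t48 * t58 + 5 * t38 * t39 * t42 * t53 * t56 + 6 * t38 * t39 * t43 * t44 * t46 * t56 + 6 * t38 * t39 * t43 * t46 * t59 + 2 * t38 * t39 * t43 * t48 * t57 + t38 * t39 * t43 * t51 * t56 + 6 * t38 * t39 * t44 * t46 * t58 + 3 * t38 * t39 * t44 * t47 * t57 + t38 * t39 * t51 * t58 + 3 * t38 * t39 * t53 * t57 + 18 * t38 * t39 ^ 2 * t40 * t42 * t46 * t57 + 36 * t38 * t39 ^ 2 * t40 * t42 ^ 2 * t46 * t56 + 12 * t38 * t39 ^ 2 * t42 * t44 * t46 * t56 + 5 * t38 * t39 ^ 2 * t42 * t46 * t59 + 3 * t38 * t39 ^ 2 * t42 * t48 * t57 + 2 * t38 * t39 ^ 2 * t42 * t51 * t56 + 6 * t38 * t39 ^ 2 * t42 ^ 2 * t48 * t56 + 3 * t38 * t39 ^ 2 * t44 * t46 * t57 + t38 * t39 ^ 2 * t51 * t57 + 4 * t38 * t40 * t42 * t43 * t47 * t56 + t38 * t40 * t42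 * t47 * t58 + t38 * t40 * t43 * t46 * t58 + t38 * t40 * t43 * t47 * t57 + t38 * t40 * t43 * t50 * t56 + t38 * t40 * t43 ^ 2 * t46 * t56 + t38 * t40 * t50 * t58 + 4 * t38 * t43 * t44 * t47 * t56 + 3 * t38 * t43 * t47 * t59 + 2 * t38 * t43 * t48 * t58 + t38 * t43 * t53 * t56 + t38 * t43 ^ 2 * t48 * t56 + 2 * t38 * t44 * t47 * t58 + t38 * t53 * t58 + 16 * t39 * t40 * t41 * t42 * t46 * t57 + 28 * t39 * t40 * t41 * t42 ^ 2 * t46 * t56 + 14 * t39 * t40 * t42 * t45 * t46 * t56 + t39 * t40 * t45 * t46 * t57 + 15 * t39 * t41 * t42 * t44 * t46 * t56 + 6 * t39 * t41 * t42 * t46 * t59 + t39 * t41 * t42 * t48 * t57 + 2 * t39 * t41 * t42 ^ 2 * t48 * t56 + 2 * t39 * t41 * t44 * t46 * t57 + t39 * t41 * t51 * t57 + 4 * t39 * t42 * t45 * t48 * t56 + 2 * t39 * t45 * t48 * t57 + t39 * t45 * t51 * t56 + 4 * t40 * t41 * t42 * t43 * t46 * t56 + 3 * t40 * t41 * t42 *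 t46 * t58 + 7 * t40 * t41 * t42 * t47 * t57 + 5 * t40 * t41 * t42 ^ 2 * t47 * t56 + 7 * t40 * t41 * t43 * t46 * t57 + t40 * t41 * t50 * t57 + 7 * t40 * t42 * t45 * t47 * t56 + t40 * t43 * t45 * t46 * t56 + t40 * t45 * t46 * t58 + t40 * t45 * t47 * t57 + t40 * t45 * t50 * t56 + 2 * t41 * t42 * t43 * t48 * t56 + 9 * t41 * t42 * t44 * t47 * t56 + 3 * t41 * t42 * t47 * t59 + 3 * t41 * t42 * t48 * t58 + t41 * t42 * t53 * t56 + 4 * t41 * t43 * t44 * t46 * t56 + 3 * t41 * t43 * t46 * t59 + t41 * t43 * t48 * t57 + 3 * t41 * t44 * t46 * t58 + 3 * t41 * t44 * t47 * t57 + t41 * t50 * t59 + t41 * t53 * t57 + 2 * t43 * t45 * t48 * t56 + t43 * t49 * t59 + t44 * t45 * t47 * t56 + t45 * t47 * t59 + t45 * t48 * t58 + t45 * t53 * t56 + t70) * h2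
  · first | rfl | linear_combination (117 * t36 * t37 * t39 * t40 * t42 * t43 * t46 ^ 2 * t56 + 54 * t36 * t37 * t39 * t40 * t42 * t46 * t47 * t57 + 85 * t36 * t37 * t39 * t40 * t42 * t46 * t50 * t56 + 29 * t36 * t37 * t39 * t40 * t42 * t46 * t61 + 23 * t36 * t37 * t39 * t40 * t42 * t46 ^ 2 * t58 + 127 * t36 * t37 * t39 * t40 * t42 ^ 2 * t46 * t47 * t56 + 37 * t36 * t37 * t39 * t40 * t43 * t46 ^ 2 * t57 + 13 * t36 * t37 * t39 * t40 * t46 * t50 * t57 + 87 * t36 * t37 * t39 * t42 * t43 * t46 * t48 * t56 + 39 * t36 * t37 * t39 * t42 * t44 * t46 * t47 * t56 + 4 * t36 * t37 * t39 * t42 * t46 * t47 * t59 + 12 * t36 * t37 * t39 * t42 * t46 * t48 * t58 + 20 * t36 * t37 * t39 * t42 * t46 * t53 * t56 + 32 * t36 * t37 * t39 * t42 * t47 * t48 * t57 + 25 * t36 * t37 * t39 * t42 * t47 * t51 * t56 + 8 * t36 * t37 * t39 * t42 * t47 * t62 + 28 * t36 * t37 * t39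 * t42 * t48 * t50 * t56 + 8 * t36 * t37 * t39 * t42 * t48 * t61 + 51 * t36 * t37 * t39 * t42 ^ 2 * t47 * t48 * t56 + 10 * t36 * t37 * t39 * t43 * t44 * t46 ^ 2 * t56 + 32 * t36 * t37 * t39 * t43 * t46 * t48 * t57 + 8 * t36 * t37 * t39 * t43 * t46 * t51 * t56 + 8 * t36 * t37 * t39 * t43 * t46 * t62 + 4 * t36 * t37 * t39 * t43 * t46 ^ 2 * t59 + 8 * t36 * t37 * t39 * t44 * t46 * t47 * t57 + 4 * t36 * t37 * t39 * t44 * t46 * t50 * t56 + 8 * t36 * t37 * t39 * t44 * t46 * t61 + 8 * t36 * t37 * t39 * t44 * t46 ^ 2 * t58 + 8 * t36 * t37 * t39 * t46 * t51 * t58 + 8 * t36 * t37 * t39 * t46 * t53 * t57 + 8 * t36 * t37 * t39 * t48 * t50 * t57 + 74 * t36 * t37 * t39 ^ 2 * t40 * t42 * t46 ^ 2 * t57 + 264 * t36 * t37 * t39 ^ 2 * t40 * t42 ^ 2 * t46 ^ 2 * t56 + 38 * t36 * t37 * t39 ^ 2 * t42 * t44 * t46 ^ 2 * t56 + 44 * t36 * t37 * t39 ^ 2 * t42 * t46 * t48 *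 t57 + 32 * t36 * t37 * t39 ^ 2 * t42 * t46 * t51 * t56 + 8 * t36 * t37 * t39 ^ 2 * t42 * t46 * t62 + 4 * t36 * t37 * t39 ^ 2 * t42 * t46 ^ 2 * t59 + 108 * t36 * t37 * t39 ^ 2 * t42 ^ 2 * t46 * t48 * t56 + 6 * t36 * t37 * t39 ^ 2 * t44 * t46 ^ 2 * t57 + 8 * t36 * t37 * t39 ^ 2 * t46 * t51 * t57 + 9 * t36 * t37 * t40 * t42 * t43 * t46 * t47 * t56 + 2 * t36 * t37 * t40 * t42 * t46 * t47 * t58 + 4 * t36 * t37 * t40 * t42 * t47 * t50 * t56 + 2 * t36 * t37 * t40 * t42 * t47 * t61 + 5 * t36 * t37 * t40 * t42 * t47 ^ 2 * t57 + 4 * t36 * t37 * t40 * t42 ^ 2 * t47 ^ 2 * t56 + 8 * t36 * t37 * t40 * t43 * t46 * t47 * t57 + 2 * t36 * t37 * t40 * t43 * t46 * t50 * t56 + 2 * t36 * t37 * t40 * t43 * t46 * t61 + 2 * t36 * t37 * t40 * t43 * t46 ^ 2 * t58 + 2 * t36 * t37 * t40 * t43 ^ 2 * t46 ^ 2 * t56 + t36 * t37 * t40 * t46 * t50 * t58 + 2 * t36 * t37 * t40 *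 t47 * t50 * t57 + 3 * t36 * t37 * t42 * t43 * t47 * t48 * t56 + t36 * t37 * t42 * t47 * t48 * t58 + t36 * t37 * t43 * t44 * t46 * t47 * t56 + t36 * t37 * t43 * t46 * t48 * t58 + 3 * t36 * t37 * t43 * t47 * t48 * t57 + t36 * t37 * t43 * t47 * t51 * t56 + t36 * t37 * t43 * t48 * t50 * t56 + t36 * t37 * t43 ^ 2 * t46 * t48 * t56 + t36 * t37 * t44 * t47 * t50 * t56 + t36 * t37 * t48 * t50 * t58 + 81 * t36 * t37 ^ 2 * t39 * t42 * t43 * t46 * t47 * t56 + 10 * t36 * t37 ^ 2 * t39 * t42 * t46 * t47 * t58 + 24 * t36 * t37 ^ 2 * t39 * t42 * t47 * t50 * t56 + 8 * t36 * t37 ^ 2 * t39 * t42 * t47 * t61 + 20 * t36 * t37 ^ 2 * t39 * t42 * t47 ^ 2 * t57 + 27 * t36 * t37 ^ 2 * t39 * t42 ^ 2 * t47 ^ 2 * t56 + 32 * t36 * t37 ^ 2 * t39 * t43 * t46 * t47 * t57 + 8 * t36 * t37 ^ 2 * t39 * t43 * t46 * t50 * t56 + 8 * t36 * t37 ^ 2 * t39 * t43 * t46 * t61 + 10 * t36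 * t37 ^ 2 * t39 * t43 * t46 ^ 2 * t58 + 8 * t36 * t37 ^ 2 * t39 * t43 ^ 2 * t46 ^ 2 * t56 + 4 * t36 * t37 ^ 2 * t39 * t46 * t50 * t58 + 4 * t36 * t37 ^ 2 * t39 * t47 * t50 * t57 + 182 * t36 * t37 ^ 2 * t39 ^ 2 * t42 * t43 * t46 ^ 2 * t56 + 90 * t36 * t37 ^ 2 * t39 ^ 2 * t42 * t46 * t47 * t57 + 70 * t36 * t37 ^ 2 * t39 ^ 2 * t42 * t46 * t50 * t56 + 28 * t36 * t37 ^ 2 * t39 ^ 2 * t42 * t46 * t61 + 32 * t36 * t37 ^ 2 * t39 ^ 2 * t42 * t46 ^ 2 * t58 + 225 * t36 * t37 ^ 2 * t39 ^ 2 * t42 ^ 2 * t46 * t47 * t56 + 56 * t36 * t37 ^ 2 * t39 ^ 2 * t43 * t46 ^ 2 * t57 + 14 * t36 * t37 ^ 2 * t39 ^ 2 * t46 * t50 * t57 + 80 * t36 * t37 ^ 2 * t39 ^ 3 * t42 * t46 ^ 2 * t57 + 262 * t36 * t37 ^ 2 * t39 ^ 3 * t42 ^ 2 * t46 ^ 2 * t56 + 17 * t36 * t39 * t40 * t42 * t44 * t46 ^ 2 * t56 + 10 * t36 * t39 * t40 * t42 * t46 * t48 * t57 + 15 * t36 * t39 * t40 * t42 * t46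 * t51 * t56 + 3 * t36 * t39 * t40 * t42 * t46 * t62 + t36 * t39 * t40 * t42 * t46 ^ 2 * t59 + 19 * t36 * t39 * t40 * t42 ^ 2 * t46 * t48 * t56 + 2 * t36 * t39 * t40 * t44 * t46 ^ 2 * t57 + 2 * t36 * t39 * t40 * t46 * t51 * t57 + 10 * t36 * t39 * t40 ^ 2 * t42 * t46 ^ 2 * t57 + 17 * t36 * t39 * t40 ^ 2 * t42 ^ 2 * t46 ^ 2 * t56 + 8 * t36 * t39 * t42 * t44 * t46 * t48 * t56 + 2 * t36 * t39 * t42 * t48 * t51 * t56 + t36 * t39 * t42 * t48 ^ 2 * t57 + 2 * t36 * t39 * t42 ^ 2 * t48 ^ 2 * t56 + 2 * t36 * t39 * t44 * t46 * t48 * t57 + 2 * t36 * t39 * t48 * t51 * t57 + t36 * t39 * t51 * t62 + t36 * t39 * t51 ^ 2 * t56 + 9 * t36 * t40 * t42 * t43 * t46 * t48 * t56 + 10 * t36 * t40 * t42 * t44 * t46 * t47 * t56 + t36 * t40 * t42 * t46 * t47 * t59 + 3 * t36 * t40 * t42 * t46 * t48 * t58 + t36 * t40 * t42 * t46 * t53 * t56 + 11 * t36 * t40 * t42 * t47 * t48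 * t57 + 8 * t36 * t40 * t42 * t47 * t51 * t56 + 2 * t36 * t40 * t42 * t47 * t62 + 8 * t36 * t40 * t42 * t48 * t50 * t56 + 3 * t36 * t40 * t42 * t48 * t61 + 11 * t36 * t40 * t42 ^ 2 * t47 * t48 * t56 + 3 * t36 * t40 * t43 * t44 * t46 ^ 2 * t56 + 11 * t36 * t40 * t43 * t46 * t48 * t57 + 2 * t36 * t40 * t43 * t46 * t51 * t56 + 2 * t36 * t40 * t43 * t46 * t62 + t36 * t40 * t43 * t46 ^ 2 * t59 + 2 * t36 * t40 * t44 * t46 * t47 * t57 + 3 * t36 * t40 * t44 * t46 * t50 * t56 + 3 * t36 * t40 * t44 * t46 * t61 + 2 * t36 * t40 * t44 * t46 ^ 2 * t58 + 2 * t36 * t40 * t46 * t51 * t58 + 2 * t36 * t40 * t46 * t53 * t57 + 5 * t36 * t40 * t48 * t50 * t57 + t36 * t40 * t50 * t51 * t56 + t36 * t40 * t51 * t61 + 4 * t36 * t40 ^ 2 * t42 * t43 * t46 ^ 2 * t56 + 5 * t36 * t40 ^ 2 * t42 * t46 * t47 * t57 + 4 * t36 * t40 ^ 2 * t42 * t46 * t50 * t56 + 2 * t36 * t40 ^ 2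 * t42 * t46 * t61 + 2 * t36 * t40 ^ 2 * t42 * t46 ^ 2 * t58 + 8 * t36 * t40 ^ 2 * t42 ^ 2 * t46 * t47 * t56 + 4 * t36 * t40 ^ 2 * t43 * t46 ^ 2 * t57 + 3 * t36 * t40 ^ 2 * t46 * t50 * t57 + 2 * t36 * t42 * t43 * t48 ^ 2 * t56 + 4 * t36 * t42 * t44 * t47 * t48 * t56 + t36 * t42 * t48 * t53 * t56 + t36 * t42 * t48 ^ 2 * t58 + 4 * t36 * t43 * t44 * t46 * t48 * t56 + t36 * t43 * t46 * t48 * t59 + 2 * t36 * t43 * t48 * t51 * t56 + t36 * t43 * t48 * t62 + t36 * t43 * t48 ^ 2 * t57 + 2 * t36 * t44 * t46 * t48 * t58 + t36 * t44 * t46 * t53 * t56 + 3 * t36 * t44 * t47 * t48 * t57 + 2 * t36 * t44 * t47 * t51 * t56 + t36 * t44 * t47 * t62 + 4 * t36 * t44 * t48 * t50 * t56 + 3 * t36 * t44 * t48 * t61 + t36 * t46 * t53 * t59 + 2 * t36 * t48 * t51 * t58 + t36 * t48 * t53 * t57 + t36 * t51 * t53 * t56 + t36 * t53 * t62 + 81 * t37 * t38 * t39 * t42 * t43 * t46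 * t47 * t56 + 11 * t37 * t38 * t39 * t42 * t46 * t47 * t58 + 25 * t37 * t38 * t39 * t42 * t47 * t50 * t56 + 6 * t37 * t38 * t39 * t42 * t47 * t61 + 19 * t37 * t38 * t39 * t42 * t47 ^ 2 * t57 + 26 * t37 * t38 * t39 * t42 ^ 2 * t47 ^ 2 * t56 + 28 * t37 * t38 * t39 * t43 * t46 * t47 * t57 + 6 * t37 * t38 * t39 * t43 * t46 * t50 * t56 + 6 * t37 * t38 * t39 * t43 * t46 * t61 + 7 * t37 * t38 * t39 * t43 * t46 ^ 2 * t58 + 6 * t37 * t38 * t39 * t43 ^ 2 * t46 ^ 2 * t56 + 3 * t37 * t38 * t39 * t46 * t50 * t58 + 4 * t37 * t38 * t39 * t47 * t50 * t57 + t37 * t38 * t39 * t50 * t61 + t37 * t38 * t39 * t50 ^ 2 * t56 + 67 * t37 * t38 * t39 ^ 2 * t42 * t43 * t46 ^ 2 * t56 + 32 * t37 * t38 * t39 ^ 2 * t42 * t46 * t47 * t57 + 41 * t37 * t38 * t39 ^ 2 * t42 * t46 * t50 * t56 + 6 * t37 * t38 * t39 ^ 2 * t42 * t46 * t61 + 16 * t37 * t38 * t39 ^ 2 * t42 * t46 ^ 2 *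 t58 + 88 * t37 * t38 * t39 ^ 2 * t42 ^ 2 * t46 * t47 * t56 + 17 * t37 * t38 * t39 ^ 2 * t43 * t46 ^ 2 * t57 + 9 * t37 * t38 * t39 ^ 2 * t46 * t50 * t57 + 26 * t37 * t38 * t39 ^ 3 * t42 * t46 ^ 2 * t57 + 89 * t37 * t38 * t39 ^ 3 * t42 ^ 2 * t46 ^ 2 * t56 + 6 * t37 * t38 * t42 * t43 * t47 ^ 2 * t56 + t37 * t38 * t42 * t47 ^ 2 * t58 + 3 * t37 * t38 * t43 * t46 * t47 * t58 + 6 * t37 * t38 * t43 * t47 * t50 * t56 + 2 * t37 * t38 * t43 * t47 * t61 + 7 * t37 * t38 * t43 * t47 ^ 2 * t57 + 3 * t37 * t38 * t43 ^ 2 * t46 * t47 * t56 + t37 * t38 * t47 * t50 * t58 + 40 * t37 * t39 * t41 * t42 * t43 * t46 ^ 2 * t56 + 19 * t37 * t39 * t41 * t42 * t46 * t47 * t57 + 37 * t37 * t39 * t41 * t42 * t46 * t50 * t56 + 11 * t37 * t39 * t41 * t42 * t46 * t61 + 11 * t37 * t39 * t41 * t42 * t46 ^ 2 * t58 + 40 * t37 * t39 * t41 * t42 ^ 2 * t46 * t47 * t56 + 9 * t37 * t39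 * t41 * t43 * t46 ^ 2 * t57 + 9 * t37 * t39 * t41 * t46 * t50 * t57 + 34 * t37 * t39 * t42 * t43 * t46 * t49 * t56 + 5 * t37 * t39 * t42 * t45 * t46 * t47 * t56 + 8 * t37 * t39 * t42 * t46 * t49 * t58 + 9 * t37 * t39 * t42 * t47 * t49 * t57 + 10 * t37 * t39 * t42 * t47 * t52 * t56 + 8 * t37 * t39 * t42 * t49 * t50 * t56 + 13 * t37 * t39 * t42 ^ 2 * t47 * t49 * t56 + 9 * t37 * t39 * t43 * t46 * t49 * t57 + t37 * t39 * t49 * t50 * t57 + t37 * t39 * t50 * t52 * t56 + t37 * t39 * t52 * t61 + 22 * t37 * t39 ^ 2 * t41 * t42 * t46 ^ 2 * t57 + 72 * t37 * t39 ^ 2 * t41 * t42 ^ 2 * t46 ^ 2 * t56 + 2 * t37 * t39 ^ 2 * t42 * t45 * t46 ^ 2 * t56 + 12 * t37 * t39 ^ 2 * t42 * t46 * t49 * t57 + 4 * t37 * t39 ^ 2 * t42 * t46 * t52 * t56 + 34 * t37 * t39 ^ 2 * t42 ^ 2 * t46 * t49 * t56 + 9 * t37 * t41 * t42 * t43 * t46 * t47 * t56 + 3 * t37 * t41 * t42 * t46 *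 t47 * t58 + 8 * t37 * t41 * t42 * t47 * t50 * t56 + 3 * t37 * t41 * t42 * t47 * t61 + 3 * t37 * t41 * t42 * t47 ^ 2 * t57 + 2 * t37 * t41 * t42 ^ 2 * t47 ^ 2 * t56 + 6 * t37 * t41 * t43 * t46 * t47 * t57 + 6 * t37 * t41 * t43 * t46 * t50 * t56 + 3 * t37 * t41 * t43 * t46 * t61 + 3 * t37 * t41 * t43 * t46 ^ 2 * t58 + t37 * t41 * t43 ^ 2 * t46 ^ 2 * t56 + 2 * t37 * t41 * t46 * t50 * t58 + 5 * t37 * t41 * t47 * t50 * t57 + 2 * t37 * t41 * t50 * t61 + 5 * t37 * t42 * t43 * t47 * t49 * t56 + 2 * t37 * t42 * t47 * t49 * t58 + t37 * t43 * t45 * t46 * t47 * t56 + 3 * t37 * t43 * t46 * t49 * t58 + 6 * t37 * t43 * t47 * t49 * t57 + 3 * t37 * t43 * t47 * t52 * t56 + 3 * t37 * t43 * t49 * t50 * t56 + t37 * t43 * t49 * t61 + 2 * t37 * t43 ^ 2 * t46 * t49 * t56 + t37 * t47 * t52 * t58 + 3 * t37 * t49 * t50 * t58 + 75 * t38 * t39 * t40 * t42 * t43 * t46 ^ 2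 * t56 + 39 * t38 * t39 * t40 * t42 * t46 * t47 * t57 + 57 * t38 * t39 * t40 * t42 * t46 * t50 * t56 + 20 * t38 * t39 * t40 * t42 * t46 * t61 + 13 * t38 * t39 * t40 * t42 * t46 ^ 2 * t58 + 92 * t38 * t39 * t40 * t42 ^ 2 * t46 * t47 * t56 + 22 * t38 * t39 * t40 * t43 * t46 ^ 2 * t57 + 7 * t38 * t39 * t40 * t46 * t50 * t57 + 52 * t38 * t39 * t42 * t43 * t46 * t48 * t56 + 31 * t38 * t39 * t42 * t44 * t46 * t47 * t56 + 3 * t38 * t39 * t42 * t46 * t47 * t59 + 6 * t38 * t39 * t42 * t46 * t48 * t58 + 15 * t38 * t39 * t42 * t46 * t53 * t56 + 21 * t38 * t39 * t42 * t47 * t48 * t57 + 15 * t38 * t39 * t42 * t47 * t51 * t56 + 6 * t38 * t39 * t42 * t47 * t62 + 15 * t38 * t39 * t42 * t48 * t50 * t56 + 6 * t38 * t39 * t42 * t48 * t61 + 27 * t38 * t39 * t42 ^ 2 * t47 * t48 * t56 + 7 * t38 * t39 * t43 * t44 * t46 ^ 2 * t56 + 22 * t38 * t39 * t43 * t46 * t48 * t57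 + 6 * t38 * t39 * t43 * t46 * t51 * t56 + 6 * t38 * t39 * t43 * t46 * t62 + 3 * t38 * t39 * t43 * t46 ^ 2 * t59 + 8 * t38 * t39 * t44 * t46 * t47 * t57 + 3 * t38 * t39 * t44 * t46 * t50 * t56 + 6 * t38 * t39 * t44 * t46 * t61 + 6 * t38 * t39 * t44 * t46 ^ 2 * t58 + 6 * t38 * t39 * t46 * t51 * t58 + 7 * t38 * t39 * t46 * t53 * t57 + 3 * t38 * t39 * t47 * t51 * t57 + 7 * t38 * t39 * t48 * t50 * t57 + t38 * t39 * t50 * t51 * t56 + t38 * t39 * t51 * t61 + 36 * t38 * t39 ^ 2 * t40 * t42 * t46 ^ 2 * t57 + 95 * t38 * t39 ^ 2 * t40 * t42 ^ 2 * t46 ^ 2 * t56 + 25 * t38 * t39 ^ 2 * t42 * t44 * t46 ^ 2 * t56 + 11 * t38 * t39 ^ 2 * t42 * t46 * t48 * t57 + 20 * t38 * t39 ^ 2 * t42 * t46 * t51 * t56 + 5 * t38 * t39 ^ 2 * t42 * t46 * t62 + 2 * t38 * t39 ^ 2 * t42 * t46 ^ 2 * t59 + 31 * t38 * t39 ^ 2 * t42 ^ 2 * t46 * t48 * t56 + 4 * t38 * t39 ^ 2 * t44 * t46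 ^ 2 * t57 + 6 * t38 * t39 ^ 2 * t46 * t51 * t57 + 8 * t38 * t40 * t42 * t43 * t46 * t47 * t56 + t38 * t40 * t42 * t46 * t47 * t58 + 8 * t38 * t40 * t42 * t47 * t50 * t56 + t38 * t40 * t42 * t47 * t61 + 3 * t38 * t40 * t42 * t47 ^ 2 * t57 + 6 * t38 * t40 * t42 ^ 2 * t47 ^ 2 * t56 + 3 * t38 * t40 * t43 * t46 * t47 * t57 + 2 * t38 * t40 * t43 * t46 * t50 * t56 + t38 * t40 * t43 * t46 * t61 + t38 * t40 * t46 * t50 * t58 + t38 * t40 * t47 * t50 * t57 + t38 * t40 * t50 * t61 + t38 * t40 * t50 ^ 2 * t56 + 7 * t38 * t42 * t43 * t47 * t48 * t56 + 3 * t38 * t42 * t44 * t47 ^ 2 * t56 + t38 * t42 * t47 * t48 * t58 + t38 * t42 * t47 * t53 * t56 + 4 * t38 * t43 * t44 * t46 * t47 * t56 + t38 * t43 * t46 * t47 * t59 + t38 * t43 * t46 * t48 * t58 + t38 * t43 * t46 * t53 * t56 + 9 * t38 * t43 * t47 * t48 * t57 + 3 * t38 * t43 * t47 * t51 * t56 + 3 * t38 * t43 *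 t47 * t62 + 4 * t38 * t43 * t48 * t50 * t56 + 2 * t38 * t43 * t48 * t61 + 2 * t38 * t43 ^ 2 * t46 * t48 * t56 + 2 * t38 * t44 * t46 * t47 * t58 + t38 * t44 * t47 * t50 * t56 + 2 * t38 * t44 * t47 * t61 + 2 * t38 * t44 * t47 ^ 2 * t57 + t38 * t46 * t53 * t58 + 3 * t38 * t47 * t51 * t58 + 2 * t38 * t47 * t53 * t57 + t38 * t50 * t53 * t56 + t38 * t53 * t61 + 14 * t39 * t40 * t41 * t42 * t46 ^ 2 * t57 + 22 * t39 * t40 * t41 * t42 ^ 2 * t46 ^ 2 * t56 + 7 * t39 * t40 * t42 * t45 * t46 ^ 2 * t56 + 13 * t39 * t40 * t42 * t46 * t49 * t57 + 14 * t39 * t40 * t42 * t46 * t52 * t56 + 19 * t39 * t40 * t42 ^ 2 * t46 * t49 * t56 + t39 * t40 * t46 * t52 * t57 + 15 * t39 * t41 * t42 * t44 * t46 ^ 2 * t56 + 5 * t39 * t41 * t42 * t46 * t48 * t57 + 15 * t39 * t41 * t42 * t46 * t51 * t56 + 6 * t39 * t41 * t42 * t46 * t62 + 3 * t39 * t41 * t42 * t46 ^ 2 * t59 + 11 *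 t39 * t41 * t42 ^ 2 * t46 * t48 * t56 + 2 * t39 * t41 * t44 * t46 ^ 2 * t57 + 2 * t39 * t41 * t46 * t51 * t57 + 12 * t39 * t42 * t44 * t46 * t49 * t56 + 2 * t39 * t42 * t45 * t46 * t48 * t56 + t39 * t42 * t48 * t49 * t57 + 4 * t39 * t42 * t48 * t52 * t56 + 2 * t39 * t42 ^ 2 * t48 * t49 * t56 + 2 * t39 * t44 * t46 * t49 * t57 + t39 * t45 * t46 * t48 * t57 + 2 * t39 * t48 * t52 * t57 + t39 * t49 * t51 * t57 + t39 * t51 * t52 * t56 + t39 * t52 * t62 + 5 * t40 * t41 * t42 * t43 * t46 ^ 2 * t56 + 6 * t40 * t41 * t42 * t46 * t47 * t57 + 8 * t40 * t41 * t42 * t46 * t50 * t56 + 3 * t40 * t41 * t42 * t46 * t61 + 2 * t40 * t41 * t42 * t46 ^ 2 * t58 + 10 * t40 * t41 * t42 ^ 2 * t46 * t47 * t56 + 5 * t40 * t41 * t43 * t46 ^ 2 * t57 + 5 * t40 * t41 * t46 * t50 * t57 + 6 * t40 * t42 * t43 * t46 * t49 * t56 + 3 * t40 * t42 * t45 * t46 * t47 * t56 + 2 * t40 *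 t42 * t46 * t49 * t58 + 6 * t40 * t42 * t47 * t49 * t57 + 7 * t40 * t42 * t47 * t52 * t56 + 7 * t40 * t42 * t49 * t50 * t56 + t40 * t42 * t49 * t61 + 8 * t40 * t42 ^ 2 * t47 * t49 * t56 + 6 * t40 * t43 * t46 * t49 * t57 + t40 * t43 * t46 * t52 * t56 + t40 * t45 * t46 * t50 * t56 + t40 * t45 * t46 * t61 + t40 * t46 * t52 * t58 + t40 * t47 * t52 * t57 + 3 * t40 * t49 * t50 * t57 + t40 * t50 * t52 * t56 + t40 * t52 * t61 + 5 * t41 * t42 * t43 * t46 * t48 * t56 + 8 * t41 * t42 * t44 * t46 * t47 * t56 + t41 * t42 * t46 * t47 * t59 + 2 * t41 * t42 * t46 * t48 * t58 + t41 * t42 * t46 * t53 * t56 + 3 * t41 * t42 * t47 * t48 * t57 + 8 * t41 * t42 * t47 * t51 * t56 + 3 * t41 * t42 * t47 * t62 + 4 * t41 * t42 * t48 * t50 * t56 + 3 * t41 * t42 * t48 * t61 + 5 * t41 * t42 ^ 2 * t47 * t48 * t56 + 3 * t41 * t43 * t44 * t46 ^ 2 * t56 + 3 * t41 * t43 * t46 * t48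 * t57 + 3 * t41 * t43 * t46 * t51 * t56 + 3 * t41 * t43 * t46 * t62 + t41 * t43 * t46 ^ 2 * t59 + 2 * t41 * t44 * t46 * t47 * t57 + 2 * t41 * t44 * t46 * t50 * t56 + 3 * t41 * t44 * t46 * t61 + 2 * t41 * t44 * t46 ^ 2 * t58 + t41 * t46 * t50 * t59 + 3 * t41 * t46 * t51 * t58 + t41 * t46 * t53 * t57 + 2 * t41 * t47 * t51 * t57 + 3 * t41 * t48 * t50 * t57 + 2 * t41 * t50 * t51 * t56 + t41 * t50 * t62 + t41 * t51 * t61 + 2 * t42 * t43 * t48 * t49 * t56 + 6 * t42 * t44 * t47 * t49 * t56 + 2 * t42 * t48 * t49 * t58 + t42 * t49 * t53 * t56 + 3 * t43 * t44 * t46 * t49 * t56 + t43 * t45 * t46 * t48 * t56 + t43 * t46 * t49 * t59 + t43 * t48 * t49 * t57 + 2 * t43 * t48 * t52 * t56 + t43 * t49 * t51 * t56 + t43 * t49 * t62 + 3 * t44 * t46 * t49 * t58 + 3 * t44 * t47 * t49 * t57 + t44 * t47 * t52 * t56 + 3 * t44 * t49 * t50 * t56 + t44 * t49 * t61 + t45 *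 t46 * t53 * t56 + t45 * t47 * t51 * t56 + t45 * t47 * t62 + t45 * t48 * t61 + t47 * t52 * t59 + t48 * t52 * t58 + t49 * t51 * t58 + t49 * t53 * t57 + t52 * t53 * t56 + t71) * h2

end RelE6

end Cfsg.Agent.Helper4.E6Inv
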